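import Cfsg.Agent.Lib.Helper59.BenderBasic
import Cfsg.Agent.Lib.Helper28.FStar
import Cfsg.Agent.Lib.Helper28.Components
import Cfsg.Agent.Lib.Helper01.Fitting
import Cfsg.Agent.Lib.Helper01.PPrimeCore
import Cfsg.Agent.Lib.Helper01.PCore

set_option autoImplicit false

namespace Cfsg.Agent.Lib.Helper59

open Subgroup
open scoped commutatorElement

namespace Bender

set_option linter.unusedSectionVars false

variable {X : Type*} [Group X] [Finite X] (r : ℕ) [hr : Fact r.Prime]

/-- the `r'`-part of the Fitting subgroup -/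
def fitPrime (r : ℕ) (X : Type*) [Group X] : Subgroup X :=
  Cfsg.fittingSubgroup X ⊓ Cfsg.pPrimeCore r X

/-- `E(X) O_{r'}(F(X))` -/
def nPart (r : ℕ) (X : Type*) [Group X] : Subgroup X :=
  Cfsg.layer X ⊔ fitPrime r X

instance fitPrime_normal : (fitPrime r X).Normal := by
  have h1 : (Cfsg.fittingSubgroup X).Normal := Cfsg.Agent.Lib.Helper30.fitting_normal
  have h2 : (Cfsg.pPrimeCore r X).Normal := Cfsg.Agent.Lib.Helper01.pPrimeCore_normal r
  unfold fitPrime
  infer_instance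

instance nPart_normal : (nPart r X).Normal := by
  have h1 : (Cfsg.layer X).Normal := Cfsg.Agent.Lib.Helper30.layer_normal
  unfold nPart
  infer_instance

theorem fitPrime_pow (y : X) (hy : y ∈ fitPrime r X) :
    y ^ Nat.card (Cfsg.pPrimeCore r X) = 1 := by
  have h := (Subgroup.mem_inf.1 hy).2
  have := pow_card_eq_one' (G := Cfsg.pPrimeCore r X) (x := ⟨y, h⟩)
  exact Subtype.ext_iff.1 this

theorem card_pPrimeCore_coprime : (Nat.card (Cfsg.pPrimeCore r X)).Coprime r :=
  Cfsg.Agent.Lib.Helper01.pPrimeCore_card_coprime r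

theorem pCore_pow (y : X) (hy : y ∈ Cfsg.pCore r X) : y ^ Nat.card (Cfsg.pCore r X) = 1 := by
  have := pow_card_eq_one' (G := Cfsg.pCore r X) (x := ⟨y, hy⟩)
  exact Subtype.ext_iff.1 this

theorem card_pCore_eq : ∃ k : ℕ, Nat.card (Cfsg.pCore r X) = r ^ k :=
  IsPGroup.iff_card.1 (Cfsg.Agent.Lib.Helper01.pCore_isPGroup r)

theorem pCore_le_fitPrime (q : ℕ) [hq : Fact q.Prime] (hqr : q ≠ r) :
    Cfsg.pCore q X ≤ fitPrime r X := by
  refine le_inf (Cfsg.Agent.Lib.Helper01.pCore_le_fitting q) ?_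
  refine Cfsg.Agent.Lib.Helper01.le_pPrimeCore (Cfsg.Agent.Lib.Helper01.pCore_normal q) ?_
  obtain ⟨k, hk⟩ := IsPGroup.iff_card.1 (Cfsg.Agent.Lib.Helper01.pCore_isPGroup (G := X) q)
  rw [hk]
  exact Nat.Coprime.pow_left k ((Nat.coprime_primes hq.out hr.out).2 hqr)

theorem fitting_le_sup : Cfsg.fittingSubgroup X ≤ Cfsg.pCore r X ⊔ fitPrime r X := by
  rw [Cfsg.Agent.Lib.Helper01.fitting_eq_iSup_pCore]
  refine iSup_le ?_
  intro q
  have : Fact (q : ℕ).Prime := ⟨q.2⟩
  by_cases hqr : (q : ℕ) = r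
  · rw [hqr]; exact le_sup_left
  · exact (pCore_le_fitPrime r (q : ℕ) hqr).trans le_sup_right

theorem card_fitPrime_coprime : (Nat.card (fitPrime r X)).Coprime r :=
  Nat.Coprime.coprime_dvd_left (Subgroup.card_dvd_of_le inf_le_right) (card_pPrimeCore_coprime r)

theorem pCore_inf_fitPrime : Cfsg.pCore r X ⊓ fitPrime r X = ⊥ := by
  rw [← disjoint_iff]
  apply Subgroup.disjoint_of_coprime_natCard
  obtain ⟨k, hk⟩ := card_pCore_eq (X := X) r
  rw [hk]
  exact Nat.Coprime.pow_left k (card_fitPrime_coprime r).symm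

theorem commute_pCore_fitPrime {u v : X} (hu : u ∈ Cfsg.pCore r X) (hv : v ∈ fitPrime r X) :
    u * v = v * u := by
  have : (Cfsg.pCore r X).Normal := Cfsg.Agent.Lib.Helper01.pCore_normal r
  exact (Subgroup.commute_of_normal_of_disjoint _ _ inferInstance inferInstance
    (disjoint_iff.2 (pCore_inf_fitPrime r)) u v hu hv).eq

theorem commute_layer_fitting {e f : X} (he : e ∈ Cfsg.layer X) (hf : f ∈ Cfsg.fittingSubgroup X) :
    e * f = f * e := by
  have h := Cfsg.Agent.Lib.Helper30.layer_commute_fitting (G := X)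
  rw [Subgroup.commutator_eq_bot_iff_le_centralizer] at h
  exact (Subgroup.mem_centralizer_iff.1 (h he) f hf).symm

theorem pCore_le_fitting' : Cfsg.pCore r X ≤ Cfsg.fittingSubgroup X :=
  Cfsg.Agent.Lib.Helper01.pCore_le_fitting r

theorem commute_nPart_pCore {n u : X} (hn : n ∈ nPart r X) (hu : u ∈ Cfsg.pCore r X) :
    n * u = u * n := by
  have h : nPart r X ≤ centralizer ((Cfsg.pCore r X : Subgroup X) : Set X) := by
    refine sup_le ?_ ?_
    · intro e he
      rw [Subgroup.mem_centralizer_iff]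
      intro u hu
      exact (commute_layer_fitting he (pCore_le_fitting' r hu)).symm
    · intro v hv
      rw [Subgroup.mem_centralizer_iff]
      intro u hu
      exact commute_pCore_fitPrime r hu hv
  exact (Subgroup.mem_centralizer_iff.1 (h hn) u hu).symm

theorem genFitting_le_sup : Cfsg.generalizedFittingSubgroup X ≤ nPart r X ⊔ Cfsg.pCore r X := by
  unfold Cfsg.generalizedFittingSubgroup
  refine sup_le ((le_sup_left.trans le_sup_left)) ?_
  refine (fitting_le_sup r).trans (sup_le le_sup_right ?_)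
  exact (le_sup_right (a := Cfsg.layer X)).trans le_sup_left

/-- `r'`-elements of `F*(X)` lie in `E(X) O_{r'}(F(X))`. -/
theorem mem_nPart_of_coprime {w : X} (hw : w ∈ Cfsg.generalizedFittingSubgroup X)
    (hcop : (orderOf w).Coprime r) : w ∈ nPart r X := by
  obtain ⟨k, hk⟩ := card_pCore_eq (X := X) r
  refine mem_of_mem_sup_of_coprime (nPart r X) (Cfsg.pCore r X) (r ^ k) ?_
    (genFitting_le_sup r hw) (Nat.Coprime.pow_right k hcop)
  intro u hu
  rw [← hk]; exact pCore_pow r u hu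

/-- `r`-elements of `F(X)` lie in `O_r(X)`. -/
theorem mem_pCore_of_pow {y : X} (hy : y ∈ Cfsg.fittingSubgroup X) {k : ℕ}
    (hyk : y ^ (r ^ k) = 1) : y ∈ Cfsg.pCore r X := by
  have : (Cfsg.pCore r X).Normal := Cfsg.Agent.Lib.Helper01.pCore_normal r
  refine mem_of_mem_sup_of_coprime (Cfsg.pCore r X) (fitPrime r X)
    (Nat.card (Cfsg.pPrimeCore r X)) (fitPrime_pow r) (fitting_le_sup r hy) ?_
  have h1 : orderOf y ∣ r ^ k := orderOf_dvd_of_pow_eq_one hyk
  exact Nat.Coprime.coprime_dvd_left h1 (Nat.Coprime.pow_left k (card_pPrimeCore_coprime r).symm)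

/-- `r'`-elements of `F(X)` lie in the `r'`-part. -/
theorem mem_fitPrime_of_coprime {y : X} (hy : y ∈ Cfsg.fittingSubgroup X)
    (hcop : (orderOf y).Coprime r) : y ∈ fitPrime r X := by
  obtain ⟨k, hk⟩ := card_pCore_eq (X := X) r
  have h1 : y ∈ fitPrime r X ⊔ Cfsg.pCore r X := by
    rw [sup_comm]; exact fitting_le_sup r hy
  refine mem_of_mem_sup_of_coprime (fitPrime r X) (Cfsg.pCore r X) (r ^ k) ?_ h1
    (Nat.Coprime.pow_right k hcop)
  intro u hu
  rw [← hk]; exact pCore_pow r u hu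

/-- Hypotheses on `S`: a subnormal subgroup of `X` inside `F*(X)` containing its centralizer in
`F*(X)`. -/
structure Hyp (S : Subgroup X) : Prop where
  le : S ≤ Cfsg.generalizedFittingSubgroup X
  sn : S.IsSubnormal
  cent : Cfsg.generalizedFittingSubgroup X ⊓ centralizer (S : Set X) ≤ S

variable {S : Subgroup X}

omit hr in
theorem Hyp.layer_le (h : Hyp S) : Cfsg.layer X ≤ S := by
  unfold Cfsg.layer
  refine sSup_le ?_
  intro K hK
  rcases Cfsg.Agent.Lib.Helper28.component_le_or_commutes_subnormal K hK h.sn with h1 | h1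
  · exact h1
  · rw [Subgroup.commutator_eq_bot_iff_le_centralizer] at h1
    refine le_trans (le_inf ?_ h1) h.cent
    exact (Cfsg.Agent.Lib.Helper30.component_le_layer hK).trans
      Cfsg.Agent.Lib.Helper30.layer_le_genFitting

/-- an element of `F*(X)` commuting with `E(X)` and with `S ∩ F(X)` lies in `S` -/
theorem Hyp.mem_of_commute (h : Hyp S) {x : X} (hx : x ∈ Cfsg.generalizedFittingSubgroup X)
    (hE : ∀ e ∈ Cfsg.layer X, x * e = e * x)
    (hF : ∀ f ∈ S ⊓ Cfsg.fittingSubgroup X, x * f = f * x) : x ∈ S := by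
  refine h.cent (Subgroup.mem_inf.2 ⟨hx, ?_⟩)
  rw [Subgroup.mem_centralizer_iff]
  intro y hy
  have hy' := h.le hy
  unfold Cfsg.generalizedFittingSubgroup at hy'
  have hln : (Cfsg.layer X).Normal := Cfsg.Agent.Lib.Helper30.layer_normal
  rw [Subgroup.mem_sup_of_normal_left] at hy'
  obtain ⟨e, he, f, hf, rfl⟩ := hy'
  have hfS : f ∈ S := by
    have : f = e⁻¹ * (e * f) := by group
    rw [this]
    exact S.mul_mem (S.inv_mem (h.layer_le he)) hy
  rw [mul_assoc, ← hF f (Subgroup.mem_inf.2 ⟨hfS, hf⟩), ← mul_assoc, ← hE e he, mul_assoc]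

/-- splitting an element of `S ∩ F(X)` into its `r`- and `r'`-parts -/
theorem commute_of_parts {x f : X} (hf : f ∈ S ⊓ Cfsg.fittingSubgroup X)
    (h1 : ∀ u ∈ S ⊓ Cfsg.pCore r X, x * u = u * x)
    (h2 : ∀ v ∈ S ⊓ fitPrime r X, x * v = v * x) : x * f = f * x := by
  obtain ⟨hfS, hfF⟩ := Subgroup.mem_inf.1 hf
  have hn0 : orderOf f ≠ 0 := (orderOf_pos f).ne'
  obtain ⟨k, m, hm, hkm⟩ := Nat.exists_eq_pow_mul_and_not_dvd hn0 r hr.out.ne_one
  have hcop : Nat.Coprime m (r ^ k) :=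
    Nat.Coprime.pow_right k ((Nat.Prime.coprime_iff_not_dvd hr.out).2 hm).symm
  have hmem : f ∈ centralizer ({x} : Set X) := by
    refine mem_of_pow_mem_of_coprime hcop ?_ ?_
    · -- f ^ m is an r-element
      have h3 : (f ^ m) ^ (r ^ k) = 1 := by
        rw [← pow_mul, mul_comm, ← hkm, pow_orderOf_eq_one]
      have h4 : f ^ m ∈ Cfsg.pCore r X :=
        mem_pCore_of_pow r ((Cfsg.fittingSubgroup X).pow_mem hfF m) h3
      rw [Subgroup.mem_centralizer_singleton_iff]
      exact (h1 _ (Subgroup.mem_inf.2 ⟨S.pow_mem hfS m, h4⟩)).symm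
    · have h3 : (f ^ (r ^ k)) ^ m = 1 := by
        rw [← pow_mul, ← hkm, pow_orderOf_eq_one]
      have h4 : (orderOf (f ^ (r ^ k))).Coprime r :=
        Nat.Coprime.coprime_dvd_left (orderOf_dvd_of_pow_eq_one h3)
          ((Nat.Prime.coprime_iff_not_dvd hr.out).2 hm).symm
      have h5 : f ^ (r ^ k) ∈ fitPrime r X :=
        mem_fitPrime_of_coprime r ((Cfsg.fittingSubgroup X).pow_mem hfF _) h4
      rw [Subgroup.mem_centralizer_singleton_iff]
      exact (h2 _ (Subgroup.mem_inf.2 ⟨S.pow_mem hfS _, h5⟩)).symm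
  rw [Subgroup.mem_centralizer_singleton_iff] at hmem
  exact hmem.symm

theorem fitPrime_le_genFitting : fitPrime r X ≤ Cfsg.generalizedFittingSubgroup X :=
  inf_le_left.trans Cfsg.Agent.Lib.Helper30.fitting_le_genFitting

theorem pCore_le_genFitting : Cfsg.pCore r X ≤ Cfsg.generalizedFittingSubgroup X :=
  (pCore_le_fitting' r).trans Cfsg.Agent.Lib.Helper30.fitting_le_genFitting

/-- `C_{F'}(S ∩ F') ≤ S ∩ F'` for the `r'`-part `F'` of `F(X)`. -/
theorem Hyp.fitPrime_selfcentralizing (h : Hyp S) :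
    fitPrime r X ⊓ centralizer ((S ⊓ fitPrime r X : Subgroup X) : Set X) ≤ S ⊓ fitPrime r X := by
  intro x hx
  obtain ⟨hx1, hx2⟩ := Subgroup.mem_inf.1 hx
  refine Subgroup.mem_inf.2 ⟨?_, hx1⟩
  refine h.mem_of_commute (fitPrime_le_genFitting r hx1) ?_ ?_
  · intro e he
    exact (commute_layer_fitting he (Subgroup.mem_inf.1 hx1).1).symm
  · intro f hf
    refine commute_of_parts r hf ?_ ?_
    · intro u hu
      exact (commute_pCore_fitPrime r (Subgroup.mem_inf.1 hu).2 hx1).symm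
    · intro v hv
      exact (Subgroup.mem_centralizer_iff.1 hx2 v hv).symm

/-- `C_R(S ∩ R) ≤ S ∩ R` for `R = O_r(X)`. -/
theorem Hyp.pCore_selfcentralizing (h : Hyp S) :
    Cfsg.pCore r X ⊓ centralizer ((S ⊓ Cfsg.pCore r X : Subgroup X) : Set X)
      ≤ S ⊓ Cfsg.pCore r X := by
  intro x hx
  obtain ⟨hx1, hx2⟩ := Subgroup.mem_inf.1 hx
  refine Subgroup.mem_inf.2 ⟨?_, hx1⟩
  refine h.mem_of_commute (pCore_le_genFitting r hx1) ?_ ?_
  · intro e he
    exact (commute_layer_fitting he (pCore_le_fitting' r hx1)).symm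
  · intro f hf
    refine commute_of_parts r hf ?_ ?_
    · intro u hu
      exact (Subgroup.mem_centralizer_iff.1 hx2 u hu).symm
    · intro v hv
      exact commute_pCore_fitPrime r hx1 (Subgroup.mem_inf.1 hv).2

theorem fitPrime_isNilpotent : Group.IsNilpotent (fitPrime r X) :=
  Cfsg.Agent.Lib.Helper30.isNilpotent_of_injective
    (Subgroup.inclusion (inf_le_left : fitPrime r X ≤ Cfsg.fittingSubgroup X))
    (Subgroup.inclusion_injective _) Cfsg.Agent.Lib.Helper30.fitting_isNilpotent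

/-- `E(X)` centralizes every `r`-subgroup it normalizes. -/
theorem layer_centralizes {Q : Subgroup X} (hQ : IsPGroup r Q)
    (hEQ : Cfsg.layer X ≤ normalizer (Q : Set X)) : ⁅Cfsg.layer X, Q⁆ = ⊥ := by
  have hln : (Cfsg.layer X).Normal := Cfsg.Agent.Lib.Helper30.layer_normal
  have h1 : ⁅Cfsg.layer X, Q⁆ ≤ Cfsg.layer X ⊓ Q := by
    refine le_inf ?_ ?_
    · exact Subgroup.commutator_le_left _ _
    · exact Subgroup.le_normalizer_iff_commutator_le_right.1 hEQ
  -- `E ⊓ Q` is a subnormal solvable subgroup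
  have hsn : (Cfsg.layer X ⊓ Q).IsSubnormal := by
    refine Subgroup.IsSubnormal.trans inf_le_left ?_ hln.isSubnormal
    have : ((Cfsg.layer X ⊓ Q).subgroupOf (Cfsg.layer X)).Normal := by
      rw [Subgroup.normal_subgroupOf_iff_le_normalizer inf_le_left]
      intro e he
      rw [Subgroup.mem_normalizer_iff]
      intro y
      have he' := hEQ he
      rw [Subgroup.mem_normalizer_iff] at he'
      constructor
      · intro hy
        obtain ⟨hy1, hy2⟩ := Subgroup.mem_inf.1 hy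
        exact Subgroup.mem_inf.2 ⟨hln.conj_mem y hy1 e, (he' y).1 hy2⟩
      · intro hy
        obtain ⟨hy1, hy2⟩ := Subgroup.mem_inf.1 hy
        refine Subgroup.mem_inf.2 ⟨?_, (he' y).2 hy2⟩
        have := hln.conj_mem _ hy1 e⁻¹
        simpa [mul_assoc] using this
    exact this.isSubnormal
  have hsolv : Group.IsSolvable (Cfsg.layer X ⊓ Q : Subgroup X) := by
    have hp : IsPGroup r (Cfsg.layer X ⊓ Q : Subgroup X) := hQ.to_le inf_le_right
    have := hp.isNilpotent
    exact IsNilpotent.to_isSolvable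
  have h2 : ⁅Cfsg.layer X, Cfsg.layer X ⊓ Q⁆ = ⊥ :=
    Cfsg.Agent.Lib.Helper30.layer_commute_solvable hsn hsolv
  have h3 : ⁅⁅Cfsg.layer X, Q⁆, Cfsg.layer X⁆ = ⊥ := by
    rw [eq_bot_iff, ← h2, Subgroup.commutator_comm (Cfsg.layer X) (Cfsg.layer X ⊓ Q)]
    exact Subgroup.commutator_mono h1 le_rfl
  have h4 : ⁅⁅Q, Cfsg.layer X⁆, Cfsg.layer X⁆ = ⊥ := by
    rw [Subgroup.commutator_comm Q (Cfsg.layer X)]; exact h3
  have h5 := Subgroup.commutator_commutator_eq_bot_of_rotate h3 h4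
  rwa [Cfsg.Agent.Lib.Helper30.layer_perfect] at h5

/-- **Lemma A.** An `r`-subgroup `Q` normalized by `S` centralizes `E(X) O_{r'}(F(X))`. -/
theorem Hyp.centralizes_nPart (h : Hyp S) {Q : Subgroup X} (hQ : IsPGroup r Q)
    (hSQ : S ≤ normalizer (Q : Set X)) : ∀ n ∈ nPart r X, ∀ x ∈ Q, n * x = x * n := by
  have hE : ⁅Cfsg.layer X, Q⁆ = ⊥ := layer_centralizes r hQ (h.layer_le.trans hSQ)
  rw [Subgroup.commutator_eq_bot_iff_le_centralizer] at hE
  have hcopQ : (Nat.card Q).Coprime (Nat.card (fitPrime r X)) := by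
    obtain ⟨j, hj⟩ := IsPGroup.iff_card.1 hQ
    rw [hj]
    exact Nat.Coprime.pow_left j (card_fitPrime_coprime r).symm
  have hdisj : Q ⊓ fitPrime r X = ⊥ := by
    rw [← disjoint_iff]
    exact Subgroup.disjoint_of_coprime_natCard hcopQ
  have hF : ∀ x ∈ Q, ∀ v ∈ fitPrime r X, x * v = v * x := by
    refine centralizes_of_selfcentralizing (Nat.card (fitPrime r X)) (S₁ := S ⊓ fitPrime r X)
      (Nat.sub_le _ _) (fitPrime_isNilpotent r) inf_le_right (h.fitPrime_selfcentralizing r)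
      ?_ hcopQ ?_
    · intro x _
      have : (fitPrime r X).Normal := inferInstance
      rw [Subgroup.mem_normalizer_iff]
      intro y
      constructor
      · intro hy; exact this.conj_mem y hy x
      · intro hy
        have := this.conj_mem _ hy x⁻¹
        simpa [mul_assoc] using this
    · intro x hx s hs
      obtain ⟨hs1, hs2⟩ := Subgroup.mem_inf.1 hs
      -- the commutator lies in `Q ⊓ fitPrime = ⊥`
      have h1 : x * s * x⁻¹ * s⁻¹ ∈ Q ⊓ fitPrime r X := by
        refine Subgroup.mem_inf.2 ⟨?_, ?_⟩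
        · have hsn := hSQ hs1
          rw [Subgroup.mem_normalizer_iff] at hsn
          have : s * x⁻¹ * s⁻¹ ∈ Q := (hsn x⁻¹).1 (Q.inv_mem hx)
          have e : x * s * x⁻¹ * s⁻¹ = x * (s * x⁻¹ * s⁻¹) := by group
          rw [e]; exact Q.mul_mem hx this
        · have : (fitPrime r X).Normal := inferInstance
          exact (fitPrime r X).mul_mem (this.conj_mem s hs2 x) ((fitPrime r X).inv_mem hs2)
      rw [hdisj, Subgroup.mem_bot] at h1
      have : x * s = s * x := by
        have e : x * s = (x * s * x⁻¹ * s⁻¹) * (s * x) := by group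
        rw [e, h1, one_mul]
      exact this
  intro n hn x hx
  have hle : nPart r X ≤ centralizer (Q : Set X) := by
    refine sup_le hE ?_
    intro v hv
    rw [Subgroup.mem_centralizer_iff]
    intro y hy
    exact hF y hy v hv
  exact (Subgroup.mem_centralizer_iff.1 (hle hn) x hx).symm

/-- **Lemma A'.** An `r`-subgroup normalized by `S` centralizes every `r'`-element of `F*(X)`. -/
theorem Hyp.centralizes_coprime (h : Hyp S) {Q : Subgroup X} (hQ : IsPGroup r Q)
    (hSQ : S ≤ normalizer (Q : Set X)) {w : X} (hw : w ∈ Cfsg.generalizedFittingSubgroup X)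
    (hcop : (orderOf w).Coprime r) : ∀ x ∈ Q, w * x = x * w :=
  h.centralizes_nPart r hQ hSQ w (mem_nPart_of_coprime r hw hcop)

/-- the centre of `F*(X)` lies in `F(X)` -/
theorem center_genFitting_le_fitting :
    Cfsg.generalizedFittingSubgroup X ⊓
      centralizer ((Cfsg.generalizedFittingSubgroup X : Subgroup X) : Set X)
      ≤ Cfsg.fittingSubgroup X := by
  have hn : (Cfsg.generalizedFittingSubgroup X).Normal := Cfsg.Agent.Lib.Helper30.genFitting_normal
  refine Cfsg.Agent.Lib.Helper30.le_fitting_of_normal_comm inferInstance ?_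
  refine ⟨⟨?_⟩⟩
  rintro ⟨a, ha⟩ ⟨b, hb⟩
  apply Subtype.ext
  have ha2 := (Subgroup.mem_inf.1 ha).2
  have hb1 := (Subgroup.mem_inf.1 hb).1
  exact (Subgroup.mem_centralizer_iff.1 ha2 b hb1).symm

/-- anything centralizing `E(X) O_{r'}(F)` and `O_r(X)` lies in `F(X)` -/
theorem mem_fitting_of_centralizes {z : X} (h1 : ∀ n ∈ nPart r X, z * n = n * z)
    (h2 : ∀ u ∈ Cfsg.pCore r X, z * u = u * z) : z ∈ Cfsg.fittingSubgroup X := by
  have hz : z ∈ centralizer ((Cfsg.generalizedFittingSubgroup X : Subgroup X) : Set X) := by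
    have hle : Cfsg.generalizedFittingSubgroup X ≤ centralizer ({z} : Set X) := by
      refine (genFitting_le_sup r).trans (sup_le ?_ ?_)
      · intro n hn
        rw [Subgroup.mem_centralizer_singleton_iff]
        exact (h1 n hn).symm
      · intro u hu
        rw [Subgroup.mem_centralizer_singleton_iff]
        exact (h2 u hu).symm
    rw [Subgroup.mem_centralizer_iff]
    intro y hy
    have := hle hy
    rw [Subgroup.mem_centralizer_singleton_iff] at this
    exact this
  exact center_genFitting_le_fitting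
    (Subgroup.mem_inf.2 ⟨Cfsg.Agent.Lib.Helper28.centralizer_genFitting_le hz, hz⟩)

/-- **Lemma B.** If `q` does not divide `|F(X)|`, a `q`-subgroup normalized by `S` is trivial. -/
theorem Hyp.eq_bot_of_not_dvd (h : Hyp S) (hndvd : ¬ r ∣ Nat.card (Cfsg.fittingSubgroup X))
    {Q : Subgroup X} (hQ : IsPGroup r Q) (hSQ : S ≤ normalizer (Q : Set X)) : Q = ⊥ := by
  have hcopF : (Nat.card (Cfsg.fittingSubgroup X)).Coprime r :=
    ((Nat.Prime.coprime_iff_not_dvd hr.out).2 hndvd).symm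
  have hpc : Cfsg.pCore r X = ⊥ := by
    rw [← Subgroup.card_eq_one]
    obtain ⟨k, hk⟩ := card_pCore_eq (X := X) r
    have h1 : Nat.card (Cfsg.pCore r X) ∣ Nat.card (Cfsg.fittingSubgroup X) :=
      Subgroup.card_dvd_of_le (pCore_le_fitting' r)
    have h2 : (Nat.card (Cfsg.pCore r X)).Coprime (Nat.card (Cfsg.pCore r X)) := by
      have : (Nat.card (Cfsg.pCore r X)).Coprime r := Nat.Coprime.coprime_dvd_left h1 hcopF
      rw [hk] at this ⊢
      exact Nat.Coprime.pow_right k this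
    exact (Nat.coprime_self _).1 h2
  have hQF : Q ≤ Cfsg.fittingSubgroup X := by
    intro z hz
    refine mem_fitting_of_centralizes r ?_ ?_
    · intro n hn
      exact (h.centralizes_nPart r hQ hSQ n hn z hz).symm
    · intro u hu
      rw [hpc, Subgroup.mem_bot] at hu
      rw [hu, mul_one, one_mul]
  rw [← Subgroup.card_eq_one]
  obtain ⟨j, hj⟩ := IsPGroup.iff_card.1 hQ
  have h1 : Nat.card Q ∣ Nat.card (Cfsg.fittingSubgroup X) := Subgroup.card_dvd_of_le hQF
  have h2 : (Nat.card Q).Coprime (Nat.card Q) := by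
    have : (Nat.card Q).Coprime r := Nat.Coprime.coprime_dvd_left h1 hcopF
    rw [hj] at this ⊢
    exact Nat.Coprime.pow_right j this
  exact (Nat.coprime_self _).1 h2

/-- `Z(O_r(X)) ≤ S`. -/
theorem Hyp.center_pCore_le (h : Hyp S) :
    Cfsg.pCore r X ⊓ centralizer ((Cfsg.pCore r X : Subgroup X) : Set X) ≤ S ⊓ Cfsg.pCore r X := by
  intro x hx
  obtain ⟨hx1, hx2⟩ := Subgroup.mem_inf.1 hx
  refine h.pCore_selfcentralizing r (Subgroup.mem_inf.2 ⟨hx1, ?_⟩)
  exact Subgroup.centralizer_le (by intro y hy; exact (Subgroup.mem_inf.1 hy).2) hx2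

/-- an `r'`-element centralizing `S ∩ O_r(X)` centralizes `O_r(X)` -/
theorem Hyp.centralizes_pCore (h : Hyp S) {k : X} (hk : (orderOf k).Coprime r)
    (hkS : ∀ s ∈ S ⊓ Cfsg.pCore r X, k * s = s * k) : ∀ u ∈ Cfsg.pCore r X, k * u = u * k := by
  have hRn : (Cfsg.pCore r X).Normal := Cfsg.Agent.Lib.Helper01.pCore_normal r
  have hRp : IsPGroup r (Cfsg.pCore r X) := Cfsg.Agent.Lib.Helper01.pCore_isPGroup r
  have hnil : Group.IsNilpotent (Cfsg.pCore r X) := hRp.isNilpotent
  have hcop : (Nat.card (zpowers k)).Coprime (Nat.card (Cfsg.pCore r X)) := by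
    obtain ⟨j, hj⟩ := card_pCore_eq (X := X) r
    rw [hj, Nat.card_zpowers]
    exact Nat.Coprime.pow_right j hk
  have hcent : zpowers k ≤ centralizer ((S ⊓ Cfsg.pCore r X : Subgroup X) : Set X) := by
    rw [Subgroup.zpowers_le, Subgroup.mem_centralizer_iff]
    intro s hs
    exact (hkS s hs).symm
  have := centralizes_of_selfcentralizing (Nat.card (Cfsg.pCore r X))
    (N := Cfsg.pCore r X) (S₁ := S ⊓ Cfsg.pCore r X) (H := zpowers k)
    (Nat.sub_le _ _) hnil inf_le_right (h.pCore_selfcentralizing r)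
    (by rw [Subgroup.normalizer_eq_top]; exact le_top) hcop
    (fun x hx s hs => (Subgroup.mem_centralizer_iff.1 (hcent hx) s hs).symm)
  intro u hu
  exact this k (Subgroup.mem_zpowers k) u hu

/-- **(f4).** A `p`-subgroup `T₀` normalized by `S` centralizes every `p'`-element of
`C_X(O_p(X))`. -/
theorem Hyp.centralizes_coprime_of_centralizer (h : Hyp S) {T₀ : Subgroup X} (hT : IsPGroup r T₀)
    (hST : S ≤ normalizer (T₀ : Set X)) {d : X} (hd : (orderOf d).Coprime r)
    (hdR : ∀ u ∈ Cfsg.pCore r X, d * u = u * d) : ∀ t ∈ T₀, d * t = t * d := by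
  have hRn : (Cfsg.pCore r X).Normal := Cfsg.Agent.Lib.Helper01.pCore_normal r
  have hNn : (nPart r X).Normal := inferInstance
  intro t ht
  have htN : ∀ n ∈ nPart r X, n * t = t * n := fun n hn => h.centralizes_nPart r hT hST n hn t ht
  set z := d⁻¹ * t⁻¹ * d * t with hz
  have h1 : t⁻¹ * d * t = d * z := by rw [hz]; group
  -- `z` centralizes `nPart`
  have hzN : ∀ n ∈ nPart r X, z * n = n * z := by
    intro n hn
    have e1 : d * n * d⁻¹ ∈ nPart r X := hNn.conj_mem n hn d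
    have e2 := htN _ e1
    have e3 := htN n hn
    -- z n z⁻¹ = n
    have : z * n * z⁻¹ = n := by
      have a1 : t * n * t⁻¹ = n := by rw [← e3]; group
      have a2 : t⁻¹ * (d * n * d⁻¹) * t = d * n * d⁻¹ := by
        rw [mul_assoc, e2]; group
      calc z * n * z⁻¹ = d⁻¹ * (t⁻¹ * (d * (t * n * t⁻¹) * d⁻¹) * t) * d := by rw [hz]; group
        _ = d⁻¹ * (t⁻¹ * (d * n * d⁻¹) * t) * d := by rw [a1]
        _ = d⁻¹ * (d * n * d⁻¹) * d := by rw [a2]
        _ = n := by group
    calc z * n = (z * n * z⁻¹) * z := by group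
      _ = n * z := by rw [this]
  -- `z` centralizes `O_r(X)`
  have hzR : ∀ u ∈ Cfsg.pCore r X, z * u = u * z := by
    intro u hu
    have e1 : t * u * t⁻¹ ∈ Cfsg.pCore r X := hRn.conj_mem u hu t
    have e2 := hdR _ e1
    have e3 := hdR u hu
    have : z * u * z⁻¹ = u := by
      have a1 : d * (t * u * t⁻¹) * d⁻¹ = t * u * t⁻¹ := by rw [e2]; group
      have a2 : d⁻¹ * u * d = u := by
        have : u * d = d * u := e3.symm
        calc d⁻¹ * u * d = d⁻¹ * (u * d) := by group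
          _ = d⁻¹ * (d * u) := by rw [this]
          _ = u := by group
      calc z * u * z⁻¹ = d⁻¹ * (t⁻¹ * (d * (t * u * t⁻¹) * d⁻¹) * t) * d := by rw [hz]; group
        _ = d⁻¹ * (t⁻¹ * (t * u * t⁻¹) * t) * d := by rw [a1]
        _ = d⁻¹ * u * d := by group
        _ = u := a2
    calc z * u = (z * u * z⁻¹) * z := by group
      _ = u * z := by rw [this]
  have hzF : z ∈ Cfsg.fittingSubgroup X := mem_fitting_of_centralizes r hzN hzR
  -- `t` commutes with `z` modulo `O_r(X)`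
  have h2 : t⁻¹ * z * t * z⁻¹ ∈ Cfsg.pCore r X := by
    have hzs : z ∈ nPart r X ⊔ Cfsg.pCore r X :=
      genFitting_le_sup r (Cfsg.Agent.Lib.Helper30.fitting_le_genFitting hzF)
    rw [Subgroup.mem_sup_of_normal_left] at hzs
    obtain ⟨n₀, hn₀, u₀, hu₀, hnu⟩ := hzs
    have e3 := htN n₀ hn₀
    have a1 : t⁻¹ * n₀ * t = n₀ := by
      calc t⁻¹ * n₀ * t = t⁻¹ * (n₀ * t) := by group
        _ = t⁻¹ * (t * n₀) := by rw [e3]
        _ = n₀ := by group
    have e : t⁻¹ * z * t * z⁻¹ = n₀ * ((t⁻¹ * u₀ * t) * u₀⁻¹) * n₀⁻¹ := by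
      rw [← hnu]
      calc t⁻¹ * (n₀ * u₀) * t * (n₀ * u₀)⁻¹
          = (t⁻¹ * n₀ * t) * ((t⁻¹ * u₀ * t) * u₀⁻¹) * n₀⁻¹ := by group
        _ = n₀ * ((t⁻¹ * u₀ * t) * u₀⁻¹) * n₀⁻¹ := by rw [a1]
    rw [e]
    refine hRn.conj_mem _ ?_ n₀
    refine (Cfsg.pCore r X).mul_mem ?_ ((Cfsg.pCore r X).inv_mem hu₀)
    have := hRn.conj_mem u₀ hu₀ t⁻¹
    simpa using this
  obtain ⟨m, hm⟩ := (IsPGroup.iff_orderOf.1 hT) ⟨t, ht⟩
  have htm : t ^ (r ^ m) = 1 := by
    have : orderOf t = r ^ m := by rw [← hm, Subgroup.orderOf_mk]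
    rw [← this, pow_orderOf_eq_one]
  have h3 : z ^ (r ^ m) ∈ Cfsg.pCore r X := pow_mem_of_conj_eq_mul h1 h2 (r ^ m) htm
  obtain ⟨j, hj⟩ := card_pCore_eq (X := X) r
  have h4 : z ^ (r ^ (m + j)) = 1 := by
    rw [pow_add, pow_mul, ← hj]
    exact pCore_pow r _ h3
  have hzR' : z ∈ Cfsg.pCore r X := mem_pCore_of_pow r hzF h4
  have hc : Commute d z := hdR z hzR'
  have h5 : z ^ orderOf d = 1 := pow_eq_one_of_conj_eq_mul (pow_orderOf_eq_one d) h1 hc
  have h6 : orderOf z ∣ orderOf d := orderOf_dvd_of_pow_eq_one h5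
  have h7 : orderOf z ∣ r ^ (m + j) := orderOf_dvd_of_pow_eq_one h4
  have h8 : (orderOf z).Coprime (orderOf z) :=
    Nat.Coprime.coprime_dvd_left h6 (Nat.Coprime.coprime_dvd_right h7 (Nat.Coprime.pow_right _ hd))
  have h9 : z = 1 := orderOf_eq_one_iff.1 ((Nat.coprime_self _).1 h8)
  rw [h9, mul_one] at h1
  calc d * t = t * (t⁻¹ * d * t) := by group
    _ = t * d := by rw [h1]

end Bender

end Cfsg.Agent.Lib.Helper59
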