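import Cfsg.Agent.Lib.Helper59.BenderMain
import Cfsg.Agent.Lib.Helper13.Wielandt
import Cfsg.Prelude.Def_EvenTechniques

set_option autoImplicit false

namespace Cfsg.Agent.Lib.Helper59

open Subgroup
open scoped commutatorElement

namespace Bender

set_option linter.unusedSectionVars false

section abstract

variable {X : Type*} [Group X] [Finite X]

/-- every subgroup of a finite nilpotent group is subnormal -/
theorem isSubnormal_of_isNilpotent [hX : Group.IsNilpotent X] (K : Subgroup X) : K.IsSubnormal := by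
  induction K using WellFoundedGT.induction with
  | _ K ih =>
    by_cases hK : K = ⊤
    · rw [hK]; exact Subgroup.IsSubnormal.top
    · have hlt : K < Subgroup.normalizer (K : Set X) :=
        Group.normalizerCondition_of_isNilpotent K (lt_top_iff_ne_top.2 hK)
      exact Subgroup.IsSubnormal.step K _ hlt.le (ih _ hlt)
        ((Subgroup.normal_subgroupOf_iff_le_normalizer hlt.le).2 le_rfl)

/-- a subgroup of `F(X)` is subnormal in `X` -/
theorem isSubnormal_of_le_fitting {Y : Subgroup X} (hY : Y ≤ Cfsg.fittingSubgroup X) :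
    Y.IsSubnormal := by
  have hFn : (Cfsg.fittingSubgroup X).Normal := Cfsg.Agent.Lib.Helper30.fitting_normal
  have hnil : Group.IsNilpotent (Cfsg.fittingSubgroup X) := Cfsg.Agent.Lib.Helper30.fitting_isNilpotent
  exact Subgroup.IsSubnormal.trans hY (isSubnormal_of_isNilpotent _) hFn.isSubnormal

/-- the normalizer in `F*(X)` of a subgroup of `F(X)` is subnormal and contains its centralizer
in `F*(X)` -/
theorem hyp_normalizer {Q : Subgroup X} (hQ : Q ≤ Cfsg.fittingSubgroup X) :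
    Hyp (Cfsg.generalizedFittingSubgroup X ⊓ normalizer (Q : Set X)) := by
  have hEn : (Cfsg.layer X).Normal := Cfsg.Agent.Lib.Helper30.layer_normal
  have hFn : (Cfsg.fittingSubgroup X).Normal := Cfsg.Agent.Lib.Helper30.fitting_normal
  have hEQ : Cfsg.layer X ≤ normalizer (Q : Set X) := by
    intro e he
    refine Subgroup.centralizer_le_normalizer _ ?_
    rw [Subgroup.mem_centralizer_iff]
    intro u hu
    exact (commute_layer_fitting he (hQ hu)).symm
  have heq : Cfsg.generalizedFittingSubgroup X ⊓ normalizer (Q : Set X) =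
      Cfsg.layer X ⊔ (Cfsg.fittingSubgroup X ⊓ normalizer (Q : Set X)) := by
    apply le_antisymm
    · intro x hx
      obtain ⟨hx1, hx2⟩ := Subgroup.mem_inf.1 hx
      unfold Cfsg.generalizedFittingSubgroup at hx1
      rw [Subgroup.mem_sup_of_normal_left] at hx1
      obtain ⟨e, he, f, hf, rfl⟩ := hx1
      refine Subgroup.mul_mem_sup he (Subgroup.mem_inf.2 ⟨hf, ?_⟩)
      have : f = e⁻¹ * (e * f) := by group
      rw [this]
      exact Subgroup.mul_mem _ (Subgroup.inv_mem _ (hEQ he)) hx2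
    · refine sup_le (le_inf Cfsg.Agent.Lib.Helper30.layer_le_genFitting hEQ) ?_
      exact inf_le_inf_right _ Cfsg.Agent.Lib.Helper30.fitting_le_genFitting
  refine ⟨inf_le_left, ?_, ?_⟩
  · rw [heq]
    exact Cfsg.Agent.Lib.Helper13.isSubnormal_sup _ _ hEn.isSubnormal
      (isSubnormal_of_le_fitting inf_le_left)
  · intro x hx
    obtain ⟨hx1, hx2⟩ := Subgroup.mem_inf.1 hx
    refine Subgroup.mem_inf.2 ⟨hx1, ?_⟩
    refine Subgroup.centralizer_le_normalizer _ ?_
    refine Subgroup.centralizer_le ?_ hx2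
    intro u hu
    exact Subgroup.mem_inf.2
      ⟨Cfsg.Agent.Lib.Helper30.fitting_le_genFitting (hQ hu), Subgroup.le_normalizer hu⟩

/-- if all `p'`-elements of `F*(X)` are trivial then `F*(X)` is a `p`-group -/
theorem isPGroup_genFitting_of_forall (p : ℕ) [hp : Fact p.Prime]
    (h : ∀ w : X, w ∈ Cfsg.generalizedFittingSubgroup X → (orderOf w).Coprime p → w = 1) :
    IsPGroup p ↥(Cfsg.generalizedFittingSubgroup X) := by
  intro g
  have hpos : orderOf (g : X) ≠ 0 := (orderOf_pos (g : X)).ne'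
  obtain ⟨k, m, hm, hkm⟩ := Nat.exists_eq_pow_mul_and_not_dvd hpos p hp.out.ne_one
  refine ⟨k, ?_⟩
  have hy : ((g : X) ^ (p ^ k)) ∈ Cfsg.generalizedFittingSubgroup X := Subgroup.pow_mem _ g.2 _
  have hym : ((g : X) ^ (p ^ k)) ^ m = 1 := by
    rw [← pow_mul, ← hkm, pow_orderOf_eq_one]
  have hcop : (orderOf ((g : X) ^ (p ^ k))).Coprime p := by
    have hdvd : orderOf ((g : X) ^ (p ^ k)) ∣ m := orderOf_dvd_of_pow_eq_one hym
    exact Nat.Coprime.coprime_dvd_left hdvd ((Nat.Prime.coprime_iff_not_dvd hp.out).2 hm).symm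
  have := h _ hy hcop
  apply Subtype.ext
  rw [Subgroup.coe_pow, this, Subgroup.coe_one]

end abstract

section main

variable {G : Type*} [Group G] [Finite G]

/-- data extracted from `M ⇝ N` -/
theorem exists_hyp_of_leadsTo {M N : Subgroup G} (h : Cfsg.leadsTo M N) :
    ∃ S : Subgroup G, Hyp (S.subgroupOf M) ∧ S ≤ M ∧ S ≤ N ∧
      ∃ p : ℕ, p.Prime ∧ p ∣ Nat.card (Cfsg.fittingSubgroup ↥M) := by
  obtain ⟨Q, hQne, hQF, hQN⟩ := h
  have hQM : Q ≤ M := hQF.trans (Subgroup.map_subtype_le _)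
  refine ⟨(Cfsg.generalizedFittingSubgroup ↥M).map M.subtype ⊓ normalizer (Q : Set G), ?_,
    inf_le_left.trans (Subgroup.map_subtype_le _), hQN, ?_⟩
  · have hQ' : Q.subgroupOf M ≤ Cfsg.fittingSubgroup ↥M := by
      intro x hx
      obtain ⟨y, hy, hyx⟩ := hQF (Subgroup.mem_subgroupOf.1 hx)
      have : y = x := Subtype.ext hyx
      rwa [← this]
    have heq : ((Cfsg.generalizedFittingSubgroup ↥M).map M.subtype ⊓
        normalizer (Q : Set G)).subgroupOf M =
        Cfsg.generalizedFittingSubgroup ↥M ⊓ normalizer ((Q.subgroupOf M : Subgroup M) : Set M) := by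
      rw [← Subgroup.subgroupOf_normalizer_eq hQM]
      ext x
      simp only [Subgroup.mem_subgroupOf, Subgroup.mem_inf]
      constructor
      · rintro ⟨⟨y, hy, hyx⟩, h2⟩
        have : y = x := Subtype.ext hyx
        exact ⟨this ▸ hy, h2⟩
      · rintro ⟨h1, h2⟩
        exact ⟨⟨x, h1, rfl⟩, h2⟩
    rw [heq]
    exact hyp_normalizer hQ'
  · have hne : Nat.card (Cfsg.fittingSubgroup ↥M) ≠ 1 := by
      intro h1
      rw [Subgroup.card_eq_one] at h1
      apply hQne
      rw [eq_bot_iff]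
      intro x hx
      obtain ⟨y, hy, rfl⟩ := hQF hx
      have hy' : y ∈ Cfsg.fittingSubgroup ↥M := hy
      rw [h1] at hy'
      rw [Subgroup.mem_bot.1 hy']; simp
    exact Nat.exists_prime_and_dvd hne

/-- the generating set of the characteristic `p'`-part of a centralizer -/
def cgen (p : ℕ) (R : Subgroup G) : Set G :=
  {d : G | d ∈ centralizer (R : Set G) ∧ (orderOf d).Coprime p}

theorem normalizer_closure_cgen [IsSimpleGroup G] {A : Subgroup G} (hA : IsCoatom A) (p : ℕ)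
    {R : Subgroup G} (hRA : R ≤ A) (hRne : R ≠ ⊥) (hAR : A ≤ normalizer (R : Set G))
    (hne : closure (cgen p R) ≠ ⊥) : normalizer ((closure (cgen p R) : Subgroup G) : Set G) = A := by
  have hRN : normalizer (R : Set G) = A := normalizer_eq_of_coatom hA hRA hRne hAR
  have hDA : closure (cgen p R) ≤ A := by
    rw [Subgroup.closure_le]
    intro d hd
    have := Subgroup.centralizer_le_normalizer _ hd.1
    rwa [hRN] at this
  refine normalizer_eq_of_coatom hA hDA hne ?_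
  intro a ha
  have hconj : ∀ (b : G), b ∈ A → ∀ d ∈ cgen p R, b * d * b⁻¹ ∈ cgen p R := by
    rintro b hb d ⟨hd1, hd2⟩
    exact ⟨conj_mem_centralizer_of_mem_normalizer (hAR hb) hd1, by rw [orderOf_conj_eq]; exact hd2⟩
  refine mem_normalizer_closure (hconj a ha) ?_
  intro d hd
  have := hconj a⁻¹ (A.inv_mem ha) d hd
  simpa using this

/-- the transfer of centralizing `p'`-elements from `O_p(M)` to `O_p(N)` -/
theorem cgen_subset [IsSimpleGroup G] {M N SM : Subgroup G} (hM : IsCoatom M)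
    (hSM : Hyp (SM.subgroupOf M)) (hSMN : SM ≤ N)
    (p : ℕ) [hp : Fact p.Prime] (hdM : p ∣ Nat.card (Cfsg.fittingSubgroup ↥M))
    (hNM : (Cfsg.pCore p ↥N).map N.subtype ≤ M) :
    cgen p ((Cfsg.pCore p ↥M).map M.subtype) ⊆ cgen p ((Cfsg.pCore p ↥N).map N.subtype) := by
  have hMn : (Cfsg.pCore p ↥M).Normal := Cfsg.Agent.Lib.Helper01.pCore_normal p
  have hNn : (Cfsg.pCore p ↥N).Normal := Cfsg.Agent.Lib.Helper01.pCore_normal p
  have hRne : (Cfsg.pCore p ↥M).map M.subtype ≠ ⊥ := by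
    rw [Ne, Subgroup.map_eq_bot_iff_of_injective _ (Subgroup.subtype_injective M)]
    exact pCore_ne_bot_of_dvd p hdM
  have hRN : normalizer (((Cfsg.pCore p ↥M).map M.subtype : Subgroup G) : Set G) = M :=
    normalizer_eq_of_coatom hM (Subgroup.map_subtype_le _) hRne
      (le_normalizer_map_subtype (Cfsg.pCore p ↥M))
  rintro d ⟨hd1, hd2⟩
  have hdM' : d ∈ M := by
    have := Subgroup.centralizer_le_normalizer _ hd1
    rwa [hRN] at this
  refine ⟨?_, hd2⟩
  have hT : IsPGroup p ((((Cfsg.pCore p ↥N).map N.subtype : Subgroup G)).subgroupOf M) :=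
    ((Cfsg.Agent.Lib.Helper01.pCore_isPGroup p).map _).comap_subtype
  have hST : SM.subgroupOf M ≤
      normalizer (((((Cfsg.pCore p ↥N).map N.subtype : Subgroup G)).subgroupOf M : Subgroup M) : Set M) := by
    intro s hs
    exact Subgroup.le_normalizer_comap M.subtype
      (le_normalizer_map_subtype (Cfsg.pCore p ↥N) (hSMN (Subgroup.mem_subgroupOf.1 hs)))
  have hcop : (orderOf (⟨d, hdM'⟩ : M)).Coprime p := by
    rw [Subgroup.orderOf_mk]; exact hd2
  have hdR : ∀ u ∈ Cfsg.pCore p ↥M, (⟨d, hdM'⟩ : M) * u = u * ⟨d, hdM'⟩ := by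
    intro u hu
    apply Subtype.ext
    exact (Subgroup.mem_centralizer_iff.1 hd1 (u : G) ⟨u, hu, rfl⟩).symm
  have key := hSM.centralizes_coprime_of_centralizer p hT hST hcop hdR
  rw [Subgroup.mem_centralizer_iff]
  intro u hu
  have := key ⟨u, hNM hu⟩ (Subgroup.mem_subgroupOf.2 hu)
  exact (congrArg Subtype.val this).symm

/-- if `F*(M)` has a nontrivial `p'`-element and `O_p(N) ≤ M`, then so has `F*(N)` -/
theorem exists_coprime_of_exists [IsSimpleGroup G] {M N SM : Subgroup G} (hN : IsCoatom N)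
    (hSM : Hyp (SM.subgroupOf M)) (hSMN : SM ≤ N)
    (p : ℕ) [hp : Fact p.Prime] (hdN : p ∣ Nat.card (Cfsg.fittingSubgroup ↥N))
    (hNM : (Cfsg.pCore p ↥N).map N.subtype ≤ M)
    (w : M) (hwF : w ∈ Cfsg.generalizedFittingSubgroup ↥M) (hwcop : (orderOf w).Coprime p)
    (hw1 : w ≠ 1) :
    ∃ w' : N, w' ∈ Cfsg.generalizedFittingSubgroup ↥N ∧ (orderOf w').Coprime p ∧ w' ≠ 1 := by
  by_contra hall
  push Not at hall
  have hNn : (Cfsg.pCore p ↥N).Normal := Cfsg.Agent.Lib.Helper01.pCore_normal p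
  have hFn : (Cfsg.generalizedFittingSubgroup ↥N).Normal := Cfsg.Agent.Lib.Helper30.genFitting_normal
  have hT : IsPGroup p ((((Cfsg.pCore p ↥N).map N.subtype : Subgroup G)).subgroupOf M) :=
    ((Cfsg.Agent.Lib.Helper01.pCore_isPGroup p).map _).comap_subtype
  have hST : SM.subgroupOf M ≤
      normalizer (((((Cfsg.pCore p ↥N).map N.subtype : Subgroup G)).subgroupOf M : Subgroup M) : Set M) := by
    intro s hs
    exact Subgroup.le_normalizer_comap M.subtype
      (le_normalizer_map_subtype (Cfsg.pCore p ↥N) (hSMN (Subgroup.mem_subgroupOf.1 hs)))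
  have key := hSM.centralizes_coprime p hT hST hwF hwcop
  have hRne : (Cfsg.pCore p ↥N).map N.subtype ≠ ⊥ := by
    rw [Ne, Subgroup.map_eq_bot_iff_of_injective _ (Subgroup.subtype_injective N)]
    exact pCore_ne_bot_of_dvd p hdN
  have hRN : normalizer (((Cfsg.pCore p ↥N).map N.subtype : Subgroup G) : Set G) = N :=
    normalizer_eq_of_coatom hN (Subgroup.map_subtype_le _) hRne
      (le_normalizer_map_subtype (Cfsg.pCore p ↥N))
  have hwc : (w : G) ∈ centralizer (((Cfsg.pCore p ↥N).map N.subtype : Subgroup G) : Set G) := by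
    rw [Subgroup.mem_centralizer_iff]
    intro u hu
    have := key ⟨u, hNM hu⟩ (Subgroup.mem_subgroupOf.2 hu)
    exact (congrArg Subtype.val this).symm
  have hwN : (w : G) ∈ N := by
    have := Subgroup.centralizer_le_normalizer _ hwc
    rwa [hRN] at this
  -- `F*(N)` is a `p`-group, so lies in `O_p(N)`
  have hFp : IsPGroup p ↥(Cfsg.generalizedFittingSubgroup ↥N) :=
    isPGroup_genFitting_of_forall p (fun w' h1 h2 => hall w' h1 h2)
  have hFle : Cfsg.generalizedFittingSubgroup ↥N ≤ Cfsg.pCore p ↥N :=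
    Cfsg.Agent.Lib.Helper01.le_pCore hFn hFp
  have hwF' : (⟨(w : G), hwN⟩ : N) ∈ Cfsg.generalizedFittingSubgroup ↥N := by
    refine Cfsg.Agent.Lib.Helper28.centralizer_genFitting_le ?_
    rw [Subgroup.mem_centralizer_iff]
    intro y hy
    apply Subtype.ext
    exact Subgroup.mem_centralizer_iff.1 hwc (y : G) ⟨y, hFle hy, rfl⟩
  have hcop' : (orderOf (⟨(w : G), hwN⟩ : N)).Coprime p := by
    rw [Subgroup.orderOf_mk, Subgroup.orderOf_coe]; exact hwcop
  have h1 := hall _ hwF' hcop'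
  apply hw1
  apply Subtype.ext
  have := congrArg Subtype.val h1
  simpa using this

/-- the core of the symmetric case of Bender's uniqueness theorem -/
theorem eq_of_leads_both [IsSimpleGroup G] {M N SM SN : Subgroup G} (hM : IsCoatom M)
    (hN : IsCoatom N) (hSM : Hyp (SM.subgroupOf M)) (hSMM : SM ≤ M) (hSMN : SM ≤ N)
    (hSN : Hyp (SN.subgroupOf N)) (hSNN : SN ≤ N) (hSNM : SN ≤ M)
    (p : ℕ) [hp : Fact p.Prime] (hdM : p ∣ Nat.card (Cfsg.fittingSubgroup ↥M))
    (hdN : p ∣ Nat.card (Cfsg.fittingSubgroup ↥N))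
    (w : M) (hwF : w ∈ Cfsg.generalizedFittingSubgroup ↥M) (hwcop : (orderOf w).Coprime p)
    (hw1 : w ≠ 1) : M = N := by
  have hMn : (Cfsg.pCore p ↥M).Normal := Cfsg.Agent.Lib.Helper01.pCore_normal p
  have hNn : (Cfsg.pCore p ↥N).Normal := Cfsg.Agent.Lib.Helper01.pCore_normal p
  have hNpM : (Cfsg.pCore p ↥N).map N.subtype ≤ M :=
    pCore_le_of_coatom hM hSM hSMM hSMN p hdM w hwF hwcop hw1
  obtain ⟨w', hw'F, hw'cop, hw'1⟩ :=
    exists_coprime_of_exists hN hSM hSMN p hdN hNpM w hwF hwcop hw1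
  have hMpN : (Cfsg.pCore p ↥M).map M.subtype ≤ N :=
    pCore_le_of_coatom hN hSN hSNN hSNM p hdN w' hw'F hw'cop hw'1
  have h1 := cgen_subset hM hSM hSMN p hdM hNpM
  have h2 := cgen_subset hN hSN hSNM p hdN hMpN
  have heq : cgen p ((Cfsg.pCore p ↥M).map M.subtype) = cgen p ((Cfsg.pCore p ↥N).map N.subtype) :=
    Set.Subset.antisymm h1 h2
  have hMne : (Cfsg.pCore p ↥M).map M.subtype ≠ ⊥ := by
    rw [Ne, Subgroup.map_eq_bot_iff_of_injective _ (Subgroup.subtype_injective M)]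
    exact pCore_ne_bot_of_dvd p hdM
  have hNne : (Cfsg.pCore p ↥N).map N.subtype ≠ ⊥ := by
    rw [Ne, Subgroup.map_eq_bot_iff_of_injective _ (Subgroup.subtype_injective N)]
    exact pCore_ne_bot_of_dvd p hdN
  have hDne : closure (cgen p ((Cfsg.pCore p ↥M).map M.subtype)) ≠ ⊥ := by
    intro hbot
    have hwgen : (w : G) ∈ cgen p ((Cfsg.pCore p ↥M).map M.subtype) := by
      refine ⟨?_, ?_⟩
      · rw [Subgroup.mem_centralizer_iff]
        rintro _ ⟨u, hu, rfl⟩
        have := commute_nPart_pCore p (mem_nPart_of_coprime p hwF hwcop) hu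
        exact (congrArg Subtype.val this).symm
      · rw [Subgroup.orderOf_coe]; exact hwcop
    have hwc : (w : G) ∈ (closure (cgen p ((Cfsg.pCore p ↥M).map M.subtype)) : Subgroup G) :=
      Subgroup.subset_closure hwgen
    rw [hbot] at hwc
    exact hw1 (Subtype.ext (Subgroup.mem_bot.1 hwc))
  have e1 := normalizer_closure_cgen hM p (Subgroup.map_subtype_le _) hMne
    (le_normalizer_map_subtype (Cfsg.pCore p ↥M)) hDne
  rw [heq] at hDne
  have e2 := normalizer_closure_cgen hN p (Subgroup.map_subtype_le _) hNne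
    (le_normalizer_map_subtype (Cfsg.pCore p ↥N)) hDne
  rw [← e1, ← e2, heq]

/-- `π(F(M)) ⊆ π(F(N))` when `M ⇝ N` and `N ⇝ M` -/
theorem dvd_of_leads_both {M N SM SN : Subgroup G}
    (hSM : Hyp (SM.subgroupOf M)) (hSMN : SM ≤ N)
    (hSN : Hyp (SN.subgroupOf N)) (hSNN : SN ≤ N) (hSNM : SN ≤ M)
    (p : ℕ) [hp : Fact p.Prime] (hdM : p ∣ Nat.card (Cfsg.fittingSubgroup ↥M)) :
    p ∣ Nat.card (Cfsg.fittingSubgroup ↥N) := by
  by_contra hnd
  have h1 := part_one hSN hSNN hSNM p hp.out hnd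
  have hZne := center_pCore_ne_bot p (pCore_ne_bot_of_dvd p hdM)
  apply hZne
  rw [eq_bot_iff]
  intro z hz
  have h2 := hSM.center_pCore_le p hz
  obtain ⟨h3, h4⟩ := Subgroup.mem_inf.1 h2
  have h5 : (z : G) ∈ (Cfsg.pCore p ↥M).map M.subtype ⊓ N :=
    Subgroup.mem_inf.2 ⟨⟨z, h4, rfl⟩, hSMN (Subgroup.mem_subgroupOf.1 h3)⟩
  rw [h1, Subgroup.mem_bot] at h5
  rw [Subgroup.mem_bot]
  exact Subtype.ext h5

/-- Bender's uniqueness theorem, symmetric case -/
theorem bender_symmetric [IsSimpleGroup G] (M N : Subgroup G) (hM : IsCoatom M) (hN : IsCoatom N)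
    (hMN : Cfsg.leadsTo M N) (hNM : Cfsg.leadsTo N M) :
    M = N ∨ ∃ p : ℕ, p.Prime ∧ IsPGroup p ↥(Cfsg.generalizedFittingSubgroup ↥M) ∧
      IsPGroup p ↥(Cfsg.generalizedFittingSubgroup ↥N) := by
  obtain ⟨SM, hSM, hSMM, hSMN, p, hp, hdM⟩ := exists_hyp_of_leadsTo hMN
  obtain ⟨SN, hSN, hSNN, hSNM, _⟩ := exists_hyp_of_leadsTo hNM
  have hpF : Fact p.Prime := ⟨hp⟩
  have hdN := dvd_of_leads_both hSM hSMN hSN hSNN hSNM p hdM
  by_cases h1 : ∀ w : M, w ∈ Cfsg.generalizedFittingSubgroup ↥M → (orderOf w).Coprime p → w = 1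
  · by_cases h2 : ∀ w : N, w ∈ Cfsg.generalizedFittingSubgroup ↥N → (orderOf w).Coprime p → w = 1
    · exact Or.inr ⟨p, hp, isPGroup_genFitting_of_forall p h1, isPGroup_genFitting_of_forall p h2⟩
    · push Not at h2
      obtain ⟨w, hwF, hwcop, hw1⟩ := h2
      exact Or.inl (eq_of_leads_both hN hM hSN hSNN hSNM hSM hSMM hSMN p hdN hdM w hwF hwcop hw1).symm
  · push Not at h1
    obtain ⟨w, hwF, hwcop, hw1⟩ := h1
    exact Or.inl (eq_of_leads_both hM hN hSM hSMM hSMN hSN hSNN hSNM p hdM hdN w hwF hwcop hw1)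

/-- a Sylow `q`-subgroup of `F(N)` lies in `O_q(N)` -/
theorem sylow_fitting_le_pCore {N : Subgroup G} (q : ℕ) [hq : Fact q.Prime]
    (R : Sylow q ↥(Cfsg.fittingSubgroup ↥N)) :
    ((R : Subgroup ↥(Cfsg.fittingSubgroup ↥N)).map (Cfsg.fittingSubgroup ↥N).subtype).map N.subtype ≤
      (Cfsg.pCore q ↥N).map N.subtype := by
  refine Subgroup.map_mono ?_
  rintro _ ⟨y, hy, rfl⟩
  obtain ⟨k, hk⟩ := R.isPGroup' ⟨y, hy⟩
  refine mem_pCore_of_pow q y.2 (k := k) ?_
  have h1 : y ^ q ^ k = 1 := by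
    have := congrArg Subtype.val hk
    simpa using this
  rw [← map_pow, h1, map_one]

/-- Bender's uniqueness theorem: the Fitting parts -/
theorem bender_fitting_parts [IsSimpleGroup G] (M N : Subgroup G) (hM : IsCoatom M)
    (hMN : Cfsg.leadsTo M N) :
    ((∃ q₁ q₂ : ℕ, q₁.Prime ∧ q₂.Prime ∧ q₁ ≠ q₂ ∧ q₁ ∣ Nat.card ↥(Cfsg.fittingSubgroup ↥M) ∧
        q₂ ∣ Nat.card ↥(Cfsg.fittingSubgroup ↥M)) →
      ∀ q : ℕ, q.Prime → q ∣ Nat.card ↥(Cfsg.fittingSubgroup ↥M) →
        ∀ R : Sylow q ↥(Cfsg.fittingSubgroup ↥N),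
          ((R : Subgroup ↥(Cfsg.fittingSubgroup ↥N)).map (Cfsg.fittingSubgroup ↥N).subtype).map N.subtype ≤ M) ∧
    (∀ q : ℕ, q.Prime → ¬ q ∣ Nat.card ↥(Cfsg.fittingSubgroup ↥M) →
      ∀ R : Sylow q ↥(Cfsg.fittingSubgroup ↥N),
        ((R : Subgroup ↥(Cfsg.fittingSubgroup ↥N)).map (Cfsg.fittingSubgroup ↥N).subtype).map N.subtype ⊓ M = ⊥) := by
  obtain ⟨SM, hSM, hSMM, hSMN, _⟩ := exists_hyp_of_leadsTo hMN
  constructor
  · rintro ⟨q₁, q₂, hq₁, hq₂, hne, hd₁, hd₂⟩ q hq hd R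
    have hqF : Fact q.Prime := ⟨hq⟩
    refine (sylow_fitting_le_pCore q R).trans ?_
    -- a prime `s ≠ q` dividing `|F(M)|`
    obtain ⟨s, hs, hsq, hsd⟩ : ∃ s : ℕ, s.Prime ∧ s ≠ q ∧ s ∣ Nat.card ↥(Cfsg.fittingSubgroup ↥M) := by
      by_cases h : q₁ = q
      · exact ⟨q₂, hq₂, fun h2 => hne (h.trans h2.symm), hd₂⟩
      · exact ⟨q₁, hq₁, h, hd₁⟩
    have hsF : Fact s.Prime := ⟨hs⟩
    obtain ⟨x, hx⟩ := exists_prime_orderOf_dvd_card' s hsd
    have hxo : orderOf (x : M) = s := by rw [Subgroup.orderOf_coe]; exact hx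
    refine pCore_le_of_coatom hM hSM hSMM hSMN q hd (x : M)
      (Cfsg.Agent.Lib.Helper30.fitting_le_genFitting x.2) ?_ ?_
    · rw [hxo]
      exact (Nat.coprime_primes hs hq).2 hsq
    · intro h1
      rw [h1, orderOf_one] at hxo
      exact hs.one_lt.ne hxo
  · intro q hq hnd R
    have hqF : Fact q.Prime := ⟨hq⟩
    have h1 := part_one hSM hSMM hSMN q hq hnd
    rw [eq_bot_iff, ← h1]
    exact inf_le_inf_right _ (sylow_fitting_le_pCore q R)

end main

end Bender

end Cfsg.Agent.Lib.Helper59
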