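import Mathlib
import Cfsg.Prelude.Def_GeometricClasses
import Cfsg.Agent.Lib.Helper61.AschDefs
import Cfsg.Agent.Lib.Helper61.AschUDefs
import Cfsg.Agent.Lib.Helper63.AschB6
import Cfsg.Agent.Lib.Helper19.Unitary

/-!
# K-S5663-B6eq, core

Two equal tensor factors carrying unitary forms: after orthonormalising both factors the Kronecker
subgroup lies in the tensor wreath subgroup with `t = 2` and the form is the tensor square of the
standard form.  The orthonormalising matrices `B₁`, `B₂` are taken as data here.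
-/

set_option autoImplicit false

namespace Cfsg.Agent.Lib.Helper59.AschUB6eqCore

open Cfsg Cfsg.Geo
open scoped Matrix Kronecker MatrixGroups
open Cfsg.Agent.Lib.Helper19 (add_pow_q sum_pow_q q_pos pow_q_pow_q frobQ frobQ_apply)
open Cfsg.Agent.Lib.Helper63.Asch (coe_glReindex mem_tensorProductSubgroup
  tensorProductSubgroup_le_tensorWreathSubgroup)

section forms

variable {F : Type*} [Field F] [Fintype F] {q : ℕ} {κ : Type}

omit [Fintype F] in
theorem uf_zero_left (f : (κ → F) → (κ → F) → F) (hf : IsUnitaryFormPow q f)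
    (v : κ → F) : f 0 v = 0 := by
  have := hf.smul_left 0 0 v
  rw [zero_smul, zero_mul] at this
  exact this

theorem uf_zero_right (hF : Fintype.card F = q ^ 2) (f : (κ → F) → (κ → F) → F)
    (hf : IsUnitaryFormPow q f) (v : κ → F) : f v 0 = 0 := by
  rw [hf.herm, uf_zero_left f hf, zero_pow (q_pos hF).ne']

theorem uf_add_right (hF : Fintype.card F = q ^ 2) (f : (κ → F) → (κ → F) → F)
    (hf : IsUnitaryFormPow q f) (v x y : κ → F) : f v (x + y) = f v x + f v y := by
  rw [hf.herm, hf.add_left, add_pow_q hF, ← hf.herm, ← hf.herm]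

omit [Fintype F] in
theorem uf_smul_right (f : (κ → F) → (κ → F) → F)
    (hf : IsUnitaryFormPow q f) (c : F) (v x : κ → F) : f v (c • x) = c ^ q * f v x := by
  rw [hf.herm, hf.smul_left, mul_pow, ← hf.herm]

omit [Fintype F] in
theorem uf_sum_left (f : (κ → F) → (κ → F) → F) (hf : IsUnitaryFormPow q f)
    {α : Type*} (s : Finset α) (c : α → F) (v : α → κ → F) (w : κ → F) :
    f (∑ a ∈ s, c a • v a) w = ∑ a ∈ s, c a * f (v a) w := by
  classical
  induction s using Finset.induction_on with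
  | empty => simp [uf_zero_left f hf]
  | insert a s ha ih =>
    rw [Finset.sum_insert ha, Finset.sum_insert ha, hf.add_left, hf.smul_left, ih]

theorem uf_sum_right (hF : Fintype.card F = q ^ 2) (f : (κ → F) → (κ → F) → F)
    (hf : IsUnitaryFormPow q f)
    {α : Type*} (s : Finset α) (c : α → F) (v : α → κ → F) (w : κ → F) :
    f w (∑ a ∈ s, c a • v a) = ∑ a ∈ s, (c a) ^ q * f w (v a) := by
  classical
  induction s using Finset.induction_on with
  | empty => simp [uf_zero_right hF f hf]
  | insert a s ha ih =>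
    rw [Finset.sum_insert ha, Finset.sum_insert ha, uf_add_right hF f hf, uf_smul_right f hf, ih]

omit [Fintype F] in
theorem expand [Fintype κ] [DecidableEq κ] (x : κ → F) :
    x = ∑ a, x a • (Pi.single a (1 : F) : κ → F) := by
  conv_lhs => rw [← Finset.univ_sum_single x]
  apply Finset.sum_congr rfl
  intro a _
  ext j
  simp [Pi.single_apply]

/-- a unitary form is the sesquilinear form of its Gram matrix. -/
theorem uf_eq_gram [Fintype κ] [DecidableEq κ] (hF : Fintype.card F = q ^ 2)
    (f : (κ → F) → (κ → F) → F) (hf : IsUnitaryFormPow q f) (x y : κ → F) :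
    f x y = formOfGram (fun t : F => t ^ q) (gramMatrix f) x y := by
  unfold formOfGram gramMatrix
  conv_lhs => rw [expand x, uf_sum_left f hf]
  apply Finset.sum_congr rfl
  intro a _
  conv_lhs => rw [expand y, uf_sum_right hF f hf, Finset.mul_sum]
  apply Finset.sum_congr rfl
  intro b _
  ring

end forms

section gram

variable {F : Type*} [Field F] {κ : Type} [Fintype κ] [DecidableEq κ]

omit [DecidableEq κ] in
theorem formOfGram_eq_dot (σ : F → F) (G : Matrix κ κ F) (x y : κ → F) :
    formOfGram σ G x y = x ⬝ᵥ (G *ᵥ (σ ∘ y)) := by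
  unfold formOfGram
  simp only [dotProduct, Matrix.mulVec, Finset.mul_sum, Function.comp_apply, mul_assoc]

omit [DecidableEq κ] in
theorem formOfGram_mulVec (σ : F →+* F) (G M : Matrix κ κ F) (x y : κ → F) :
    formOfGram σ G (M *ᵥ x) (M *ᵥ y) = formOfGram σ (Mᵀ * G * M.map σ) x y := by
  rw [formOfGram_eq_dot, formOfGram_eq_dot]
  have h1 : (σ : F → F) ∘ (M *ᵥ y) = (M.map σ) *ᵥ ((σ : F → F) ∘ y) := by
    ext i
    exact RingHom.map_mulVec σ M y i
  have h2 : ∀ u w : κ → F, (M *ᵥ u) ⬝ᵥ w = u ⬝ᵥ (Mᵀ *ᵥ w) := by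
    intro u w
    rw [Matrix.mulVec_transpose, dotProduct_comm, Matrix.dotProduct_mulVec, dotProduct_comm]
  rw [h1, h2, Matrix.mulVec_mulVec, Matrix.mulVec_mulVec, Matrix.mul_assoc]

theorem formOfGram_one (σ : F → F) (x y : κ → F) :
    formOfGram σ (1 : Matrix κ κ F) x y = ∑ a, x a * σ (y a) := by
  unfold formOfGram
  apply Finset.sum_congr rfl
  intro a _
  rw [Finset.sum_eq_single a]
  · simp
  · intro b _ hb
    simp [Matrix.one_apply_ne hb.symm]
  · intro h
    exact absurd (Finset.mem_univ a) h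

theorem formOfGram_single (σ : F → F) (hσ : σ 1 = 1) (hσ0 : σ 0 = 0) (G : Matrix κ κ F) (a b : κ) :
    formOfGram σ G (Pi.single a 1) (Pi.single b 1) = G a b := by
  unfold formOfGram
  rw [Finset.sum_eq_single a]
  · rw [Finset.sum_eq_single b]
    · simp [hσ]
    · intro c _ hc
      simp [hc, hσ0]
    · intro h
      exact absurd (Finset.mem_univ b) h
  · intro c _ hc
    apply Finset.sum_eq_zero
    intro d _
    simp [Pi.single_apply, hc]
  · intro h
    exact absurd (Finset.mem_univ a) h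

end gram

section kron

variable {F : Type*} [Field F] {a b : ℕ}

/-- the Kronecker product of two invertible matrices, as an invertible matrix. -/
def kronGL (A : GL (Fin a) F) (B : GL (Fin b) F) : GL (Fin a × Fin b) F where
  val := (A : Matrix (Fin a) (Fin a) F) ⊗ₖ (B : Matrix (Fin b) (Fin b) F)
  inv := ((A⁻¹ : GL (Fin a) F) : Matrix (Fin a) (Fin a) F) ⊗ₖ ((B⁻¹ : GL (Fin b) F) : Matrix (Fin b) (Fin b) F)
  val_inv := by
    rw [← Matrix.mul_kronecker_mul, ← Units.val_mul, ← Units.val_mul, mul_inv_cancel, mul_inv_cancel,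
      Units.val_one, Units.val_one, Matrix.one_kronecker_one]
  inv_val := by
    rw [← Matrix.mul_kronecker_mul, ← Units.val_mul, ← Units.val_mul, inv_mul_cancel, inv_mul_cancel,
      Units.val_one, Units.val_one, Matrix.one_kronecker_one]

theorem coe_kronGL (A : GL (Fin a) F) (B : GL (Fin b) F) :
    ((kronGL A B : GL (Fin a × Fin b) F) : Matrix (Fin a × Fin b) (Fin a × Fin b) F) =
      (A : Matrix (Fin a) (Fin a) F) ⊗ₖ (B : Matrix (Fin b) (Fin b) F) := rfl

theorem kronGL_mem (A : GL (Fin a) F) (B : GL (Fin b) F) : kronGL A B ∈ kroneckerSubgroup a b F :=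
  ⟨A, B, rfl⟩

variable {ι : Type} [Fintype ι] [DecidableEq ι]

/-- changing the basis by a Kronecker product does not change the tensor product subgroup. -/
theorem tensorProductSubgroup_le_mul (e : ι ≃ Fin a × Fin b) (P : GL ι F)
    (R : GL (Fin a × Fin b) F) (hR : R ∈ kroneckerSubgroup a b F) :
    tensorProductSubgroup a b e P ≤ tensorProductSubgroup a b e (P * glReindex e.symm R) := by
  intro g hg
  rw [mem_tensorProductSubgroup] at hg ⊢
  obtain ⟨k₀, hk₀, rfl⟩ := hg
  refine ⟨R⁻¹ * k₀ * R, (kroneckerSubgroup a b F).mul_mem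
    ((kroneckerSubgroup a b F).mul_mem ((kroneckerSubgroup a b F).inv_mem hR) hk₀) hR, ?_⟩
  rw [map_mul, map_mul, map_inv]
  group

end kron

section main

variable {F : Type*} [Field F] [Fintype F] {n q : ℕ}

theorem hermForm_single (hF : Fintype.card F = q ^ 2) {k : ℕ} (i j : Fin k) :
    hermForm k F q (Pi.single i 1) (Pi.single j 1) = (1 : Matrix (Fin k) (Fin k) F) i j := by
  unfold hermForm
  rw [Finset.sum_eq_single i]
  · by_cases h : i = j
    · subst h; simp
    · simp [Matrix.one_apply_ne h, h, (q_pos hF).ne']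
  · intro l _ hl
    simp [hl]
  · intro h
    exact absurd (Finset.mem_univ i) h

/-- the matrix form of orthonormality. -/
theorem gram_orthonormal (hF : Fintype.card F = q ^ 2) {k : ℕ} (f : (Fin k → F) → (Fin k → F) → F)
    (hf : IsUnitaryFormPow q f) (B : GL (Fin k) F)
    (hB : ∀ x y : Fin k → F, f ((B : Matrix (Fin k) (Fin k) F) *ᵥ x) ((B : Matrix (Fin k) (Fin k) F) *ᵥ y) =
      hermForm k F q x y) :
    (B : Matrix (Fin k) (Fin k) F)ᵀ * gramMatrix f * (B : Matrix (Fin k) (Fin k) F).map (frobQ hF) = 1 := by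
  ext i j
  have hs := formOfGram_single (frobQ hF) (map_one _) (map_zero _)
    ((B : Matrix (Fin k) (Fin k) F)ᵀ * gramMatrix f * (B : Matrix (Fin k) (Fin k) F).map (frobQ hF)) i j
  rw [← hs, ← formOfGram_mulVec]
  have hσ : (⇑(frobQ hF) : F → F) = fun t => t ^ q := funext (frobQ_apply hF)
  rw [hσ, ← uf_eq_gram hF f hf, hB, hermForm_single hF]

omit [Fintype F] in
theorem kronecker_map_ringHom (σ : F →+* F) {a b : ℕ} (A : Matrix (Fin a) (Fin a) F)
    (B : Matrix (Fin b) (Fin b) F) : (A ⊗ₖ B).map σ = (A.map σ) ⊗ₖ (B.map σ) := by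
  ext ⟨i, j⟩ ⟨i', j'⟩
  simp [Matrix.kroneckerMap_apply]

/-- K-S5663-B6eq with the orthonormalising matrices as data. -/
theorem exists_tensorPower_core (hF : Fintype.card F = q ^ 2) (K : Subgroup (GL (Fin n) F)) (k : ℕ)
    (e : Fin n ≃ Fin k × Fin k) (P : GL (Fin n) F) (hK : K ≤ tensorProductSubgroup k k e P)
    (f₁ f₂ : (Fin k → F) → (Fin k → F) → F) (h₁ : IsUnitaryFormPow q f₁) (h₂ : IsUnitaryFormPow q f₂)
    (hT : IsTensorFormStructure (fun x : F => x ^ q) (hermForm n F q) f₁ f₂ e P)
    (B₁ B₂ : GL (Fin k) F)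
    (hB₁ : ∀ x y : Fin k → F,
      f₁ ((B₁ : Matrix (Fin k) (Fin k) F) *ᵥ x) ((B₁ : Matrix (Fin k) (Fin k) F) *ᵥ y) = hermForm k F q x y)
    (hB₂ : ∀ x y : Fin k → F,
      f₂ ((B₂ : Matrix (Fin k) (Fin k) F) *ᵥ x) ((B₂ : Matrix (Fin k) (Fin k) F) *ᵥ y) = hermForm k F q x y) :
    ∃ (e' : Fin n ≃ (Fin 2 → Fin k)) (P' : GL (Fin n) F),
      IsTensorPowerFormStructure (fun x : F => x ^ q) (hermForm n F q) (hermForm k F q) e' P' ∧
      K ≤ tensorWreathSubgroup k 2 e' P' := by
  refine ⟨e.trans (finTwoArrowEquiv (Fin k)).symm, P * glReindex e.symm (kronGL B₁ B₂), ?_, ?_⟩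
  · obtain ⟨c, hc, hform⟩ := hT
    refine ⟨c, hc, fun x y => ?_⟩
    have hP : ∀ z : Fin k × Fin k → F,
        ((P * glReindex e.symm (kronGL B₁ B₂) : GL (Fin n) F) : Matrix (Fin n) (Fin n) F) *ᵥ (z ∘ e) =
          (P : Matrix (Fin n) (Fin n) F) *ᵥ
            ((((B₁ : Matrix (Fin k) (Fin k) F) ⊗ₖ (B₂ : Matrix (Fin k) (Fin k) F)) *ᵥ z) ∘ e) := by
      intro z
      rw [Units.val_mul, ← Matrix.mulVec_mulVec, coe_glReindex, coe_kronGL]
      simp only [Equiv.symm_symm]
      rw [Matrix.submatrix_mulVec_equiv]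
      have hz : (z ∘ ⇑e) ∘ ⇑e.symm = z := by
        ext p
        simp
      rw [hz]
    have hx : ∀ w : (Fin 2 → Fin k) → F,
        w ∘ ⇑(e.trans (finTwoArrowEquiv (Fin k)).symm) = (w ∘ (finTwoArrowEquiv (Fin k)).symm) ∘ e := by
      intro w; rfl
    have hσ : (fun t : F => t ^ q) = (⇑(frobQ hF) : F → F) := (funext (frobQ_apply hF)).symm
    rw [hx, hx, hP, hP, hform, hσ, formOfGram_mulVec, ← Matrix.kroneckerMap_transpose,
      kronecker_map_ringHom, ← Matrix.mul_kronecker_mul, ← Matrix.mul_kronecker_mul,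
      gram_orthonormal hF f₁ h₁ B₁ hB₁, gram_orthonormal hF f₂ h₂ B₂ hB₂, Matrix.one_kronecker_one,
      formOfGram_one]
    congr 1
    rw [← (finTwoArrowEquiv (Fin k)).symm.sum_comp]
    apply Finset.sum_congr rfl
    intro a'' _
    symm
    set a' : Fin 2 → Fin k := (finTwoArrowEquiv (Fin k)).symm a'' with ha'
    rw [Finset.sum_eq_single a']
    · have h1 : ∀ i : Fin k, gramMatrix (hermForm k F q) i i = 1 := by
        intro i
        unfold gramMatrix
        rw [hermForm_single hF, Matrix.one_apply_eq]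
      simp only [h1, Finset.prod_const_one, mul_one, Function.comp_apply]
      rfl
    · intro b _ hb
      have : ∃ i, b i ≠ a' i := by
        by_contra hcon
        push Not at hcon
        exact hb (funext hcon)
      obtain ⟨i, hi⟩ := this
      have h0 : gramMatrix (hermForm k F q) (a' i) (b i) = 0 := by
        unfold gramMatrix
        rw [hermForm_single hF, Matrix.one_apply_ne (Ne.symm hi)]
      rw [Finset.prod_eq_zero (Finset.mem_univ i) h0]
      simp
    · intro h
      exact absurd (Finset.mem_univ a') h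
  · exact (hK.trans (tensorProductSubgroup_le_mul e P _ (kronGL_mem B₁ B₂))).trans
      (tensorProductSubgroup_le_tensorWreathSubgroup e _)

end main

end Cfsg.Agent.Lib.Helper59.AschUB6eqCore
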