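import Mathlib
import Cfsg.Prelude.Def_GeometricClasses
import Cfsg.Agent.Lib.Helper61.AschDefs
import Cfsg.Agent.Lib.Helper61.AschUDefs
import Cfsg.Agent.Lib.Helper80.AschUONB
import Cfsg.Agent.Lib.Helper59.AschUB6eqCore

/-!
# Orthonormalising both factors of a tensor form structure (unitary case, general `a`, `b`)
-/

set_option autoImplicit false

namespace Cfsg.Agent.Lib.Helper59.AschU

open Cfsg Cfsg.Geo Cfsg.Agent.Lib.Helper61.Asch Cfsg.Agent.Lib.Helper61.AschU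
open Cfsg.Agent.Lib.Helper59.AschUB6eqCore
open Cfsg.Agent.Lib.Helper19 (frobQ frobQ_apply)
open Cfsg.Agent.Lib.Helper63.Asch (coe_glReindex)
open scoped Matrix Kronecker MatrixGroups

variable {F : Type*} [Field F] [Fintype F] {n q : ℕ}

theorem gramMatrix_hermForm (hF : Fintype.card F = q ^ 2) (k : ℕ) :
    gramMatrix (hermForm k F q) = 1 := by
  ext i j
  unfold gramMatrix
  rw [hermForm_single hF]

/-- the tensor form structure with both factors replaced by the standard forms; the matrices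
`B₁`, `B₂` orthonormalising `f₁`, `f₂` are data. -/
theorem std_tensorForm_core (hF : Fintype.card F = q ^ 2) (K : Subgroup (GL (Fin n) F)) (a b : ℕ)
    (e : Fin n ≃ Fin a × Fin b) (P : GL (Fin n) F) (hK : K ≤ tensorProductSubgroup a b e P)
    (f₁ : (Fin a → F) → (Fin a → F) → F) (f₂ : (Fin b → F) → (Fin b → F) → F)
    (h₁ : IsUnitaryFormPow q f₁) (h₂ : IsUnitaryFormPow q f₂)
    (hT : IsTensorFormStructure (fun x : F => x ^ q) (hermForm n F q) f₁ f₂ e P)
    (B₁ : GL (Fin a) F) (B₂ : GL (Fin b) F)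
    (hB₁ : ∀ x y : Fin a → F,
      f₁ ((B₁ : Matrix (Fin a) (Fin a) F) *ᵥ x) ((B₁ : Matrix (Fin a) (Fin a) F) *ᵥ y) = hermForm a F q x y)
    (hB₂ : ∀ x y : Fin b → F,
      f₂ ((B₂ : Matrix (Fin b) (Fin b) F) *ᵥ x) ((B₂ : Matrix (Fin b) (Fin b) F) *ᵥ y) = hermForm b F q x y) :
    IsTensorFormStructure (fun x : F => x ^ q) (hermForm n F q) (hermForm a F q) (hermForm b F q) e
        (P * glReindex e.symm (kronGL B₁ B₂)) ∧
      K ≤ tensorProductSubgroup a b e (P * glReindex e.symm (kronGL B₁ B₂)) := by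
  refine ⟨?_, hK.trans (tensorProductSubgroup_le_mul e P _ (kronGL_mem B₁ B₂))⟩
  obtain ⟨c, hc, hform⟩ := hT
  refine ⟨c, hc, fun x y => ?_⟩
  have hP : ∀ z : Fin a × Fin b → F,
      ((P * glReindex e.symm (kronGL B₁ B₂) : GL (Fin n) F) : Matrix (Fin n) (Fin n) F) *ᵥ (z ∘ e) =
        (P : Matrix (Fin n) (Fin n) F) *ᵥ
          ((((B₁ : Matrix (Fin a) (Fin a) F) ⊗ₖ (B₂ : Matrix (Fin b) (Fin b) F)) *ᵥ z) ∘ e) := by
    intro z
    rw [Units.val_mul, ← Matrix.mulVec_mulVec, coe_glReindex, coe_kronGL]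
    simp only [Equiv.symm_symm]
    rw [Matrix.submatrix_mulVec_equiv]
    have hz : (z ∘ ⇑e) ∘ ⇑e.symm = z := by
      ext p
      simp
    rw [hz]
  have hσ : (fun t : F => t ^ q) = (⇑(frobQ hF) : F → F) := (funext (frobQ_apply hF)).symm
  rw [hP, hP, hform, gramMatrix_hermForm hF, gramMatrix_hermForm hF, hσ, formOfGram_mulVec,
    ← Matrix.kroneckerMap_transpose, kronecker_map_ringHom, ← Matrix.mul_kronecker_mul,
    ← Matrix.mul_kronecker_mul, gram_orthonormal hF f₁ h₁ B₁ hB₁, gram_orthonormal hF f₂ h₂ B₂ hB₂]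

/-- orthonormalising both factors of a tensor form structure (requested by helper4 for K-S5663-B6e). -/
theorem exists_std_tensorForm (hF : Fintype.card F = q ^ 2) (K : Subgroup (GL (Fin n) F)) (a b : ℕ)
    (e : Fin n ≃ Fin a × Fin b) (P : GL (Fin n) F) (hK : K ≤ tensorProductSubgroup a b e P)
    (f₁ : (Fin a → F) → (Fin a → F) → F) (f₂ : (Fin b → F) → (Fin b → F) → F)
    (h₁ : IsUnitaryFormPow q f₁) (h₂ : IsUnitaryFormPow q f₂)
    (hT : IsTensorFormStructure (fun x : F => x ^ q) (hermForm n F q) f₁ f₂ e P) :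
    ∃ P' : GL (Fin n) F,
      IsTensorFormStructure (fun x : F => x ^ q) (hermForm n F q) (hermForm a F q) (hermForm b F q) e P' ∧
      K ≤ tensorProductSubgroup a b e P' := by
  obtain ⟨B₁, hB₁⟩ := Cfsg.Agent.Lib.Helper80.AschU.exists_orthonormal_matrix hF f₁ h₁
  obtain ⟨B₂, hB₂⟩ := Cfsg.Agent.Lib.Helper80.AschU.exists_orthonormal_matrix hF f₂ h₂
  exact ⟨_, std_tensorForm_core hF K a b e P hK f₁ f₂ h₁ h₂ hT B₁ B₂ hB₁ hB₂⟩

end Cfsg.Agent.Lib.Helper59.AschU
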