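import Cfsg.Agent.Lib.Helper49.StOpDefs

/-!
# K-StOp-R0a (keystone 254801, S2548 pack of helper49): the three permutation matrices are isometries
-/

set_option autoImplicit false
set_option linter.unusedSectionVars false

namespace Cfsg.Agent.Lib.Helper59.StOp

open Cfsg Cfsg.Agent.Lib.Helper49.StOp

variable {m : ℕ} {F : Type*} [Field F]

/-- a permutation of the index set preserving `quadFormPlus` gives an isometry -/
theorem exists_of_perm (σ : Equiv.Perm (OI m))
    (hQ : ∀ u : OI m → F, Cfsg.quadFormPlus m F (u ∘ σ) = Cfsg.quadFormPlus m F u) :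
    ∃ g : OG m F, mat g = σ.permMatrix F := by
  refine exists_of_isometry (σ.permMatrix F) (σ⁻¹.permMatrix F) ?_ ?_ ?_
  · rw [← Matrix.permMatrix_mul, inv_mul_cancel, Matrix.permMatrix_one]
  · rw [← Matrix.permMatrix_mul, mul_inv_cancel, Matrix.permMatrix_one]
  · intro u
    rw [Matrix.permMatrix_mulVec]
    exact hQ u

theorem mat_sShort (i j : Fin m) : mat (sShort m F i j) = sShortMat m F i j := by
  refine mat_ofMat _ (exists_of_perm (swapE m i j) ?_)
  intro u
  unfold Cfsg.quadFormPlus
  exact Equiv.sum_comp (Equiv.swap i j) (fun a => u (Sum.inl a) * u (Sum.inr a))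

theorem mat_sCross (i j : Fin m) : mat (sCross m F i j) = sCrossMat m F i j := by
  refine mat_ofMat _ (exists_of_perm (crossE m i j) ?_)
  intro u
  by_cases hij : i = j
  · subst hij
    have h1 : crossE m i i = 1 := by
      unfold crossE
      exact Equiv.swap_mul_self _ _
    rw [h1]
    rfl
  · unfold Cfsg.quadFormPlus
    rw [← Equiv.sum_comp (Equiv.swap i j) (fun a => u (Sum.inl a) * u (Sum.inr a))]
    apply Finset.sum_congr rfl
    intro a _
    show u (Equiv.swap (eI i) (fI j) (Equiv.swap (eI j) (fI i) (eI a))) *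
        u (Equiv.swap (eI i) (fI j) (Equiv.swap (eI j) (fI i) (fI a))) =
      u (eI (Equiv.swap i j a)) * u (fI (Equiv.swap i j a))
    have hji : j ≠ i := fun e => hij e.symm
    by_cases hai : a = i
    · subst hai
      have e1 : Equiv.swap (eI j) (fI a) (eI a) = (eI a : OI m) :=
        Equiv.swap_apply_of_ne_of_ne (fun e => hij (Sum.inl.inj e)) (by simp)
      have e2 : Equiv.swap (eI a) (fI j) (eI j) = (eI j : OI m) :=
        Equiv.swap_apply_of_ne_of_ne (fun e => hji (Sum.inl.inj e)) (by simp)
      rw [e1, Equiv.swap_apply_left, Equiv.swap_apply_right, e2, Equiv.swap_apply_left, mul_comm]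
    · by_cases haj : a = j
      · subst haj
        have e1 : Equiv.swap (eI i) (fI a) (fI i) = (fI i : OI m) :=
          Equiv.swap_apply_of_ne_of_ne (by simp) (fun e => hij (Sum.inr.inj e))
        have e2 : Equiv.swap (eI a) (fI i) (fI a) = (fI a : OI m) :=
          Equiv.swap_apply_of_ne_of_ne (by simp) (fun e => hji (Sum.inr.inj e))
        rw [Equiv.swap_apply_left, e1, e2, Equiv.swap_apply_right, Equiv.swap_apply_right, mul_comm]
      · have e1 : Equiv.swap (eI j) (fI i) (eI a) = (eI a : OI m) :=
          Equiv.swap_apply_of_ne_of_ne (fun e => haj (Sum.inl.inj e)) (by simp)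
        have e2 : Equiv.swap (eI i) (fI j) (eI a) = (eI a : OI m) :=
          Equiv.swap_apply_of_ne_of_ne (fun e => hai (Sum.inl.inj e)) (by simp)
        have e3 : Equiv.swap (eI j) (fI i) (fI a) = (fI a : OI m) :=
          Equiv.swap_apply_of_ne_of_ne (by simp) (fun e => hai (Sum.inr.inj e))
        have e4 : Equiv.swap (eI i) (fI j) (fI a) = (fI a : OI m) :=
          Equiv.swap_apply_of_ne_of_ne (by simp) (fun e => haj (Sum.inr.inj e))
        rw [e1, e2, e3, e4, Equiv.swap_apply_of_ne_of_ne hai haj]

theorem mat_rFlip (k : Fin m) : mat (rFlip m F k) = rFlipMat m F k := by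
  refine mat_ofMat _ (exists_of_perm (flipE m k) ?_)
  intro u
  unfold Cfsg.quadFormPlus
  apply Finset.sum_congr rfl
  intro a _
  show u (Equiv.swap (eI k) (fI k) (eI a)) * u (Equiv.swap (eI k) (fI k) (fI a)) =
    u (eI a) * u (fI a)
  by_cases h : a = k
  · subst h
    rw [Equiv.swap_apply_left, Equiv.swap_apply_right, mul_comm]
  · have h1 : (eI a : OI m) ≠ eI k := fun e => h (Sum.inl.inj e)
    have h2 : (fI a : OI m) ≠ fI k := fun e => h (Sum.inr.inj e)
    rw [Equiv.swap_apply_of_ne_of_ne h1 (by simp), Equiv.swap_apply_of_ne_of_ne (by simp) h2]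

end Cfsg.Agent.Lib.Helper59.StOp

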