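import Cfsg.Agent.Lib.Helper59.CSCMain

set_option autoImplicit false

namespace Cfsg.Agent.Lib.Helper59

/-- A nonabelian `p`-group with a self-centralizing cyclic normal subgroup `U` of order `p^n`. -/
theorem csc_main {G : Type*} [Group G] [Finite G] {p : ℕ} [Fact p.Prime] (hG : IsPGroup p G)
    (hna : ¬ IsMulCommutative G) (U : Subgroup G) [hUn' : U.Normal] (hU : IsCyclic U) (n : ℕ)
    (hUn : Nat.card U = p ^ n) (hC : Subgroup.centralizer (U : Set G) = U) :
    (p = 2 ∧ Nat.card G = 2 ^ (n + 1) ∧ ((∃ m : ℕ, Nonempty (G ≃* DihedralGroup m)) ∨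
      (∃ m : ℕ, Nonempty (G ≃* QuaternionGroup m)) ∨ Cfsg.IsQuasiDihedral G)) ∨
    (U.relIndex (Subgroup.centralizer (Cfsg.powerClosure p 1 U : Set G)) = p ∧
      Cfsg.IsElementaryAbelian p (Cfsg.omegaOne p (Subgroup.centralizer (Cfsg.powerClosure p 1 U : Set G))) ∧
      Nat.card ↥(Cfsg.omegaOne p (Subgroup.centralizer (Cfsg.powerClosure p 1 U : Set G))) = p ^ 2 ∧
      (Cfsg.omegaOne p (Subgroup.centralizer (Cfsg.powerClosure p 1 U : Set G))).Characteristic) := by
  have hp : p.Prime := Fact.out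
  obtain ⟨⟨u, huU⟩, hgen⟩ := hU.exists_generator
  have hu : U = Subgroup.zpowers u := by
    apply le_antisymm
    · intro x hx
      obtain ⟨i, hi⟩ := Subgroup.mem_zpowers_iff.mp (hgen ⟨x, hx⟩)
      rw [Subgroup.mem_zpowers_iff]
      refine ⟨i, ?_⟩
      have := congrArg Subtype.val hi
      simpa using this
    · rw [Subgroup.zpowers_le]; exact huU
  have hou : orderOf u = p ^ n := by rw [← Nat.card_zpowers, ← hu, hUn]
  -- G ≠ U
  obtain ⟨g₀, hg₀⟩ : ∃ g₀ : G, g₀ ∉ U := by
    by_contra hall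
    push Not at hall
    apply hna
    refine ⟨⟨fun a b => ?_⟩⟩
    have ha := hall a
    have hb := hall b
    rw [hu] at ha hb
    obtain ⟨i, rfl⟩ := Subgroup.mem_zpowers_iff.mp ha
    obtain ⟨j, rfl⟩ := Subgroup.mem_zpowers_iff.mp hb
    exact ((Commute.refl u).zpow_zpow i j).eq
  -- n ≥ 2
  have hn : 2 ≤ n := by
    by_contra hlt
    have hUcen : U ≤ Subgroup.center G := by
      rcases Nat.lt_or_ge n 1 with h0 | h1
      · have : n = 0 := by omega
        rw [this, pow_zero] at hUn
        rw [Subgroup.card_eq_one.mp hUn]; exact bot_le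
      · have hn1 : n = 1 := by omega
        rw [hn1, pow_one] at hUn
        have hUbot : U ≠ ⊥ := by
          intro hb
          rw [hb, Subgroup.card_bot] at hUn
          exact hp.one_lt.ne hUn
        obtain ⟨z, hzU, hzc, hz1⟩ := exists_mem_center_of_normal_ne_bot hG U hUbot
        have hle : Subgroup.zpowers z ≤ U := by rwa [Subgroup.zpowers_le]
        have hoz : orderOf z = p := by
          have h1 : orderOf z ∣ p := by
            rw [← hUn, ← Nat.card_zpowers]
            exact Subgroup.card_dvd_of_le hle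
          rcases (Nat.dvd_prime hp).mp h1 with h2 | h2
          · exact absurd (orderOf_eq_one_iff.mp h2) hz1
          · exact h2
        have heq : Subgroup.zpowers z = U :=
          Subgroup.eq_of_le_of_card_ge hle (by rw [Nat.card_zpowers, hoz, hUn])
        rw [← heq, Subgroup.zpowers_le]; exact hzc
    have : Subgroup.centralizer (U : Set G) = ⊤ := by
      rw [Subgroup.centralizer_eq_top_iff_subset]
      exact hUcen
    rw [this] at hC
    exact hg₀ (hC ▸ Subgroup.mem_top g₀)
  have h : CSC p n U u := ⟨hG, hUn', hu, hou, hC, hn⟩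
  by_cases hM : ∃ t ∈ MM p U, t ∉ U
  · obtain ⟨t, ht, htU⟩ := hM
    by_cases h22 : p = 2 ∧ n = 2
    · obtain ⟨rfl, rfl⟩ := h22
      left
      obtain ⟨hidx, he⟩ := h.case_two_two hg₀
      exact ⟨rfl, h.final_case hidx hg₀ he⟩
    · right
      have h2 : p = 2 → 3 ≤ n := by
        intro hp2
        by_contra hlt
        exact h22 ⟨hp2, by omega⟩
      exact h.omega_props h2 ht htU
  · push Not at hM
    left
    obtain ⟨hp2, hidx, he⟩ := h.case_M_eq_U hM hg₀
    subst hp2
    exact ⟨rfl, h.final_case hidx hg₀ he⟩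

end Cfsg.Agent.Lib.Helper59
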