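import Mathlib
import Cfsg.Agent.Lib.Helper59.CSCTop
import Cfsg.Agent.Lib.Helper59.PGroupCenter
import Cfsg.Agent.Lib.Helper06.NormalRankTwo
import Cfsg.Agent.Lib.Helper33.PGroupBasic
import Cfsg.Agent.Lib.Helper71.Cyclic

set_option autoImplicit false

/-!
# The "rank one" factor of a `p`-group of symplectic type

`SympR p R z C`: abstract hypotheses satisfied by `R = C_P(E)` in P. Hall's theorem.
-/

namespace Cfsg.Agent.Lib.Helper59

open scoped commutatorElement

/-- In a cyclic subgroup, elements killed by `p` are powers of any element of order `p`. -/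
theorem mem_zpowers_of_mem_cyclic {R : Type*} [Group R] [Finite R] {p : ℕ} [Fact p.Prime]
    {C : Subgroup R} (hC : IsCyclic C) {z w : R} (hzC : z ∈ C) (hoz : orderOf z = p)
    (hwC : w ∈ C) (hwp : w ^ p = 1) : w ∈ Subgroup.zpowers z := by
  have hp : p.Prime := Fact.out
  have := Helper71.mem_zpowers_of_pow_eq_one (A := ↥C) p hp.pos ⟨z, hzC⟩ ⟨w, hwC⟩
    (by rw [Subgroup.orderOf_mk]; exact hoz) (by ext; simpa using hwp)
  obtain ⟨k, hk⟩ := Subgroup.mem_zpowers_iff.mp this
  exact Subgroup.mem_zpowers_iff.mpr ⟨k, by simpa using congrArg Subtype.val hk⟩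

/-- powers of a central element form a normal subgroup -/
theorem zpowers_normal_of_mem_center {R : Type*} [Group R] {z : R} (hz : z ∈ Subgroup.center R) :
    (Subgroup.zpowers z).Normal := by
  refine ⟨fun n hn g => ?_⟩
  have hc : n ∈ Subgroup.center R := by
    obtain ⟨k, rfl⟩ := Subgroup.mem_zpowers_iff.mp hn
    exact (Subgroup.center R).zpow_mem hz k
  have : g * n * g⁻¹ = n := by
    rw [Subgroup.mem_center_iff] at hc
    rw [hc g, mul_inv_cancel_right]
  rw [this]; exact hn

/-- The abstract hypotheses on the factor `R`. -/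
structure SympR (p : ℕ) (R : Type*) [Group R] (z : R) (C : Subgroup R) : Prop where
  hR : IsPGroup p R
  hz : z ∈ Subgroup.center R
  hoz : orderOf z = p
  hC : IsCyclic C
  hzC : z ∈ C
  hkey : ∀ w : R, w ^ p ∈ Subgroup.zpowers z → (∀ r : R, ⁅w, r⁆ ∈ Subgroup.zpowers z) → w ∈ C

namespace SympR

variable {R : Type*} [Group R] [Finite R] {p : ℕ} [Fact p.Prime] {z : R} {C : Subgroup R}

/-- elements of order dividing `p` of a normal abelian subgroup lie in `⟨z⟩`. -/
theorem omega_le (h : SympR p R z C) (A : Subgroup R) [hAn : A.Normal]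
    (hA : ∀ a ∈ A, ∀ b ∈ A, a * b = b * a) {v : R} (hvA : v ∈ A) (hvp : v ^ p = 1) :
    v ∈ Subgroup.zpowers z := by
  by_contra hvZ
  have hZn : (Subgroup.zpowers z).Normal := zpowers_normal_of_mem_center h.hz
  let V : Subgroup R :=
    { carrier := {a | a ∈ A ∧ a ^ p = 1}
      mul_mem' := by
        rintro a b ⟨ha, hap⟩ ⟨hb, hbp⟩
        refine ⟨A.mul_mem ha hb, ?_⟩
        have hc : Commute a b := hA a ha b hb
        rw [hc.mul_pow, hap, hbp, one_mul]
      one_mem' := ⟨A.one_mem, one_pow _⟩
      inv_mem' := by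
        rintro a ⟨ha, hap⟩
        exact ⟨A.inv_mem ha, by rw [inv_pow, hap, inv_one]⟩ }
  have hVn : V.Normal := by
    refine ⟨fun a ha g => ?_⟩
    obtain ⟨ha1, ha2⟩ := ha
    refine ⟨hAn.conj_mem a ha1 g, ?_⟩
    rw [conj_pow, ha2, mul_one, mul_inv_cancel]
  have hUn : (V.map (QuotientGroup.mk' (Subgroup.zpowers z))).Normal :=
    hVn.map _ (QuotientGroup.mk'_surjective _)
  have hUne : V.map (QuotientGroup.mk' (Subgroup.zpowers z)) ≠ ⊥ := by
    intro hbot
    have hm : QuotientGroup.mk' (Subgroup.zpowers z) v ∈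
        V.map (QuotientGroup.mk' (Subgroup.zpowers z)) :=
      Subgroup.mem_map_of_mem _ (show v ∈ V from ⟨hvA, hvp⟩)
    rw [hbot, Subgroup.mem_bot] at hm
    exact hvZ ((QuotientGroup.eq_one_iff v).mp hm)
  have hQ : IsPGroup p (R ⧸ Subgroup.zpowers z) := h.hR.to_quotient _
  obtain ⟨q, hqU, hqc, hq1⟩ := exists_mem_center_of_normal_ne_bot hQ _ hUne
  obtain ⟨w, hwV, rfl⟩ := Subgroup.mem_map.mp hqU
  obtain ⟨hwA, hwp⟩ := hwV
  apply hq1
  rw [QuotientGroup.mk'_apply, QuotientGroup.eq_one_iff]
  apply mem_zpowers_of_mem_cyclic h.hC h.hzC h.hoz _ hwp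
  apply h.hkey w
  · rw [hwp]; exact Subgroup.one_mem _
  · intro r
    rw [← QuotientGroup.eq_one_iff, ← QuotientGroup.mk'_apply, map_commutatorElement,
      commutatorElement_eq_one_iff_mul_comm]
    rw [Subgroup.mem_center_iff] at hqc
    exact (hqc _).symm

/-- every normal abelian subgroup is cyclic. -/
theorem normal_abelian_cyclic (h : SympR p R z C) (A : Subgroup R) [hAn : A.Normal]
    (hA : ∀ a ∈ A, ∀ b ∈ A, a * b = b * a) : IsCyclic A := by
  have hcard : Nat.card {w : ↥A // w ^ p = 1} ≤ p := by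
    have hinj : Function.Injective (fun w : {w : ↥A // w ^ p = 1} =>
        (⟨(w.1 : R), h.omega_le A hA w.1.2 (by
          have := congrArg Subtype.val w.2
          simpa using this)⟩ : ↥(Subgroup.zpowers z))) := by
      intro a b hab
      have := congrArg Subtype.val hab
      exact Subtype.ext (Subtype.ext this)
    have := Nat.card_le_card_of_injective _ hinj
    rwa [Nat.card_zpowers, h.hoz] at this
  let _ : CommGroup ↥A :=
    { (inferInstance : Group ↥A) with
      mul_comm := fun x y => Subtype.ext (hA x.1 x.2 y.1 y.2) }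
  exact Helper06.isCyclic_of_card_omega_le (h.hR.to_subgroup A) hcard

/-- commutators lie in `⟨z⟩` and `p`-th powers too, when `R / ⟨z⟩` has order `4`; then `R` is abelian -/
theorem abelian_of_card_eight (h : SympR 2 R z C) (hcard : Nat.card R = 8) :
    ∀ a b : R, a * b = b * a := by
  have hZn : (Subgroup.zpowers z).Normal := zpowers_normal_of_mem_center h.hz
  have hQ : IsPGroup 2 (R ⧸ Subgroup.zpowers z) := h.hR.to_quotient _
  have hcQ : Nat.card (R ⧸ Subgroup.zpowers z) = 2 ^ 2 := by
    have := Subgroup.card_eq_card_quotient_mul_card_subgroup (Subgroup.zpowers z)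
    rw [hcard, Nat.card_zpowers, h.hoz] at this
    omega
  have hQc := (IsPGroup.isMulCommutative_of_card_eq_prime_sq hcQ).is_comm.comm
  have hcomm : ∀ w r : R, ⁅w, r⁆ ∈ Subgroup.zpowers z := by
    intro w r
    rw [← QuotientGroup.eq_one_iff, ← QuotientGroup.mk'_apply, map_commutatorElement,
      commutatorElement_eq_one_iff_mul_comm]
    exact hQc _ _
  by_cases hsq : ∀ w : R, w ^ 2 ∈ Subgroup.zpowers z
  · -- everything lies in `C`
    have hall : ∀ w : R, w ∈ C := fun w => h.hkey w (hsq w) (hcomm w)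
    obtain ⟨⟨g, hgC⟩, hgen⟩ := h.hC.exists_generator
    intro a b
    obtain ⟨i, hi⟩ := Subgroup.mem_zpowers_iff.mp (hgen ⟨a, hall a⟩)
    obtain ⟨j, hj⟩ := Subgroup.mem_zpowers_iff.mp (hgen ⟨b, hall b⟩)
    have ha : a = g ^ i := by
      have := congrArg Subtype.val hi; simpa using this.symm
    have hb : b = g ^ j := by
      have := congrArg Subtype.val hj; simpa using this.symm
    rw [ha, hb]
    exact ((Commute.refl g).zpow_zpow i j).eq
  · push Not at hsq
    obtain ⟨w, hw⟩ := hsq
    have hw2 : (QuotientGroup.mk' (Subgroup.zpowers z) w) ^ 2 ≠ 1 := by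
      rw [← map_pow, QuotientGroup.mk'_apply, Ne, QuotientGroup.eq_one_iff]
      exact hw
    have hord : orderOf (QuotientGroup.mk' (Subgroup.zpowers z) w) = 4 := by
      have hdvd : orderOf (QuotientGroup.mk' (Subgroup.zpowers z) w) ∣ 2 ^ 2 := by
        rw [← hcQ]; exact orderOf_dvd_natCard _
      obtain ⟨k, hk, hk2⟩ := (Nat.dvd_prime_pow Nat.prime_two).mp hdvd
      have : ¬ orderOf (QuotientGroup.mk' (Subgroup.zpowers z) w) ∣ 2 := by
        rw [orderOf_dvd_iff_pow_eq_one]; exact hw2
      interval_cases k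
      · rw [hk2] at this; exact absurd (by norm_num) this
      · rw [hk2] at this; exact absurd (by norm_num) this
      · rw [hk2]; norm_num
    have hcyc : IsCyclic (R ⧸ Subgroup.zpowers z) :=
      isCyclic_of_orderOf_eq_card _ (by rw [hord, hcQ]; norm_num)
    have hker : (QuotientGroup.mk' (Subgroup.zpowers z)).ker ≤ Subgroup.center R := by
      rw [QuotientGroup.ker_mk', Subgroup.zpowers_le]; exact h.hz
    exact (MonoidHom.isMulCommutative_of_isCyclic_of_ker_le_center _ hker).is_comm.comm

/-- **Structure of the factor `R`.** -/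
theorem structure_thm (h : SympR p R z C) :
    IsCyclic R ∨ (p = 2 ∧ 16 ≤ Nat.card R ∧ ((∃ m : ℕ, Nonempty (R ≃* DihedralGroup m)) ∨
      (∃ m : ℕ, Nonempty (R ≃* QuaternionGroup m)) ∨ Cfsg.IsQuasiDihedral R)) := by
  have hp : p.Prime := Fact.out
  by_cases hab : ∀ a b : R, a * b = b * a
  · left
    have hT : IsCyclic ↥(⊤ : Subgroup R) :=
      h.normal_abelian_cyclic ⊤ (fun a _ b _ => hab a b)
    exact isCyclic_of_surjective (Subgroup.topEquiv : ↥(⊤ : Subgroup R) ≃* R)
      (Subgroup.topEquiv : ↥(⊤ : Subgroup R) ≃* R).surjective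
  · right
    obtain ⟨U, hUn, hUc, hCU⟩ := Helper33.exists_normal_abelian_self_centralizing h.hR
    have hUcomm : ∀ a ∈ U, ∀ b ∈ U, a * b = b * a := by
      intro a ha b hb
      have := hUc.is_comm.comm (⟨a, ha⟩ : ↥U) ⟨b, hb⟩
      exact congrArg Subtype.val this
    have hUcyc : IsCyclic U := h.normal_abelian_cyclic U hUcomm
    have hCeq : Subgroup.centralizer (U : Set R) = U := by
      apply le_antisymm hCU
      intro a ha
      rw [Subgroup.mem_centralizer_iff]
      intro b hb
      exact hUcomm b hb a ha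
    obtain ⟨n, hn⟩ := (h.hR.to_subgroup U).exists_card_eq
    have hna : ¬ IsMulCommutative R := fun hc => hab (fun a b => hc.is_comm.comm a b)
    rcases csc_main h.hR hna U hUcyc n hn hCeq with ⟨rfl, hcard, hD⟩ | ⟨_, hEA, hcW, hchar⟩
    · refine ⟨rfl, ?_, hD⟩
      by_contra hlt
      have hn2 : n + 1 ≤ 3 := by
        by_contra hgt
        apply hlt
        rw [hcard]
        calc 16 = 2 ^ 4 := by norm_num
          _ ≤ 2 ^ (n + 1) := Nat.pow_le_pow_right (by norm_num) (by omega)
      have hn3 : n = 0 ∨ n = 1 ∨ n = 2 := by omega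
      rcases hn3 with rfl | rfl | rfl
      · -- order 2
        have hc2 : Nat.card R = 2 := by rw [hcard]; norm_num
        have : Fact (Nat.Prime 2) := ⟨Nat.prime_two⟩
        have hcyc : IsCyclic R := isCyclic_of_prime_card hc2
        obtain ⟨g, hg⟩ := hcyc.exists_generator
        apply hab
        intro a b
        obtain ⟨i, rfl⟩ := Subgroup.mem_zpowers_iff.mp (hg a)
        obtain ⟨j, rfl⟩ := Subgroup.mem_zpowers_iff.mp (hg b)
        exact ((Commute.refl g).zpow_zpow i j).eq
      · exact hab (IsPGroup.isMulCommutative_of_card_eq_prime_sq (p := 2) (by rw [hcard])).is_comm.comm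
      · exact hab (h.abelian_of_card_eight (by rw [hcard]; norm_num))
    · exfalso
      have hWn : (Cfsg.omegaOne p
          (Subgroup.centralizer (Cfsg.powerClosure p 1 U : Set R))).Normal := inferInstance
      have hWcomm : ∀ a ∈ Cfsg.omegaOne p
          (Subgroup.centralizer (Cfsg.powerClosure p 1 U : Set R)), ∀ b ∈ Cfsg.omegaOne p
          (Subgroup.centralizer (Cfsg.powerClosure p 1 U : Set R)), a * b = b * a := by
        intro a ha b hb
        have := hEA.1.is_comm.comm (⟨a, ha⟩ : ↥(Cfsg.omegaOne p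
          (Subgroup.centralizer (Cfsg.powerClosure p 1 U : Set R)))) ⟨b, hb⟩
        exact congrArg Subtype.val this
      have hle : Cfsg.omegaOne p (Subgroup.centralizer (Cfsg.powerClosure p 1 U : Set R)) ≤
          Subgroup.zpowers z := fun v hv => h.omega_le _ hWcomm hv (hEA.2 v hv)
      have := Subgroup.card_le_of_le hle
      rw [hcW, Nat.card_zpowers, h.hoz] at this
      have h2 : p < p ^ 2 := by
        calc p = p ^ 1 := (pow_one p).symm
          _ < p ^ 2 := Nat.pow_lt_pow_right hp.one_lt (by norm_num)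
      omega

end SympR

end Cfsg.Agent.Lib.Helper59
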