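import Mathlib
import Cfsg.Agent.Lib.Helper32.XSDecomp
import Cfsg.Agent.Lib.Helper72.Frattini
import Cfsg.Agent.Lib.Helper03.PGroupFrattini

set_option autoImplicit false

/-!
# Extraspecial-like subgroups: the type-level predicate and the centralizer factorization
-/

namespace Cfsg.Agent.Lib.Helper59

open Subgroup
open scoped commutatorElement
open Cfsg.Agent.Lib.Helper32

/-- A nonabelian extraspecial-like subgroup is extraspecial as a group. -/
theorem isExtraspecial_of_isXS {X : Type*} [Group X] [Finite X] {p : ℕ} [Fact p.Prime]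
    {E : Subgroup X} {z : X} (h : IsXS p E z) (hP : IsPGroup p E)
    (hna : ¬ ∀ a ∈ E, ∀ b ∈ E, a * b = b * a) : Cfsg.IsExtraspecial p ↥E := by
  have hcen : Subgroup.center ↥E = zpowers (⟨z, h.z_mem⟩ : ↥E) := by
    ext a
    rw [Subgroup.mem_center_iff, Subgroup.mem_zpowers_iff]
    constructor
    · intro ha
      have := h.center a.1 a.2 (fun b hb => by
        have := ha ⟨b, hb⟩
        exact (congrArg Subtype.val this).symm)
      obtain ⟨k, hk⟩ := Subgroup.mem_zpowers_iff.mp this
      exact ⟨k, Subtype.ext (by simpa using hk)⟩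
    · rintro ⟨k, rfl⟩ g
      apply Subtype.ext
      have hc : Commute (g : X) z := h.z_comm g.1 g.2
      simpa using (hc.zpow_right k).eq
  have hcomm : commutator ↥E = zpowers (⟨z, h.z_mem⟩ : ↥E) := by
    apply le_antisymm
    · rw [_root_.commutator_def, Subgroup.commutator_le]
      intro a _ b _
      obtain ⟨k, hk⟩ := Subgroup.mem_zpowers_iff.mp (h.comm_mem a.1 a.2 b.1 b.2)
      exact Subgroup.mem_zpowers_iff.mpr ⟨k, Subtype.ext (by
        simpa [commutatorElement_def] using hk)⟩
    · rw [Subgroup.zpowers_le]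
      obtain ⟨x, hx, y, hy, hyx⟩ := h.exists_pair hna
      have : (⟨z, h.z_mem⟩ : ↥E) = ⁅(⟨y, hy⟩ : ↥E), ⟨x, hx⟩⁆ := by
        apply Subtype.ext
        simp [commutatorElement_def, ← hyx]
      rw [this, _root_.commutator_def]
      exact Subgroup.commutator_mem_commutator (Subgroup.mem_top _) (Subgroup.mem_top _)
  have hfrat : frattini ↥E = zpowers (⟨z, h.z_mem⟩ : ↥E) := by
    apply le_antisymm
    · apply Helper72.frattini_le_of_elementary_quotient p
      · intro a
        obtain ⟨k, hk⟩ := Subgroup.mem_zpowers_iff.mp (h.pow_mem a.1 a.2)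
        exact Subgroup.mem_zpowers_iff.mpr ⟨k, Subtype.ext (by simpa using hk)⟩
      · intro a b
        obtain ⟨k, hk⟩ := Subgroup.mem_zpowers_iff.mp (h.comm_mem a.1 a.2 b.1 b.2)
        exact Subgroup.mem_zpowers_iff.mpr ⟨k, Subtype.ext (by
          simpa [commutatorElement_def] using hk)⟩
    · rw [← hcomm]
      exact Helper03.commutator_le_frattini_of_isPGroup hP
  refine ⟨⟨hP, hfrat.trans hcen.symm, hcomm.trans hcen.symm⟩, ?_⟩
  rw [hcen, Nat.card_zpowers, Subgroup.orderOf_mk, h.orderOf_z]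

/-- general commutator expansion on the right. -/
theorem comm_mul_right_gen {X : Type*} [Group X] (a b c : X) :
    ⁅a, b * c⁆ = ⁅a, b⁆ * (b * ⁅a, c⁆ * b⁻¹) := by
  simp only [commutatorElement_def]; group

/-- **Centralizer factorization**: if `E` is extraspecial-like and `[E, H] ≤ ⟨z⟩` with `z` central
in `H ≥ E`, then `H = E * C_H(E)`. -/
theorem exists_mul_mem_centralizer {X : Type*} [Group X] [Finite X] {p : ℕ} [Fact p.Prime]
    {z : X} : ∀ n : ℕ, ∀ (E H : Subgroup X), IsXS p E z → Nat.card E = n → E ≤ H →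
      (∀ e ∈ E, ∀ g ∈ H, ⁅e, g⁆ ∈ zpowers z) → (∀ g ∈ H, g * z = z * g) →
      ∀ g ∈ H, ∃ e ∈ E, ∀ a ∈ E, (g * e) * a = a * (g * e) := by
  have hp : p.Prime := Fact.out
  intro n
  induction n using Nat.strong_induction_on with
  | _ n ih =>
    intro E H hE hcard hEH hcomm hzc g hg
    by_cases hab : ∀ a ∈ E, ∀ b ∈ E, a * b = b * a
    · refine ⟨1, E.one_mem, ?_⟩
      intro a ha
      rw [hE.eq_zpowers_of_comm hab] at ha
      obtain ⟨k, rfl⟩ := Subgroup.mem_zpowers_iff.mp ha
      rw [mul_one]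
      have hc : Commute g z := hzc g hg
      exact (hc.zpow_right k).eq
    · obtain ⟨x, hx, y, hy, hyx⟩ := hE.exists_pair hab
      have hE₁ := hE.isXS_cent2 hx hy hyx
      have hcard₁ := hE.card_eq hx hy hyx
      have hlt : Nat.card (cent2 E x y) < n := by
        rw [← hcard, hcard₁]
        have hpos : 0 < Nat.card (cent2 E x y) := Nat.card_pos
        have h2 : 2 ≤ p := hp.two_le
        have h4 : 2 * 2 ≤ p * p := Nat.mul_le_mul h2 h2
        nlinarith
      obtain ⟨β, _, hβ⟩ := hE.exists_pow_lt (hcomm x hx g hg)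
      obtain ⟨α, _, hα⟩ := hE.exists_pow_lt (inv_mem (hcomm y hy g hg))
      have hs : x ^ α * y ^ β ∈ E := E.mul_mem (E.pow_mem hx α) (E.pow_mem hy β)
      have hgz : ∀ c ∈ zpowers z, g * c * g⁻¹ = c := by
        intro c hc
        obtain ⟨k, rfl⟩ := Subgroup.mem_zpowers_iff.mp hc
        have hc' : Commute g z := hzc g hg
        rw [(hc'.zpow_right k).eq, mul_inv_cancel_right]
      have h1 : ⁅x, g * (x ^ α * y ^ β)⁆ = 1 := by
        rw [comm_mul_right_gen, hgz _ (hE.comm_mem x hx _ hs),
          ← commutatorElement_inv (x ^ α * y ^ β) x, hE.comm_t_x hx hy hyx, ← hβ, mul_inv_cancel]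
      have h2 : ⁅y, g * (x ^ α * y ^ β)⁆ = 1 := by
        rw [comm_mul_right_gen, hgz _ (hE.comm_mem y hy _ hs),
          ← commutatorElement_inv (x ^ α * y ^ β) y, hE.comm_t_y hx hy hyx, inv_inv, hα,
          mul_inv_cancel]
      rw [commutatorElement_eq_one_iff_mul_comm] at h1 h2
      have hgs : g * (x ^ α * y ^ β) ∈ H ⊓ centralizer {x, y} := by
        refine Subgroup.mem_inf.mpr ⟨H.mul_mem hg (hEH hs), ?_⟩
        rw [Subgroup.mem_centralizer_iff]
        intro w hw
        rcases hw with rfl | rfl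
        · exact h1
        · exact h2
      have hle : cent2 E x y ≤ H ⊓ centralizer {x, y} := by
        unfold cent2
        exact inf_le_inf_right _ hEH
      obtain ⟨e₁, he₁, hcen⟩ := ih _ hlt (cent2 E x y) (H ⊓ centralizer {x, y}) hE₁ rfl hle
        (fun e he k hk => hcomm e (cent2_le E x y he) k (Subgroup.mem_inf.mp hk).1)
        (fun k hk => hzc k (Subgroup.mem_inf.mp hk).1) _ hgs
      have he₁' := mem_cent2.mp he₁
      refine ⟨x ^ α * y ^ β * e₁, E.mul_mem hs he₁'.1, ?_⟩
      intro a ha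
      obtain ⟨a', b', _, _, hmem⟩ := hE.exists_decomp hx hy hyx ha
      have hcx : Commute (g * (x ^ α * y ^ β * e₁)) x := by
        rw [← mul_assoc]
        exact (Commute.mul_left (show Commute (g * (x ^ α * y ^ β)) x from h1.symm)
          (show Commute e₁ x from he₁'.2.1.symm))
      have hcy : Commute (g * (x ^ α * y ^ β * e₁)) y := by
        rw [← mul_assoc]
        exact (Commute.mul_left (show Commute (g * (x ^ α * y ^ β)) y from h2.symm)
          (show Commute e₁ y from he₁'.2.2.symm))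
      have hca : Commute (g * (x ^ α * y ^ β * e₁)) ((x ^ a' * y ^ b')⁻¹ * a) := by
        rw [← mul_assoc]
        exact hcen _ hmem
      have hat : a = (x ^ a' * y ^ b') * ((x ^ a' * y ^ b')⁻¹ * a) := by group
      rw [hat]
      exact (((hcx.pow_right a').mul_right (hcy.pow_right b')).mul_right hca).eq

end Cfsg.Agent.Lib.Helper59
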