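import Mathlib
import Cfsg.Prelude.Def_PLocal
import Cfsg.Prelude.Def_Transfer

set_option autoImplicit false

namespace Cfsg.Agent.Lib.Helper59

/-- class two power formula -/
theorem mul_pow_of_commutator_central {G : Type*} [Group G] {x y c : G} (hc : y * x = c * x * y)
    (hcx : Commute c x) (hcy : Commute c y) (m : ℕ) :
    (x * y) ^ m = x ^ m * y ^ m * c ^ (m * (m - 1) / 2) := by
  have hyx : ∀ k : ℕ, y ^ k * x = c ^ k * x * y ^ k := by
    intro k
    induction k with
    | zero => simp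
    | succ k ih =>
      calc y ^ (k + 1) * x = y ^ k * (y * x) := by rw [pow_succ, mul_assoc]
        _ = y ^ k * (c * x * y) := by rw [hc]
        _ = (y ^ k * c) * x * y := by simp only [mul_assoc]
        _ = (c * y ^ k) * x * y := by rw [(hcy.pow_right k).eq]
        _ = c * (y ^ k * x) * y := by simp only [mul_assoc]
        _ = c * (c ^ k * x * y ^ k) * y := by rw [ih]
        _ = c ^ (k + 1) * x * y ^ (k + 1) := by
          rw [pow_succ' c, pow_succ y]; simp only [mul_assoc]
  induction m with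
  | zero => simp
  | succ m ih =>
    have hT : (m + 1) * (m + 1 - 1) / 2 = m * (m - 1) / 2 + m := by
      have := Nat.triangle_succ m
      simpa using this
    have h1 : Commute (c ^ (m * (m - 1) / 2)) x := hcx.pow_left _
    have h2 : Commute (c ^ (m * (m - 1) / 2)) y := hcy.pow_left _
    have h3 : Commute (c ^ m) x := hcx.pow_left _
    calc (x * y) ^ (m + 1) = (x * y) ^ m * (x * y) := pow_succ _ _
      _ = x ^ m * y ^ m * c ^ (m * (m - 1) / 2) * (x * y) := by rw [ih]
      _ = x ^ m * y ^ m * (c ^ (m * (m - 1) / 2) * x) * y := by simp only [mul_assoc]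
      _ = x ^ m * y ^ m * (x * c ^ (m * (m - 1) / 2)) * y := by rw [h1.eq]
      _ = x ^ m * (y ^ m * x) * (c ^ (m * (m - 1) / 2) * y) := by simp only [mul_assoc]
      _ = x ^ m * (c ^ m * x * y ^ m) * (y * c ^ (m * (m - 1) / 2)) := by rw [hyx, h2.eq]
      _ = x ^ m * (c ^ m * x) * (y ^ m * y) * c ^ (m * (m - 1) / 2) := by simp only [mul_assoc]
      _ = x ^ m * (x * c ^ m) * (y ^ m * y) * c ^ (m * (m - 1) / 2) := by rw [h3.eq]
      _ = (x ^ m * x) * (c ^ m * (y ^ m * y)) * c ^ (m * (m - 1) / 2) := by simp only [mul_assoc]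
      _ = (x ^ m * x) * ((y ^ m * y) * c ^ m) * c ^ (m * (m - 1) / 2) := by
          rw [((hcy.pow_right m).mul_right hcy |>.pow_left m).eq]
      _ = x ^ (m + 1) * y ^ (m + 1) * c ^ ((m + 1) * (m + 1 - 1) / 2) := by
          rw [hT, pow_add c, ← pow_succ, ← pow_succ]
          simp only [mul_assoc]
          congr 2
          exact ((Commute.refl c).pow_pow _ _).eq

/-- Setup: `U = ⟨u⟩` cyclic normal self-centralizing of order `p^n`, `n ≥ 2`, in a `p`-group. -/
structure CSC {G : Type*} [Group G] (p n : ℕ) (U : Subgroup G) (u : G) : Prop where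
  hG : IsPGroup p G
  normal : U.Normal
  hu : U = Subgroup.zpowers u
  hou : orderOf u = p ^ n
  hC : Subgroup.centralizer (U : Set G) = U
  hn : 2 ≤ n

/-- `[g, u]` -/
def cm {G : Type*} [Group G] (u g : G) : G := g * u * g⁻¹ * u⁻¹

/-- the subgroup `C_G(℧¹(U))` -/
abbrev MM {G : Type*} [Group G] (p : ℕ) (U : Subgroup G) : Subgroup G :=
  Subgroup.centralizer (Cfsg.powerClosure p 1 U : Set G)

namespace CSC

variable {G : Type*} [Group G] {p n : ℕ} {U : Subgroup G} {u : G}

theorem u_mem (h : CSC p n U u) : u ∈ U := by rw [h.hu]; exact Subgroup.mem_zpowers u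

theorem comm_of_mem (h : CSC p n U u) {x y : G} (hx : x ∈ U) (hy : y ∈ U) : x * y = y * x := by
  rw [h.hu] at hx hy
  obtain ⟨i, rfl⟩ := Subgroup.mem_zpowers_iff.mp hx
  obtain ⟨j, rfl⟩ := Subgroup.mem_zpowers_iff.mp hy
  exact ((Commute.refl u).zpow_zpow i j).eq

theorem conj_mem (h : CSC p n U u) (g : G) {x : G} (hx : x ∈ U) : g * x * g⁻¹ ∈ U :=
  h.normal.conj_mem x hx g

theorem cm_mem (h : CSC p n U u) (g : G) : cm u g ∈ U :=
  U.mul_mem (h.conj_mem g h.u_mem) (U.inv_mem h.u_mem)

theorem conj_u (g : G) : g * u * g⁻¹ = cm u g * u := by unfold cm; group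

theorem mem_U_iff (h : CSC p n U u) (g : G) : g ∈ U ↔ cm u g = 1 := by
  constructor
  · intro hg
    have := h.comm_of_mem hg h.u_mem
    unfold cm; rw [this]; group
  · intro hg
    rw [← h.hC, Subgroup.mem_centralizer_iff]
    have hgu : g * u = u * g := by
      unfold cm at hg
      have : g * u * g⁻¹ = u := by
        have := mul_inv_eq_one.mp hg
        exact this
      calc g * u = g * u * g⁻¹ * g := by group
        _ = u * g := by rw [this]
    intro x hx
    rw [SetLike.mem_coe, h.hu] at hx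
    obtain ⟨i, rfl⟩ := Subgroup.mem_zpowers_iff.mp hx
    exact ((Commute.zpow_left (show Commute u g from hgu.symm) i)).eq

theorem conj_zpow' (h : CSC p n U u) (g : G) (i : ℤ) : g * u ^ i * g⁻¹ = cm u g ^ i * u ^ i := by
  have h1 : g * u ^ i * g⁻¹ = (g * u * g⁻¹) ^ i := (conj_zpow).symm
  rw [h1, conj_u]
  exact Commute.mul_zpow (h.comm_of_mem (h.cm_mem g) h.u_mem) i

theorem conj_pow' (h : CSC p n U u) (g : G) (i : ℕ) : g * u ^ i * g⁻¹ = cm u g ^ i * u ^ i := by
  have := h.conj_zpow' g (i : ℤ)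
  simpa using this

theorem pow_mem_powerClosure {w : G} (hw : w ∈ U) : w ^ p ∈ Cfsg.powerClosure p 1 U :=
  Subgroup.subset_closure ⟨w, hw, by rw [pow_one]⟩

theorem mem_M_iff (h : CSC p n U u) (g : G) : g ∈ MM p U ↔ cm u g ^ p = 1 := by
  constructor
  · intro hg
    have h1 : u ^ p * g = g * u ^ p :=
      Subgroup.mem_centralizer_iff.mp hg _ (pow_mem_powerClosure h.u_mem)
    have h2 : g * u ^ p * g⁻¹ = u ^ p := by rw [← h1]; group
    rw [h.conj_pow'] at h2
    exact mul_eq_right.mp h2
  · intro hg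
    have h1 : g * u ^ p * g⁻¹ = u ^ p := by rw [h.conj_pow', hg, one_mul]
    have h2 : u ^ p * g = g * u ^ p := by
      calc u ^ p * g = (g * u ^ p * g⁻¹) * g := by rw [h1]
        _ = g * u ^ p := by group
    have h3 : Cfsg.powerClosure p 1 U ≤ Subgroup.centralizer ({g} : Set G) := by
      unfold Cfsg.powerClosure
      rw [Subgroup.closure_le]
      rintro y ⟨x, hx, rfl⟩
      rw [SetLike.mem_coe, Subgroup.mem_centralizer_singleton_iff, pow_one]
      rw [h.hu] at hx
      obtain ⟨i, rfl⟩ := Subgroup.mem_zpowers_iff.mp hx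
      have h4 : (u ^ i) ^ p = (u ^ p) ^ i := by
        rw [← zpow_natCast, ← zpow_mul, mul_comm, zpow_mul, zpow_natCast]
      rw [h4]
      exact ((Commute.zpow_right (show Commute g (u ^ p) from h2.symm) i)).eq.symm
    rw [Subgroup.mem_centralizer_iff]
    intro y hy
    have := h3 hy
    rw [Subgroup.mem_centralizer_singleton_iff] at this
    exact this

theorem U_le_M (h : CSC p n U u) : U ≤ MM p U := by
  intro g hg
  rw [h.mem_M_iff, (h.mem_U_iff g).mp hg, one_pow]

end CSC

end Cfsg.Agent.Lib.Helper59
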