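import Mathlib
import Cfsg.Agent.Lib.Helper59.CSCBasic
import Cfsg.Agent.Lib.Helper32.XSBasic

set_option autoImplicit false

/-!
# The characteristic subgroup `Y` of a `p`-group with cyclic centre

`Y / ⟨z⟩ = Ω₁(Z(P / ⟨z⟩))`, where `z` generates the subgroup of order `p` of the centre.
-/

namespace Cfsg.Agent.Lib.Helper59

open Subgroup
open scoped commutatorElement

variable {G : Type*} [Group G]

theorem mem_center_of_mem_zpowers {z : G} (hz : z ∈ center G) {c : G} (hc : c ∈ zpowers z) :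
    c ∈ center G := (Subgroup.zpowers_le.mpr hz) hc

theorem commute_of_mem_zpowers {z : G} (hz : z ∈ center G) {c : G} (hc : c ∈ zpowers z) (g : G) :
    Commute c g :=
  ((Subgroup.mem_center_iff.mp (mem_center_of_mem_zpowers hz hc)) g).symm

theorem comm_inv_left_gen (x g : G) : ⁅x⁻¹, g⁆ = x⁻¹ * ⁅x, g⁆⁻¹ * x := by
  simp only [commutatorElement_def]; group

/-- The subgroup `Y`. -/
def symY (p : ℕ) (z : G) (hz : z ∈ center G) : Subgroup G where
  carrier := {x | (∀ g : G, ⁅x, g⁆ ∈ zpowers z) ∧ x ^ p ∈ zpowers z}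
  mul_mem' := by
    rintro x y ⟨hx1, hx2⟩ ⟨hy1, hy2⟩
    refine ⟨fun g => ?_, ?_⟩
    · rw [Helper32.comm_mul_left_gen x y g (commute_of_mem_zpowers hz (hy1 g) x).eq]
      exact (zpowers z).mul_mem (hy1 g) (hx1 g)
    · have hc : y * x = ⁅y, x⁆ * x * y := by
        simp only [commutatorElement_def]; group
      rw [mul_pow_of_commutator_central hc (commute_of_mem_zpowers hz (hy1 x) x)
        (commute_of_mem_zpowers hz (hy1 x) y) p]
      exact (zpowers z).mul_mem ((zpowers z).mul_mem hx2 hy2) ((zpowers z).pow_mem (hy1 x) _)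
  one_mem' := by
    refine ⟨fun g => ?_, ?_⟩
    · rw [commutatorElement_one_left]; exact Subgroup.one_mem _
    · rw [one_pow]; exact Subgroup.one_mem _
  inv_mem' := by
    rintro x ⟨hx1, hx2⟩
    refine ⟨fun g => ?_, ?_⟩
    · have hi : ⁅x, g⁆⁻¹ ∈ zpowers z := inv_mem (hx1 g)
      rw [comm_inv_left_gen, ← (commute_of_mem_zpowers hz hi x⁻¹).eq, inv_mul_cancel_right]
      exact hi
    · rw [inv_pow]; exact inv_mem hx2

theorem mem_symY {p : ℕ} {z : G} {hz : z ∈ center G} {x : G} :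
    x ∈ symY p z hz ↔ (∀ g : G, ⁅x, g⁆ ∈ zpowers z) ∧ x ^ p ∈ zpowers z := Iff.rfl

theorem z_mem_symY {p : ℕ} {z : G} (hz : z ∈ center G) (hzp : z ^ p = 1) : z ∈ symY p z hz := by
  refine ⟨fun g => ?_, ?_⟩
  · have : ⁅z, g⁆ = 1 := by
      rw [commutatorElement_eq_one_iff_mul_comm]
      exact ((Subgroup.mem_center_iff.mp hz) g).symm
    rw [this]; exact Subgroup.one_mem _
  · rw [hzp]; exact Subgroup.one_mem _

/-- `Y` is characteristic when `⟨z⟩` is the unique subgroup of order `p` of the centre. -/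
theorem symY_characteristic {p : ℕ} {z : G} (hz : z ∈ center G) (hzp : z ^ p = 1)
    (huniq : ∀ c ∈ center G, c ^ p = 1 → c ∈ zpowers z) : (symY p z hz).Characteristic := by
  have hφz : ∀ φ : G ≃* G, φ z ∈ zpowers z := by
    intro φ
    apply huniq
    · rw [Subgroup.mem_center_iff]
      intro g
      have := (Subgroup.mem_center_iff.mp hz) (φ.symm g)
      have h2 := congrArg φ this
      simpa using h2
    · rw [← map_pow, hzp, map_one]
  have hφ : ∀ φ : G ≃* G, ∀ c ∈ zpowers z, φ c ∈ zpowers z := by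
    intro φ c hc
    obtain ⟨k, rfl⟩ := Subgroup.mem_zpowers_iff.mp hc
    rw [map_zpow]
    exact (zpowers z).zpow_mem (hφz φ) k
  rw [Subgroup.characteristic_iff_map_le]
  intro φ x hx
  obtain ⟨w, hw, rfl⟩ := Subgroup.mem_map.mp hx
  obtain ⟨hw1, hw2⟩ := hw
  refine ⟨fun g => ?_, ?_⟩
  · have := hφ φ _ (hw1 (φ.symm g))
    rw [map_commutatorElement] at this
    simpa using this
  · have := hφ φ _ hw2
    rw [map_pow] at this
    simpa using this

end Cfsg.Agent.Lib.Helper59
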