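import Mathlib
import Cfsg.Agent.Lib.Helper59.SympY
import Cfsg.Agent.Lib.Helper59.SympXS
import Cfsg.Agent.Lib.Helper59.SympR

set_option autoImplicit false

/-!
# P. Hall's theorem on `p`-groups of symplectic type
-/

namespace Cfsg.Agent.Lib.Helper59

open Subgroup
open scoped commutatorElement
open Cfsg.Agent.Lib.Helper32

section Decomp

variable {G : Type*} [Group G] {p : ℕ} [Fact p.Prime] {z : G}

/-- A subgroup of `Y` maximal subject to meeting `Z(Y)` in `⟨z⟩` supplements `Z(Y)` in `Y`. -/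
theorem exists_decomp_of_maximal {Y E : Subgroup G}
    (hYcomm : ∀ x ∈ Y, ∀ g : G, ⁅x, g⁆ ∈ zpowers z) (hYpow : ∀ x ∈ Y, x ^ p ∈ zpowers z)
    (hZE : zpowers z ≤ E) (hEY : E ≤ Y)
    (hEZ : E ⊓ (Y ⊓ centralizer (Y : Set G)) ≤ zpowers z)
    (hmax : ∀ E' : Subgroup G, zpowers z ≤ E' → E' ≤ Y →
      E' ⊓ (Y ⊓ centralizer (Y : Set G)) ≤ zpowers z → E ≤ E' → E' ≤ E)
    {y : G} (hy : y ∈ Y) :
    ∃ e ∈ E, ∃ c ∈ Y ⊓ centralizer (Y : Set G), y = e * c := by
  have hp : p.Prime := Fact.out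
  by_contra hno
  have hE'Y : E ⊔ zpowers y ≤ Y := sup_le hEY (Subgroup.zpowers_le.mpr hy)
  by_cases hcase : (E ⊔ zpowers y) ⊓ (Y ⊓ centralizer (Y : Set G)) ≤ zpowers z
  · have := hmax _ (hZE.trans le_sup_left) hE'Y hcase le_sup_left
    have hyE : y ∈ E := this (Subgroup.mem_sup_right (Subgroup.mem_zpowers y))
    exact hno ⟨y, hyE, 1, Subgroup.one_mem _, (mul_one y).symm⟩
  · obtain ⟨c, hc, hcz⟩ := SetLike.not_le_iff_exists.mp hcase
    obtain ⟨hc1, hc2⟩ := Subgroup.mem_inf.mp hc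
    have hnorm : zpowers y ≤ normalizer (E : Set G) := by
      rw [Subgroup.zpowers_le, Subgroup.mem_normalizer_iff]
      intro e
      have h1 : y * e * y⁻¹ = ⁅y, e⁆ * e := by
        simp only [commutatorElement_def]; group
      rw [h1]
      exact (Subgroup.mul_mem_cancel_left E (hZE (hYcomm y hy e))).symm
    have hcoe := Subgroup.coe_mul_of_right_le_normalizer_left E (zpowers y) hnorm
    have hc1' : c ∈ ((E ⊔ zpowers y : Subgroup G) : Set G) := hc1
    rw [hcoe] at hc1'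
    obtain ⟨e, he, w, hw, rfl⟩ := Set.mem_mul.mp hc1'
    obtain ⟨i, rfl⟩ := Subgroup.mem_zpowers_iff.mp hw
    have he' : (e : G) ∈ E := he
    by_cases hpi : (p : ℤ) ∣ i
    · obtain ⟨m, rfl⟩ := hpi
      apply hcz
      apply hEZ
      refine Subgroup.mem_inf.mpr ⟨E.mul_mem he' ?_, hc2⟩
      rw [zpow_mul, zpow_natCast]
      exact E.zpow_mem (hZE (hYpow y hy)) m
    · have hpp : Prime (p : ℤ) := Nat.prime_iff_prime_int.mp hp
      have hcop : IsCoprime (p : ℤ) i := (hpp.coprime_iff_not_dvd).mpr hpi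
      obtain ⟨a, b, hab⟩ := hcop
      apply hno
      have hcomm : Commute e⁻¹ (e * y ^ i) := by
        have hcY : e * y ^ i ∈ centralizer (Y : Set G) := (Subgroup.mem_inf.mp hc2).2
        rw [Subgroup.mem_centralizer_iff] at hcY
        exact hcY e⁻¹ (Y.inv_mem (hEY he'))
      have hyi : y ^ i = e⁻¹ * (e * y ^ i) := by group
      have key : ∀ c : G, Commute e⁻¹ c → y ^ i = e⁻¹ * c →
          y = ((y ^ p) ^ a * (e⁻¹) ^ b) * c ^ b := by
        intro c hcomm hyi
        have : y = y ^ (a * (p : ℤ) + b * i) := by rw [hab, zpow_one]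
        conv_lhs => rw [this]
        rw [zpow_add, mul_comm a, zpow_mul, zpow_natCast, mul_comm b, zpow_mul, hyi,
          hcomm.mul_zpow, mul_assoc]
      have hy1 := key _ hcomm hyi
      exact ⟨_, E.mul_mem (E.zpow_mem (hZE (hYpow y hy)) a) (E.zpow_mem (E.inv_mem he') b), _,
        Subgroup.zpow_mem _ hc2 b, hy1⟩

/-- the maximal subgroup is extraspecial-like -/
theorem isXS_of_maximal {Y E : Subgroup G} (hz : z ∈ center G) (hoz : orderOf z = p)
    (hYcomm : ∀ x ∈ Y, ∀ g : G, ⁅x, g⁆ ∈ zpowers z) (hYpow : ∀ x ∈ Y, x ^ p ∈ zpowers z)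
    (hZE : zpowers z ≤ E) (hEY : E ≤ Y)
    (hEZ : E ⊓ (Y ⊓ centralizer (Y : Set G)) ≤ zpowers z)
    (hdec : ∀ y ∈ Y, ∃ e ∈ E, ∃ c ∈ Y ⊓ centralizer (Y : Set G), y = e * c) :
    IsXS p E z := by
  have hp : p.Prime := Fact.out
  refine ⟨hZE (Subgroup.mem_zpowers z), ?_, ?_, ?_, ?_, ?_, ?_⟩
  · intro h1
    rw [h1, orderOf_one] at hoz
    exact hp.one_lt.ne hoz
  · rw [← hoz]; exact pow_orderOf_eq_one z
  · intro a _
    exact (Subgroup.mem_center_iff.mp hz) a
  · intro a ha b _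
    exact hYcomm a (hEY ha) b
  · intro a ha
    exact hYpow a (hEY ha)
  · intro a ha hab
    apply hEZ
    refine Subgroup.mem_inf.mpr ⟨ha, Subgroup.mem_inf.mpr ⟨hEY ha, ?_⟩⟩
    rw [Subgroup.mem_centralizer_iff]
    intro y hy
    obtain ⟨e, he, c, hc, rfl⟩ := hdec y hy
    have h1 : Commute e a := (hab e he).symm
    have h2 : Commute c a := by
      have := (Subgroup.mem_inf.mp hc).2
      rw [Subgroup.mem_centralizer_iff] at this
      exact (this a (hEY ha)).symm
    exact (h1.mul_left h2).eq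

end Decomp

theorem coe_mem_zpowers_iff {G : Type*} [Group G] {H : Subgroup G} {z : G} (hz : z ∈ H) (x : ↥H) :
    x ∈ zpowers (⟨z, hz⟩ : ↥H) ↔ (x : G) ∈ zpowers z := by
  rw [Subgroup.mem_zpowers_iff, Subgroup.mem_zpowers_iff]
  constructor
  · rintro ⟨k, rfl⟩; exact ⟨k, by simp⟩
  · rintro ⟨k, hk⟩; exact ⟨k, Subtype.ext (by simpa using hk)⟩

/-- **P. Hall**: the nontrivial case, with `z` a central element of order `p`. -/
theorem symplectic_main {G : Type*} [Group G] [Finite G] {p : ℕ} [Fact p.Prime]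
    (hG : IsPGroup p G)
    (hsymp : ∀ A : Subgroup G, A.Characteristic → IsMulCommutative A → IsCyclic A)
    {z : G} (hz : z ∈ center G) (hoz : orderOf z = p)
    (huniq : ∀ c ∈ center G, c ^ p = 1 → c ∈ zpowers z) :
    ∃ E R : Subgroup G, (∀ e ∈ E, ∀ r ∈ R, e * r = r * e) ∧ E ⊔ R = ⊤ ∧
      (E = ⊥ ∨ Cfsg.IsExtraspecial p ↥E) ∧
      (IsCyclic R ∨ (p = 2 ∧ 16 ≤ Nat.card R ∧ ((∃ m : ℕ, Nonempty (↥R ≃* DihedralGroup m)) ∨
        (∃ m : ℕ, Nonempty (↥R ≃* QuaternionGroup m)) ∨ Cfsg.IsQuasiDihedral ↥R))) := by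
  have hp : p.Prime := Fact.out
  have hzp : z ^ p = 1 := by rw [← hoz]; exact pow_orderOf_eq_one z
  have hYchar : (symY p z hz).Characteristic := symY_characteristic hz hzp huniq
  set Y := symY p z hz with hYdef
  have hYcomm : ∀ x ∈ Y, ∀ g : G, ⁅x, g⁆ ∈ zpowers z := fun x hx => (mem_symY.mp hx).1
  have hYpow : ∀ x ∈ Y, x ^ p ∈ zpowers z := fun x hx => (mem_symY.mp hx).2
  have hzY : z ∈ Y := z_mem_symY hz hzp
  -- the centre of `Y` is cyclic
  have hZYchar : (Y ⊓ centralizer (Y : Set G)).Characteristic := inferInstance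
  have hZYcomm : IsMulCommutative ↥(Y ⊓ centralizer (Y : Set G)) := by
    refine ⟨⟨fun a b => ?_⟩⟩
    apply Subtype.ext
    have hb := (Subgroup.mem_inf.mp b.2).2
    rw [Subgroup.mem_centralizer_iff] at hb
    exact (hb a.1 (Subgroup.mem_inf.mp a.2).1)
  have hZYcyc : IsCyclic ↥(Y ⊓ centralizer (Y : Set G)) := hsymp _ hZYchar hZYcomm
  have hzZY : z ∈ Y ⊓ centralizer (Y : Set G) := by
    refine Subgroup.mem_inf.mpr ⟨hzY, ?_⟩
    rw [Subgroup.mem_centralizer_iff]
    intro y _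
    exact (Subgroup.mem_center_iff.mp hz) y
  -- choose `E`
  obtain ⟨E, hEmax⟩ := Set.Finite.exists_maximal
    (Set.toFinite {E : Subgroup G | zpowers z ≤ E ∧ E ≤ Y ∧
      E ⊓ (Y ⊓ centralizer (Y : Set G)) ≤ zpowers z})
    ⟨zpowers z, le_rfl, Subgroup.zpowers_le.mpr hzY, inf_le_left⟩
  obtain ⟨⟨hZE, hEY, hEZ⟩, hmax'⟩ := hEmax
  have hmax : ∀ E' : Subgroup G, zpowers z ≤ E' → E' ≤ Y →
      E' ⊓ (Y ⊓ centralizer (Y : Set G)) ≤ zpowers z → E ≤ E' → E' ≤ E :=
    fun E' h1 h2 h3 h4 => hmax' ⟨h1, h2, h3⟩ h4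
  have hdec : ∀ y ∈ Y, ∃ e ∈ E, ∃ c ∈ Y ⊓ centralizer (Y : Set G), y = e * c :=
    fun y hy => exists_decomp_of_maximal hYcomm hYpow hZE hEY hEZ hmax hy
  have hXS : IsXS p E z := isXS_of_maximal hz hoz hYcomm hYpow hZE hEY hEZ hdec
  -- factorization
  have hfac : ∀ g : G, ∃ e ∈ E, g * e ∈ centralizer (E : Set G) := by
    intro g
    obtain ⟨e, he, hce⟩ := exists_mul_mem_centralizer (Nat.card E) E ⊤ hXS rfl le_top
      (fun e he g _ => hYcomm e (hEY he) g) (fun g _ => (Subgroup.mem_center_iff.mp hz) g)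
      g (Subgroup.mem_top g)
    refine ⟨e, he, ?_⟩
    rw [Subgroup.mem_centralizer_iff]
    intro a ha
    exact (hce a ha).symm
  have hzR : z ∈ centralizer (E : Set G) := by
    rw [Subgroup.mem_centralizer_iff]
    intro a _
    exact (Subgroup.mem_center_iff.mp hz) a
  have hZYR : Y ⊓ centralizer (Y : Set G) ≤ centralizer (E : Set G) := by
    intro c hc
    have := (Subgroup.mem_inf.mp hc).2
    rw [Subgroup.mem_centralizer_iff] at this ⊢
    intro a ha
    exact this a (hEY ha)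
  -- the hypotheses on `R`
  have hSR : SympR p ↥(centralizer (E : Set G)) ⟨z, hzR⟩
      ((Y ⊓ centralizer (Y : Set G)).subgroupOf (centralizer (E : Set G))) := by
    refine ⟨hG.to_subgroup _, ?_, ?_, ?_, ?_, ?_⟩
    · rw [Subgroup.mem_center_iff]
      intro g
      apply Subtype.ext
      exact (Subgroup.mem_center_iff.mp hz) g.1
    · rw [Subgroup.orderOf_mk]; exact hoz
    · exact isCyclic_of_surjective (Subgroup.subgroupOfEquivOfLe hZYR).symm
        (Subgroup.subgroupOfEquivOfLe hZYR).symm.surjective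
    · rw [Subgroup.mem_subgroupOf]; exact hzZY
    · intro w hw1 hw2
      rw [Subgroup.mem_subgroupOf]
      have hw1' : (w : G) ^ p ∈ zpowers z := by
        have := (coe_mem_zpowers_iff hzR _).mp hw1
        simpa using this
      have hw2' : ∀ r ∈ centralizer (E : Set G), ⁅(w : G), r⁆ ∈ zpowers z := by
        intro r hr
        have := (coe_mem_zpowers_iff hzR _).mp (hw2 ⟨r, hr⟩)
        simpa [commutatorElement_def] using this
      have hwE : ∀ a ∈ E, a * (w : G) = (w : G) * a := by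
        have := w.2
        rw [Subgroup.mem_centralizer_iff] at this
        exact this
      have hwY : (w : G) ∈ Y := by
        refine mem_symY.mpr ⟨fun g => ?_, hw1'⟩
        obtain ⟨e, he, hr⟩ := hfac g
        have hg : g = (g * e) * e⁻¹ := by group
        have hce : ⁅(w : G), e⁻¹⁆ = 1 := by
          rw [commutatorElement_eq_one_iff_mul_comm]
          exact (hwE e⁻¹ (E.inv_mem he)).symm
        rw [hg, comm_mul_right_gen, hce, mul_one, mul_inv_cancel, mul_one]
        exact hw2' _ hr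
      refine Subgroup.mem_inf.mpr ⟨hwY, ?_⟩
      rw [Subgroup.mem_centralizer_iff]
      intro y hy
      obtain ⟨e, he, c, hc, rfl⟩ := hdec y hy
      have h1 : Commute e (w : G) := hwE e he
      have h2 : Commute c (w : G) := by
        have := (Subgroup.mem_inf.mp hc).2
        rw [Subgroup.mem_centralizer_iff] at this
        exact (this _ hwY).symm
      exact (h1.mul_left h2).eq
  have hRstruct := hSR.structure_thm
  by_cases hab : ∀ a ∈ E, ∀ b ∈ E, a * b = b * a
  · -- `E = ⟨z⟩`, take the trivial subgroup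
    have hEz : E = zpowers z := hXS.eq_zpowers_of_comm hab
    have hRtop : centralizer (E : Set G) = ⊤ := by
      rw [Subgroup.centralizer_eq_top_iff_subset, hEz]
      exact Subgroup.zpowers_le.mpr hz
    refine ⟨⊥, centralizer (E : Set G), ?_, ?_, Or.inl rfl, hRstruct⟩
    · intro e he r _
      rw [Subgroup.mem_bot.mp he, one_mul, mul_one]
    · rw [hRtop, bot_sup_eq]
  · refine ⟨E, centralizer (E : Set G), ?_, ?_,
      Or.inr (isExtraspecial_of_isXS hXS (hG.to_subgroup E) hab), hRstruct⟩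
    · intro e he r hr
      rw [Subgroup.mem_centralizer_iff] at hr
      exact hr e he
    · rw [eq_top_iff]
      intro g _
      obtain ⟨e, he, hr⟩ := hfac g
      have hg : g = (g * e) * e⁻¹ := by group
      rw [hg]
      exact Subgroup.mul_mem _ (Subgroup.mem_sup_right hr) (Subgroup.mem_sup_left (E.inv_mem he))

/-- **P. Hall's theorem** on `p`-groups all of whose characteristic abelian subgroups are cyclic. -/
theorem symplectic_type_structure {G : Type*} [Group G] [Finite G] {p : ℕ} [Fact p.Prime]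
    (hG : IsPGroup p G)
    (hsymp : ∀ A : Subgroup G, A.Characteristic → IsMulCommutative A → IsCyclic A) :
    ∃ E R : Subgroup G, (∀ e ∈ E, ∀ r ∈ R, e * r = r * e) ∧ E ⊔ R = ⊤ ∧
      (E = ⊥ ∨ Cfsg.IsExtraspecial p ↥E) ∧
      (IsCyclic R ∨ (p = 2 ∧ 16 ≤ Nat.card R ∧ ((∃ m : ℕ, Nonempty (↥R ≃* DihedralGroup m)) ∨
        (∃ m : ℕ, Nonempty (↥R ≃* QuaternionGroup m)) ∨ Cfsg.IsQuasiDihedral ↥R))) := by
  have hp : p.Prime := Fact.out
  rcases subsingleton_or_nontrivial G with hs | hnt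
  · refine ⟨⊥, ⊤, ?_, bot_sup_eq _, Or.inl rfl, Or.inl ?_⟩
    · intro e _ r _
      rw [Subsingleton.elim e 1, one_mul, mul_one]
    · exact isCyclic_of_subsingleton
  · have hcnt : Nontrivial (center G) := hG.center_nontrivial
    have hccyc : IsCyclic (center G) := hsymp _ inferInstance inferInstance
    have hdvd : p ∣ Nat.card (center G) := by
      obtain ⟨n, hn0, hn⟩ := (hG.to_subgroup (center G)).nontrivial_iff_card.mp hcnt
      rw [hn]; exact dvd_pow_self _ (ne_of_gt hn0)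
    obtain ⟨x, hx⟩ := exists_prime_orderOf_dvd_card' p hdvd
    have hoz : orderOf (x : G) = p := by rw [Subgroup.orderOf_coe]; exact hx
    exact symplectic_main hG hsymp x.2 hoz
      (fun c hc hcp => mem_zpowers_of_mem_cyclic hccyc x.2 hoz hc hcp)

end Cfsg.Agent.Lib.Helper59
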