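import Cfsg.Agent.Lib.Helper06.Hall4.Defs

/-!
# K-H4 LEAF TR2 (422119): `Preg_eq_of_ncard` (parallel hand, helper59)
-/

set_option autoImplicit false
set_option linter.unusedSectionVars false
open Equiv

namespace Cfsg.Agent.Lib.Helper59.Hall4
open Cfsg.Agent.Lib.Helper06.Hall4

variable {α : Type*} [Fintype α] [DecidableEq α]

/-- The four points `i, x i, y i, x (y i)` of a regular point `i` are distinct and regular. -/
theorem preg_orbit_facts {x y : Perm α} (x2 : x * x = 1) (y2 : y * y = 1) (comm : x * y = y * x)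
    {i : α} (hi : i ∈ Preg x y) :
    (x i ≠ i ∧ y i ≠ i ∧ x (y i) ≠ i ∧ x i ≠ y i ∧ x i ≠ x (y i) ∧ y i ≠ x (y i)) ∧
    x i ∈ Preg x y ∧ y i ∈ Preg x y ∧ x (y i) ∈ Preg x y := by
  have hxx : ∀ j, x (x j) = j := fun j => by
    have := congrArg (fun p : Perm α => p j) x2
    simpa [Perm.mul_apply] using this
  have hyy : ∀ j, y (y j) = j := fun j => by
    have := congrArg (fun p : Perm α => p j) y2
    simpa [Perm.mul_apply] using this
  have hxy : ∀ j, x (y j) = y (x j) := fun j => by
    have := congrArg (fun p : Perm α => p j) comm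
    simpa [Perm.mul_apply] using this
  obtain ⟨h1, h2, h3⟩ := hi
  have d1 : x i ≠ y i := fun h => h3 (by rw [← h, hxx])
  have d2 : x i ≠ x (y i) := fun h => h2 (x.injective h).symm
  have d3 : y i ≠ x (y i) := fun h => h1 (by
    have : y i = y (x i) := by rw [← hxy]; exact h
    exact (y.injective this).symm)
  refine ⟨⟨h1, h2, h3, d1, d2, d3⟩, ?_, ?_, ?_⟩
  · refine ⟨?_, ?_, ?_⟩
    · rw [hxx]; exact fun h => h1 h.symm
    · rw [← hxy]; exact fun h => d2 h.symm
    · rw [← hxy, hxx]; exact fun h => d1 h.symm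
  · refine ⟨?_, ?_, ?_⟩
    · exact fun h => d3 h.symm
    · rw [hyy]; exact fun h => h2 h.symm
    · rw [hyy]; exact d1
  · refine ⟨?_, ?_, ?_⟩
    · rw [hxx]; exact d3
    · rw [← hxy, hyy]; exact d2
    · rw [← hxy, hyy, hxx]; exact fun h => h3 h.symm

/-- LEAF TR2 (422119), exact spec signature. -/
theorem Preg_eq_of_ncard {x y : Perm α} (x2 : x * x = 1) (y2 : y * y = 1) (comm : x * y = y * x)
    {i : α} (hi : i ∈ Preg x y) (h4 : (Preg x y).ncard = 4) :
    Preg x y = {i, x i, y i, x (y i)} := by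
  obtain ⟨⟨h1, h2, h3, d1, d2, d3⟩, m1, m2, m3⟩ := preg_orbit_facts x2 y2 comm hi
  symm
  apply Set.eq_of_subset_of_ncard_le
  · intro j hj
    rcases hj with rfl | rfl | rfl | rfl
    · exact hi
    · exact m1
    · exact m2
    · exact m3
  · rw [h4]
    have e : ({i, x i, y i, x (y i)} : Set α) = (({i, x i, y i, x (y i)} : Finset α) : Set α) := by
      simp
    rw [e, Set.ncard_coe_finset]
    rw [Finset.card_insert_of_notMem, Finset.card_insert_of_notMem, Finset.card_insert_of_notMem,
      Finset.card_singleton]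
    · simp only [Finset.mem_singleton]; exact d3
    · simp only [Finset.mem_insert, Finset.mem_singleton]; push Not; exact ⟨d1, d2⟩
    · simp only [Finset.mem_insert, Finset.mem_singleton]; push Not
      exact ⟨fun h => h1 h.symm, fun h => h2 h.symm, fun h => h3 h.symm⟩
  · exact Set.toFinite _

end Cfsg.Agent.Lib.Helper59.Hall4
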