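import Cfsg.Agent.Lib.Helper59.BenderFStar

set_option autoImplicit false

namespace Cfsg.Agent.Lib.Helper59

open Subgroup
open scoped commutatorElement

namespace Bender

section helpers

variable {G : Type*} [Group G]

/-- In a simple group, a nontrivial subgroup of a maximal subgroup `A` that is normalized by `A`
has normalizer exactly `A`. -/
theorem normalizer_eq_of_coatom [IsSimpleGroup G] {A M : Subgroup G} (hA : IsCoatom A)
    (hMA : M ≤ A) (hM : M ≠ ⊥) (hAM : A ≤ normalizer (M : Set G)) :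
    normalizer (M : Set G) = A := by
  rcases eq_or_lt_of_le hAM with h | h
  · exact h.symm
  · exfalso
    have htop : normalizer (M : Set G) = ⊤ := hA.2 _ h
    have hn : M.Normal := Subgroup.normalizer_eq_top_iff.1 htop
    rcases IsSimpleGroup.eq_bot_or_eq_top_of_normal M hn with h1 | h1
    · exact hM h1
    · exact hA.1 (top_le_iff.1 (h1 ▸ hMA))

/-- If conjugation by `g` and by `g⁻¹` preserve a generating set, `g` normalizes the subgroup. -/
theorem mem_normalizer_closure {s : Set G} {g : G} (h1 : ∀ d ∈ s, g * d * g⁻¹ ∈ s)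
    (h2 : ∀ d ∈ s, g⁻¹ * d * g ∈ s) : g ∈ normalizer ((closure s : Subgroup G) : Set G) := by
  have key : ∀ (a : G), (∀ d ∈ s, a * d * a⁻¹ ∈ s) → ∀ x ∈ closure s, a * x * a⁻¹ ∈ closure s := by
    intro a ha x hx
    induction hx using Subgroup.closure_induction with
    | mem d hd => exact Subgroup.subset_closure (ha d hd)
    | one => simp
    | mul x y _ _ hx hy =>
      have : a * (x * y) * a⁻¹ = (a * x * a⁻¹) * (a * y * a⁻¹) := by group
      rw [this]; exact Subgroup.mul_mem _ hx hy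
    | inv x _ hx =>
      have : a * x⁻¹ * a⁻¹ = (a * x * a⁻¹)⁻¹ := by group
      rw [this]; exact Subgroup.inv_mem _ hx
  rw [Subgroup.mem_normalizer_iff]
  intro x
  constructor
  · exact key g h1 x
  · intro hx
    have := key g⁻¹ (by simpa using h2) _ hx
    simpa [mul_assoc] using this

/-- image in `G` of a normal subgroup of `A` is normalized by `A` -/
theorem le_normalizer_map_subtype {A : Subgroup G} (M : Subgroup A) [hM : M.Normal] :
    A ≤ normalizer ((M.map A.subtype : Subgroup G) : Set G) := by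
  intro a ha
  rw [Subgroup.mem_normalizer_iff]
  intro x
  constructor
  · rintro ⟨m, hm, rfl⟩
    exact ⟨⟨a, ha⟩ * m * ⟨a, ha⟩⁻¹, hM.conj_mem m hm ⟨a, ha⟩, by simp⟩
  · rintro ⟨m, hm, hmx⟩
    refine ⟨⟨a, ha⟩⁻¹ * m * ⟨a, ha⟩, ?_, ?_⟩
    · have := hM.conj_mem m hm ⟨a, ha⟩⁻¹
      simpa using this
    · simp only [Subgroup.coe_subtype, Subgroup.coe_mul, Subgroup.coe_inv]
      simp only [Subgroup.coe_subtype] at hmx
      rw [hmx]; group

theorem mem_normalizer_inf {H₁ H₂ : Subgroup G} {g : G} (h1 : g ∈ normalizer (H₁ : Set G))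
    (h2 : g ∈ normalizer (H₂ : Set G)) : g ∈ normalizer ((H₁ ⊓ H₂ : Subgroup G) : Set G) := by
  rw [Subgroup.mem_normalizer_iff] at h1 h2 ⊢
  intro x
  rw [Subgroup.mem_inf, Subgroup.mem_inf, h1 x, h2 x]

theorem mem_normalizer_sup {H₁ H₂ : Subgroup G} {g : G} (h1 : g ∈ normalizer (H₁ : Set G))
    (h2 : g ∈ normalizer (H₂ : Set G)) : g ∈ normalizer ((H₁ ⊔ H₂ : Subgroup G) : Set G) := by
  have e : H₁ ⊔ H₂ = closure ((H₁ : Set G) ∪ (H₂ : Set G)) := by
    rw [Subgroup.closure_union, Subgroup.closure_eq, Subgroup.closure_eq]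
  rw [e]
  have h1' := Subgroup.inv_mem _ h1
  have h2' := Subgroup.inv_mem _ h2
  rw [Subgroup.mem_normalizer_iff] at h1 h2 h1' h2'
  refine mem_normalizer_closure ?_ ?_
  · rintro d (hd | hd)
    · exact Or.inl ((h1 d).1 hd)
    · exact Or.inr ((h2 d).1 hd)
  · rintro d (hd | hd)
    · exact Or.inl (by simpa using (h1' d).1 hd)
    · exact Or.inr (by simpa using (h2' d).1 hd)

theorem self_mem_normalizer (A : Subgroup G) {g : G} (hg : g ∈ A) :
    g ∈ normalizer (A : Set G) := Subgroup.le_normalizer hg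

theorem orderOf_conj_eq (a d : G) : orderOf (a * d * a⁻¹) = orderOf d := by
  have := orderOf_injective (MulAut.conj a).toMonoidHom (MulAut.conj a).injective d
  simpa using this

theorem conj_mem_centralizer_of_mem_normalizer {T₀ : Subgroup G} {y d : G}
    (hy : y ∈ normalizer (T₀ : Set G)) (hd : d ∈ centralizer (T₀ : Set G)) :
    y * d * y⁻¹ ∈ centralizer (T₀ : Set G) := by
  rw [Subgroup.mem_centralizer_iff] at hd ⊢
  intro t ht
  have h1 : y⁻¹ * t * y ∈ T₀ := by
    have := (Subgroup.mem_normalizer_iff.1 (Subgroup.inv_mem _ hy) t).1 ht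
    simpa using this
  have h2 := hd _ h1
  calc t * (y * d * y⁻¹) = y * ((y⁻¹ * t * y) * d) * y⁻¹ := by group
    _ = y * (d * (y⁻¹ * t * y)) * y⁻¹ := by rw [h2]
    _ = y * d * y⁻¹ * t := by group

end helpers

section main

set_option linter.unusedSectionVars false

variable {G : Type*} [Group G] [Finite G]

/-- the hypotheses of S1247 on `S`, transported into the group `↥A` -/
theorem hyp_of {A S : Subgroup G}
    (hSF : S ≤ (Cfsg.generalizedFittingSubgroup ↥A).map A.subtype)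
    (hSsn : (S.subgroupOf ((Cfsg.generalizedFittingSubgroup ↥A).map A.subtype)).IsSubnormal)
    (hSC : (Cfsg.generalizedFittingSubgroup ↥A).map A.subtype ⊓ Subgroup.centralizer (S : Set G) ≤ S) :
    Hyp (S.subgroupOf A) := by
  have hn : (Cfsg.generalizedFittingSubgroup ↥A).Normal := Cfsg.Agent.Lib.Helper30.genFitting_normal
  have hSA : S ≤ A := hSF.trans (Subgroup.map_subtype_le _)
  have hle : S.subgroupOf A ≤ Cfsg.generalizedFittingSubgroup ↥A := by
    intro x hx
    obtain ⟨y, hy, hyx⟩ := hSF (Subgroup.mem_subgroupOf.1 hx)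
    have : y = x := Subtype.ext hyx
    rwa [← this]
  refine ⟨hle, ?_, ?_⟩
  · refine Subgroup.IsSubnormal.trans hle ?_ hn.isSubnormal
    let e := (Cfsg.generalizedFittingSubgroup ↥A).equivMapOfInjective A.subtype
      (Subgroup.subtype_injective A)
    have heq : (S.subgroupOf A).subgroupOf (Cfsg.generalizedFittingSubgroup ↥A) =
        (S.subgroupOf ((Cfsg.generalizedFittingSubgroup ↥A).map A.subtype)).comap e.toMonoidHom := by
      ext y
      simp only [Subgroup.mem_subgroupOf, Subgroup.mem_comap]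
      rfl
    rw [heq]
    exact Subgroup.IsSubnormal.comap _ hSsn
  · intro x hx
    obtain ⟨hx1, hx2⟩ := Subgroup.mem_inf.1 hx
    rw [Subgroup.mem_subgroupOf]
    refine hSC (Subgroup.mem_inf.2 ⟨⟨x, hx1, rfl⟩, ?_⟩)
    rw [Subgroup.mem_centralizer_iff]
    intro s hs
    have := Subgroup.mem_centralizer_iff.1 hx2 ⟨s, hSA hs⟩ (Subgroup.mem_subgroupOf.2 hs)
    exact congrArg Subtype.val this

theorem part_one {A S B : Subgroup G} (hS : Hyp (S.subgroupOf A)) (hSA : S ≤ A) (hSB : S ≤ B)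
    (q : ℕ) (hq : q.Prime) (hnd : ¬ q ∣ Nat.card (Cfsg.fittingSubgroup ↥A)) :
    (Cfsg.pCore q ↥B).map B.subtype ⊓ A = ⊥ := by
  have : Fact q.Prime := ⟨hq⟩
  have hBnorm : (Cfsg.pCore q ↥B).Normal := Cfsg.Agent.Lib.Helper01.pCore_normal q
  have hQp : IsPGroup q ((Cfsg.pCore q ↥B).map B.subtype ⊓ A : Subgroup G) :=
    ((Cfsg.Agent.Lib.Helper01.pCore_isPGroup q).map _).to_le inf_le_left
  have hQX : IsPGroup q ((((Cfsg.pCore q ↥B).map B.subtype ⊓ A : Subgroup G)).subgroupOf A) :=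
    hQp.comap_subtype
  have hSn : S.subgroupOf A ≤
      normalizer (((((Cfsg.pCore q ↥B).map B.subtype ⊓ A : Subgroup G)).subgroupOf A : Subgroup A) : Set A) := by
    intro s hs
    have hs' : (s : G) ∈ S := Subgroup.mem_subgroupOf.1 hs
    have h1 : (s : G) ∈ normalizer ((((Cfsg.pCore q ↥B).map B.subtype ⊓ A : Subgroup G)) : Set G) :=
      mem_normalizer_inf (le_normalizer_map_subtype (Cfsg.pCore q ↥B) (hSB hs'))
        (self_mem_normalizer A (hSA hs'))
    exact Subgroup.le_normalizer_comap A.subtype h1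
  have h2 := hS.eq_bot_of_not_dvd q hnd hQX hSn
  rw [Subgroup.subgroupOf_eq_bot] at h2
  exact (disjoint_of_le_iff_left_eq_bot inf_le_right).1 h2

theorem pCore_ne_bot_of_dvd {X : Type*} [Group X] [Finite X] (p : ℕ) [hp : Fact p.Prime]
    (h : p ∣ Nat.card (Cfsg.fittingSubgroup X)) : Cfsg.pCore p X ≠ ⊥ := by
  obtain ⟨x, hx⟩ := exists_prime_orderOf_dvd_card' p h
  intro hbot
  have h1 : (x : X) ^ (p ^ 1) = 1 := by
    rw [pow_one, ← hx, ← Subgroup.coe_pow, pow_orderOf_eq_one, Subgroup.coe_one]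
  have h2 := mem_pCore_of_pow p x.2 h1
  rw [hbot, Subgroup.mem_bot] at h2
  have h3 : x = 1 := Subtype.ext h2
  rw [h3, orderOf_one] at hx
  exact hp.out.one_lt.ne hx

theorem center_pCore_ne_bot {X : Type*} [Group X] [Finite X] (p : ℕ) [hp : Fact p.Prime]
    (h : Cfsg.pCore p X ≠ ⊥) :
    Cfsg.pCore p X ⊓ centralizer ((Cfsg.pCore p X : Subgroup X) : Set X) ≠ ⊥ := by
  have hRp : IsPGroup p (Cfsg.pCore p X) := Cfsg.Agent.Lib.Helper01.pCore_isPGroup p
  have : Nontrivial (Cfsg.pCore p X) := (Subgroup.nontrivial_iff_ne_bot _).2 h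
  have hc := hRp.center_nontrivial
  obtain ⟨c, hc1⟩ := exists_ne (1 : Subgroup.center (Cfsg.pCore p X))
  intro hbot
  have hmem : ((c : Cfsg.pCore p X) : X) ∈
      Cfsg.pCore p X ⊓ centralizer ((Cfsg.pCore p X : Subgroup X) : Set X) := by
    refine Subgroup.mem_inf.2 ⟨(c : Cfsg.pCore p X).2, ?_⟩
    rw [Subgroup.mem_centralizer_iff]
    intro u hu
    have := Subgroup.mem_center_iff.1 c.2 ⟨u, hu⟩
    exact congrArg Subtype.val this
  rw [hbot, Subgroup.mem_bot] at hmem
  apply hc1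
  apply Subtype.ext
  apply Subtype.ext
  exact hmem

/-- the final step of part two, once `O_p(B) ≤ A` is known -/
theorem part_two_final {A S B : Subgroup G} (hS : Hyp (S.subgroupOf A))
    (hSB : S ≤ B) (p : ℕ) [hp : Fact p.Prime]
    (hPA : (Cfsg.pCore p ↥B).map B.subtype ≤ A) :
    ∀ x ∈ (Cfsg.pCore p ↥B).map B.subtype,
      ∀ y ∈ (Cfsg.pResidual p ↥(Cfsg.generalizedFittingSubgroup ↥A)).map
        ((Cfsg.generalizedFittingSubgroup ↥A).subtype),
        x * (A.subtype y) = (A.subtype y) * x := by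
  have hBnorm : (Cfsg.pCore p ↥B).Normal := Cfsg.Agent.Lib.Helper01.pCore_normal p
  have hPp : IsPGroup p ((Cfsg.pCore p ↥B).map B.subtype : Subgroup G) :=
    (Cfsg.Agent.Lib.Helper01.pCore_isPGroup p).map _
  have hPX : IsPGroup p (((Cfsg.pCore p ↥B).map B.subtype : Subgroup G).subgroupOf A) :=
    hPp.comap_subtype
  have hSn : S.subgroupOf A ≤
      normalizer ((((Cfsg.pCore p ↥B).map B.subtype : Subgroup G).subgroupOf A : Subgroup A) : Set A) := by
    intro s hs
    have hs' : (s : G) ∈ S := Subgroup.mem_subgroupOf.1 hs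
    exact Subgroup.le_normalizer_comap A.subtype
      (le_normalizer_map_subtype (Cfsg.pCore p ↥B) (hSB hs'))
  intro x hx y hy
  obtain ⟨y', hy', rfl⟩ := hy
  have key : (⟨x, hPA hx⟩ : A) * ((Cfsg.generalizedFittingSubgroup ↥A).subtype y') =
      ((Cfsg.generalizedFittingSubgroup ↥A).subtype y') * ⟨x, hPA hx⟩ := by
    unfold Cfsg.pResidual at hy'
    induction hy' using Subgroup.closure_induction with
    | mem g hg =>
      have hcop : (orderOf ((g : ↥A))).Coprime p := by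
        rw [Subgroup.orderOf_coe]; exact hg
      exact (hS.centralizes_coprime p hPX hSn g.2 hcop ⟨x, hPA hx⟩
        (Subgroup.mem_subgroupOf.2 hx)).symm
    | one => simp
    | mul a b _ _ ha hb =>
      rw [map_mul, ← mul_assoc, ha, mul_assoc, hb, mul_assoc]
    | inv a _ ha =>
      rw [map_inv]
      have : ∀ (u v : A), u * v = v * u → u * v⁻¹ = v⁻¹ * u := by
        intro u v h
        calc u * v⁻¹ = v⁻¹ * (v * u) * v⁻¹ := by group
          _ = v⁻¹ * (u * v) * v⁻¹ := by rw [h]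
          _ = v⁻¹ * u := by group
      exact this _ _ ha
  exact congrArg Subtype.val key

/-- the key step of part two: `O_p(B) ≤ A` provided `F*(A)` has a nontrivial `p'`-element -/
theorem pCore_le_of_coatom [IsSimpleGroup G] {A S B : Subgroup G} (hA : IsCoatom A)
    (hS : Hyp (S.subgroupOf A)) (hSA : S ≤ A) (hSB : S ≤ B) (p : ℕ) [hp : Fact p.Prime]
    (hd : p ∣ Nat.card (Cfsg.fittingSubgroup ↥A))
    (w : A) (hwF : w ∈ Cfsg.generalizedFittingSubgroup ↥A) (hwcop : (orderOf w).Coprime p)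
    (hw1 : w ≠ 1) : (Cfsg.pCore p ↥B).map B.subtype ≤ A := by
  have hBnorm : (Cfsg.pCore p ↥B).Normal := Cfsg.Agent.Lib.Helper01.pCore_normal p
  have hRXn : (Cfsg.pCore p ↥A).Normal := Cfsg.Agent.Lib.Helper01.pCore_normal p
  have hPp : IsPGroup p ((Cfsg.pCore p ↥B).map B.subtype : Subgroup G) :=
    (Cfsg.Agent.Lib.Helper01.pCore_isPGroup p).map _
  have hRGp : IsPGroup p ((Cfsg.pCore p ↥A).map A.subtype : Subgroup G) :=
    (Cfsg.Agent.Lib.Helper01.pCore_isPGroup p).map _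
  have hRGA : (Cfsg.pCore p ↥A).map A.subtype ≤ A := Subgroup.map_subtype_le _
  by_contra hPA
  -- the subgroups `Sp`, `T`, `T₀`
  set RG : Subgroup G := (Cfsg.pCore p ↥A).map A.subtype with hRG
  set P : Subgroup G := (Cfsg.pCore p ↥B).map B.subtype with hP
  have hSpP : S ⊓ RG ≤ normalizer (P : Set G) := fun s hs =>
    le_normalizer_map_subtype (Cfsg.pCore p ↥B) (hSB (Subgroup.mem_inf.1 hs).1)
  have hSpp : IsPGroup p (S ⊓ RG : Subgroup G) := hRGp.to_le inf_le_right
  have hTp : IsPGroup p ((S ⊓ RG) ⊔ P : Subgroup G) :=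
    IsPGroup.to_sup_of_normal_right' hSpp hPp hSpP
  have hTnil : Group.IsNilpotent ((S ⊓ RG) ⊔ P : Subgroup G) := hTp.isNilpotent
  have hne : ((S ⊓ RG) ⊔ P) ⊓ A ≠ (S ⊓ RG) ⊔ P := by
    intro h
    apply hPA
    have : (S ⊓ RG) ⊔ P ≤ A := by rw [← h]; exact inf_le_right
    exact le_sup_right.trans this
  obtain ⟨y, hyT, hyn, hy0⟩ := exists_mem_normalizer_not_mem_of_nilpotent hTnil inf_le_left hne
  apply hy0
  refine Subgroup.mem_inf.2 ⟨hyT, ?_⟩
  -- `S` normalizes `T₀`
  have hSnT : ∀ s ∈ S, s ∈ normalizer ((((S ⊓ RG) ⊔ P) ⊓ A : Subgroup G) : Set G) := by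
    intro s hs
    refine mem_normalizer_inf (mem_normalizer_sup (mem_normalizer_inf
      (self_mem_normalizer S hs) (le_normalizer_map_subtype (Cfsg.pCore p ↥A) (hSA hs)))
      (le_normalizer_map_subtype (Cfsg.pCore p ↥B) (hSB hs))) (self_mem_normalizer A (hSA hs))
  have hT0X : IsPGroup p ((((S ⊓ RG) ⊔ P) ⊓ A : Subgroup G).subgroupOf A) :=
    (hTp.to_le inf_le_left).comap_subtype
  have hSnT0 : S.subgroupOf A ≤
      normalizer (((((S ⊓ RG) ⊔ P) ⊓ A : Subgroup G).subgroupOf A : Subgroup A) : Set A) := by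
    intro s hs
    exact Subgroup.le_normalizer_comap A.subtype (hSnT _ (Subgroup.mem_subgroupOf.1 hs))
  -- `Sp ≤ T₀`
  have hSpT0 : S ⊓ RG ≤ ((S ⊓ RG) ⊔ P) ⊓ A :=
    le_inf le_sup_left (inf_le_right.trans hRGA)
  -- the centre of `O_p(A)`
  have hRne : Cfsg.pCore p ↥A ≠ ⊥ := pCore_ne_bot_of_dvd p hd
  have hZne := center_pCore_ne_bot p hRne
  set ZX : Subgroup A :=
    Cfsg.pCore p ↥A ⊓ centralizer ((Cfsg.pCore p ↥A : Subgroup A) : Set A) with hZX
  have hZXn : ZX.Normal := by rw [hZX]; infer_instance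
  have hZGne : ZX.map A.subtype ≠ ⊥ := by
    rw [Ne, Subgroup.map_eq_bot_iff_of_injective _ (Subgroup.subtype_injective A)]
    exact hZne
  have hZGN : normalizer ((ZX.map A.subtype : Subgroup G) : Set G) = A :=
    normalizer_eq_of_coatom hA (Subgroup.map_subtype_le _) hZGne (le_normalizer_map_subtype ZX)
  have hZGT0 : ZX.map A.subtype ≤ ((S ⊓ RG) ⊔ P) ⊓ A := by
    rintro _ ⟨z, hz, rfl⟩
    have h1 := hS.center_pCore_le p hz
    obtain ⟨h2, h3⟩ := Subgroup.mem_inf.1 h1
    exact hSpT0 (Subgroup.mem_inf.2 ⟨Subgroup.mem_subgroupOf.1 h2, ⟨z, h3, rfl⟩⟩)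
  have hKA : centralizer ((((S ⊓ RG) ⊔ P) ⊓ A : Subgroup G) : Set G) ≤ A := by
    intro k hk
    rw [← hZGN]
    exact Subgroup.centralizer_le_normalizer _ (Subgroup.centralizer_le hZGT0 hk)
  -- the generating set of `D₁`
  set gen : Set G := {d : G | d ∈ A ∧ (∀ u ∈ RG, d * u = u * d) ∧ (orderOf d).Coprime p}
    with hgen
  have hgen_iff : ∀ d : G, d ∈ gen ↔
      d ∈ centralizer ((((S ⊓ RG) ⊔ P) ⊓ A : Subgroup G) : Set G) ∧ (orderOf d).Coprime p := by
    intro d
    constructor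
    · rintro ⟨hdA, hdR, hdc⟩
      refine ⟨?_, hdc⟩
      rw [Subgroup.mem_centralizer_iff]
      intro t ht
      have hcopX : (orderOf (⟨d, hdA⟩ : A)).Coprime p := by
        rw [Subgroup.orderOf_mk]; exact hdc
      have hdRX : ∀ u ∈ Cfsg.pCore p ↥A, (⟨d, hdA⟩ : A) * u = u * ⟨d, hdA⟩ := by
        intro u hu
        apply Subtype.ext
        exact hdR (u : G) ⟨u, hu, rfl⟩
      have := hS.centralizes_coprime_of_centralizer p hT0X hSnT0 hcopX hdRX
        ⟨t, (Subgroup.mem_inf.1 ht).2⟩ (Subgroup.mem_subgroupOf.2 ht)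
      exact (congrArg Subtype.val this).symm
    · rintro ⟨hdK, hdc⟩
      have hdA : d ∈ A := hKA hdK
      refine ⟨hdA, ?_, hdc⟩
      have hcopX : (orderOf (⟨d, hdA⟩ : A)).Coprime p := by
        rw [Subgroup.orderOf_mk]; exact hdc
      have hkS : ∀ s ∈ S.subgroupOf A ⊓ Cfsg.pCore p ↥A, (⟨d, hdA⟩ : A) * s = s * ⟨d, hdA⟩ := by
        intro s hs
        obtain ⟨hs1, hs2⟩ := Subgroup.mem_inf.1 hs
        have hsT0 : (s : G) ∈ ((S ⊓ RG) ⊔ P) ⊓ A :=
          hSpT0 (Subgroup.mem_inf.2 ⟨Subgroup.mem_subgroupOf.1 hs1, ⟨s, hs2, rfl⟩⟩)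
        apply Subtype.ext
        exact (Subgroup.mem_centralizer_iff.1 hdK _ hsT0).symm
      have := hS.centralizes_pCore p hcopX hkS
      rintro _ ⟨u, hu, rfl⟩
      exact congrArg Subtype.val (this u hu)
  have hD1A : closure gen ≤ A := by
    rw [Subgroup.closure_le]
    intro d hd
    exact hd.1
  have hD1ne : closure gen ≠ ⊥ := by
    intro hbot
    have hwgen : (w : G) ∈ gen := by
      refine ⟨w.2, ?_, ?_⟩
      · rintro _ ⟨u, hu, rfl⟩
        have := commute_nPart_pCore p (mem_nPart_of_coprime p hwF hwcop) hu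
        exact congrArg Subtype.val this
      · rw [Subgroup.orderOf_coe]; exact hwcop
    have hwc : (w : G) ∈ (closure gen : Subgroup G) := Subgroup.subset_closure hwgen
    rw [hbot] at hwc
    exact hw1 (Subtype.ext (Subgroup.mem_bot.1 hwc))
  have hAD1 : A ≤ normalizer ((closure gen : Subgroup G) : Set G) := by
    intro a ha
    have hconj : ∀ (b : G), b ∈ A → ∀ d ∈ gen, b * d * b⁻¹ ∈ gen := by
      rintro b hb d ⟨hdA, hdR, hdc⟩
      refine ⟨A.mul_mem (A.mul_mem hb hdA) (A.inv_mem hb), ?_, ?_⟩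
      · intro u hu
        have hbn : b ∈ normalizer ((RG : Subgroup G) : Set G) :=
          le_normalizer_map_subtype (Cfsg.pCore p ↥A) hb
        have h1 : b⁻¹ * u * b ∈ RG := (Subgroup.mem_normalizer_iff''.1 hbn u).1 hu
        have h2 := hdR _ h1
        calc b * d * b⁻¹ * u = b * (d * (b⁻¹ * u * b)) * b⁻¹ := by group
          _ = b * ((b⁻¹ * u * b) * d) * b⁻¹ := by rw [h2]
          _ = u * (b * d * b⁻¹) := by group
      · rw [orderOf_conj_eq]; exact hdc
    refine mem_normalizer_closure (hconj a ha) ?_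
    intro d hd
    have := hconj a⁻¹ (A.inv_mem ha) d hd
    simpa using this
  have hD1N : normalizer ((closure gen : Subgroup G) : Set G) = A :=
    normalizer_eq_of_coatom hA hD1A hD1ne hAD1
  rw [← hD1N]
  have hconjy : ∀ (b : G), b ∈ normalizer ((((S ⊓ RG) ⊔ P) ⊓ A : Subgroup G) : Set G) →
      ∀ d ∈ gen, b * d * b⁻¹ ∈ gen := by
    intro b hb d hd
    rw [hgen_iff] at hd ⊢
    exact ⟨conj_mem_centralizer_of_mem_normalizer hb hd.1, by rw [orderOf_conj_eq]; exact hd.2⟩
  refine mem_normalizer_closure (hconjy y hyn) ?_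
  intro d hd
  have := hconjy y⁻¹ (Subgroup.inv_mem _ hyn) d hd
  simpa using this

/-- Bender's lemma on maximal subgroups: the assembled statement -/
theorem bender_main [IsSimpleGroup G] (A : Subgroup G) (hA : IsCoatom A) (S : Subgroup G)
    (hSF : S ≤ (Cfsg.generalizedFittingSubgroup ↥A).map A.subtype)
    (hSsn : (S.subgroupOf ((Cfsg.generalizedFittingSubgroup ↥A).map A.subtype)).IsSubnormal)
    (hSC : (Cfsg.generalizedFittingSubgroup ↥A).map A.subtype ⊓ Subgroup.centralizer (S : Set G) ≤ S)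
    (B : Subgroup G) (hSB : S ≤ B) :
    (∀ q : ℕ, q.Prime → ¬ q ∣ Nat.card (Cfsg.fittingSubgroup ↥A) →
      (Cfsg.pCore q ↥B).map B.subtype ⊓ A = ⊥) ∧
    (∀ p : ℕ, p.Prime → p ∣ Nat.card (Cfsg.fittingSubgroup ↥A) →
      ∀ x ∈ (Cfsg.pCore p ↥B).map B.subtype,
      ∀ y ∈ (Cfsg.pResidual p ↥(Cfsg.generalizedFittingSubgroup ↥A)).map
        ((Cfsg.generalizedFittingSubgroup ↥A).subtype),
        x * (A.subtype y) = (A.subtype y) * x) := by
  have hS := hyp_of hSF hSsn hSC
  have hSA : S ≤ A := hSF.trans (Subgroup.map_subtype_le _)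
  refine ⟨fun q hq hnd => part_one hS hSA hSB q hq hnd, ?_⟩
  intro p hp hd
  have hpF : Fact p.Prime := ⟨hp⟩
  by_cases hW : ∀ w : ↥A, w ∈ Cfsg.generalizedFittingSubgroup ↥A → (orderOf w).Coprime p → w = 1
  · intro x _ y hy
    obtain ⟨y', hy', rfl⟩ := hy
    have hbot : Cfsg.pResidual p ↥(Cfsg.generalizedFittingSubgroup ↥A) = ⊥ := by
      unfold Cfsg.pResidual
      rw [Subgroup.closure_eq_bot_iff]
      intro g hg
      have hcop : (orderOf ((g : ↥A))).Coprime p := by
        rw [Subgroup.orderOf_coe]; exact hg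
      have := hW g g.2 hcop
      exact Subtype.ext this
    have hy'' : y' ∈ (Cfsg.pResidual p ↥(Cfsg.generalizedFittingSubgroup ↥A)) := hy'
    rw [hbot] at hy''
    rw [Subgroup.mem_bot.1 hy'']
    simp
  · push Not at hW
    obtain ⟨w, hwF, hwcop, hw1⟩ := hW
    exact part_two_final hS hSB p (pCore_le_of_coatom hA hS hSA hSB p hd w hwF hwcop hw1)

end main

end Bender

end Cfsg.Agent.Lib.Helper59
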