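import Mathlib
import Cfsg.Agent.S3742

set_option autoImplicit false

namespace Cfsg.Agent.Lib.Helper59

variable {G : Type*} [Group G]

theorem relIndex_centralizer_normalizer (P : Subgroup G) :
    (Subgroup.centralizer (P : Set G)).relIndex (Subgroup.normalizer (P : Set G)) =
      Nat.card P.normalizerMonoidHom.range := by
  rw [Subgroup.relIndex, ← Subgroup.normalizerMonoidHom_ker, Subgroup.index_ker]

/-- the inner automorphism group -/
def innSub (Q : Type*) [Group Q] : Subgroup (MulAut Q) := (MulAut.conj : Q →* MulAut Q).range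

instance innSub_normal (Q : Type*) [Group Q] : (innSub Q).Normal := by
  constructor
  rintro n ⟨q, rfl⟩ φ
  refine ⟨φ q, ?_⟩
  ext t
  simp [MulAut.conj_apply, MulAut.mul_apply, MulAut.inv_apply]

theorem ker_conj (Q : Type*) [Group Q] : (MulAut.conj : Q →* MulAut Q).ker = Subgroup.center Q := by
  ext g
  rw [MonoidHom.mem_ker, Subgroup.mem_center_iff]
  constructor
  · intro h t
    have := congrArg (fun f : MulAut Q => f t) h
    simp only [MulAut.conj_apply, MulAut.one_apply] at this
    calc t * g = (g * t * g⁻¹) * g := by rw [this]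
      _ = g * t := by group
  · intro h
    ext t
    simp only [MulAut.conj_apply, MulAut.one_apply]
    rw [← h t]; group

theorem card_innSub_mul_card_center (Q : Type*) [Group Q] [Finite Q] :
    Nat.card (innSub Q) * Nat.card (Subgroup.center Q) = Nat.card Q := by
  unfold innSub
  rw [← ker_conj, ← Subgroup.index_ker, mul_comm]
  exact Subgroup.card_mul_index _

/-- the outer action of the normalizer -/
noncomputable def outHom (P : Subgroup G) : Subgroup.normalizer (P : Set G) →* MulAut P ⧸ innSub P :=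
  (QuotientGroup.mk' (innSub P)).comp P.normalizerMonoidHom

theorem exists_of_outHom_eq_one (P : Subgroup G) (n : Subgroup.normalizer (P : Set G))
    (h : outHom P n = 1) : ∃ q : P, (q : G)⁻¹ * n ∈ Subgroup.centralizer (P : Set G) := by
  unfold outHom at h
  rw [MonoidHom.comp_apply, QuotientGroup.mk'_apply, QuotientGroup.eq_one_iff] at h
  obtain ⟨q, hq⟩ := h
  refine ⟨q, ?_⟩
  rw [Subgroup.mem_centralizer_iff]
  intro t ht
  have h1 := congrArg (fun f : MulAut P => ((f ⟨t, ht⟩ : P) : G)) hq
  simp only [MulAut.conj_apply, Subgroup.coe_mul, Subgroup.coe_inv] at h1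
  have h2 : ((P.normalizerMonoidHom n) ⟨t, ht⟩ : G) = n * t * (n : G)⁻¹ := rfl
  rw [h2] at h1
  calc t * ((q : G)⁻¹ * n) = (q : G)⁻¹ * ((q : G) * t * (q : G)⁻¹) * n := by group
    _ = (q : G)⁻¹ * (n * t * (n : G)⁻¹) * n := by rw [h1]
    _ = (q : G)⁻¹ * n * t := by group

theorem outHom_ker (P : Subgroup G) :
    (outHom P).ker = (P ⊔ Subgroup.centralizer (P : Set G)).subgroupOf (Subgroup.normalizer (P : Set G)) := by
  have hPN : P ≤ Subgroup.normalizer (P : Set G) := Subgroup.le_normalizer
  have hCN : Subgroup.centralizer (P : Set G) ≤ Subgroup.normalizer (P : Set G) := by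
    intro c hc
    rw [Subgroup.mem_normalizer_iff]
    intro t
    rw [Subgroup.mem_centralizer_iff] at hc
    constructor
    · intro ht
      have : c * t * c⁻¹ = t := by rw [← hc t ht]; group
      rw [this]; exact ht
    · intro ht
      have h1 := hc _ ht
      have : t = c * t * c⁻¹ := by
        have h2 : c * t * c⁻¹ * c = c * (c * t * c⁻¹) := h1
        have h3 : c * t = c * (c * t * c⁻¹) := by rw [← h2]; group
        exact mul_left_cancel h3
      rw [this]; exact ht
  ext n
  rw [MonoidHom.mem_ker, Subgroup.mem_subgroupOf]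
  unfold outHom
  rw [MonoidHom.comp_apply, QuotientGroup.mk'_apply, QuotientGroup.eq_one_iff]
  constructor
  · rintro ⟨q, hq⟩
    -- conj q = φ n
    have hc : (q : G)⁻¹ * n ∈ Subgroup.centralizer (P : Set G) := by
      rw [Subgroup.mem_centralizer_iff]
      intro t ht
      have h1 := congrArg (fun f : MulAut P => ((f ⟨t, ht⟩ : P) : G)) hq
      simp only [MulAut.conj_apply, Subgroup.coe_mul, Subgroup.coe_inv] at h1
      have h2 : ((P.normalizerMonoidHom n) ⟨t, ht⟩ : G) = n * t * (n : G)⁻¹ := rfl
      rw [h2] at h1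
      calc t * ((q : G)⁻¹ * n) = (q : G)⁻¹ * ((q : G) * t * (q : G)⁻¹) * n := by group
        _ = (q : G)⁻¹ * (n * t * (n : G)⁻¹) * n := by rw [h1]
        _ = (q : G)⁻¹ * n * t := by group
    have : (n : G) = q * ((q : G)⁻¹ * n) := by group
    rw [this]
    exact Subgroup.mul_mem _ (Subgroup.mem_sup_left q.2) (Subgroup.mem_sup_right hc)
  · intro hn
    -- the comap subgroup contains P and C
    let K : Subgroup G := ((innSub P).comap P.normalizerMonoidHom).map (Subgroup.normalizer (P : Set G)).subtype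
    have hK : P ⊔ Subgroup.centralizer (P : Set G) ≤ K := by
      apply sup_le
      · intro q hq
        refine ⟨⟨q, hPN hq⟩, ?_, rfl⟩
        refine ⟨⟨q, hq⟩, ?_⟩
        ext t
        rfl
      · intro c hc
        refine ⟨⟨c, hCN hc⟩, ?_, rfl⟩
        refine ⟨1, ?_⟩
        ext t
        rw [map_one, MulAut.one_apply]
        have h2 : ((P.normalizerMonoidHom ⟨c, hCN hc⟩) t : G) = c * t * c⁻¹ := rfl
        rw [h2]
        rw [Subgroup.mem_centralizer_iff] at hc
        rw [← hc t t.2]; group
    obtain ⟨n', hn', hnn'⟩ := hK hn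
    have : n' = n := Subtype.ext hnn'
    rw [← this]
    exact hn'

theorem relIndex_sup_centralizer_normalizer (P : Subgroup G) :
    (P ⊔ Subgroup.centralizer (P : Set G)).relIndex (Subgroup.normalizer (P : Set G)) =
      Nat.card (outHom P).range := by
  rw [Subgroup.relIndex, ← outHom_ker, Subgroup.index_ker]

/-- a `2`-element outside the kernel forces even image -/
theorem two_dvd_card_range {N H : Type*} [Group N] [Group H] [Finite H] (f : N →* H) (g : N) (m : ℕ)
    (hg : g ^ (2 ^ m) = 1) (hgk : f g ≠ 1) : 2 ∣ Nat.card f.range := by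
  have h1 : (f g) ^ (2 ^ m) = 1 := by rw [← map_pow, hg, map_one]
  have h2 : orderOf (f g) ∣ 2 ^ m := orderOf_dvd_of_pow_eq_one h1
  obtain ⟨j, _, hj⟩ := (Nat.dvd_prime_pow Nat.prime_two).mp h2
  have hj0 : j ≠ 0 := by
    intro h0
    rw [h0, pow_zero, orderOf_eq_one_iff] at hj
    exact hgk hj
  have h3 : 2 ∣ orderOf (f g) := by
    rw [hj]; exact dvd_pow_self 2 hj0
  have h4 : orderOf (⟨f g, g, rfl⟩ : f.range) = orderOf (f g) := Subgroup.orderOf_mk _ _
  exact dvd_trans h3 (h4 ▸ orderOf_dvd_natCard _)

theorem card_mulAut_klein (T : Type*) [Group T] [IsKleinFour T] : Nat.card (MulAut T) = 6 := by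
  obtain ⟨e⟩ : Nonempty (T ≃* Multiplicative (ZMod 2 × ZMod 2)) := IsKleinFour.nonempty_mulEquiv
  rw [Nat.card_congr (MulAut.congr e).toEquiv, Nat.card_eq_fintype_card]
  decide

theorem card_mulAut_q8 (Q : Type*) [Group Q] (e : Q ≃* QuaternionGroup 2) : Nat.card (MulAut Q) = 24 := by
  obtain ⟨f⟩ := Cfsg.Agent.S3742.result
  rw [Nat.card_congr (MulAut.congr e).toEquiv, Nat.card_congr f.toEquiv, Nat.card_eq_fintype_card,
    Fintype.card_perm]
  rfl

theorem card_center_q8 (Q : Type*) [Group Q] (e : Q ≃* QuaternionGroup 2) :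
    Nat.card (Subgroup.center Q) = 2 := by
  have h1 : Nat.card (Subgroup.center (QuaternionGroup 2)) = 2 := by
    rw [Nat.card_eq_fintype_card]; decide
  rw [← h1]
  apply Nat.card_congr
  refine ⟨fun z => ⟨e z.1, ?_⟩, fun z => ⟨e.symm z.1, ?_⟩, ?_, ?_⟩
  · rw [Subgroup.mem_center_iff]
    intro g
    have := (Subgroup.mem_center_iff.mp z.2) (e.symm g)
    have h2 := congrArg e this
    simpa using h2
  · rw [Subgroup.mem_center_iff]
    intro g
    have := (Subgroup.mem_center_iff.mp z.2) (e g)
    have h2 := congrArg e.symm this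
    simpa using h2
  · intro z; simp
  · intro z; simp

theorem index_innSub_q8 (Q : Type*) [Group Q] [Finite Q] (e : Q ≃* QuaternionGroup 2) :
    Nat.card (MulAut Q ⧸ innSub Q) = 6 := by
  have h1 := card_innSub_mul_card_center Q
  rw [card_center_q8 Q e, Nat.card_congr e.toEquiv] at h1
  have h0 : Nat.card (QuaternionGroup 2) = 8 := by
    rw [Nat.card_eq_fintype_card, QuaternionGroup.card]
  rw [h0] at h1
  have h2 : Nat.card (innSub Q) = 4 := by omega
  have h3 := (innSub Q).card_mul_index
  rw [h2, card_mulAut_q8 Q e] at h3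
  have : (innSub Q).index = 6 := by omega
  rw [← this]; rfl

end Cfsg.Agent.Lib.Helper59
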