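import Mathlib
import Cfsg.Agent.S2012
import Cfsg.Agent.S0557

set_option autoImplicit false

namespace Cfsg.Agent.Lib.Helper59

open scoped commutatorElement

variable {G : Type*} [Group G]

/-- tame intersection of two subgroups (for Sylow subgroups `P`, `Q`): the normalizers in `P`
and in `Q` of `P ⊓ Q` have index prime to `p` in the full normalizer. -/
def Tame (p : ℕ) (P Q : Subgroup G) : Prop :=
  (¬ p ∣ (P ⊓ Subgroup.normalizer ((P ⊓ Q : Subgroup G) : Set G)).relIndex
      (Subgroup.normalizer ((P ⊓ Q : Subgroup G) : Set G))) ∧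
  (¬ p ∣ (Q ⊓ Subgroup.normalizer ((P ⊓ Q : Subgroup G) : Set G)).relIndex
      (Subgroup.normalizer ((P ⊓ Q : Subgroup G) : Set G)))

/-- Alperin's theorem as an induction principle on single elements. -/
theorem alperin_induction [Finite G] {p : ℕ} [Fact p.Prime] (P : Sylow p G) (R : G → G → Prop)
    (hrefl : ∀ a, R a a) (htrans : ∀ a b c, R a b → R b c → R a c)
    (hstep : ∀ Q : Sylow p G, Tame p (P : Subgroup G) (Q : Subgroup G) →
      ∀ n ∈ Subgroup.normalizer (((P : Subgroup G) ⊓ (Q : Subgroup G) : Subgroup G) : Set G),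
        ((Q : Subgroup G) = (P : Subgroup G) ∨ ∃ k : ℕ, orderOf n = p ^ k) →
        ∀ a ∈ (P : Subgroup G) ⊓ (Q : Subgroup G), R a (n⁻¹ * a * n))
    (a g : G) (ha : a ∈ (P : Subgroup G)) (hag : g⁻¹ * a * g ∈ (P : Subgroup G)) :
    R a (g⁻¹ * a * g) := by
  obtain ⟨n, Q, x, hprod, hx, h0, hnext⟩ := Cfsg.Agent.S2012.result P {a} g
    (by intro b hb; rw [Set.mem_singleton_iff] at hb; rw [hb]; exact ha)
    (by rintro b ⟨c, hc, rfl⟩; rw [Set.mem_singleton_iff] at hc; rw [hc]; exact hag)
  have hlen : (List.ofFn x).length = n := List.length_ofFn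
  have key : ∀ i : ℕ, i ≤ n →
      R a ((((List.ofFn x).take i).prod)⁻¹ * a * ((List.ofFn x).take i).prod) := by
    intro i
    induction i with
    | zero =>
      intro _
      simpa using hrefl a
    | succ i ih =>
      intro hi
      have hi' : i < n := hi
      have hR := ih (le_of_lt hi')
      refine htrans _ _ _ hR ?_
      have hmem : (((List.ofFn x).take i).prod)⁻¹ * a * ((List.ofFn x).take i).prod ∈
          (P : Subgroup G) ⊓ (Q ⟨i, hi'⟩ : Subgroup G) := by
        rcases Nat.eq_zero_or_pos i with h0i | hpos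
        · subst h0i
          have := h0 hi' (Set.mem_singleton a)
          simpa using Subgroup.mem_inf.mp this
        · obtain ⟨j, rfl⟩ : ∃ j, i = j + 1 := ⟨i - 1, by omega⟩
          have := hnext ⟨j, by omega⟩ hi' ⟨a, Set.mem_singleton a, rfl⟩
          exact this
      have hxi := hx ⟨i, hi'⟩
      have hstep' := hstep (Q ⟨i, hi'⟩) ⟨hxi.2.1, hxi.2.2.1⟩ (x ⟨i, hi'⟩) hxi.1 hxi.2.2.2 _ hmem
      have htake : ((List.ofFn x).take (i + 1)).prod = ((List.ofFn x).take i).prod * x ⟨i, hi'⟩ := by
        rw [List.prod_take_succ _ _ (by rw [hlen]; exact hi')]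
        simp
      rw [htake]
      have : (((List.ofFn x).take i).prod * x ⟨i, hi'⟩)⁻¹ * a * (((List.ofFn x).take i).prod * x ⟨i, hi'⟩)
          = (x ⟨i, hi'⟩)⁻¹ * ((((List.ofFn x).take i).prod)⁻¹ * a * ((List.ofFn x).take i).prod) * x ⟨i, hi'⟩ := by
        group
      rw [this]
      exact hstep'
  have := key n le_rfl
  rw [List.take_of_length_le (by rw [hlen]), hprod] at this
  exact this

/-- If the automizer of `H` is a `p`-group and `P ⊓ N(H)` has index prime to `p` in `N(H)`,
then every element of `N(H)` acts on `H` like an element of `P ⊓ N(H)`. -/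
theorem exists_conj_of_pgroup_automizer [Finite G] {p : ℕ} [Fact p.Prime] (P H : Subgroup G)
    (htame : ¬ p ∣ (P ⊓ Subgroup.normalizer (H : Set G)).relIndex (Subgroup.normalizer (H : Set G)))
    (hAut : IsPGroup p H.normalizerMonoidHom.range)
    (n : G) (hn : n ∈ Subgroup.normalizer (H : Set G)) :
    ∃ s ∈ P ⊓ Subgroup.normalizer (H : Set G), ∀ a ∈ H, n * a * n⁻¹ = s * a * s⁻¹ := by
  set N := Subgroup.normalizer (H : Set G) with hN
  set f := H.normalizerMonoidHom with hf
  set P' : Subgroup N := (P ⊓ N).subgroupOf N with hP'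
  have hsurj : Function.Surjective f.rangeRestrict := f.rangeRestrict_surjective
  have h1 : (P'.map f.rangeRestrict).index ∣ P'.index := Subgroup.index_map_dvd _ hsurj
  obtain ⟨j, hj⟩ := hAut.index (P'.map f.rangeRestrict)
  have hj0 : j = 0 := by
    by_contra hne
    apply htame
    have : p ∣ (P'.map f.rangeRestrict).index := by rw [hj]; exact dvd_pow_self p hne
    exact dvd_trans this h1
  rw [hj0, pow_zero, Subgroup.index_eq_one] at hj
  have hmem : f.rangeRestrict ⟨n, hn⟩ ∈ P'.map f.rangeRestrict := by rw [hj]; trivial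
  obtain ⟨s, hs, hsn⟩ := Subgroup.mem_map.mp hmem
  refine ⟨s, Subgroup.mem_subgroupOf.mp hs, ?_⟩
  intro a ha
  have h2 : f s = f ⟨n, hn⟩ := by
    have := congrArg Subtype.val hsn
    simpa using this
  have h3 := congrArg (fun φ : MulAut H => ((φ ⟨a, ha⟩ : H) : G)) h2
  exact h3.symm

/-- If a Sylow `p`-subgroup controls the fusion of its own elements, then there is a normal
`p`-complement. -/
theorem hasNormalPComplement_of_control [Finite G] {p : ℕ} [Fact p.Prime] (P : Sylow p G)
    (hctrl : ∀ a ∈ (P : Subgroup G), ∀ g : G, g⁻¹ * a * g ∈ (P : Subgroup G) →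
      ∃ s ∈ (P : Subgroup G), g⁻¹ * a * g = s⁻¹ * a * s) :
    Cfsg.HasNormalPComplement p G := by
  have hHall : (Nat.card (P : Subgroup G)).Coprime (P : Subgroup G).index := P.card_coprime_index
  have hnil : Group.IsNilpotent (P : Subgroup G) := P.isPGroup'.isNilpotent
  obtain ⟨m, hm⟩ := (Subgroup.isNilpotent_iff_lowerCentralSeries (P : Subgroup G)).mp hnil
  have key : ∀ i : ℕ, (fun K : Subgroup G => Subgroup.focalSubgroup K)^[i] (P : Subgroup G) ≤
      (P : Subgroup G).lowerCentralSeries i := by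
    intro i
    induction i with
    | zero =>
      simp
    | succ i ih =>
      rw [Function.iterate_succ_apply']
      set L := (fun K : Subgroup G => Subgroup.focalSubgroup K)^[i] (P : Subgroup G) with hL
      have hLP : L ≤ (P : Subgroup G) :=
        le_trans ih ((P : Subgroup G).lowerCentralSeries_antitone (Nat.zero_le i))
      show Subgroup.focalSubgroup L ≤ _
      rw [Subgroup.focalSubgroup_def, Subgroup.closure_le]
      rintro g ⟨hgL, a, haL, u, rfl⟩
      have haP : a ∈ (P : Subgroup G) := hLP haL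
      have hconj : (u⁻¹)⁻¹ * a * u⁻¹ ∈ (P : Subgroup G) := by
        have h1 : a⁻¹ * ⁅a, u⁆ ∈ (P : Subgroup G) :=
          Subgroup.mul_mem _ (Subgroup.inv_mem _ haP) (hLP hgL)
        have h2 : (u⁻¹)⁻¹ * a * u⁻¹ = (a⁻¹ * ⁅a, u⁆)⁻¹ := by
          rw [commutatorElement_def]; group
        rw [h2]; exact Subgroup.inv_mem _ h1
      obtain ⟨s, hs, hsa⟩ := hctrl _ haP u⁻¹ hconj
      have hg : ⁅a, u⁆ = ⁅a, s⁻¹⁆ := by
        have h3 : ⁅a, u⁆ = a * ((u⁻¹)⁻¹ * a * u⁻¹)⁻¹ := by
          rw [commutatorElement_def]; group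
        rw [h3, hsa, commutatorElement_def]
        group
      rw [hg, SetLike.mem_coe, Subgroup.lowerCentralSeries_succ]
      exact Subgroup.commutator_mem_commutator (ih haL) (Subgroup.inv_mem _ hs)
  have hbot : (fun K : Subgroup G => Subgroup.focalSubgroup K)^[m] (P : Subgroup G) = ⊥ := by
    rw [eq_bot_iff, ← hm]
    exact key m
  obtain ⟨N, hN, hc⟩ := Cfsg.Agent.S0557.result (P : Subgroup G) hHall m hbot
  exact ⟨P, N, hN, hc⟩

end Cfsg.Agent.Lib.Helper59
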