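import Mathlib

set_option autoImplicit false

namespace Cfsg.Agent.Lib.Helper59

/-- Quasi-dihedral presentation data inside a group `S` of order `2^(k+4)`:
`x` of order `2^(k+3)`, `y` of order 2, `y x y⁻¹ = x^(2^(k+2) - 1)`.
We write `w = 2^k`, so `|x| = 8w` and the twisting exponent is `4w - 1`. -/
structure QD (S : Type*) [Group S] (k : ℕ) (x y : S) : Prop where
  card : Nat.card S = 2 ^ (k + 4)
  hx : orderOf x = 2 ^ (k + 3)
  hy : orderOf y = 2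
  hxy : y * x * y⁻¹ = x ^ (2 ^ (k + 2) - 1)

namespace QD

variable {S : Type*} [Group S] {k : ℕ} {x y : S}

theorem ordZ (h : QD S k x y) : ((orderOf x : ℕ) : ℤ) = 8 * 2 ^ k := by
  rw [h.hx]; push_cast; ring

theorem zpow_eq_one (h : QD S k x y) {a : ℤ} : x ^ a = 1 ↔ (8 * 2 ^ k : ℤ) ∣ a := by
  rw [← orderOf_dvd_iff_zpow_eq_one, h.ordZ]

theorem zpow_eq_zpow (h : QD S k x y) {a b : ℤ} : x ^ a = x ^ b ↔ (8 * 2 ^ k : ℤ) ∣ a - b := by
  rw [← mul_inv_eq_one, ← zpow_neg, ← zpow_add, h.zpow_eq_one, sub_eq_add_neg]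

theorem y_sq (h : QD S k x y) : y * y = 1 := by
  have := pow_orderOf_eq_one y
  rw [h.hy, sq] at this; exact this

theorem y_inv (h : QD S k x y) : y⁻¹ = y := inv_eq_of_mul_eq_one_right h.y_sq

theorem conj_x (h : QD S k x y) : y * x * y⁻¹ = x ^ ((4 * 2 ^ k - 1 : ℤ)) := by
  rw [h.hxy, ← zpow_natCast]
  congr 1
  have : 1 ≤ 2 ^ (k + 2) := Nat.one_le_two_pow
  rw [Nat.cast_sub this]
  push_cast; ring

theorem conj_zpow (h : QD S k x y) (a : ℤ) : y * x ^ a * y⁻¹ = x ^ ((4 * 2 ^ k - 1) * a) := by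
  rw [← _root_.conj_zpow, h.conj_x, ← zpow_mul]

/-- moving `y` past a power of `x` -/
theorem y_mul_zpow (h : QD S k x y) (a : ℤ) : y * x ^ a = x ^ ((4 * 2 ^ k - 1) * a) * y := by
  rw [← h.conj_zpow a]; group

theorem y_notMem (h : QD S k x y) : y ∉ Subgroup.zpowers x := by
  intro hmem
  rw [Subgroup.mem_zpowers_iff] at hmem
  obtain ⟨i, rfl⟩ := hmem
  have h1 := h.conj_x
  have hcomm : x ^ i * x * (x ^ i)⁻¹ = x ^ (1 : ℤ) := by
    rw [← zpow_add_one, ← zpow_neg, ← zpow_add]; simp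
  rw [hcomm, h.zpow_eq_zpow] at h1
  -- 8w ∣ 1 - (4w - 1) = 2 - 4w
  obtain ⟨c, hc⟩ := h1
  have hw : (1 : ℤ) ≤ 2 ^ k := by exact_mod_cast Nat.one_le_two_pow
  have : (2 : ℤ) ∣ 1 - 2 * 2 ^ k := ⟨2 * 2 ^ k * c, by linarith⟩
  omega

theorem index_zpowers (h : QD S k x y) [Finite S] : (Subgroup.zpowers x).index = 2 := by
  have h1 := (Subgroup.zpowers x).card_mul_index
  rw [Nat.card_zpowers, h.hx, h.card] at h1
  have : 2 ^ (k + 3) * (Subgroup.zpowers x).index = 2 ^ (k + 3) * 2 := by rw [h1]; ring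
  exact Nat.eq_of_mul_eq_mul_left (by positivity) this

theorem cases (h : QD S k x y) [Finite S] (g : S) : (∃ a : ℤ, g = x ^ a) ∨ (∃ a : ℤ, g = x ^ a * y) := by
  by_cases hg : g ∈ Subgroup.zpowers x
  · left
    obtain ⟨a, ha⟩ := Subgroup.mem_zpowers_iff.mp hg
    exact ⟨a, ha.symm⟩
  · right
    have hidx := h.index_zpowers
    have hgy : g * y⁻¹ ∈ Subgroup.zpowers x := by
      rw [Subgroup.mul_mem_iff_of_index_two hidx]
      constructor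
      · intro h'; exact absurd h' hg
      · intro h'; exact absurd (by simpa using (Subgroup.zpowers x).inv_mem h') h.y_notMem
    obtain ⟨a, ha⟩ := Subgroup.mem_zpowers_iff.mp hgy
    refine ⟨a, ?_⟩
    rw [ha]; group

theorem xy_ne_x (h : QD S k x y) (a b : ℤ) : x ^ a * y ≠ x ^ b := by
  intro heq
  apply h.y_notMem
  have : y = x ^ (b - a) := by
    have h1 : y = x ^ (-a) * (x ^ a * y) := by group
    rw [h1, heq, ← zpow_add]; congr 1; ring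
  rw [this]
  exact Subgroup.zpow_mem_zpowers x _

theorem xy_eq_xy (h : QD S k x y) {a b : ℤ} : x ^ a * y = x ^ b * y ↔ (8 * 2 ^ k : ℤ) ∣ a - b := by
  rw [mul_left_inj, h.zpow_eq_zpow]

theorem mul_xy_xy (h : QD S k x y) (a b : ℤ) :
    (x ^ a * y) * (x ^ b * y) = x ^ (a + (4 * 2 ^ k - 1) * b) := by
  calc (x ^ a * y) * (x ^ b * y) = x ^ a * (y * x ^ b) * y := by group
    _ = x ^ a * (x ^ ((4 * 2 ^ k - 1) * b) * y) * y := by rw [h.y_mul_zpow]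
    _ = x ^ a * x ^ ((4 * 2 ^ k - 1) * b) * (y * y) := by group
    _ = x ^ (a + (4 * 2 ^ k - 1) * b) := by rw [h.y_sq, mul_one, ← zpow_add]

theorem mul_xy_x (h : QD S k x y) (a b : ℤ) :
    (x ^ a * y) * x ^ b = x ^ (a + (4 * 2 ^ k - 1) * b) * y := by
  calc (x ^ a * y) * x ^ b = x ^ a * (y * x ^ b) := by group
    _ = x ^ a * (x ^ ((4 * 2 ^ k - 1) * b) * y) := by rw [h.y_mul_zpow]
    _ = x ^ (a + (4 * 2 ^ k - 1) * b) * y := by rw [zpow_add]; group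

theorem mul_x_xy (a b : ℤ) : x ^ a * (x ^ b * y) = x ^ (a + b) * y := by
  rw [zpow_add]; group

theorem inv_xy (h : QD S k x y) (a : ℤ) : (x ^ a * y)⁻¹ = x ^ (-(4 * 2 ^ k - 1) * a) * y := by
  rw [mul_inv_rev, h.y_inv, ← zpow_neg, h.y_mul_zpow]
  congr 2; ring

/-- conjugating `x^b y` by `x^c` -/
theorem conj_xy_by_x (h : QD S k x y) (b c : ℤ) :
    x ^ c * (x ^ b * y) * (x ^ c)⁻¹ = x ^ (b + (2 - 4 * 2 ^ k) * c) * y := by
  rw [← zpow_neg, mul_x_xy, h.mul_xy_x]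
  congr 2; ring

/-- conjugating `x^b` by `x^c y` -/
theorem conj_x_by_xy (h : QD S k x y) (b c : ℤ) :
    (x ^ c * y) * x ^ b * (x ^ c * y)⁻¹ = x ^ ((4 * 2 ^ k - 1) * b) := by
  rw [h.mul_xy_x, h.inv_xy, h.mul_xy_xy, h.zpow_eq_zpow]
  refine ⟨-(2 * 2 ^ k * c) + c, ?_⟩
  ring

theorem conj_x_by_x (b c : ℤ) : x ^ c * x ^ b * (x ^ c)⁻¹ = x ^ b := by
  rw [← zpow_neg, ← zpow_add, ← zpow_add]; congr 1; ring

/-- the square of `x^a y` -/
theorem sq_xy (h : QD S k x y) (a : ℤ) : (x ^ a * y) * (x ^ a * y) = x ^ (4 * 2 ^ k * a) := by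
  rw [h.mul_xy_xy]; congr 1; ring

/-- the central involution `z = x^(4w)` -/
theorem z_sq (h : QD S k x y) : x ^ (4 * 2 ^ k : ℤ) * x ^ (4 * 2 ^ k : ℤ) = 1 := by
  rw [← zpow_add, h.zpow_eq_one]; exact ⟨1, by ring⟩

theorem z_ne_one (h : QD S k x y) : x ^ (4 * 2 ^ k : ℤ) ≠ 1 := by
  rw [Ne, h.zpow_eq_one]
  rintro ⟨c, hc⟩
  have hw : (1 : ℤ) ≤ 2 ^ k := by exact_mod_cast Nat.one_le_two_pow
  have h1 : (2 : ℤ) ^ k * (2 * c - 1) = 0 := by linarith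
  rcases mul_eq_zero.mp h1 with h2 | h2
  · omega
  · omega

theorem z_comm_y (h : QD S k x y) : y * x ^ (4 * 2 ^ k : ℤ) = x ^ (4 * 2 ^ k : ℤ) * y := by
  rw [h.y_mul_zpow, mul_left_inj, h.zpow_eq_zpow]
  exact ⟨2 * 2 ^ k - 1, by ring⟩

end QD

end Cfsg.Agent.Lib.Helper59

namespace Cfsg.Agent.Lib.Helper59

namespace QD

variable {S : Type*} [Group S] {k : ℕ} {x y : S}

theorem w_pos (k : ℕ) : (1 : ℤ) ≤ 2 ^ k := by exact_mod_cast Nat.one_le_two_pow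

/-- conjugates of powers of `x` are powers of `x` -/
theorem conj_x_mem (h : QD S k x y) [Finite S] (c : S) (b : ℤ) :
    c * x ^ b * c⁻¹ = x ^ b ∨ c * x ^ b * c⁻¹ = x ^ ((4 * 2 ^ k - 1) * b) := by
  rcases h.cases c with ⟨a, rfl⟩ | ⟨a, rfl⟩
  · left; exact conj_x_by_x b a
  · right; exact h.conj_x_by_xy b a

theorem not_isConj_x_xy (h : QD S k x y) [Finite S] (a b : ℤ) : ¬ IsConj (x ^ b) (x ^ a * y) := by
  intro hc
  obtain ⟨c, hc⟩ := isConj_iff.mp hc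
  rcases h.conj_x_mem c b with h1 | h1
  · rw [h1] at hc; exact h.xy_ne_x a _ hc.symm
  · rw [h1] at hc; exact h.xy_ne_x a _ hc.symm

/-- `x^b y` and `x^(b+2j) y` are conjugate -/
theorem isConj_xy_add_even (h : QD S k x y) (b j : ℤ) : IsConj (x ^ b * y) (x ^ (b + 2 * j) * y) := by
  rw [isConj_iff]
  refine ⟨x ^ (j * (1 + 2 * 2 ^ k)), ?_⟩
  rw [h.conj_xy_by_x, h.xy_eq_xy]
  refine ⟨-(2 ^ k * j), ?_⟩
  ring

/-- `x^(2w)` and `x^(-2w)` are conjugate -/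
theorem isConj_quarter (h : QD S k x y) : IsConj (x ^ (2 * 2 ^ k : ℤ)) (x ^ (6 * 2 ^ k : ℤ)) := by
  rw [isConj_iff]
  refine ⟨x ^ (0 : ℤ) * y, ?_⟩
  rw [h.conj_x_by_xy, h.zpow_eq_zpow]
  refine ⟨2 ^ k - 1, ?_⟩
  ring

/-- elements `t` with `t * t = 1`, `t ≠ 1` -/
theorem invol_cases (h : QD S k x y) [Finite S] (t : S) (h2 : t * t = 1) (h1 : t ≠ 1) :
    t = x ^ (4 * 2 ^ k : ℤ) ∨ ∃ j : ℤ, t = x ^ (2 * j) * y := by
  have hw := w_pos k
  rcases h.cases t with ⟨a, rfl⟩ | ⟨a, rfl⟩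
  · left
    rw [← zpow_add, h.zpow_eq_one] at h2
    obtain ⟨c, hc⟩ := h2
    -- a = 4w c
    have ha : a = 4 * 2 ^ k * c := by linarith
    rcases Int.even_or_odd' c with ⟨d, rfl | rfl⟩
    · exfalso; apply h1
      rw [h.zpow_eq_one]; exact ⟨d, by rw [ha]; ring⟩
    · rw [h.zpow_eq_zpow]; exact ⟨d, by rw [ha]; ring⟩
  · right
    rw [h.sq_xy, h.zpow_eq_one] at h2
    obtain ⟨c, hc⟩ := h2
    have hw0 : (2 : ℤ) ^ k ≠ 0 := by positivity
    have : a = 2 * c := by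
      have h3 : (4 * 2 ^ k : ℤ) * a = (4 * 2 ^ k) * (2 * c) := by linarith
      exact mul_left_cancel₀ (by positivity) h3
    exact ⟨c, by rw [this]⟩

/-- elements of order 4 -/
theorem order4_cases (h : QD S k x y) [Finite S] (t : S) (h4 : t * t * (t * t) = 1) (h2 : t * t ≠ 1) :
    t = x ^ (2 * 2 ^ k : ℤ) ∨ t = x ^ (6 * 2 ^ k : ℤ) ∨ ∃ j : ℤ, t = x ^ (1 + 2 * j) * y := by
  have hw := w_pos k
  rcases h.cases t with ⟨a, rfl⟩ | ⟨a, rfl⟩
  · rw [← zpow_add, ← zpow_add, h.zpow_eq_one] at h4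
    rw [← zpow_add, Ne, h.zpow_eq_one] at h2
    obtain ⟨c, hc⟩ := h4
    have ha : a = 2 * 2 ^ k * c := by linarith
    rcases Int.even_or_odd' c with ⟨d, rfl | rfl⟩
    · exfalso; apply h2
      exact ⟨d, by rw [ha]; ring⟩
    · rcases Int.even_or_odd' d with ⟨e, rfl | rfl⟩
      · left; rw [h.zpow_eq_zpow]; exact ⟨e, by rw [ha]; ring⟩
      · right; left; rw [h.zpow_eq_zpow]; exact ⟨e, by rw [ha]; ring⟩
  · right; right
    rw [h.sq_xy, Ne, h.zpow_eq_one] at h2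
    rcases Int.even_or_odd' a with ⟨d, rfl | rfl⟩
    · exfalso; apply h2; exact ⟨d, by ring⟩
    · exact ⟨d, by congr 2; ring⟩

end QD

end Cfsg.Agent.Lib.Helper59
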