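import Cfsg.Prelude.Def_CaseTheorems
import Cfsg.Agent.Lib.Helper59.QuasiDihedral

set_option autoImplicit false

namespace Cfsg.Agent.Lib.Helper59

/-- `Cfsg.IsQuasiDihedral` gives quasi-dihedral presentation data. -/
theorem exists_QD_of_isQuasiDihedral {S : Type*} [Group S] (hS : Cfsg.IsQuasiDihedral S) :
    ∃ (k : ℕ) (x y : S), QD S k x y := by
  obtain ⟨n, hn, hcard, x, y, hx, hy, hxy⟩ := hS
  obtain ⟨k, rfl⟩ : ∃ k, n = k + 3 := ⟨n - 3, by omega⟩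
  exact ⟨k, x, y, ⟨hcard, hx, hy, hxy⟩⟩

end Cfsg.Agent.Lib.Helper59
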