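import Mathlib
import Cfsg.Agent.Lib.Helper59.AutIndex

set_option autoImplicit false

namespace Cfsg.Agent.Lib.Helper59

open QuaternionGroup

variable {G : Type*} [Group G]

/-- transitivity of the automorphism group of the four-group, also by squares -/
theorem k4_trans : ∀ a b : Multiplicative (ZMod 2 × ZMod 2), a ≠ 1 → b ≠ 1 →
    ∃ φ : Multiplicative (ZMod 2 × ZMod 2) ≃* Multiplicative (ZMod 2 × ZMod 2), φ (φ a) = b := by
  let _ : DecidableEq (Multiplicative (ZMod 2 × ZMod 2)) :=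
    inferInstanceAs (DecidableEq (ZMod 2 × ZMod 2))
  decide

theorem klein_trans (T : Type*) [Group T] [IsKleinFour T] (a b : T) (ha : a ≠ 1) (hb : b ≠ 1) :
    ∃ φ : MulAut T, φ (φ a) = b := by
  obtain ⟨e⟩ : Nonempty (T ≃* Multiplicative (ZMod 2 × ZMod 2)) := IsKleinFour.nonempty_mulEquiv
  obtain ⟨φ, hφ⟩ := k4_trans (e a) (e b)
    (fun h => ha (by simpa using h)) (fun h => hb (by simpa using h))
  refine ⟨(e.trans φ).trans e.symm, ?_⟩
  simp only [MulEquiv.trans_apply, MulEquiv.apply_symm_apply]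
  rw [hφ]; simp

/-- if `|N(T):C(T)| = 6` for a four-group `T`, all automorphisms of `T` are induced. -/
theorem klein_full (T : Subgroup G) (hT : IsKleinFour T)
    (h₁ : (Subgroup.centralizer (T : Set G)).relIndex (Subgroup.normalizer (T : Set G)) = 6)
    (φ : MulAut T) :
    ∃ n : G, ∃ _ : n ∈ Subgroup.normalizer (T : Set G), ∀ a : T, n * a * n⁻¹ = φ a := by
  have : Finite T := IsKleinFour.instFinite
  have : Finite (MulAut T) := Nat.finite_of_card_ne_zero (by rw [card_mulAut_klein T]; norm_num)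
  have hr : Nat.card T.normalizerMonoidHom.range = Nat.card (MulAut T) := by
    rw [← relIndex_centralizer_normalizer, h₁, card_mulAut_klein T]
  have htop : T.normalizerMonoidHom.range = ⊤ := Subgroup.eq_top_of_card_eq _ hr
  have hmem : φ ∈ T.normalizerMonoidHom.range := by rw [htop]; trivial
  obtain ⟨n, hn⟩ := hmem
  refine ⟨n, n.2, ?_⟩
  intro a
  rw [← hn]
  rfl

/-- the order three automorphism of the quaternion group -/
def sigF : QuaternionGroup 2 → QuaternionGroup 2
  | a i => match i.val with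
    | 0 => a 0
    | 1 => xa 0
    | 2 => a 2
    | _ => xa 2
  | xa i => match i.val with
    | 0 => xa 3
    | 1 => a 3
    | 2 => xa 1
    | _ => a 1

theorem sigF_mul : ∀ u v : QuaternionGroup 2, sigF (u * v) = sigF u * sigF v := by decide

theorem sigF_cube : ∀ u : QuaternionGroup 2, sigF (sigF (sigF u)) = u := by decide

theorem sigF_moves : ∀ u : QuaternionGroup 2, u * u ≠ 1 →
    sigF u ≠ 1 ∧ sigF u ≠ u ∧ sigF u ≠ u * u ∧ sigF u ≠ u * u * u := by decide

theorem sigF_sq_moves : ∀ u : QuaternionGroup 2, u * u ≠ 1 →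
    sigF (sigF u) ≠ 1 ∧ sigF (sigF u) ≠ u ∧ sigF (sigF u) ≠ u * u ∧ sigF (sigF u) ≠ u * u * u := by
  decide

/-- `sigF` as an automorphism -/
def sigQ : MulAut (QuaternionGroup 2) where
  toFun := sigF
  invFun := fun u => sigF (sigF u)
  left_inv := sigF_cube
  right_inv := sigF_cube
  map_mul' := sigF_mul

theorem q8_zpow_cases (u : QuaternionGroup 2) (j : ℤ) :
    u ^ j = 1 ∨ u ^ j = u ∨ u ^ j = u * u ∨ u ^ j = u * u * u := by
  have h4 : u ^ (4 : ℤ) = 1 := by
    have : ∀ v : QuaternionGroup 2, v * v * (v * v) = 1 := by decide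
    have h := this u
    have : u ^ (4 : ℤ) = u * u * (u * u) := by
      rw [show (4 : ℤ) = ((4 : ℕ) : ℤ) from rfl, zpow_natCast, ← sq, ← sq, ← pow_mul]
    rw [this, h]
  have hj : u ^ j = u ^ (j % 4) := by
    conv_lhs => rw [← Int.mul_ediv_add_emod j 4]
    rw [zpow_add, zpow_mul, h4, one_zpow, one_mul]
  have h0 : 0 ≤ j % 4 := Int.emod_nonneg j (by norm_num)
  have h1 : j % 4 < 4 := Int.emod_lt_of_pos j (by norm_num)
  rw [hj]
  have : j % 4 = 0 ∨ j % 4 = 1 ∨ j % 4 = 2 ∨ j % 4 = 3 := by omega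
  rcases this with h | h | h | h <;> rw [h]
  · left; simp
  · right; left; simp
  · right; right; left
    rw [show (2 : ℤ) = ((2 : ℕ) : ℤ) from rfl, zpow_natCast, sq]
  · right; right; right
    rw [show (3 : ℤ) = ((3 : ℕ) : ℤ) from rfl, zpow_natCast, pow_succ, sq]

/-- a transported automorphism of a quaternion group moving every cyclic subgroup of order 4,
together with its square -/
theorem exists_aut_quat_moves (Q : Type*) [Group Q] (e : Q ≃* QuaternionGroup 2) :
    ∃ φ : MulAut Q, ∀ c : Q, c * c ≠ 1 → φ c ∉ Subgroup.zpowers c ∧ φ (φ c) ∉ Subgroup.zpowers c := by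
  refine ⟨(e.trans sigQ).trans e.symm, ?_⟩
  intro c hc
  have hc' : e c * e c ≠ 1 := by
    intro h
    apply hc
    have := congrArg e.symm h
    simpa using this
  have key : ∀ v : QuaternionGroup 2, v ≠ 1 → v ≠ e c → v ≠ e c * e c → v ≠ e c * e c * e c →
      e.symm v ∉ Subgroup.zpowers c := by
    intro v h1 h2 h3 h4 hmem
    obtain ⟨j, hj⟩ := Subgroup.mem_zpowers_iff.mp hmem
    have hv : v = (e c) ^ j := by
      have := congrArg e hj
      rw [map_zpow] at this
      simpa using this.symm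
    rcases q8_zpow_cases (e c) j with h | h | h | h
    · exact h1 (hv.trans h)
    · exact h2 (hv.trans h)
    · exact h3 (hv.trans h)
    · exact h4 (hv.trans h)
  constructor
  · obtain ⟨h1, h2, h3, h4⟩ := sigF_moves (e c) hc'
    simp only [MulEquiv.trans_apply]
    exact key _ h1 h2 h3 h4
  · obtain ⟨h1, h2, h3, h4⟩ := sigF_sq_moves (e c) hc'
    simp only [MulEquiv.trans_apply, MulEquiv.apply_symm_apply]
    exact key _ h1 h2 h3 h4

/-- if `|N(Q):QC(Q)| = 6` for a quaternion group `Q`, all automorphisms of `Q` are induced. -/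
theorem quat_full [Finite G] (Q : Subgroup G) (eQ : Q ≃* QuaternionGroup 2)
    (h₂ : (Q ⊔ Subgroup.centralizer (Q : Set G)).relIndex (Subgroup.normalizer (Q : Set G)) = 6)
    (φ : MulAut Q) :
    ∃ n : G, ∃ _ : n ∈ Subgroup.normalizer (Q : Set G), ∀ a : Q, n * a * n⁻¹ = φ a := by
  have hr : Nat.card (outHom Q).range = Nat.card (MulAut Q ⧸ innSub Q) := by
    rw [← relIndex_sup_centralizer_normalizer, h₂, index_innSub_q8 Q eQ]
  have : Finite (MulAut Q ⧸ innSub Q) :=
    Nat.finite_of_card_ne_zero (by rw [index_innSub_q8 Q eQ]; norm_num)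
  have htop : (outHom Q).range = ⊤ := Subgroup.eq_top_of_card_eq _ hr
  have hmem : (QuotientGroup.mk φ : MulAut Q ⧸ innSub Q) ∈ (outHom Q).range := by rw [htop]; trivial
  obtain ⟨n₀, hn₀⟩ := hmem
  -- `(f n₀)⁻¹ φ` is inner
  have hin : (Q.normalizerMonoidHom n₀)⁻¹ * φ ∈ innSub Q := by
    rw [← QuotientGroup.eq]
    exact hn₀
  obtain ⟨q, hq⟩ := hin
  have hqN : (q : G) ∈ Subgroup.normalizer (Q : Set G) := Subgroup.le_normalizer q.2
  refine ⟨n₀ * q, Subgroup.mul_mem _ n₀.2 hqN, ?_⟩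
  intro a
  have h1 : φ = Q.normalizerMonoidHom n₀ * MulAut.conj q := by
    rw [hq]; group
  rw [h1, MulAut.mul_apply, MulAut.conj_apply]
  show _ = (n₀ : G) * ((q * a * q⁻¹ : Q) : G) * (n₀ : G)⁻¹
  simp only [Subgroup.coe_mul, Subgroup.coe_inv]
  group

end Cfsg.Agent.Lib.Helper59
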