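import Mathlib

set_option autoImplicit false

namespace Cfsg.Agent.Lib.Helper59

/-- If `X` has a cyclic subgroup `⟨c⟩` of order `2^k` (`k ≥ 1`) and index `2`, and there is an
exponent `m` killing every element outside `⟨c⟩` but not `c`, then `Aut X` is a `2`-group. -/
theorem isPGroup_two_mulAut_of_cyclic_index_two {X : Type*} [Group X] (c : X) (k m : ℕ)
    (hk : 1 ≤ k) (hc : orderOf c = 2 ^ k) (hidx : (Subgroup.zpowers c).index = 2)
    (hm : ∀ g : X, g ∉ Subgroup.zpowers c → g ^ m = 1) (hcm : c ^ m ≠ 1) :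
    IsPGroup 2 (MulAut X) := by
  classical
  intro φ
  set H := Subgroup.zpowers c with hH
  have hcfin : 0 < orderOf c := by rw [hc]; positivity
  have hcfin' : IsOfFinOrder c := orderOf_pos_iff.mp hcfin
  -- every automorphism maps c into H
  have hchar : ∀ ψ : MulAut X, ψ c ∈ H := by
    intro ψ
    by_contra hcon
    have h1 := hm (ψ c) hcon
    rw [← map_pow] at h1
    have : c ^ m = 1 := by
      have := congrArg ψ.symm h1
      simpa using this
    exact hcm this
  obtain ⟨u, hu⟩ : ∃ u : ℕ, c ^ u = φ c := by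
    have := hchar φ
    rw [hH, ← hcfin'.mem_powers_iff_mem_zpowers] at this
    exact Submonoid.mem_powers_iff _ _ |>.mp this
  -- u is odd
  have huodd : Odd u := by
    by_contra hne
    rw [Nat.not_odd_iff_even] at hne
    obtain ⟨v, rfl⟩ := hne
    have hord : orderOf (φ c) = 2 ^ k := by
      rw [MulEquiv.orderOf_eq]; exact hc
    have : (φ c) ^ (2 ^ (k - 1)) = 1 := by
      rw [← hu, ← pow_mul]
      have : (v + v) * 2 ^ (k - 1) = 2 ^ k * v := by
        obtain ⟨k', rfl⟩ : ∃ k', k = k' + 1 := ⟨k - 1, by omega⟩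
        simp only [Nat.add_sub_cancel]
        ring
      rw [this, pow_mul, ← hc, pow_orderOf_eq_one, one_pow]
    have hdvd := orderOf_dvd_of_pow_eq_one this
    rw [hord] at hdvd
    have := Nat.le_of_dvd (by positivity) hdvd
    have : 2 ^ (k - 1) < 2 ^ k := Nat.pow_lt_pow_right (by norm_num) (by omega)
    omega
  -- iterates
  have hiter : ∀ j : ℕ, (φ ^ j) c = c ^ (u ^ j) := by
    intro j
    induction j with
    | zero => simp
    | succ j ih =>
      rw [pow_succ', MulAut.mul_apply, ih, map_pow, ← hu, ← pow_mul, pow_succ']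
  set M := Nat.totient (2 ^ k) with hM
  have hMval : M = 2 ^ (k - 1) := by
    rw [hM, Nat.totient_prime_pow Nat.prime_two (by omega)]; simp
  have hcop : Nat.Coprime u (2 ^ k) := by
    apply Nat.Coprime.pow_right
    exact Nat.coprime_two_right.mpr huodd
  have hmod : u ^ M ≡ 1 [MOD 2 ^ k] := Nat.ModEq.pow_totient hcop
  set ψ := φ ^ M with hψ
  have hψc : ψ c = c := by
    rw [hψ, hiter]
    have : c ^ (u ^ M) = c ^ 1 := by
      rw [pow_eq_pow_iff_modEq, hc]; exact hmod
    rw [this, pow_one]
  have hψH : ∀ h ∈ H, ψ h = h := by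
    intro h hh
    rw [hH, Subgroup.mem_zpowers_iff] at hh
    obtain ⟨i, rfl⟩ := hh
    rw [map_zpow, hψc]
  -- pick s outside H
  have hex : ∃ s : X, s ∉ H := by
    by_contra hcon
    push Not at hcon
    have : H = ⊤ := by
      rw [eq_top_iff]; intro x _; exact hcon x
    rw [this, Subgroup.index_top] at hidx
    omega
  obtain ⟨s, hs⟩ := hex
  have hψs : ψ s ∉ H := by
    intro hcon
    have h1 : ψ (ψ s) = ψ s := hψH _ hcon
    have h2 : ψ s = s := ψ.injective h1
    rw [h2] at hcon
    exact hs hcon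
  have hd : s⁻¹ * ψ s ∈ H := by
    rw [Subgroup.mul_mem_iff_of_index_two hidx]
    constructor
    · intro h; exact absurd (by simpa using H.inv_mem h) hs
    · intro h; exact absurd h hψs
  set d := s⁻¹ * ψ s with hddef
  have hψs' : ψ s = s * d := by rw [hddef]; group
  have hiter2 : ∀ j : ℕ, (ψ ^ j) s = s * d ^ j := by
    intro j
    induction j with
    | zero => simp
    | succ j ih =>
      rw [pow_succ', MulAut.mul_apply, ih, map_mul, map_pow, hψH d hd, hψs', mul_assoc, ← pow_succ']
  have hd2 : d ^ (2 ^ k) = 1 := by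
    rw [hH, Subgroup.mem_zpowers_iff] at hd
    obtain ⟨i, hi⟩ := hd
    rw [← hi, ← zpow_natCast, ← zpow_mul, mul_comm, zpow_mul, zpow_natCast, ← hc,
      pow_orderOf_eq_one, one_zpow]
  have hiterH : ∀ j : ℕ, ∀ h ∈ H, (ψ ^ j) h = h := by
    intro j
    induction j with
    | zero => simp
    | succ j ih =>
      intro h hh
      rw [pow_succ', MulAut.mul_apply, ih h hh, hψH h hh]
  have hfinal : ψ ^ (2 ^ k) = 1 := by
    ext x
    rw [MulAut.one_apply]
    by_cases hx : x ∈ H
    · exact hiterH _ x hx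
    · have hsx : s⁻¹ * x ∈ H := by
        rw [Subgroup.mul_mem_iff_of_index_two hidx]
        constructor
        · intro h; exact absurd (by simpa using H.inv_mem h) hs
        · intro h; exact absurd h hx
      have : x = s * (s⁻¹ * x) := by group
      rw [this, map_mul, hiter2, hd2, mul_one, hiterH _ _ hsx]
  refine ⟨(k - 1) + k, ?_⟩
  rw [pow_add, pow_mul, ← hMval, ← hψ]
  exact hfinal

end Cfsg.Agent.Lib.Helper59
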