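import Cfsg.Agent.Lib.Helper59.QuasiDihedral

set_option autoImplicit false

namespace Cfsg.Agent.Lib.Helper59

namespace QD

variable {S : Type*} [Group S] {k : ℕ} {x y : S}

/-- The subgroup `⟨x^d⟩ ∪ ⟨x^d⟩ x^b y`. -/
def sub (h : QD S k x y) (d b : ℤ) (hdb : d ∣ 4 * 2 ^ k * b) : Subgroup S where
  carrier := {g | (∃ c : ℤ, d ∣ c ∧ g = x ^ c) ∨ (∃ c : ℤ, d ∣ c - b ∧ g = x ^ c * y)}
  one_mem' := Or.inl ⟨0, dvd_zero d, by simp⟩
  mul_mem' := by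
    rintro g g' (⟨c, hc, rfl⟩ | ⟨c, hc, rfl⟩) (⟨c', hc', rfl⟩ | ⟨c', hc', rfl⟩)
    · exact Or.inl ⟨c + c', dvd_add hc hc', (zpow_add x c c').symm⟩
    · refine Or.inr ⟨c + c', ?_, mul_x_xy c c'⟩
      have : c + c' - b = c + (c' - b) := by ring
      rw [this]; exact dvd_add hc hc'
    · refine Or.inr ⟨c + (4 * 2 ^ k - 1) * c', ?_, h.mul_xy_x c c'⟩
      have : c + (4 * 2 ^ k - 1) * c' - b = (c - b) + c' * (4 * 2 ^ k - 1) := by ring
      rw [this]; exact dvd_add hc (Dvd.dvd.mul_right hc' _)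
    · refine Or.inl ⟨c + (4 * 2 ^ k - 1) * c', ?_, h.mul_xy_xy c c'⟩
      have : c + (4 * 2 ^ k - 1) * c' = (c - b) + (c' - b) * (4 * 2 ^ k - 1) + 4 * 2 ^ k * b := by ring
      rw [this]; exact dvd_add (dvd_add hc (Dvd.dvd.mul_right hc' _)) hdb
  inv_mem' := by
    rintro g (⟨c, hc, rfl⟩ | ⟨c, hc, rfl⟩)
    · exact Or.inl ⟨-c, (dvd_neg).mpr hc, (zpow_neg x c).symm⟩
    · refine Or.inr ⟨-(4 * 2 ^ k - 1) * c, ?_, h.inv_xy c⟩
      have : -(4 * 2 ^ k - 1) * c - b = (c - b) * (-(4 * 2 ^ k - 1)) + -(4 * 2 ^ k * b) := by ring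
      rw [this]; exact dvd_add (Dvd.dvd.mul_right hc _) ((dvd_neg).mpr hdb)

theorem mem_sub (h : QD S k x y) {d b : ℤ} (hdb : d ∣ 4 * 2 ^ k * b) (g : S) :
    g ∈ h.sub d b hdb ↔ (∃ c : ℤ, d ∣ c ∧ g = x ^ c) ∨ (∃ c : ℤ, d ∣ c - b ∧ g = x ^ c * y) := Iff.rfl

theorem x_mem_sub (h : QD S k x y) {d b : ℤ} (hd8 : d ∣ 8 * 2 ^ k) (hdb : d ∣ 4 * 2 ^ k * b) (c : ℤ) :
    x ^ c ∈ h.sub d b hdb ↔ d ∣ c := by
  rw [mem_sub]
  constructor
  · rintro (⟨c', hc', heq⟩ | ⟨c', _, heq⟩)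
    · rw [h.zpow_eq_zpow] at heq
      have : c = (c - c') + c' := by ring
      rw [this]; exact dvd_add (dvd_trans hd8 heq) hc'
    · exact absurd heq.symm (h.xy_ne_x _ _)
  · intro hc; exact Or.inl ⟨c, hc, rfl⟩

theorem xy_mem_sub (h : QD S k x y) {d b : ℤ} (hd8 : d ∣ 8 * 2 ^ k) (hdb : d ∣ 4 * 2 ^ k * b) (c : ℤ) :
    x ^ c * y ∈ h.sub d b hdb ↔ d ∣ c - b := by
  rw [mem_sub]
  constructor
  · rintro (⟨c', _, heq⟩ | ⟨c', hc', heq⟩)
    · exact absurd heq (h.xy_ne_x _ _)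
    · rw [h.xy_eq_xy] at heq
      have : c - b = (c - c') + (c' - b) := by ring
      rw [this]; exact dvd_add (dvd_trans hd8 heq) hc'
  · intro hc; exact Or.inr ⟨c, hc, rfl⟩

/-- Description of an arbitrary subgroup of a quasi-dihedral group. -/
theorem subgroup_desc (h : QD S k x y) (K : Subgroup S) :
    ∃ d : ℤ, d ∣ 8 * 2 ^ k ∧ (∀ c : ℤ, x ^ c ∈ K ↔ d ∣ c) ∧
      ((∀ c : ℤ, x ^ c * y ∉ K) ∨
        ∃ b : ℤ, d ∣ 4 * 2 ^ k * b ∧ ∀ c : ℤ, x ^ c * y ∈ K ↔ d ∣ c - b) := by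
  let A : AddSubgroup ℤ :=
    { carrier := {c | x ^ c ∈ K}
      zero_mem' := by simp
      add_mem' := by
        intro a b ha hb
        simp only [Set.mem_ofPred_eq] at ha hb ⊢
        rw [zpow_add]; exact K.mul_mem ha hb
      neg_mem' := by
        intro a ha
        simp only [Set.mem_ofPred_eq] at ha ⊢
        rw [zpow_neg]; exact K.inv_mem ha }
  obtain ⟨d, hd⟩ := Int.subgroup_cyclic A
  have hmem : ∀ c : ℤ, x ^ c ∈ K ↔ d ∣ c := by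
    intro c
    have : x ^ c ∈ K ↔ c ∈ A := Iff.rfl
    rw [this, hd, AddSubgroup.mem_closure_singleton]
    constructor
    · rintro ⟨n, rfl⟩; exact ⟨n, by simp [mul_comm]⟩
    · rintro ⟨n, rfl⟩; exact ⟨n, by simp [mul_comm]⟩
  refine ⟨d, ?_, hmem, ?_⟩
  · rw [← hmem]
    have : x ^ (8 * 2 ^ k : ℤ) = 1 := by rw [h.zpow_eq_one]
    rw [this]; exact K.one_mem
  · by_cases hex : ∃ b : ℤ, x ^ b * y ∈ K
    · right
      obtain ⟨b, hb⟩ := hex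
      refine ⟨b, ?_, ?_⟩
      · rw [← hmem, ← h.sq_xy]; exact K.mul_mem hb hb
      · intro c
        rw [← hmem]
        have e1 : x ^ (c - b) = (x ^ c * y) * (x ^ b * y)⁻¹ := by
          rw [zpow_sub]; group
        constructor
        · intro hc; rw [e1]; exact K.mul_mem hc (K.inv_mem hb)
        · intro hc
          have : x ^ c * y = x ^ (c - b) * (x ^ b * y) := by rw [e1]; group
          rw [this]; exact K.mul_mem hc hb
    · left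
      intro c hc; exact hex ⟨c, hc⟩

/-- A subgroup not inside `⟨x⟩` is some `sub d b`. -/
theorem eq_sub_of_not_le (h : QD S k x y) [Finite S] (K : Subgroup S) (hK : ¬ K ≤ Subgroup.zpowers x) :
    ∃ (d b : ℤ) (hdb : d ∣ 4 * 2 ^ k * b), d ∣ 8 * 2 ^ k ∧ K = h.sub d b hdb := by
  obtain ⟨d, hd8, hx, hy⟩ := h.subgroup_desc K
  rcases hy with hy | ⟨b, hdb, hy⟩
  · exfalso; apply hK
    intro g hg
    rcases h.cases g with ⟨a, rfl⟩ | ⟨a, rfl⟩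
    · exact Subgroup.zpow_mem_zpowers x a
    · exact absurd hg (hy a)
  · refine ⟨d, b, hdb, hd8, ?_⟩
    ext g
    rcases h.cases g with ⟨a, rfl⟩ | ⟨a, rfl⟩
    · rw [hx, h.x_mem_sub hd8]
    · rw [hy, h.xy_mem_sub hd8]

end QD

end Cfsg.Agent.Lib.Helper59
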