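import Mathlib
import Cfsg.Agent.Lib.Helper59.QuasiDihedral
import Cfsg.Agent.Lib.Helper59.QDSub
import Cfsg.Agent.Lib.Helper59.AutTwoGroup
import Cfsg.Agent.Lib.Helper59.QuaternionIso

set_option autoImplicit false

namespace Cfsg.Agent.Lib.Helper59

/-- the automorphism group of a cyclic `2`-group is a `2`-group -/
theorem isPGroup_two_mulAut_of_isCyclic (K : Type*) [Group K] [Finite K] [IsCyclic K] (j : ℕ)
    (hK : Nat.card K = 2 ^ j) : IsPGroup 2 (MulAut K) := by
  have h1 : Nat.card (MulAut K) = Nat.totient (2 ^ j) := by rw [IsCyclic.card_mulAut K, hK]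
  rcases Nat.eq_zero_or_pos j with h0 | hpos
  · rw [h0, pow_zero, Nat.totient_one] at h1
    exact IsPGroup.of_card (n := 0) (by rw [h1, pow_zero])
  · rw [Nat.totient_prime_pow Nat.prime_two hpos] at h1
    exact IsPGroup.of_card (n := j - 1) (by rw [h1]; norm_num)

/-- a noncyclic group of order `4` all of whose elements square to one -/
theorem isKleinFour_of_card_four_of_sq {K : Type*} [Group K] (h4 : Nat.card K = 4)
    (hsq : ∀ g : K, g * g = 1) : IsKleinFour K where
  card_four := h4
  exponent_two := by
    have h1 : Monoid.exponent K ∣ 2 :=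
      Monoid.exponent_dvd_of_forall_pow_eq_one (fun g => by rw [sq]; exact hsq g)
    rcases (Nat.dvd_prime Nat.prime_two).mp h1 with h | h
    · exfalso
      have hsub : Subsingleton K := Monoid.exp_eq_one_iff.mp h
      have : Nat.card K ≤ 1 := Finite.card_le_one_iff_subsingleton.mpr hsub
      omega
    · exact h

namespace QD

variable {S : Type*} [Group S] {k : ℕ} {x y : S}

/-- The local analysis of a quasi-dihedral group: every subgroup has a `2`-group of
automorphisms, or is a four-group, or is quaternion of order `8`. -/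
theorem sub_trichotomy (h : QD S k x y) [Finite S] (K : Subgroup S) :
    IsPGroup 2 (MulAut K) ∨ IsKleinFour K ∨ Nonempty (K ≃* QuaternionGroup 2) := by
  have hw := w_pos k
  have hSp : IsPGroup 2 S := IsPGroup.of_card h.card
  have hKp : IsPGroup 2 K := hSp.to_subgroup K
  obtain ⟨jK, hjK⟩ : ∃ j, Nat.card K = 2 ^ j := by
    have := K.card_subgroup_dvd_card
    rw [h.card] at this
    obtain ⟨j, _, hj⟩ := (Nat.dvd_prime_pow Nat.prime_two).mp this
    exact ⟨j, hj⟩
  obtain ⟨d, hd8, hx, hy⟩ := h.subgroup_desc K
  rcases hy with hy | ⟨b, hdb, hy⟩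
  · -- K is cyclic
    left
    have hle : K ≤ Subgroup.zpowers x := by
      intro g hg
      rcases h.cases g with ⟨a, rfl⟩ | ⟨a, rfl⟩
      · exact Subgroup.zpow_mem_zpowers x a
      · exact absurd hg (hy a)
    have : IsCyclic K := Subgroup.isCyclic_of_le hle
    exact isPGroup_two_mulAut_of_isCyclic K jK hjK
  · -- the generators
    have hc0mem : x ^ d ∈ K := (hx d).mpr (dvd_refl d)
    have hb0mem : x ^ b * y ∈ K := (hy b).mpr (by simp)
    set c₀ : K := ⟨x ^ d, hc0mem⟩ with hc₀
    set b₀ : K := ⟨x ^ b * y, hb0mem⟩ with hb₀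
    have hc0pow : ∀ j : ℤ, ((c₀ ^ j : K) : S) = x ^ (d * j) := by
      intro j
      rw [Subgroup.coe_zpow, hc₀, zpow_mul]
    have hmemz : ∀ g : K, g ∈ Subgroup.zpowers c₀ ↔ ∃ c : ℤ, (g : S) = x ^ c := by
      intro g
      constructor
      · rintro ⟨j, rfl⟩
        exact ⟨d * j, hc0pow j⟩
      · rintro ⟨c, hc⟩
        have hd : d ∣ c := (hx c).mp (hc ▸ g.2)
        obtain ⟨j, rfl⟩ := hd
        refine ⟨j, ?_⟩
        apply Subtype.ext
        show ((c₀ ^ j : K) : S) = g
        rw [hc0pow j, hc]
    have hb0not : b₀ ∉ Subgroup.zpowers c₀ := by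
      rw [hmemz]
      rintro ⟨c, hc⟩
      exact h.xy_ne_x b c hc
    have hidx : (Subgroup.zpowers c₀).index = 2 := by
      rw [Subgroup.index_eq_two_iff_exists_notMem_and]
      refine ⟨b₀, hb0not, ?_⟩
      intro g
      rcases h.cases (g : S) with ⟨a, ha⟩ | ⟨a, ha⟩
      · right; exact (hmemz g).mpr ⟨a, ha⟩
      · left
        rw [hmemz]
        refine ⟨a + (4 * 2 ^ k - 1) * b, ?_⟩
        rw [Subgroup.coe_mul, ha, hb₀, h.mul_xy_xy]
    have hcard : Nat.card K = 2 * orderOf c₀ := by
      have := (Subgroup.zpowers c₀).card_mul_index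
      rw [hidx, Nat.card_zpowers] at this
      omega
    obtain ⟨j0, hj0⟩ := (IsPGroup.iff_orderOf.mp hKp) c₀
    have houtside : ∀ g : K, g ∉ Subgroup.zpowers c₀ → ∃ c : ℤ, d ∣ c - b ∧ (g : S) = x ^ c * y := by
      intro g hg
      rcases h.cases (g : S) with ⟨a, ha⟩ | ⟨a, ha⟩
      · exact absurd ((hmemz g).mpr ⟨a, ha⟩) hg
      · exact ⟨a, (hy a).mp (ha ▸ g.2), ha⟩
    have hc0nat : ∀ m : ℕ, c₀ ^ m = 1 ↔ (8 * 2 ^ k : ℤ) ∣ d * m := by
      intro m
      rw [← zpow_natCast, ← h.zpow_eq_one, ← hc0pow]
      constructor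
      · intro hh; rw [hh]; rfl
      · intro hh; exact Subtype.ext hh
    by_cases h4 : c₀ ^ 4 = 1
    · by_cases h2 : c₀ ^ 2 = 1
      · -- small case: order 2 or 4
        have hord : orderOf c₀ ∣ 2 := orderOf_dvd_of_pow_eq_one h2
        by_cases hcyc : IsCyclic K
        · left
          exact isPGroup_two_mulAut_of_isCyclic K jK hjK
        · right; left
          have h8d : (8 * 2 ^ k : ℤ) ∣ d * 2 := by
            have := (hc0nat 2).mp h2
            simpa using this
          have hd4 : (4 * 2 ^ k : ℤ) ∣ d := by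
            obtain ⟨t, ht⟩ := h8d
            exact ⟨t, by linarith⟩
          have hd2 : (2 : ℤ) ∣ d := dvd_trans ⟨2 * 2 ^ k, by ring⟩ hd4
          have hK4 : Nat.card K = 4 := by
            rcases (Nat.dvd_prime Nat.prime_two).mp hord with h1 | h1
            · exfalso
              apply hcyc
              have hK2 : Nat.card K = 2 := by rw [hcard, h1]
              have hf2 : Fact (Nat.Prime 2) := ⟨Nat.prime_two⟩
              exact isCyclic_of_prime_card hK2
            · rw [hcard, h1]
          apply isKleinFour_of_card_four_of_sq hK4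
          intro g
          by_cases hg : g ∈ Subgroup.zpowers c₀
          · obtain ⟨j, rfl⟩ := hg
            rw [← zpow_add, ← two_mul, zpow_mul, zpow_ofNat, h2, one_zpow]
          · obtain ⟨c, hdc, hgc⟩ := houtside g hg
            -- if c is odd, then g has order 4 and K is cyclic
            by_cases hceven : (2 : ℤ) ∣ c
            · apply Subtype.ext
              rw [Subgroup.coe_mul, hgc, h.sq_xy, Subgroup.coe_one, h.zpow_eq_one]
              obtain ⟨c', rfl⟩ := hceven
              exact ⟨c', by ring⟩
            · exfalso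
              apply hcyc
              have hg2 : g ^ 2 ≠ 1 := by
                intro hh
                have := congrArg Subtype.val hh
                rw [sq, Subgroup.coe_mul, hgc, h.sq_xy, Subgroup.coe_one, h.zpow_eq_one] at this
                obtain ⟨t, ht⟩ := this
                apply hceven
                have h2k : (2 : ℤ) ^ k ≠ 0 := by positivity
                have : (4 * 2 ^ k : ℤ) * c = (4 * 2 ^ k) * (2 * t) := by linarith
                exact ⟨t, mul_left_cancel₀ (by positivity) this⟩
              have hg4 : g ^ 4 = 1 := by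
                apply Subtype.ext
                have : g ^ 4 = (g * g) * (g * g) := by rw [← sq, ← sq, ← pow_mul]
                rw [this, Subgroup.coe_mul, Subgroup.coe_mul, hgc, h.sq_xy, ← zpow_add,
                  Subgroup.coe_one, h.zpow_eq_one]
                exact ⟨c, by ring⟩
              have hog : orderOf g = 4 := by
                have := orderOf_eq_prime_pow (p := 2) (n := 1) (x := g) (by simpa using hg2) (by simpa using hg4)
                simpa using this
              exact isCyclic_of_orderOf_eq_card g (by rw [hog, hK4])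
      · -- order 4
        have hord4 : orderOf c₀ = 4 := by
          have := orderOf_eq_prime_pow (p := 2) (n := 1) (x := c₀) (by simpa using h2) (by simpa using h4)
          simpa using this
        have h8d : (8 * 2 ^ k : ℤ) ∣ d * 4 := by
          have := (hc0nat 4).mp h4
          simpa using this
        have hd2w : (2 * 2 ^ k : ℤ) ∣ d := by
          obtain ⟨t, ht⟩ := h8d
          exact ⟨t, by linarith⟩
        have hd2 : (2 : ℤ) ∣ d := dvd_trans ⟨2 ^ k, by ring⟩ hd2w
        have hnd4 : ¬ (4 * 2 ^ k : ℤ) ∣ d := by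
          intro hh
          apply h2
          rw [hc0nat 2]
          obtain ⟨t, ht⟩ := hh
          exact ⟨t, by rw [ht]; push_cast; ring⟩
        by_cases hbeven : (2 : ℤ) ∣ b
        · left
          refine isPGroup_two_mulAut_of_cyclic_index_two c₀ 2 2 (by norm_num) (by rw [hord4]; norm_num)
            hidx ?_ h2
          intro g hg
          obtain ⟨c, hdc, hgc⟩ := houtside g hg
          have hceven : (2 : ℤ) ∣ c := by
            have := (Int.dvd_add_right (dvd_trans hd2 hdc)).mpr hbeven
            rwa [sub_add_cancel] at this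
          apply Subtype.ext
          rw [sq, Subgroup.coe_mul, hgc, h.sq_xy, Subgroup.coe_one, h.zpow_eq_one]
          obtain ⟨c', rfl⟩ := hceven
          exact ⟨c', by ring⟩
        · right; right
          have hK8 : Nat.card K = 4 * 2 := by rw [hcard, hord4]
          obtain ⟨t, ht⟩ := hd2w
          have htodd : ¬ (2 : ℤ) ∣ t := by
            rintro ⟨t', rfl⟩
            apply hnd4
            exact ⟨t', by rw [ht]; ring⟩
          obtain ⟨t', rfl⟩ : ∃ t', t = 2 * t' + 1 := by
            rcases Int.even_or_odd' t with ⟨t', h1 | h1⟩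
            · exact absurd ⟨t', h1⟩ htodd
            · exact ⟨t', h1⟩
          obtain ⟨b', rfl⟩ : ∃ b', b = 2 * b' + 1 := by
            rcases Int.even_or_odd' b with ⟨b', h1 | h1⟩
            · exact absurd ⟨b', h1⟩ hbeven
            · exact ⟨b', h1⟩
          refine nonempty_mulEquiv_quaternion 2 c₀ b₀ hK8 (by rw [hord4]) ?_ ?_ hb0not
          · apply Subtype.ext
            rw [Subgroup.coe_mul, hb₀, h.sq_xy, Subgroup.coe_pow, hc₀, ← zpow_natCast, ← zpow_mul,
              h.zpow_eq_zpow]
            refine ⟨b' - t', ?_⟩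
            rw [ht]; push_cast; ring
          · apply Subtype.ext
            rw [Subgroup.coe_mul, Subgroup.coe_mul, Subgroup.coe_inv, Subgroup.coe_inv, hb₀, hc₀,
              h.conj_x_by_xy, ← zpow_neg, h.zpow_eq_zpow]
            refine ⟨(2 * t' + 1) * 2 ^ k, ?_⟩
            rw [ht]; ring
    · -- large cyclic part
      left
      have hj1 : 1 ≤ j0 := by
        by_contra hlt
        have : j0 = 0 := by omega
        rw [this, pow_zero, orderOf_eq_one_iff] at hj0
        apply h4; rw [hj0, one_pow]
      refine isPGroup_two_mulAut_of_cyclic_index_two c₀ j0 4 hj1 hj0 hidx ?_ h4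
      intro g hg
      obtain ⟨c, hdc, hgc⟩ := houtside g hg
      apply Subtype.ext
      have : g ^ 4 = (g * g) * (g * g) := by rw [← sq, ← sq, ← pow_mul]
      rw [this, Subgroup.coe_mul, Subgroup.coe_mul, hgc, h.sq_xy, ← zpow_add,
        Subgroup.coe_one, h.zpow_eq_one]
      exact ⟨c, by ring⟩

end QD

end Cfsg.Agent.Lib.Helper59
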