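import Mathlib

set_option autoImplicit false

namespace Cfsg.Agent.Lib.Helper59

/-- `|H| * |K| ≤ |G| * |H ⊓ K|` for subgroups of a finite group. -/
theorem card_mul_card_le {G : Type*} [Group G] [Finite G] (H K : Subgroup G) :
    Nat.card H * Nat.card K ≤ Nat.card G * Nat.card ↥(H ⊓ K) := by
  classical
  -- injection H × K → G × (H ⊓ K)
  have hex : ∀ g : G, ∃ p : H × K, (∃ h : H, ∃ k : K, (h : G) * k = g) → (p.1 : G) * p.2 = g := by
    intro g
    by_cases hg : ∃ h : H, ∃ k : K, (h : G) * k = g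
    · obtain ⟨h, k, hk⟩ := hg
      exact ⟨(h, k), fun _ => hk⟩
    · exact ⟨(1, 1), fun h => absurd h hg⟩
  choose r hr using hex
  have key : ∀ h : H, ∀ k : K, ((r ((h : G) * k)).1 : G)⁻¹ * h ∈ H ⊓ K := by
    intro h k
    have h1 := hr ((h : G) * k) ⟨h, k, rfl⟩
    refine ⟨H.mul_mem (H.inv_mem (r _).1.2) h.2, ?_⟩
    have : ((r ((h : G) * k)).1 : G)⁻¹ * h = (r ((h : G) * k)).2 * (k : G)⁻¹ := by
      rw [inv_mul_eq_iff_eq_mul, ← mul_assoc, h1]; group
    rw [this]
    exact K.mul_mem (r _).2.2 (K.inv_mem k.2)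
  let f : H × K → G × ↥(H ⊓ K) := fun p => ((p.1 : G) * p.2, ⟨_, key p.1 p.2⟩)
  have hf : Function.Injective f := by
    rintro ⟨h, k⟩ ⟨h', k'⟩ heq
    simp only [f, Prod.mk.injEq, Subtype.mk.injEq] at heq
    obtain ⟨h1, h2⟩ := heq
    rw [h1] at h2
    have h3 : (h : G) = h' := mul_left_cancel h2
    have h4 : (k : G) = k' := by rw [h3] at h1; exact mul_left_cancel h1
    exact Prod.ext (Subtype.ext h3) (Subtype.ext h4)
  have := Nat.card_le_card_of_injective f hf
  rwa [Nat.card_prod, Nat.card_prod] at this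

/-- If `G = H K` then `|G| * |H ⊓ K| ≤ |H| * |K|`. -/
theorem card_mul_card_ge {G : Type*} [Group G] [Finite G] (H K : Subgroup G)
    (hHK : ∀ g : G, ∃ h ∈ H, ∃ k ∈ K, g = h * k) :
    Nat.card G * Nat.card ↥(H ⊓ K) ≤ Nat.card H * Nat.card K := by
  classical
  choose a ha b hb hab using hHK
  let f : G × ↥(H ⊓ K) → H × K := fun p =>
    (⟨a p.1 * p.2, H.mul_mem (ha _) p.2.2.1⟩, ⟨(p.2 : G)⁻¹ * b p.1, K.mul_mem (K.inv_mem p.2.2.2) (hb _)⟩)
  have hf : Function.Injective f := by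
    rintro ⟨g, d⟩ ⟨g', d'⟩ heq
    simp only [f, Prod.mk.injEq, Subtype.mk.injEq] at heq
    obtain ⟨h1, h2⟩ := heq
    have hg : g = g' := by
      rw [hab g, hab g']
      calc a g * b g = (a g * d) * ((d : G)⁻¹ * b g) := by group
        _ = (a g' * d') * ((d' : G)⁻¹ * b g') := by rw [h1, h2]
        _ = a g' * b g' := by group
    subst hg
    have hd : (d : G) = d' := mul_left_cancel h1
    exact Prod.ext rfl (Subtype.ext hd)
  have := Nat.card_le_card_of_injective f hf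
  rwa [Nat.card_prod, Nat.card_prod] at this

/-- If `G = H K` then `|G| * |H ⊓ K| = |H| * |K|`. -/
theorem card_mul_card_eq {G : Type*} [Group G] [Finite G] (H K : Subgroup G)
    (hHK : ∀ g : G, ∃ h ∈ H, ∃ k ∈ K, g = h * k) :
    Nat.card G * Nat.card ↥(H ⊓ K) = Nat.card H * Nat.card K :=
  le_antisymm (card_mul_card_ge H K hHK) (card_mul_card_le H K)

end Cfsg.Agent.Lib.Helper59
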