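import Cfsg.Agent.Lib.Helper59.QDSub
import Cfsg.Agent.Lib.Helper59.Basic

set_option autoImplicit false

namespace Cfsg.Agent.Lib.Helper59

namespace QD

variable {S : Type*} [Group S] {k : ℕ} {x y : S}

/-- conjugating `x^b y` by `x^c y` -/
theorem conj_xy_by_xy (h : QD S k x y) (b c : ℤ) :
    (x ^ c * y) * (x ^ b * y) * (x ^ c * y)⁻¹ = x ^ ((4 * 2 ^ k - 1) * b + (2 - 4 * 2 ^ k) * c) * y := by
  rw [h.mul_xy_xy, h.inv_xy, mul_x_xy, h.xy_eq_xy]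
  exact ⟨0, by ring⟩

/-- `4w ∣ (2w-1) a → 4w ∣ a`. -/
theorem dvd_of_dvd_odd_mul (k : ℕ) (a : ℤ) (h : (4 * 2 ^ k : ℤ) ∣ (2 * 2 ^ k - 1) * a) :
    (4 * 2 ^ k : ℤ) ∣ a := by
  obtain ⟨c, hc⟩ := h
  refine ⟨2 ^ k * a - (2 * 2 ^ k + 1) * c, ?_⟩
  have : (2 * 2 ^ k + 1) * ((2 * 2 ^ k - 1) * a) = (2 * 2 ^ k + 1) * (4 * 2 ^ k * c) := by rw [hc]
  linarith [this]

/-- `4w ∣ 2 a → 2w ∣ a`. -/
theorem half_dvd (k : ℕ) (a : ℤ) (h : (4 * 2 ^ k : ℤ) ∣ 2 * a) : (2 * 2 ^ k : ℤ) ∣ a := by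
  obtain ⟨c, hc⟩ := h
  exact ⟨c, by linarith⟩

/-- the subgroup `⟨x⟩ ⊓ K` of a subgroup of order `m` has order at least `m/2` -/
theorem two_mul_card_inf_ge (h : QD S k x y) [Finite S] (K : Subgroup S) :
    Nat.card K ≤ 2 * Nat.card ↥(K ⊓ Subgroup.zpowers x) := by
  have h1 := card_mul_card_le K (Subgroup.zpowers x)
  rw [Nat.card_zpowers, h.hx, h.card] at h1
  have h2 : 2 ^ (k + 4) = 2 ^ (k + 3) * 2 := by ring
  rw [h2] at h1
  have h3 : Nat.card K * 2 ^ (k + 3) ≤ (2 * Nat.card ↥(K ⊓ Subgroup.zpowers x)) * 2 ^ (k + 3) := by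
    calc Nat.card K * 2 ^ (k + 3) ≤ 2 ^ (k + 3) * 2 * Nat.card ↥(K ⊓ Subgroup.zpowers x) := h1
      _ = (2 * Nat.card ↥(K ⊓ Subgroup.zpowers x)) * 2 ^ (k + 3) := by ring
  exact Nat.le_of_mul_le_mul_right h3 (by positivity)

/-- Description of the subgroups of order 4 and exponent 2. -/
theorem klein_desc (h : QD S k x y) [Finite S] (T : Subgroup S) (h4 : Nat.card T = 4)
    (h2 : ∀ t ∈ T, t * t = 1) :
    ∃ b : ℤ, (2 : ℤ) ∣ b ∧ (∀ c : ℤ, x ^ c ∈ T ↔ (4 * 2 ^ k : ℤ) ∣ c) ∧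
      (∀ c : ℤ, x ^ c * y ∈ T ↔ (4 * 2 ^ k : ℤ) ∣ c - b) := by
  obtain ⟨d, hd8, hx, hy⟩ := h.subgroup_desc T
  -- z ∈ T
  have hz : x ^ (4 * 2 ^ k : ℤ) ∈ T := by
    have h1 := h.two_mul_card_inf_ge T
    rw [h4] at h1
    have h3 : (T ⊓ Subgroup.zpowers x) ≠ ⊥ := by
      intro hbot
      rw [hbot, Subgroup.card_bot] at h1
      omega
    obtain ⟨g, hg, hg1⟩ := (Subgroup.bot_or_exists_ne_one _).resolve_left h3
    obtain ⟨hgT, hgx⟩ := Subgroup.mem_inf.mp hg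
    obtain ⟨a, rfl⟩ := Subgroup.mem_zpowers_iff.mp hgx
    rcases h.invol_cases _ (h2 _ hgT) hg1 with heq | ⟨j, heq⟩
    · rw [← heq]; exact hgT
    · exact absurd heq.symm (h.xy_ne_x _ _)
  have hd4 : d ∣ 4 * 2 ^ k := (hx _).mp hz
  have h4d : (4 * 2 ^ k : ℤ) ∣ d := by
    have h1 : x ^ d ∈ T := (hx d).mpr dvd_rfl
    have h3 := h2 _ h1
    rw [← zpow_add, h.zpow_eq_one] at h3
    obtain ⟨c, hc⟩ := h3
    exact ⟨c, by linarith⟩
  have hx' : ∀ c : ℤ, x ^ c ∈ T ↔ (4 * 2 ^ k : ℤ) ∣ c := by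
    intro c; rw [hx]
    exact ⟨fun hc => dvd_trans h4d hc, fun hc => dvd_trans hd4 hc⟩
  rcases hy with hy | ⟨b, hdb, hy⟩
  · -- T ≤ ⟨x⟩ is impossible
    exfalso
    have hle : T ≤ Subgroup.zpowers x := by
      intro g hg
      rcases h.cases g with ⟨a, rfl⟩ | ⟨a, rfl⟩
      · exact Subgroup.zpow_mem_zpowers x a
      · exact absurd hg (hy a)
    have : IsCyclic T := Subgroup.isCyclic_of_le hle
    have h5 : Monoid.exponent T = Nat.card T := IsCyclic.exponent_eq_card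
    have h6 : Monoid.exponent T ∣ 2 := by
      apply Monoid.exponent_dvd_of_forall_pow_eq_one
      intro t
      rw [sq]
      exact Subtype.ext (h2 t.1 t.2)
    rw [h5, h4] at h6
    have := Nat.le_of_dvd (by norm_num) h6
    omega
  · refine ⟨b, ?_, hx', ?_⟩
    · have h1 : x ^ b * y ∈ T := (hy b).mpr (by simp)
      have h3 := h2 _ h1
      rw [h.sq_xy, h.zpow_eq_one] at h3
      obtain ⟨c, hc⟩ := h3
      refine ⟨c, ?_⟩
      have : (4 * 2 ^ k : ℤ) * b = (4 * 2 ^ k) * (2 * c) := by linarith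
      exact mul_left_cancel₀ (by positivity) this
    · intro c; rw [hy]
      exact ⟨fun hc => dvd_trans h4d hc, fun hc => dvd_trans hd4 hc⟩

end QD

end Cfsg.Agent.Lib.Helper59
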