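import Cfsg.Agent.Lib.Helper59.QDKlein

set_option autoImplicit false

namespace Cfsg.Agent.Lib.Helper59

theorem q8_pow_four : ∀ g : QuaternionGroup 2, g * g * (g * g) = 1 := by decide

theorem q8_unique_invol : ∀ g g' : QuaternionGroup 2, g * g = 1 → g' * g' = 1 → g ≠ 1 → g' ≠ 1 → g = g' := by
  decide

theorem q8_card : Nat.card (QuaternionGroup 2) = 8 := by
  rw [Nat.card_eq_fintype_card, QuaternionGroup.card]

namespace QD

variable {S : Type*} [Group S] {k : ℕ} {x y : S}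

/-- elements `x^a` with `4w ∣ a` are central -/
theorem central_of_dvd (h : QD S k x y) [Finite S] (a : ℤ) (ha : (4 * 2 ^ k : ℤ) ∣ a) (g : S) :
    g * x ^ a = x ^ a * g := by
  obtain ⟨f, rfl⟩ := ha
  rcases h.cases g with ⟨c, rfl⟩ | ⟨c, rfl⟩
  · rw [← zpow_add, ← zpow_add, add_comm]
  · rw [h.mul_xy_x, mul_x_xy, h.xy_eq_xy]
    exact ⟨(2 * 2 ^ k - 1) * f, by ring⟩

/-- Description of the quaternion subgroups of order 8. -/
theorem quat_desc (h : QD S k x y) [Finite S] (Q : Subgroup S) (e : Q ≃* QuaternionGroup 2) :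
    ∃ f : ℤ, (∀ c : ℤ, x ^ c ∈ Q ↔ (2 * 2 ^ k : ℤ) ∣ c) ∧
      (∀ c : ℤ, x ^ c * y ∈ Q ↔ (2 * 2 ^ k : ℤ) ∣ c - (2 * f + 1)) := by
  have hcard : Nat.card Q = 8 := by rw [Nat.card_congr e.toEquiv, q8_card]
  have hpow4 : ∀ g ∈ Q, g * g * (g * g) = 1 := by
    intro g hg
    have h1 := q8_pow_four (e ⟨g, hg⟩)
    rw [← map_mul, ← map_mul] at h1
    have h2 := e.injective (h1.trans (map_one e).symm)
    exact congrArg Subtype.val h2
  have huniq : ∀ g ∈ Q, ∀ g' ∈ Q, g * g = 1 → g' * g' = 1 → g ≠ 1 → g' ≠ 1 → g = g' := by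
    intro g hg g' hg' h1 h2 h3 h4
    have := q8_unique_invol (e ⟨g, hg⟩) (e ⟨g', hg'⟩) ?_ ?_ ?_ ?_
    · exact congrArg Subtype.val (e.injective this)
    · rw [← map_mul]; rw [show (⟨g, hg⟩ : Q) * ⟨g, hg⟩ = 1 from Subtype.ext h1, map_one]
    · rw [← map_mul]; rw [show (⟨g', hg'⟩ : Q) * ⟨g', hg'⟩ = 1 from Subtype.ext h2, map_one]
    · intro h5; apply h3
      have := e.injective (h5.trans (map_one e).symm)
      exact congrArg Subtype.val this
    · intro h5; apply h4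
      have := e.injective (h5.trans (map_one e).symm)
      exact congrArg Subtype.val this
  obtain ⟨d, hd8, hx, hy⟩ := h.subgroup_desc Q
  have hexp : ∀ (K : Subgroup S), K ≤ Q → Monoid.exponent K ∣ 4 := by
    intro K hK
    apply Monoid.exponent_dvd_of_forall_pow_eq_one
    intro t
    have := hpow4 t.1 (hK t.2)
    apply Subtype.ext
    simp only [Subgroup.coe_pow, Subgroup.coe_one]
    rw [← this]; simp only [pow_succ, pow_zero, one_mul, mul_assoc]
  -- x^(2w) ∈ Q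
  have hq : x ^ (2 * 2 ^ k : ℤ) ∈ Q := by
    have h1 := h.two_mul_card_inf_ge Q
    rw [hcard] at h1
    have hcyc : IsCyclic ↥(Q ⊓ Subgroup.zpowers x) := Subgroup.isCyclic_of_le inf_le_right
    have h5 : Monoid.exponent ↥(Q ⊓ Subgroup.zpowers x) = Nat.card ↥(Q ⊓ Subgroup.zpowers x) :=
      IsCyclic.exponent_eq_card
    have h6 := hexp (Q ⊓ Subgroup.zpowers x) inf_le_left
    rw [h5] at h6
    have h7 : Nat.card ↥(Q ⊓ Subgroup.zpowers x) = 4 := by
      have := Nat.le_of_dvd (by norm_num) h6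
      omega
    obtain ⟨g, hg⟩ := IsCyclic.exists_ofOrder_eq_natCard (α := ↥(Q ⊓ Subgroup.zpowers x))
    rw [h7] at hg
    obtain ⟨hgQ, hgx⟩ := Subgroup.mem_inf.mp g.2
    obtain ⟨a, ha⟩ := Subgroup.mem_zpowers_iff.mp hgx
    have hord : orderOf (g : S) = 4 := by rw [Subgroup.orderOf_coe]; exact hg
    have h4' : (g : S) * g * (g * g) = 1 := hpow4 _ hgQ
    have h2' : (g : S) * g ≠ 1 := by
      intro h2
      have : (g : S) ^ 2 = 1 := by rw [sq]; exact h2
      have := orderOf_dvd_of_pow_eq_one this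
      rw [hord] at this
      omega
    rcases h.order4_cases _ h4' h2' with heq | heq | ⟨j, heq⟩
    · rw [← heq]; exact hgQ
    · have : x ^ (2 * 2 ^ k : ℤ) = ((g : S))⁻¹ := by
        rw [heq, ← zpow_neg, h.zpow_eq_zpow]; exact ⟨1, by ring⟩
      rw [this]; exact Q.inv_mem hgQ
    · rw [← ha] at heq; exact absurd heq.symm (h.xy_ne_x _ _)
  have hd2 : d ∣ 2 * 2 ^ k := (hx _).mp hq
  have h2d : (2 * 2 ^ k : ℤ) ∣ d := by
    have h1 : x ^ d ∈ Q := (hx d).mpr dvd_rfl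
    have h3 := hpow4 _ h1
    rw [← zpow_add, ← zpow_add, h.zpow_eq_one] at h3
    obtain ⟨c, hc⟩ := h3
    exact ⟨c, by linarith⟩
  have hx' : ∀ c : ℤ, x ^ c ∈ Q ↔ (2 * 2 ^ k : ℤ) ∣ c := by
    intro c; rw [hx]
    exact ⟨fun hc => dvd_trans h2d hc, fun hc => dvd_trans hd2 hc⟩
  rcases hy with hy | ⟨b, hdb, hy⟩
  · exfalso
    have hle : Q ≤ Subgroup.zpowers x := by
      intro g hg
      rcases h.cases g with ⟨a, rfl⟩ | ⟨a, rfl⟩
      · exact Subgroup.zpow_mem_zpowers x a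
      · exact absurd hg (hy a)
    have : IsCyclic Q := Subgroup.isCyclic_of_le hle
    have h5 : Monoid.exponent Q = Nat.card Q := IsCyclic.exponent_eq_card
    have h6 := hexp Q le_rfl
    rw [h5, hcard] at h6
    have := Nat.le_of_dvd (by norm_num) h6
    omega
  · have hy' : ∀ c : ℤ, x ^ c * y ∈ Q ↔ (2 * 2 ^ k : ℤ) ∣ c - b := by
      intro c; rw [hy]
      exact ⟨fun hc => dvd_trans h2d hc, fun hc => dvd_trans hd2 hc⟩
    -- b is odd
    rcases Int.even_or_odd' b with ⟨f, rfl | rfl⟩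
    · exfalso
      have h1 : x ^ (2 * f) * y ∈ Q := (hy' _).mpr (by simp)
      have hz : x ^ (4 * 2 ^ k : ℤ) ∈ Q := (hx' _).mpr ⟨2, by ring⟩
      have h3 : (x ^ (2 * f) * y) * (x ^ (2 * f) * y) = 1 := by
        rw [h.sq_xy, h.zpow_eq_one]; exact ⟨f, by ring⟩
      have h4 : x ^ (2 * f) * y ≠ 1 := by
        intro h4
        have : x ^ (2 * f) * y = x ^ (0 : ℤ) := by rw [h4]; simp
        exact h.xy_ne_x _ _ this
      have := huniq _ h1 _ hz h3 h.z_sq h4 h.z_ne_one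
      exact h.xy_ne_x _ _ this
    · exact ⟨f, hx', hy'⟩

end QD

end Cfsg.Agent.Lib.Helper59
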