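import Mathlib
import Cfsg.Agent.Lib.Helper59.Fusion
import Cfsg.Agent.Lib.Helper59.QDLocal
import Cfsg.Agent.Lib.Helper59.AutIndex
import Cfsg.Agent.Lib.Helper59.QDBridge
import Cfsg.Agent.S1203

set_option autoImplicit false

namespace Cfsg.Agent.Lib.Helper59

variable {G : Type*} [Group G]

/-- `N_G(T)` acts on `T` through elements of `S`. -/
def SCtrl (S T : Subgroup G) : Prop :=
  ∀ n ∈ Subgroup.normalizer (T : Set G), ∃ s ∈ S, ∀ a ∈ T, n * a * n⁻¹ = s * a * s⁻¹

theorem mem_map_conj (T : Subgroup G) (s h : G) :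
    h ∈ T.map (MulAut.conj s).toMonoidHom ↔ s⁻¹ * h * s ∈ T := by
  constructor
  · rintro ⟨t, ht, rfl⟩
    simp only [MulEquiv.toMonoidHom_eq_coe, MonoidHom.coe_coe, MulAut.conj_apply]
    have : s⁻¹ * (s * t * s⁻¹) * s = t := by group
    rw [this]; exact ht
  · intro hmem
    refine ⟨s⁻¹ * h * s, hmem, ?_⟩
    simp only [MulEquiv.toMonoidHom_eq_coe, MonoidHom.coe_coe, MulAut.conj_apply]
    group

theorem SCtrl.conj {S T : Subgroup G} (hT : SCtrl S T) (s : G) (hs : s ∈ S) :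
    SCtrl S (T.map (MulAut.conj s).toMonoidHom) := by
  intro n hn
  rw [Subgroup.mem_normalizer_iff] at hn
  have hn' : s⁻¹ * n * s ∈ Subgroup.normalizer (T : Set G) := by
    rw [Subgroup.mem_normalizer_iff]
    intro t
    have h1 := hn (s * t * s⁻¹)
    rw [mem_map_conj, mem_map_conj] at h1
    have e1 : s⁻¹ * (s * t * s⁻¹) * s = t := by group
    have e2 : s⁻¹ * (n * (s * t * s⁻¹) * n⁻¹) * s = s⁻¹ * n * s * t * (s⁻¹ * n * s)⁻¹ := by group
    rw [e1, e2] at h1
    exact h1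
  obtain ⟨s₁, hs₁, hact⟩ := hT _ hn'
  refine ⟨s * s₁ * s⁻¹, S.mul_mem (S.mul_mem hs hs₁) (S.inv_mem hs), ?_⟩
  intro a ha
  rw [mem_map_conj] at ha
  have := hact _ ha
  have e1 : n * a * n⁻¹ = s * (s⁻¹ * n * s * (s⁻¹ * a * s) * (s⁻¹ * n * s)⁻¹) * s⁻¹ := by group
  rw [e1, this]
  group

theorem eq_map_conj_of_subgroupOf (S T H : Subgroup G) (hTS : T ≤ S) (hHS : H ≤ S) (s : S)
    (h : (T.subgroupOf S).map (MulAut.conj s).toMonoidHom = H.subgroupOf S) :
    H = T.map (MulAut.conj (s : G)).toMonoidHom := by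
  ext g
  constructor
  · intro hg
    have h1 : (⟨g, hHS hg⟩ : S) ∈ H.subgroupOf S := Subgroup.mem_subgroupOf.mpr hg
    rw [← h, mem_map_conj, Subgroup.mem_subgroupOf] at h1
    rw [mem_map_conj]
    exact h1
  · intro hg
    rw [mem_map_conj] at hg
    have hgS : g ∈ S := by
      have : (s : G) * ((s : G)⁻¹ * g * s) * (s : G)⁻¹ ∈ S :=
        S.mul_mem (S.mul_mem s.2 (hTS hg)) (S.inv_mem s.2)
      have e : (s : G) * ((s : G)⁻¹ * g * s) * (s : G)⁻¹ = g := by group
      rwa [e] at this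
    have h1 : (⟨g, hgS⟩ : S) ∈ (T.subgroupOf S).map (MulAut.conj s).toMonoidHom := by
      rw [mem_map_conj, Subgroup.mem_subgroupOf]
      exact hg
    rw [h] at h1
    exact Subgroup.mem_subgroupOf.mp h1

section QDSylow

variable [Finite G] (S : Sylow 2 G) (hS : Cfsg.IsQuasiDihedral (S : Subgroup G))

include hS

theorem exists_mem_normalizer_notMem_centralizer (T : Subgroup G) (hT : IsKleinFour T)
    (hTS : T ≤ S) :
    ∃ g ∈ (S : Subgroup G), g ∈ Subgroup.normalizer (T : Set G) ∧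
      g ∉ Subgroup.centralizer (T : Set G) := by
  have eT : T.subgroupOf (S : Subgroup G) ≃* T := Subgroup.subgroupOfEquivOfLe hTS
  have hT' : IsKleinFour (T.subgroupOf (S : Subgroup G)) := Cfsg.Agent.S1203.isKleinFour_of_mulEquiv eT
  obtain ⟨hC, hN⟩ := (Cfsg.Agent.S1190.result hS).2 (T.subgroupOf (S : Subgroup G)) hT'
  obtain ⟨g', hg'N, hg'T⟩ := Cfsg.Agent.S1203.exists_notMem_of_relIndex_two _ hN
  have hgN : (g' : G) ∈ Subgroup.normalizer (T : Set G) :=
    Cfsg.Agent.S1203.val_mem_normalizer _ T hTS g' hg'N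
  refine ⟨g', g'.2, hgN, ?_⟩
  intro hc
  apply hg'T
  rw [← hC, Subgroup.mem_centralizer_iff]
  intro t ht
  apply Subtype.ext
  exact (Subgroup.mem_centralizer_iff.mp hc) t (Subgroup.mem_subgroupOf.mp ht)

theorem exists_mem_normalizer_outHom_ne_one (Q : Subgroup G) (hQS : Q ≤ S)
    (eQ : Q ≃* QuaternionGroup 2) :
    ∃ g ∈ (S : Subgroup G), ∃ hg : g ∈ Subgroup.normalizer (Q : Set G), outHom Q ⟨g, hg⟩ ≠ 1 := by
  have eQ' : Q.subgroupOf (S : Subgroup G) ≃* QuaternionGroup 2 :=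
    (Subgroup.subgroupOfEquivOfLe hQS).trans eQ
  obtain ⟨hC, hN⟩ := (Cfsg.Agent.S1191.result hS).2 (Q.subgroupOf (S : Subgroup G)) ⟨eQ'⟩
  obtain ⟨g', hg'N, hg'Q⟩ := Cfsg.Agent.S1203.exists_notMem_of_relIndex_two _ hN
  have hgN : (g' : G) ∈ Subgroup.normalizer (Q : Set G) :=
    Cfsg.Agent.S1203.val_mem_normalizer _ Q hQS g' hg'N
  refine ⟨g', g'.2, hgN, ?_⟩
  intro h1
  obtain ⟨q, hq⟩ := exists_of_outHom_eq_one Q ⟨g', hgN⟩ h1
  apply hg'Q
  have hqS : (q : G) ∈ (S : Subgroup G) := hQS q.2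
  have hmem : (⟨(q : G), hqS⟩⁻¹ * g' : (S : Subgroup G)) ∈
      Subgroup.centralizer ((Q.subgroupOf (S : Subgroup G) : Subgroup (S : Subgroup G)) : Set (S : Subgroup G)) := by
    rw [Subgroup.mem_centralizer_iff]
    intro t ht
    apply Subtype.ext
    exact (Subgroup.mem_centralizer_iff.mp hq) t (Subgroup.mem_subgroupOf.mp ht)
  rw [hC] at hmem
  obtain ⟨z, _, hz⟩ := Subgroup.mem_map.mp hmem
  have hzQ : (⟨(q : G), hqS⟩⁻¹ * g' : (S : Subgroup G)) ∈ Q.subgroupOf (S : Subgroup G) := by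
    rw [← hz]; exact z.2
  have hqQ : (⟨(q : G), hqS⟩ : (S : Subgroup G)) ∈ Q.subgroupOf (S : Subgroup G) :=
    Subgroup.mem_subgroupOf.mpr q.2
  have := Subgroup.mul_mem _ hqQ hzQ
  rwa [mul_inv_cancel_left] at this

/-- If `|N(T):C(T)| = 2` then every four-subgroup of `S` has its automizer induced by `S`. -/
theorem klein_sctrl (T : Subgroup G) (hT : IsKleinFour T) (hTS : T ≤ S)
    (h₁ : (Subgroup.centralizer (T : Set G)).relIndex (Subgroup.normalizer (T : Set G)) = 2)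
    (H : Subgroup G) (hHS : H ≤ S) (hH : IsKleinFour H) : SCtrl (S : Subgroup G) H := by
  -- first for `T` itself
  have hTc : SCtrl (S : Subgroup G) T := by
    obtain ⟨g, hgS, hgN, hgC⟩ := exists_mem_normalizer_notMem_centralizer S hS T hT hTS
    intro n hn
    by_cases hnC : n ∈ Subgroup.centralizer (T : Set G)
    · refine ⟨1, Subgroup.one_mem _, ?_⟩
      intro a ha
      have := (Subgroup.mem_centralizer_iff.mp hnC) a ha
      rw [one_mul, inv_one, mul_one, ← this]; group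
    · refine ⟨g, hgS, ?_⟩
      have hidx : ((Subgroup.centralizer (T : Set G)).subgroupOf (Subgroup.normalizer (T : Set G))).index = 2 := h₁
      have hmem : (⟨n, hn⟩ : Subgroup.normalizer (T : Set G)) * (⟨g, hgN⟩ : Subgroup.normalizer (T : Set G))⁻¹ ∈
          (Subgroup.centralizer (T : Set G)).subgroupOf (Subgroup.normalizer (T : Set G)) := by
        rw [Subgroup.mul_mem_iff_of_index_two hidx, Subgroup.inv_mem_iff]
        constructor
        · intro h; exact absurd (Subgroup.mem_subgroupOf.mp h) hnC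
        · intro h; exact absurd (Subgroup.mem_subgroupOf.mp h) hgC
      have hc : n * g⁻¹ ∈ Subgroup.centralizer (T : Set G) := Subgroup.mem_subgroupOf.mp hmem
      intro a ha
      have hga : g * a * g⁻¹ ∈ T := ((Subgroup.mem_normalizer_iff.mp hgN) a).mp ha
      have := (Subgroup.mem_centralizer_iff.mp hc) _ hga
      have e1 : n * a * n⁻¹ = (n * g⁻¹) * (g * a * g⁻¹) * (n * g⁻¹)⁻¹ := by group
      rw [e1, ← this]; group
  -- then by conjugacy
  have eT : T.subgroupOf (S : Subgroup G) ≃* T := Subgroup.subgroupOfEquivOfLe hTS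
  have hT' : IsKleinFour (T.subgroupOf (S : Subgroup G)) := Cfsg.Agent.S1203.isKleinFour_of_mulEquiv eT
  have eH : H.subgroupOf (S : Subgroup G) ≃* H := Subgroup.subgroupOfEquivOfLe hHS
  have hH' : IsKleinFour (H.subgroupOf (S : Subgroup G)) := Cfsg.Agent.S1203.isKleinFour_of_mulEquiv eH
  obtain ⟨s, hs⟩ := (Cfsg.Agent.S1190.result hS).1 _ _ hT' hH'
  rw [eq_map_conj_of_subgroupOf (S : Subgroup G) T H hTS hHS s hs]
  exact hTc.conj s s.2

/-- If `|N(Q):QC(Q)| = 2` then every quaternion subgroup of `S` has its automizer induced by `S`. -/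
theorem quat_sctrl (Q : Subgroup G) (hQS : Q ≤ S) (eQ : Q ≃* QuaternionGroup 2)
    (h₂ : (Q ⊔ Subgroup.centralizer (Q : Set G)).relIndex (Subgroup.normalizer (Q : Set G)) = 2)
    (H : Subgroup G) (hHS : H ≤ S) (hH : Nonempty (H ≃* QuaternionGroup 2)) :
    SCtrl (S : Subgroup G) H := by
  have hQc : SCtrl (S : Subgroup G) Q := by
    obtain ⟨g, hgS, hgN, hgO⟩ := exists_mem_normalizer_outHom_ne_one S hS Q hQS eQ
    have hidx : (outHom Q).ker.index = 2 := by rw [outHom_ker]; exact h₂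
    -- elements of the kernel act like elements of `Q`
    have hker : ∀ m : Subgroup.normalizer (Q : Set G), outHom Q m = 1 →
        ∃ q ∈ Q, ∀ a ∈ Q, (m : G) * a * (m : G)⁻¹ = q * a * q⁻¹ := by
      intro m hm
      obtain ⟨q, hq⟩ := exists_of_outHom_eq_one Q m hm
      refine ⟨q, q.2, ?_⟩
      intro a ha
      have := (Subgroup.mem_centralizer_iff.mp hq) a ha
      have e1 : (m : G) * a * (m : G)⁻¹ = (q : G) * (((q : G)⁻¹ * m) * a * ((q : G)⁻¹ * m)⁻¹) * (q : G)⁻¹ := by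
        group
      rw [e1, ← this]; group
    intro n hn
    by_cases hnK : outHom Q ⟨n, hn⟩ = 1
    · obtain ⟨q, hq, hact⟩ := hker ⟨n, hn⟩ hnK
      exact ⟨q, hQS hq, hact⟩
    · have hmem : (⟨n, hn⟩ : Subgroup.normalizer (Q : Set G)) * (⟨g, hgN⟩ : Subgroup.normalizer (Q : Set G))⁻¹ ∈
          (outHom Q).ker := by
        rw [Subgroup.mul_mem_iff_of_index_two hidx, Subgroup.inv_mem_iff]
        constructor
        · intro h; exact absurd (MonoidHom.mem_ker.mp h) hnK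
        · intro h; exact absurd (MonoidHom.mem_ker.mp h) hgO
      obtain ⟨q, hq, hact⟩ := hker _ (MonoidHom.mem_ker.mp hmem)
      refine ⟨q * g, Subgroup.mul_mem _ (hQS hq) hgS, ?_⟩
      intro a ha
      have hga : g * a * g⁻¹ ∈ Q := ((Subgroup.mem_normalizer_iff.mp hgN) a).mp ha
      have := hact _ hga
      simp only [Subgroup.coe_mul, Subgroup.coe_inv] at this
      have e1 : n * a * n⁻¹ = (n * g⁻¹) * (g * a * g⁻¹) * (n * g⁻¹)⁻¹ := by group
      rw [e1, this]; group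
  obtain ⟨eH⟩ := hH
  have eQ' : Q.subgroupOf (S : Subgroup G) ≃* QuaternionGroup 2 :=
    (Subgroup.subgroupOfEquivOfLe hQS).trans eQ
  have eH' : H.subgroupOf (S : Subgroup G) ≃* QuaternionGroup 2 :=
    (Subgroup.subgroupOfEquivOfLe hHS).trans eH
  obtain ⟨s, hs⟩ := (Cfsg.Agent.S1191.result hS).1 _ _ ⟨eQ'⟩ ⟨eH'⟩
  rw [eq_map_conj_of_subgroupOf (S : Subgroup G) Q H hQS hHS s hs]
  exact hQc.conj s s.2

/-- The master fusion theorem for quasi-dihedral Sylow `2`-subgroups. -/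
theorem qd_fusion_induction (T : Subgroup G) (hT : IsKleinFour T) (hTS : T ≤ S)
    (Q : Subgroup G) (hQS : Q ≤ S) (eQ : Q ≃* QuaternionGroup 2)
    (R : G → G → Prop) (hrefl : ∀ a, R a a) (htrans : ∀ a b c, R a b → R b c → R a c)
    (hconj : ∀ a ∈ (S : Subgroup G), ∀ s ∈ (S : Subgroup G), R a (s * a * s⁻¹))
    (hV : (Subgroup.centralizer (T : Set G)).relIndex (Subgroup.normalizer (T : Set G)) = 2 ∨
      ∀ H : Subgroup G, H ≤ S → IsKleinFour H → ∀ a ∈ H, ∀ b ∈ H, orderOf a = orderOf b → R a b)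
    (hQ : (Q ⊔ Subgroup.centralizer (Q : Set G)).relIndex (Subgroup.normalizer (Q : Set G)) = 2 ∨
      ∀ H : Subgroup G, H ≤ S → Nonempty (H ≃* QuaternionGroup 2) →
        ∀ a ∈ H, ∀ b ∈ H, orderOf a = orderOf b → R a b)
    (a g : G) (ha : a ∈ (S : Subgroup G)) (hag : g⁻¹ * a * g ∈ (S : Subgroup G)) :
    R a (g⁻¹ * a * g) := by
  obtain ⟨k, x, y, h⟩ := exists_QD_of_isQuasiDihedral hS
  apply alperin_induction S R hrefl htrans _ a g ha hag
  intro Q' htame n hn _ a ha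
  set H : Subgroup G := (S : Subgroup G) ⊓ (Q' : Subgroup G) with hH
  have hHS : H ≤ S := inf_le_left
  have eH : H.subgroupOf (S : Subgroup G) ≃* H := Subgroup.subgroupOfEquivOfLe hHS
  have hninv : n⁻¹ ∈ Subgroup.normalizer (H : Set G) := Subgroup.inv_mem _ hn
  have hnaH : n⁻¹ * a * n ∈ H := by
    have := ((Subgroup.mem_normalizer_iff.mp hninv) a).mp ha
    rwa [inv_inv] at this
  have hord : orderOf a = orderOf (n⁻¹ * a * n) := by
    have := (MulAut.conj n⁻¹).orderOf_eq a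
    rw [MulAut.conj_apply, inv_inv] at this
    exact this.symm
  -- a subgroup with S-controlled automizer
  have hctrl : SCtrl (S : Subgroup G) H → R a (n⁻¹ * a * n) := by
    intro hc
    obtain ⟨s, hs, hact⟩ := hc _ hninv
    have := hact a ha
    rw [inv_inv] at this
    rw [this]
    exact hconj a (hHS ha) s hs
  rcases h.sub_trichotomy (H.subgroupOf (S : Subgroup G)) with h1 | h1 | h1
  · apply hctrl
    have hAut : IsPGroup 2 (MulAut H) := h1.of_equiv (MulAut.congr eH)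
    intro m hm
    obtain ⟨s, hs, hact⟩ := exists_conj_of_pgroup_automizer (S : Subgroup G) H htame.1
      (hAut.to_subgroup _) m hm
    exact ⟨s, hs.1, hact⟩
  · have hHK : IsKleinFour H := Cfsg.Agent.S1203.isKleinFour_of_mulEquiv eH.symm
    rcases hV with hV | hV
    · exact hctrl (klein_sctrl S hS T hT hTS hV H hHS hHK)
    · exact hV H hHS hHK a ha _ hnaH hord
  · obtain ⟨e1⟩ := h1
    have hHQ : Nonempty (H ≃* QuaternionGroup 2) := ⟨eH.symm.trans e1⟩
    rcases hQ with hQ | hQ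
    · exact hctrl (quat_sctrl S hS Q hQS eQ hQ H hHS hHQ)
    · exact hQ H hHS hHQ a ha _ hnaH hord

end QDSylow

end Cfsg.Agent.Lib.Helper59
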