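import Mathlib
import Cfsg.Agent.Lib.Helper59.QDFusion
import Cfsg.Agent.Lib.Helper59.Automizer
import Cfsg.Agent.Lib.Helper59.QDKlein
import Cfsg.Agent.Lib.Helper59.QDQuat

set_option autoImplicit false

namespace Cfsg.Agent.Lib.Helper59

variable {G : Type*} [Group G]

theorem exists_conj_mem_sylow [Finite G] {p : ℕ} [Fact p.Prime] (S : Sylow p G) (t : G) (j : ℕ)
    (ht : orderOf t = p ^ j) : ∃ g : G, g * t * g⁻¹ ∈ (S : Subgroup G) := by
  have hp : IsPGroup p (Subgroup.zpowers t) :=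
    IsPGroup.of_card (n := j) (by rw [Nat.card_zpowers, ht])
  obtain ⟨Q, hQ⟩ := hp.exists_le_sylow
  obtain ⟨g, hg⟩ := MulAction.exists_smul_eq G Q S
  refine ⟨g, ?_⟩
  rw [← hg, Sylow.coe_subgroup_smul]
  have h1 : t ∈ (Q : Subgroup G) := hQ (Subgroup.mem_zpowers t)
  have h2 := Subgroup.smul_mem_pointwise_smul t (MulAut.conj g) (Q : Subgroup G) h1
  rwa [MulAut.smul_def, MulAut.conj_apply] at h2

theorem card_classes_eq_one (m : ℕ) (r : G) (hr : orderOf r = m)
    (hall : ∀ t : G, orderOf t = m → IsConj t r) :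
    Nat.card {C : ConjClasses G // ∃ t : G, orderOf t = m ∧ ConjClasses.mk t = C} = 1 := by
  rw [Nat.card_eq_one_iff_unique]
  constructor
  · constructor
    rintro ⟨C, t, ht, rfl⟩ ⟨C', t', ht', rfl⟩
    apply Subtype.ext
    show ConjClasses.mk t = ConjClasses.mk t'
    rw [ConjClasses.mk_eq_mk_iff_isConj]
    exact (hall t ht).trans (hall t' ht').symm
  · exact ⟨⟨ConjClasses.mk r, r, hr, rfl⟩⟩

theorem card_classes_eq_two (m : ℕ) (r₁ r₂ : G) (h₁ : orderOf r₁ = m) (h₂ : orderOf r₂ = m)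
    (hne : ¬ IsConj r₁ r₂) (hall : ∀ t : G, orderOf t = m → IsConj t r₁ ∨ IsConj t r₂) :
    Nat.card {C : ConjClasses G // ∃ t : G, orderOf t = m ∧ ConjClasses.mk t = C} = 2 := by
  rw [Nat.card_eq_two_iff]
  refine ⟨⟨ConjClasses.mk r₁, r₁, h₁, rfl⟩, ⟨ConjClasses.mk r₂, r₂, h₂, rfl⟩, ?_, ?_⟩
  · intro h
    apply hne
    have := congrArg Subtype.val h
    exact ConjClasses.mk_eq_mk_iff_isConj.mp this
  · ext ⟨C, t, ht, rfl⟩
    simp only [Set.mem_insert_iff, Set.mem_singleton_iff, Set.mem_univ, iff_true]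
    rcases hall t ht with h | h
    · left
      apply Subtype.ext
      exact ConjClasses.mk_eq_mk_iff_isConj.mpr h
    · right
      apply Subtype.ext
      exact ConjClasses.mk_eq_mk_iff_isConj.mpr h

/-- a subgroup containing a Sylow `2`-subgroup does not have index two -/
theorem index_ne_two_of_sylow_le [Finite G] (S : Sylow 2 G) (H : Subgroup G)
    (hSH : (S : Subgroup G) ≤ H) : H.index ≠ 2 := by
  intro h2
  have h1 : H.index ∣ (S : Subgroup G).index := Subgroup.index_dvd_of_le hSH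
  have hf : Fact (Nat.Prime 2) := ⟨Nat.prime_two⟩
  rw [h2] at h1
  exact S.not_dvd_index h1

/-- membership in an index two subgroup is a class function -/
theorem conj_mem_iff_of_index_two (H : Subgroup G) (h2 : H.index = 2) (g a : G) :
    g * a * g⁻¹ ∈ H ↔ a ∈ H := by
  rw [Subgroup.mul_mem_iff_of_index_two h2, Subgroup.mul_mem_iff_of_index_two h2,
    Subgroup.inv_mem_iff]
  tauto

section QDSylow

variable (S : Sylow 2 G) {k : ℕ} {x y : (S : Subgroup G)}
  (h : QD (S : Subgroup G) k x y)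

include h

theorem orderOf_zG : orderOf ((x ^ (4 * 2 ^ k : ℤ) : (S : Subgroup G)) : G) = 2 := by
  rw [Subgroup.orderOf_coe]
  apply orderOf_eq_prime
  · rw [sq]; exact h.z_sq
  · exact h.z_ne_one

theorem orderOf_yG : orderOf (y : G) = 2 := by
  rw [Subgroup.orderOf_coe]; exact h.hy

theorem orderOf_uG : orderOf ((x ^ (2 * 2 ^ k : ℤ) : (S : Subgroup G)) : G) = 4 := by
  rw [Subgroup.orderOf_coe]
  have hw := QD.w_pos k
  have := orderOf_eq_prime_pow (p := 2) (n := 1) (x := x ^ (2 * 2 ^ k : ℤ)) ?_ ?_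
  · simpa using this
  · rw [pow_one, sq, ← zpow_add, h.zpow_eq_one]
    rintro ⟨c, hc⟩
    have h2k : (0 : ℤ) < 2 ^ k := by positivity
    have : (2 : ℤ) ^ k * (1 - 2 * c) = 0 := by linarith
    rcases mul_eq_zero.mp this with h0 | h0
    · omega
    · omega
  · rw [show (2 : ℕ) ^ (1 + 1) = 4 from rfl, ← zpow_natCast, ← zpow_mul, h.zpow_eq_one]
    exact ⟨1, by push_cast; ring⟩

theorem orderOf_vG : orderOf ((x ^ (1 : ℤ) * y : (S : Subgroup G)) : G) = 4 := by
  rw [Subgroup.orderOf_coe]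
  have := orderOf_eq_prime_pow (p := 2) (n := 1) (x := x ^ (1 : ℤ) * y) ?_ ?_
  · simpa using this
  · rw [pow_one, sq, h.sq_xy, mul_one]
    exact h.z_ne_one
  · have e : (x ^ (1 : ℤ) * y) ^ 2 ^ (1 + 1) = (x ^ (1 : ℤ) * y) * (x ^ (1 : ℤ) * y) * ((x ^ (1 : ℤ) * y) * (x ^ (1 : ℤ) * y)) := by
      rw [← sq, ← sq, ← pow_mul]; rfl
    rw [e, h.sq_xy, mul_one]
    exact h.z_sq

/-- every involution of `G` is conjugate to `z` or to `y`. -/
theorem invol_isConj [Finite G] (t : G) (ht : orderOf t = 2) :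
    IsConj t ((x ^ (4 * 2 ^ k : ℤ) : (S : Subgroup G)) : G) ∨ IsConj t (y : G) := by
  have hf : Fact (Nat.Prime 2) := ⟨Nat.prime_two⟩
  obtain ⟨g, hg⟩ := exists_conj_mem_sylow S t 1 (by rw [ht, pow_one])
  have hconj : IsConj t (g * t * g⁻¹) := isConj_iff.mpr ⟨g, rfl⟩
  set τ : (S : Subgroup G) := ⟨g * t * g⁻¹, hg⟩ with hτ
  have ht2 : t * t = 1 := by rw [← sq, ← ht]; exact pow_orderOf_eq_one t
  have ht1 : t ≠ 1 := by
    intro h1; rw [h1, orderOf_one] at ht; omega
  have hτ2 : τ * τ = 1 := by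
    apply Subtype.ext
    show g * t * g⁻¹ * (g * t * g⁻¹) = 1
    have : g * t * g⁻¹ * (g * t * g⁻¹) = g * (t * t) * g⁻¹ := by group
    rw [this, ht2]; group
  have hτ1 : τ ≠ 1 := by
    intro h1
    have := congrArg Subtype.val h1
    apply ht1
    have e : g * t * g⁻¹ = 1 := this
    have : t = g⁻¹ * (g * t * g⁻¹) * g := by group
    rw [this, e]; group
  rcases h.invol_cases τ hτ2 hτ1 with h1 | ⟨j, h1⟩
  · left
    rw [← h1]; exact hconj
  · right
    have hc : IsConj τ y := by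
      have := (h.isConj_xy_add_even 0 j).symm
      rw [zero_add, zpow_zero, one_mul, ← h1] at this
      exact this
    exact hconj.trans ((S : Subgroup G).subtype.map_isConj hc)

/-- every element of order four of `G` is conjugate to `x^(2w)` or to `xy`. -/
theorem order4_isConj [Finite G] (t : G) (ht : orderOf t = 4) :
    IsConj t ((x ^ (2 * 2 ^ k : ℤ) : (S : Subgroup G)) : G) ∨
      IsConj t ((x ^ (1 : ℤ) * y : (S : Subgroup G)) : G) := by
  have hf : Fact (Nat.Prime 2) := ⟨Nat.prime_two⟩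
  obtain ⟨g, hg⟩ := exists_conj_mem_sylow S t 2 (by rw [ht]; norm_num)
  have hconj : IsConj t (g * t * g⁻¹) := isConj_iff.mpr ⟨g, rfl⟩
  set τ : (S : Subgroup G) := ⟨g * t * g⁻¹, hg⟩ with hτ
  have ht4 : t * t * (t * t) = 1 := by
    have := pow_orderOf_eq_one t
    rw [ht] at this
    rw [← this, ← sq, ← sq, ← pow_mul]
  have ht2 : t * t ≠ 1 := by
    intro h1
    have : orderOf t ∣ 2 := orderOf_dvd_of_pow_eq_one (by rw [sq]; exact h1)
    rw [ht] at this
    omega
  have hτ4 : τ * τ * (τ * τ) = 1 := by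
    apply Subtype.ext
    show g * t * g⁻¹ * (g * t * g⁻¹) * (g * t * g⁻¹ * (g * t * g⁻¹)) = 1
    have : g * t * g⁻¹ * (g * t * g⁻¹) * (g * t * g⁻¹ * (g * t * g⁻¹)) = g * (t * t * (t * t)) * g⁻¹ := by
      group
    rw [this, ht4]; group
  have hτ2 : τ * τ ≠ 1 := by
    intro h1
    have := congrArg Subtype.val h1
    apply ht2
    have e : g * t * g⁻¹ * (g * t * g⁻¹) = 1 := this
    have : t * t = g⁻¹ * (g * t * g⁻¹ * (g * t * g⁻¹)) * g := by group
    rw [this, e]; group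
  rcases h.order4_cases τ hτ4 hτ2 with h1 | h1 | ⟨j, h1⟩
  · left
    rw [← h1]; exact hconj
  · left
    have hc : IsConj τ (x ^ (2 * 2 ^ k : ℤ)) := by
      rw [h1]; exact h.isConj_quarter.symm
    exact hconj.trans ((S : Subgroup G).subtype.map_isConj hc)
  · right
    have hc : IsConj τ (x ^ (1 : ℤ) * y) := by
      rw [h1]; exact (h.isConj_xy_add_even 1 j).symm
    exact hconj.trans ((S : Subgroup G).subtype.map_isConj hc)

end QDSylow

end Cfsg.Agent.Lib.Helper59
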