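import Mathlib
import Cfsg.Agent.Lib.Helper59.QDClasses

set_option autoImplicit false

namespace Cfsg.Agent.Lib.Helper59

variable {G : Type*} [Group G]

section QDSylow

variable [Finite G] (S : Sylow 2 G) {k : ℕ} {x y : (S : Subgroup G)}
  (h : QD (S : Subgroup G) k x y)

include h

/-- If `|N(T):C(T)| = 6`, a square in `G` conjugates `z` to a noncentral involution of `T`. -/
theorem exists_sq_conj_klein (T : Subgroup G) (hT : IsKleinFour T) (hTS : T ≤ S)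
    (h₁ : (Subgroup.centralizer (T : Set G)).relIndex (Subgroup.normalizer (T : Set G)) = 6) :
    ∃ n : G, ∃ b : ℤ, (2 : ℤ) ∣ b ∧
      (n * n) * ((x ^ (4 * 2 ^ k : ℤ) : (S : Subgroup G)) : G) * (n * n)⁻¹ =
        ((x ^ b * y : (S : Subgroup G)) : G) := by
  have eT : T.subgroupOf (S : Subgroup G) ≃* T := Subgroup.subgroupOfEquivOfLe hTS
  have hT' : IsKleinFour (T.subgroupOf (S : Subgroup G)) := Cfsg.Agent.S1203.isKleinFour_of_mulEquiv eT
  obtain ⟨h4, h2⟩ := Cfsg.Agent.S1190.klein_props _ hT'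
  obtain ⟨b, hb, hx, hy⟩ := h.klein_desc _ h4 h2
  have hz : x ^ (4 * 2 ^ k : ℤ) ∈ T.subgroupOf (S : Subgroup G) := (hx _).mpr (dvd_refl _)
  have hy' : x ^ b * y ∈ T.subgroupOf (S : Subgroup G) := (hy _).mpr (by simp)
  set zT : T := ⟨((x ^ (4 * 2 ^ k : ℤ) : (S : Subgroup G)) : G), Subgroup.mem_subgroupOf.mp hz⟩ with hzT
  set yT : T := ⟨((x ^ b * y : (S : Subgroup G)) : G), Subgroup.mem_subgroupOf.mp hy'⟩ with hyT
  have hz1 : zT ≠ 1 := by
    intro h1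
    have := congrArg Subtype.val h1
    apply h.z_ne_one
    exact Subtype.ext this
  have hy1 : yT ≠ 1 := by
    intro h1
    have := congrArg Subtype.val h1
    have e : (x ^ b * y : (S : Subgroup G)) = 1 := Subtype.ext this
    exact h.xy_ne_x b 0 (by rw [e, zpow_zero])
  obtain ⟨φ, hφ⟩ := klein_trans T zT yT hz1 hy1
  obtain ⟨n, hn, hact⟩ := klein_full T hT h₁ φ
  refine ⟨n, b, hb, ?_⟩
  have h1 := hact zT
  have h2' := hact (φ zT)
  rw [hφ] at h2'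
  have e : (n * n) * ((x ^ (4 * 2 ^ k : ℤ) : (S : Subgroup G)) : G) * (n * n)⁻¹ =
      n * (n * (zT : G) * n⁻¹) * n⁻¹ := by
    rw [hzT]; group
  rw [e, h1, h2']

/-- If `|N(Q):QC(Q)| = 6`, a square in `G` conjugates `x^(2w)` to some `x^c y` with `c` odd. -/
theorem exists_sq_conj_quat (Q : Subgroup G) (hQS : Q ≤ S) (eQ : Q ≃* QuaternionGroup 2)
    (h₂ : (Q ⊔ Subgroup.centralizer (Q : Set G)).relIndex (Subgroup.normalizer (Q : Set G)) = 6) :
    ∃ n : G, ∃ c : ℤ, ¬ (2 : ℤ) ∣ c ∧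
      (n * n) * ((x ^ (2 * 2 ^ k : ℤ) : (S : Subgroup G)) : G) * (n * n)⁻¹ =
        ((x ^ c * y : (S : Subgroup G)) : G) := by
  have hw := QD.w_pos k
  have eQ' : Q.subgroupOf (S : Subgroup G) ≃* QuaternionGroup 2 :=
    (Subgroup.subgroupOfEquivOfLe hQS).trans eQ
  obtain ⟨f, hx, hy⟩ := h.quat_desc _ eQ'
  have hu : x ^ (2 * 2 ^ k : ℤ) ∈ Q.subgroupOf (S : Subgroup G) := (hx _).mpr (dvd_refl _)
  set uQ : Q := ⟨((x ^ (2 * 2 ^ k : ℤ) : (S : Subgroup G)) : G), Subgroup.mem_subgroupOf.mp hu⟩ with huQ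
  have hu2 : uQ * uQ ≠ 1 := by
    intro h1
    have := congrArg Subtype.val h1
    have e : (x ^ (2 * 2 ^ k : ℤ) * x ^ (2 * 2 ^ k : ℤ) : (S : Subgroup G)) = 1 := Subtype.ext this
    rw [← zpow_add, h.zpow_eq_one] at e
    obtain ⟨c, hc⟩ := e
    have h2k : (0 : ℤ) < 2 ^ k := by positivity
    have : (2 : ℤ) ^ k * (1 - 2 * c) = 0 := by linarith
    rcases mul_eq_zero.mp this with h0 | h0 <;> omega
  obtain ⟨φ, hφ⟩ := exists_aut_quat_moves Q eQ
  obtain ⟨n, hn, hact⟩ := quat_full Q eQ h₂ φ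
  have hmove := (hφ uQ hu2).2
  -- the image
  set v : Q := φ (φ uQ) with hv
  have hvS : (v : G) ∈ (S : Subgroup G) := hQS v.2
  have hvQ' : (⟨(v : G), hvS⟩ : (S : Subgroup G)) ∈ Q.subgroupOf (S : Subgroup G) :=
    Subgroup.mem_subgroupOf.mpr v.2
  have hconj : (n * n) * ((x ^ (2 * 2 ^ k : ℤ) : (S : Subgroup G)) : G) * (n * n)⁻¹ = (v : G) := by
    have h1 := hact uQ
    have h2' := hact (φ uQ)
    have e : (n * n) * ((x ^ (2 * 2 ^ k : ℤ) : (S : Subgroup G)) : G) * (n * n)⁻¹ =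
        n * (n * (uQ : G) * n⁻¹) * n⁻¹ := by
      rw [huQ]; group
    rw [e, h1, h2']
  rcases h.cases (⟨(v : G), hvS⟩ : (S : Subgroup G)) with ⟨c, hc⟩ | ⟨c, hc⟩
  · exfalso
    apply hmove
    rw [hc] at hvQ'
    obtain ⟨j, hj⟩ := (hx c).mp hvQ'
    rw [Subgroup.mem_zpowers_iff]
    refine ⟨j, ?_⟩
    apply Subtype.ext
    rw [Subgroup.coe_zpow, huQ]
    show ((x ^ (2 * 2 ^ k : ℤ) : (S : Subgroup G)) : G) ^ j = (v : G)
    have hvc : (v : G) = ((x ^ c : (S : Subgroup G)) : G) := congrArg Subtype.val hc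
    have e : (x ^ (2 * 2 ^ k : ℤ) : (S : Subgroup G)) ^ j = x ^ c := by rw [← zpow_mul, hj]
    rw [hvc, ← e]
    simp only [Subgroup.coe_zpow]
  · refine ⟨n, c, ?_, ?_⟩
    · rw [hc] at hvQ'
      obtain ⟨j, hj⟩ := (hy c).mp hvQ'
      rintro ⟨c', rfl⟩
      have : (2 : ℤ) * (c' - f - 2 ^ k * j) = 1 := by linarith
      omega
    · rw [hconj]
      exact congrArg Subtype.val hc

theorem zG_isConj_yG (T : Subgroup G) (hT : IsKleinFour T) (hTS : T ≤ S)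
    (h₁ : (Subgroup.centralizer (T : Set G)).relIndex (Subgroup.normalizer (T : Set G)) = 6) :
    IsConj ((x ^ (4 * 2 ^ k : ℤ) : (S : Subgroup G)) : G) (y : G) := by
  obtain ⟨n, b, ⟨j, rfl⟩, hn⟩ := exists_sq_conj_klein S h T hT hTS h₁
  have h1 : IsConj ((x ^ (4 * 2 ^ k : ℤ) : (S : Subgroup G)) : G)
      ((x ^ (2 * j) * y : (S : Subgroup G)) : G) := isConj_iff.mpr ⟨n * n, hn⟩
  have hc : IsConj (x ^ (2 * j) * y) y := by
    have := (h.isConj_xy_add_even 0 j).symm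
    rw [zero_add, zpow_zero, one_mul] at this
    exact this
  exact h1.trans ((S : Subgroup G).subtype.map_isConj hc)

theorem uG_isConj_vG (Q : Subgroup G) (hQS : Q ≤ S) (eQ : Q ≃* QuaternionGroup 2)
    (h₂ : (Q ⊔ Subgroup.centralizer (Q : Set G)).relIndex (Subgroup.normalizer (Q : Set G)) = 6) :
    IsConj ((x ^ (2 * 2 ^ k : ℤ) : (S : Subgroup G)) : G) ((x ^ (1 : ℤ) * y : (S : Subgroup G)) : G) := by
  obtain ⟨n, c, hc, hn⟩ := exists_sq_conj_quat S h Q hQS eQ h₂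
  have h1 : IsConj ((x ^ (2 * 2 ^ k : ℤ) : (S : Subgroup G)) : G)
      ((x ^ c * y : (S : Subgroup G)) : G) := isConj_iff.mpr ⟨n * n, hn⟩
  obtain ⟨j, rfl⟩ : ∃ j, c = 1 + 2 * j := by
    rcases Int.even_or_odd' c with ⟨j, h1 | h1⟩
    · exact absurd ⟨j, h1⟩ hc
    · exact ⟨j, by rw [h1]; ring⟩
  have hc' : IsConj (x ^ (1 + 2 * j) * y) (x ^ (1 : ℤ) * y) := (h.isConj_xy_add_even 1 j).symm
  exact h1.trans ((S : Subgroup G).subtype.map_isConj hc')

/-- a subgroup of `G` containing `x` and `y` contains `S` -/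
theorem sylow_le_of_mem (H : Subgroup G) (hx : (x : G) ∈ H) (hy : (y : G) ∈ H) :
    (S : Subgroup G) ≤ H := by
  intro g hg
  rcases h.cases (⟨g, hg⟩ : (S : Subgroup G)) with ⟨a, ha⟩ | ⟨a, ha⟩
  · have : g = ((x ^ a : (S : Subgroup G)) : G) := congrArg Subtype.val ha
    rw [this, Subgroup.coe_zpow]
    exact H.zpow_mem hx a
  · have : g = ((x ^ a * y : (S : Subgroup G)) : G) := congrArg Subtype.val ha
    rw [this, Subgroup.coe_mul, Subgroup.coe_zpow]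
    exact H.mul_mem (H.zpow_mem hx a) hy

end QDSylow

end Cfsg.Agent.Lib.Helper59
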