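import Cfsg.Agent.Lib.Helper59.QDNormal
import Cfsg.Agent.Lib.Helper59.QDQuat
import Cfsg.Agent.Lib.Helper66.DihedralIso
import Cfsg.Agent.Lib.Helper03.PGroupFrattini

set_option autoImplicit false

namespace Cfsg.Agent.Lib.Helper59

namespace QD

variable {S : Type*} [Group S] {k : ℕ} {x y : S}

theorem two_dvd_8w (k : ℕ) : (2 : ℤ) ∣ 8 * 2 ^ k := ⟨4 * 2 ^ k, by ring⟩

theorem orderOf_x_sq' (h : QD S k x y) : orderOf (x ^ (2 : ℤ)) = 2 ^ (k + 2) := by
  have := orderOf_eq_prime_pow (x := x ^ (2 : ℤ)) (p := 2) (n := k + 1) ?_ ?_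
  · exact this
  · rw [← zpow_natCast, ← zpow_mul, h.zpow_eq_one]
    rintro ⟨c, hc⟩
    push_cast at hc
    have hw0 : (2 : ℤ) ^ k ≠ 0 := by positivity
    have h3 : (2 : ℤ) ^ k * (4 - 8 * c) = 0 := by
      have : (2 : ℤ) ^ (k + 1) = 2 * 2 ^ k := by ring
      rw [this] at hc; linarith
    rcases mul_eq_zero.mp h3 with h4 | h4
    · exact hw0 h4
    · omega
  · rw [← zpow_natCast, ← zpow_mul, h.zpow_eq_one]
    exact ⟨1, by push_cast; ring⟩

theorem orderOf_x_sq_y (h : QD S k x y) : orderOf (x ^ (2 : ℤ) * y) = 2 := by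
  apply orderOf_eq_prime
  · rw [sq, h.sq_xy, h.zpow_eq_one]; exact ⟨1, by ring⟩
  · intro h1
    have : x ^ (2 : ℤ) * y = x ^ (0 : ℤ) := by rw [h1]; simp
    exact h.xy_ne_x _ _ this

/-- the dihedral maximal subgroup `⟨x², y⟩` as a closure of two involutions -/
theorem closure_eq_sub_two_zero (h : QD S k x y) [Finite S] (hdb0 : (2 : ℤ) ∣ 4 * 2 ^ k * 0) :
    Subgroup.closure ({x ^ (2 : ℤ) * y, y} : Set S) = h.sub 2 0 hdb0 := by
  have hd8 := two_dvd_8w k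
  have hy0 : y = x ^ (0 : ℤ) * y := by simp
  have hprod : x ^ (2 : ℤ) * y * y = x ^ (2 : ℤ) := by rw [mul_assoc, h.y_sq, mul_one]
  apply le_antisymm
  · rw [Subgroup.closure_le]
    intro g hg
    rcases hg with hg | hg
    · rw [hg]; exact (h.xy_mem_sub hd8 hdb0 2).mpr (by simp)
    · have h0 : x ^ (0 : ℤ) * y ∈ h.sub 2 0 hdb0 := (h.xy_mem_sub hd8 hdb0 0).mpr (by simp)
      have hg' : g = y := hg
      rw [hg']
      simpa using h0
  · have hyc : y ∈ Subgroup.closure ({x ^ (2 : ℤ) * y, y} : Set S) :=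
      Subgroup.subset_closure (by simp)
    have hx2c : x ^ (2 : ℤ) ∈ Subgroup.closure ({x ^ (2 : ℤ) * y, y} : Set S) := by
      have h5 : x ^ (2 : ℤ) * y ∈ Subgroup.closure ({x ^ (2 : ℤ) * y, y} : Set S) :=
        Subgroup.subset_closure (by simp)
      have h6 := Subgroup.mul_mem _ h5 hyc
      rwa [hprod] at h6
    intro g hg
    rcases h.cases g with ⟨a, rfl⟩ | ⟨a, rfl⟩
    · obtain ⟨c, rfl⟩ := (h.x_mem_sub hd8 hdb0 a).mp hg
      rw [zpow_mul]; exact Subgroup.zpow_mem _ hx2c c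
    · obtain ⟨c, hc⟩ := (h.xy_mem_sub hd8 hdb0 a).mp hg
      have : a = 2 * c := by linarith
      rw [this, zpow_mul]
      exact Subgroup.mul_mem _ (Subgroup.zpow_mem _ hx2c c) hyc

theorem sub_two_zero_dihedral (h : QD S k x y) [Finite S] (hdb0 : (2 : ℤ) ∣ 4 * 2 ^ k * 0) :
    Nonempty (h.sub 2 0 hdb0 ≃* DihedralGroup (2 ^ (k + 2))) := by
  obtain ⟨e⟩ := Cfsg.Agent.Lib.Helper66.nonempty_closure_pair_equiv_dihedral h.orderOf_x_sq_y h.hy
  have hprod : x ^ (2 : ℤ) * y * y = x ^ (2 : ℤ) := by rw [mul_assoc, h.y_sq, mul_one]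
  rw [hprod, h.orderOf_x_sq'] at e
  exact ⟨(MulEquiv.subgroupCongr (h.closure_eq_sub_two_zero hdb0).symm).trans e⟩

/-- the subgroup generated by the involutions -/
theorem closure_invol (h : QD S k x y) [Finite S] (hdb0 : (2 : ℤ) ∣ 4 * 2 ^ k * 0) :
    Subgroup.closure {t : S | orderOf t = 2} = h.sub 2 0 hdb0 := by
  have hd8 := two_dvd_8w k
  apply le_antisymm
  · rw [Subgroup.closure_le]
    intro t ht
    have ht' : orderOf t = 2 := ht
    have h2 : t * t = 1 := by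
      have := pow_orderOf_eq_one t
      rw [ht', sq] at this; exact this
    have h1 : t ≠ 1 := by
      intro h1; rw [h1, orderOf_one] at ht'; omega
    rcases h.invol_cases t h2 h1 with rfl | ⟨j, rfl⟩
    · exact (h.x_mem_sub hd8 hdb0 _).mpr ⟨2 * 2 ^ k, by ring⟩
    · exact (h.xy_mem_sub hd8 hdb0 _).mpr ⟨j, by ring⟩
  · rw [← h.closure_eq_sub_two_zero hdb0]
    apply Subgroup.closure_mono
    intro g hg
    rcases hg with hg | hg
    · rw [hg]; exact h.orderOf_x_sq_y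
    · have hg' : g = y := hg
      rw [hg']; exact h.hy

/-- the centre -/
theorem center_eq (h : QD S k x y) [Finite S] :
    Subgroup.center S = Subgroup.zpowers (x ^ (4 * 2 ^ k : ℤ)) := by
  have hw0 : (2 : ℤ) ^ k ≠ 0 := by positivity
  ext g
  rw [Subgroup.mem_center_iff, Subgroup.mem_zpowers_iff]
  constructor
  · intro hg
    rcases h.cases g with ⟨a, rfl⟩ | ⟨a, rfl⟩
    · have h1 := hg (x ^ (0 : ℤ) * y)
      rw [h.mul_xy_x, mul_x_xy, h.xy_eq_xy] at h1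
      obtain ⟨c, hc⟩ := h1
      have h4 : (4 * 2 ^ k : ℤ) ∣ a := by
        apply dvd_of_dvd_odd_mul
        refine ⟨c, ?_⟩
        have : (2 * 2 ^ k - 1) * a * 2 = 4 * 2 ^ k * c * 2 := by linarith
        exact mul_right_cancel₀ (by norm_num : (2 : ℤ) ≠ 0) this
      obtain ⟨f, rfl⟩ := h4
      exact ⟨f, by rw [← zpow_mul]⟩
    · exfalso
      have h1 := hg (x ^ (1 : ℤ))
      rw [mul_x_xy, h.mul_xy_x, h.xy_eq_xy] at h1
      obtain ⟨c, hc⟩ := h1
      have : (2 : ℤ) ∣ 1 := ⟨2 ^ k + 2 * 2 ^ k * c, by linarith⟩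
      omega
  · rintro ⟨f, rfl⟩ t
    rw [← zpow_mul]
    exact h.central_of_dvd _ ⟨f, rfl⟩ t

theorem card_center (h : QD S k x y) [Finite S] : Nat.card (Subgroup.center S) = 2 := by
  rw [h.center_eq, Nat.card_zpowers]
  apply orderOf_eq_prime
  · rw [sq]; exact h.z_sq
  · exact h.z_ne_one

/-- commutator = Frattini = `⟨x²⟩` -/
theorem commutator_eq (h : QD S k x y) [Finite S] :
    commutator S = Subgroup.zpowers (x ^ (2 : ℤ)) ∧ frattini S = Subgroup.zpowers (x ^ (2 : ℤ)) := by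
  have : Fact (Nat.Prime 2) := ⟨Nat.prime_two⟩
  have hd8 := two_dvd_8w k
  have hdb1 : (2 : ℤ) ∣ 4 * 2 ^ k * 1 := ⟨2 * 2 ^ k, by ring⟩
  have hP : IsPGroup 2 S := IsPGroup.of_card h.card
  have h1 : commutator S ≤ frattini S := Cfsg.Agent.Lib.Helper03.commutator_le_frattini_of_isPGroup hP
  have h2 : Subgroup.zpowers (x ^ (2 : ℤ)) ≤ commutator S := by
    rw [Subgroup.zpowers_le]; exact h.x_sq_mem_commutator
  have hx1 : x = x ^ (1 : ℤ) := by simp
  have hxM₂ : x ∉ h.sub 2 1 hdb1 := by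
    have h0 : x ^ (1 : ℤ) ∉ h.sub 2 1 hdb1 := by
      rw [h.x_mem_sub hd8]; omega
    simpa using h0
  have hc1 : IsCoatom (Subgroup.zpowers x) := by
    apply h.isCoatom_of_x_sq_mem _ _ (Subgroup.zpow_mem_zpowers x 2) (Or.inl (Subgroup.mem_zpowers x))
    intro htop; apply h.y_notMem; rw [htop]; exact Subgroup.mem_top y
  have hc2 : IsCoatom (h.sub 2 1 hdb1) := by
    apply h.isCoatom_of_x_sq_mem _ _ ((h.x_mem_sub hd8 hdb1 2).mpr dvd_rfl)
      (Or.inr ⟨1, (h.xy_mem_sub hd8 hdb1 1).mpr (by simp)⟩)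
    intro htop; apply hxM₂; rw [htop]; exact Subgroup.mem_top x
  have h3 : frattini S ≤ Subgroup.zpowers (x ^ (2 : ℤ)) := by
    intro g hg
    have hg1 := frattini_le_coatom hc1 hg
    have hg2 := frattini_le_coatom hc2 hg
    obtain ⟨a, rfl⟩ := Subgroup.mem_zpowers_iff.mp hg1
    obtain ⟨c, rfl⟩ := (h.x_mem_sub hd8 hdb1 a).mp hg2
    rw [zpow_mul]; exact Subgroup.zpow_mem_zpowers _ c
  exact ⟨le_antisymm (h1.trans h3) h2, le_antisymm h3 (h2.trans h1)⟩

end QD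

end Cfsg.Agent.Lib.Helper59
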