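import Mathlib
import Cfsg.Agent.Lib.Helper59.QDFusionLow
import Cfsg.Agent.Lib.Helper59.QDMax
import Cfsg.Agent.Lib.Helper13.HallTransfer
import Cfsg.Agent.Lib.Helper15.SylowNormal

set_option autoImplicit false

namespace Cfsg.Agent.Lib.Helper59

open scoped commutatorElement

namespace QD

variable {S : Type*} [Group S] {k : ℕ} {x y : S}

theorem hdbε (k : ℕ) (ε : ℤ) : (2 : ℤ) ∣ 4 * 2 ^ k * ε := ⟨2 * 2 ^ k * ε, by ring⟩

/-- the two noncyclic maximal subgroups have index two -/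
theorem sub_two_index (h : QD S k x y) [Finite S] (ε : ℤ) : (h.sub 2 ε (hdbε k ε)).index = 2 := by
  have hd8 := two_dvd_8w k
  rw [Subgroup.index_eq_two_iff_exists_notMem_and]
  refine ⟨x ^ (1 : ℤ), ?_, ?_⟩
  · rw [h.x_mem_sub hd8]; norm_num
  · intro g
    rcases h.cases g with ⟨c, rfl⟩ | ⟨c, rfl⟩
    · rcases Int.even_or_odd' c with ⟨j, h1 | h1⟩
      · right; rw [h.x_mem_sub hd8]; exact ⟨j, h1⟩
      · left; rw [← zpow_add, h.x_mem_sub hd8]; exact ⟨j + 1, by rw [h1]; ring⟩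
    · rcases Int.even_or_odd' (c - ε) with ⟨j, h1 | h1⟩
      · right; rw [h.xy_mem_sub hd8]; exact ⟨j, h1⟩
      · left
        rw [h.mul_xy_x, h.xy_mem_sub hd8]
        exact ⟨j + 2 * 2 ^ k, by linarith⟩

theorem card_sub_two (h : QD S k x y) [Finite S] (ε : ℤ) :
    Nat.card (h.sub 2 ε (hdbε k ε)) = 2 ^ (k + 3) := by
  have h1 := (h.sub 2 ε (hdbε k ε)).card_mul_index
  rw [h.sub_two_index, h.card] at h1
  have : (2 : ℕ) ^ (k + 4) = 2 ^ (k + 3) * 2 := by ring
  omega

/-- a normal subgroup containing some `x^c y` contains the maximal subgroup of that parity -/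
theorem sub_two_le_of_mem (h : QD S k x y) [Finite S] (ε : ℤ) (N : Subgroup S) [hN : N.Normal]
    (c : ℤ) (hc : (2 : ℤ) ∣ c - ε) (hmem : x ^ c * y ∈ N) : h.sub 2 ε (hdbε k ε) ≤ N := by
  have hall : ∀ j : ℤ, x ^ (c + 2 * j) * y ∈ N := by
    intro j
    obtain ⟨s, hs⟩ := isConj_iff.mp (h.isConj_xy_add_even c j)
    rw [← hs]
    exact hN.conj_mem _ hmem s
  have hx2 : x ^ (2 : ℤ) ∈ N := by
    have h1 := N.mul_mem (hall 1) (N.inv_mem hmem)
    have e : x ^ (c + 2 * 1) * y * (x ^ c * y)⁻¹ = x ^ (2 : ℤ) := by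
      rw [mul_inv_rev, zpow_add]; group
    rwa [e] at h1
  intro g hg
  rcases (h.mem_sub _ g).mp hg with ⟨a, ⟨j, rfl⟩, rfl⟩ | ⟨a, ⟨j, hj⟩, rfl⟩
  · rw [zpow_mul]; exact N.zpow_mem hx2 j
  · obtain ⟨i, hi⟩ := hc
    have : a = c + 2 * (j - i) := by linarith
    rw [this]; exact hall _

/-- the generalized quaternion maximal subgroup -/
theorem sub_two_one_quaternion (h : QD S k x y) [Finite S] :
    Nonempty (h.sub 2 1 (hdbε k 1) ≃* QuaternionGroup (2 ^ (k + 1))) := by
  have hd8 := two_dvd_8w k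
  have hcm : x ^ (2 : ℤ) ∈ h.sub 2 1 (hdbε k 1) := (h.x_mem_sub hd8 _ _).mpr (dvd_refl _)
  have hbm : x ^ (1 : ℤ) * y ∈ h.sub 2 1 (hdbε k 1) := (h.xy_mem_sub hd8 _ _).mpr (by simp)
  have : NeZero (2 ^ (k + 1)) := ⟨by positivity⟩
  refine nonempty_mulEquiv_quaternion (2 ^ (k + 1)) (⟨x ^ (2 : ℤ), hcm⟩ : h.sub 2 1 (hdbε k 1))
    ⟨x ^ (1 : ℤ) * y, hbm⟩ ?_ ?_ ?_ ?_ ?_
  · rw [h.card_sub_two]; ring
  · rw [Subgroup.orderOf_mk, h.orderOf_x_sq']; ring
  · apply Subtype.ext
    rw [Subgroup.coe_mul, Subgroup.coe_pow]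
    show x ^ (1 : ℤ) * y * (x ^ (1 : ℤ) * y) = (x ^ (2 : ℤ)) ^ (2 ^ (k + 1))
    rw [h.sq_xy, ← zpow_natCast, ← zpow_mul, h.zpow_eq_zpow]
    exact ⟨0, by push_cast; ring⟩
  · apply Subtype.ext
    rw [Subgroup.coe_mul, Subgroup.coe_mul, Subgroup.coe_inv, Subgroup.coe_inv]
    show x ^ (1 : ℤ) * y * x ^ (2 : ℤ) * (x ^ (1 : ℤ) * y)⁻¹ = (x ^ (2 : ℤ))⁻¹
    rw [h.conj_x_by_xy, ← zpow_neg, h.zpow_eq_zpow]
    exact ⟨1, by ring⟩
  · intro hmem
    obtain ⟨j, hj⟩ := Subgroup.mem_zpowers_iff.mp hmem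
    have := congrArg Subtype.val hj
    rw [Subgroup.coe_zpow] at this
    have e : (x ^ (2 : ℤ)) ^ j = x ^ (1 : ℤ) * y := this
    rw [← zpow_mul] at e
    exact h.xy_ne_x _ _ e.symm

end QD

section QDSylow

variable {G : Type*} [Group G]

theorem mem_map_subtype_iff (S : Subgroup G) (M : Subgroup S) (g : G) (hg : g ∈ S) :
    g ∈ M.map S.subtype ↔ (⟨g, hg⟩ : S) ∈ M := by
  constructor
  · rintro ⟨m, hm, hmg⟩
    have : m = ⟨g, hg⟩ := Subtype.ext hmg
    rwa [← this]
  · intro h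
    exact ⟨⟨g, hg⟩, h, rfl⟩

variable [Finite G] (S : Sylow 2 G) {k : ℕ} {x y : (S : Subgroup G)}
  (h : QD (S : Subgroup G) k x y)

include h

open QD in
/-- The index two normal subgroup obtained from the focal subgroup theorem. -/
theorem exists_index_two_normal (ε : ℤ)
    (F1 : ∀ a ∈ (S : Subgroup G), ∀ g : G, g⁻¹ * a * g ∈ (S : Subgroup G) →
      (a ∈ (h.sub 2 ε (hdbε k ε)).map (S : Subgroup G).subtype ↔
        g⁻¹ * a * g ∈ (h.sub 2 ε (hdbε k ε)).map (S : Subgroup G).subtype))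
    (F2 : ∃ n a : G, a ∈ (h.sub 2 ε (hdbε k ε)).map (S : Subgroup G).subtype ∧ ∃ c : ℤ,
      (2 : ℤ) ∣ c - ε ∧ (n * n) * a * (n * n)⁻¹ * a⁻¹ = ((x ^ c * y : (S : Subgroup G)) : G)) :
    ∃ K : Subgroup G, K.Normal ∧ K.index = 2 ∧
      (∀ P : Sylow 2 K, Nonempty ((P : Subgroup K) ≃* h.sub 2 ε (hdbε k ε))) ∧
      ∀ H : Subgroup K, H.index ≠ 2 := by
  have hf2 : Fact (Nat.Prime 2) := ⟨Nat.prime_two⟩
  set M₀ : Subgroup (S : Subgroup G) := h.sub 2 ε (hdbε k ε) with hM₀
  set M₀G : Subgroup G := M₀.map (S : Subgroup G).subtype with hM₀G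
  have hM₀idx : M₀.index = 2 := h.sub_two_index ε
  have hM₀S : M₀G ≤ (S : Subgroup G) := Subgroup.map_subtype_le _
  obtain ⟨n, a, haM, c, hc, hnc⟩ := F2
  have haS : a ∈ (S : Subgroup G) := hM₀S haM
  -- Step 1: the focal subgroup
  have hfocal : Subgroup.focalSubgroup (S : Subgroup G) = M₀G := by
    apply le_antisymm
    · rw [Subgroup.focalSubgroup_def, Subgroup.closure_le]
      rintro g ⟨hgS, a, haS, u, rfl⟩
      have hb : u * a * u⁻¹ ∈ (S : Subgroup G) := by
        have h1 : a⁻¹ * ⁅a, u⁆ ∈ (S : Subgroup G) := (S : Subgroup G).mul_mem ((S : Subgroup G).inv_mem haS) hgS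
        have h2 : u * a * u⁻¹ = (a⁻¹ * ⁅a, u⁆)⁻¹ := by rw [commutatorElement_def]; group
        rw [h2]; exact (S : Subgroup G).inv_mem h1
      have h3 := F1 a haS u⁻¹ (by rw [inv_inv]; exact hb)
      rw [inv_inv] at h3
      rw [mem_map_subtype_iff (S : Subgroup G) M₀ a haS, mem_map_subtype_iff (S : Subgroup G) M₀ _ hb] at h3
      rw [SetLike.mem_coe, mem_map_subtype_iff (S : Subgroup G) M₀ _ hgS]
      have e : (⟨⁅a, u⁆, hgS⟩ : (S : Subgroup G)) = (⟨a, haS⟩ : (S : Subgroup G)) * (⟨u * a * u⁻¹, hb⟩ : (S : Subgroup G))⁻¹ := by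
        apply Subtype.ext
        show ⁅a, u⁆ = a * (u * a * u⁻¹)⁻¹
        rw [commutatorElement_def]
        group
      rw [e, Subgroup.mul_mem_iff_of_index_two hM₀idx, Subgroup.inv_mem_iff]
      exact h3
    · have hmem : x ^ c * y ∈ Subgroup.focalSubgroupOf (S : Subgroup G) := by
        rw [Subgroup.focalSubgroupOf_def, Subgroup.mem_subgroupOf, ← hnc]
        have h1 : ((n * n) * a * (n * n)⁻¹ * a⁻¹)⁻¹ ∈ Subgroup.focalSubgroup (S : Subgroup G) := by
          apply Subgroup.subset_closure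
          refine ⟨?_, a, haS, n * n, ?_⟩
          · rw [hnc]; exact (S : Subgroup G).inv_mem (x ^ c * y).2
          · rw [commutatorElement_def]; simp [mul_assoc]
        have := (Subgroup.focalSubgroup (S : Subgroup G)).inv_mem h1
        rwa [inv_inv] at this
      have hle := h.sub_two_le_of_mem ε (Subgroup.focalSubgroupOf (S : Subgroup G)) c hc hmem
      calc M₀G = M₀.map (S : Subgroup G).subtype := rfl
        _ ≤ (Subgroup.focalSubgroupOf (S : Subgroup G)).map (S : Subgroup G).subtype := Subgroup.map_mono hle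
        _ = Subgroup.focalSubgroup (S : Subgroup G) := Subgroup.map_focalSubgroupOf (S : Subgroup G)
  -- Step 2: the kernel of the transfer
  have hHall : (Nat.card (S : Subgroup G)).Coprime (S : Subgroup G).index := S.card_coprime_index
  obtain ⟨hinf, hsup⟩ := Cfsg.Agent.Lib.Helper13.hall_transferFocal (S : Subgroup G) hHall
  set K : Subgroup G := (S : Subgroup G).transferFocal.ker with hK
  have hKn : K.Normal := MonoidHom.normal_ker _
  rw [hfocal] at hinf
  have hM₀K : M₀G ≤ K := by rw [← hinf]; exact inf_le_left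
  -- Step 3: the index
  have hK2 : K.index = 2 := by
    calc K.index = K.relIndex ⊤ := (Subgroup.relIndex_top_right K).symm
      _ = K.relIndex (K ⊔ (S : Subgroup G)) := by rw [hsup]
      _ = K.relIndex (S : Subgroup G) := Subgroup.relIndex_sup_left (S : Subgroup G) K
      _ = (K ⊓ (S : Subgroup G)).relIndex (S : Subgroup G) := (Subgroup.inf_relIndex_right K (S : Subgroup G)).symm
      _ = M₀G.relIndex (S : Subgroup G) := by rw [hinf]
      _ = M₀.index := by
          rw [Subgroup.relIndex, hM₀G, Subgroup.subgroupOf,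
            Subgroup.comap_map_eq_self_of_injective (S : Subgroup G).subtype_injective]
      _ = 2 := hM₀idx
  -- Step 4: Sylow subgroups
  obtain ⟨P₀, hP₀⟩ := Cfsg.Agent.Lib.Helper15.sylow_inf_normal S K
  have hP₀' : (P₀ : Subgroup K).map K.subtype = M₀G := by rw [hP₀, inf_comm, hinf]
  refine ⟨K, hKn, hK2, ?_, ?_⟩
  · intro P
    have e0 : (P : Subgroup K) ≃* (P₀ : Subgroup K) := Sylow.equiv P P₀
    have e1 : (P₀ : Subgroup K) ≃* ((P₀ : Subgroup K).map K.subtype) :=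
      (P₀ : Subgroup K).equivMapOfInjective K.subtype K.subtype_injective
    have e2 : ((P₀ : Subgroup K).map K.subtype) ≃* M₀G := MulEquiv.subgroupCongr hP₀'
    have e3 : M₀ ≃* M₀G := M₀.equivMapOfInjective (S : Subgroup G).subtype (S : Subgroup G).subtype_injective
    exact ⟨((e0.trans e1).trans e2).trans e3.symm⟩
  · intro H hH2
    -- the commutator subgroup of K contains M₀G
    have hnK : n * n ∈ K := Subgroup.mul_self_mem_of_index_two hK2 n
    have haK : a ∈ K := hM₀K haM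
    have hCn : (⁅K, K⁆ : Subgroup G).Normal := Subgroup.commutator_normal K K
    have hmem : x ^ c * y ∈ (⁅K, K⁆ : Subgroup G).subgroupOf (S : Subgroup G) := by
      rw [Subgroup.mem_subgroupOf, ← hnc]
      have := Subgroup.commutator_mem_commutator hnK haK
      rwa [commutatorElement_def] at this
    have hle := h.sub_two_le_of_mem ε ((⁅K, K⁆ : Subgroup G).subgroupOf (S : Subgroup G)) c hc hmem
    have hM₀C : M₀G ≤ ⁅K, K⁆ := by
      intro g hg
      have hgS := hM₀S hg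
      rw [mem_map_subtype_iff (S : Subgroup G) M₀ g hgS] at hg
      exact Subgroup.mem_subgroupOf.mp (hle hg)
    -- commutators lie in H
    have hcomm : commutator K ≤ H := by
      rw [commutator_def, Subgroup.commutator_le]
      intro g₁ _ g₂ _
      rw [commutatorElement_def, Subgroup.mul_mem_iff_of_index_two hH2,
        Subgroup.mul_mem_iff_of_index_two hH2, Subgroup.mul_mem_iff_of_index_two hH2,
        Subgroup.inv_mem_iff, Subgroup.inv_mem_iff]
      tauto
    have hP₀H : (P₀ : Subgroup K) ≤ H := by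
      intro p hp
      have h1 : (p : G) ∈ (P₀ : Subgroup K).map K.subtype := ⟨p, hp, rfl⟩
      rw [hP₀'] at h1
      have h2 := hM₀C h1
      rw [← Subgroup.map_subtype_commutator] at h2
      obtain ⟨q, hq, hqp⟩ := h2
      have : q = p := Subtype.ext hqp
      rw [← this]
      exact hcomm hq
    exact index_ne_two_of_sylow_le P₀ H hP₀H hH2

end QDSylow

end Cfsg.Agent.Lib.Helper59
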