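import Mathlib
import Cfsg.Agent.Lib.Helper59.QDIndexTwo

set_option autoImplicit false

namespace Cfsg.Agent.Lib.Helper59

namespace QD

variable {S : Type*} [Group S] {k : ℕ} {x y : S}

theorem mem_sub_two_zero_of_sq (h : QD S k x y) [Finite S] (g : S) (hg : g * g = 1) :
    g ∈ h.sub 2 0 (hdbε k 0) := by
  have hd8 := two_dvd_8w k
  by_cases h1 : g = 1
  · rw [h1]; exact Subgroup.one_mem _
  · rcases h.invol_cases g hg h1 with h2 | ⟨j, h2⟩
    · rw [h2, h.x_mem_sub hd8]; exact ⟨2 * 2 ^ k, by ring⟩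
    · rw [h2, h.xy_mem_sub hd8]; exact ⟨j, by ring⟩

theorem quat_le_sub_two_one (h : QD S k x y) [Finite S] (Q : Subgroup S)
    (e : Q ≃* QuaternionGroup 2) : Q ≤ h.sub 2 1 (hdbε k 1) := by
  have hd8 := two_dvd_8w k
  obtain ⟨f, hx, hy⟩ := h.quat_desc Q e
  intro g hg
  rcases h.cases g with ⟨c, rfl⟩ | ⟨c, rfl⟩
  · rw [h.x_mem_sub hd8]
    exact dvd_trans ⟨2 ^ k, by ring⟩ ((hx c).mp hg)
  · rw [h.xy_mem_sub hd8]
    obtain ⟨j, hj⟩ := (hy c).mp hg
    exact ⟨2 ^ k * j + f, by linarith⟩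

theorem z_mem_quat (h : QD S k x y) [Finite S] (Q : Subgroup S)
    (e : Q ≃* QuaternionGroup 2) : x ^ (4 * 2 ^ k : ℤ) ∈ Q := by
  obtain ⟨f, hx, hy⟩ := h.quat_desc Q e
  exact (hx _).mpr ⟨2, by ring⟩

theorem quat_invol_unique (h : QD S k x y) [Finite S] (Q : Subgroup S)
    (e : Q ≃* QuaternionGroup 2) (b : S) (hb : b ∈ Q) (hb2 : b * b = 1) (hb1 : b ≠ 1) :
    b = x ^ (4 * 2 ^ k : ℤ) := by
  have hz := h.z_mem_quat Q e
  have h1 := q8_unique_invol (e ⟨b, hb⟩) (e ⟨x ^ (4 * 2 ^ k : ℤ), hz⟩) ?_ ?_ ?_ ?_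
  · have := e.injective h1
    exact congrArg Subtype.val this
  · rw [← map_mul]
    have : (⟨b, hb⟩ : Q) * ⟨b, hb⟩ = 1 := Subtype.ext hb2
    rw [this, map_one]
  · rw [← map_mul]
    have : (⟨x ^ (4 * 2 ^ k : ℤ), hz⟩ : Q) * ⟨x ^ (4 * 2 ^ k : ℤ), hz⟩ = 1 := Subtype.ext h.z_sq
    rw [this, map_one]
  · intro h0
    apply hb1
    have : (⟨b, hb⟩ : Q) = 1 := e.injective (by rw [h0, map_one])
    exact congrArg Subtype.val this
  · intro h0
    apply h.z_ne_one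
    have : (⟨x ^ (4 * 2 ^ k : ℤ), hz⟩ : Q) = 1 := e.injective (by rw [h0, map_one])
    exact congrArg Subtype.val this

end QD

section QDSylow

variable {G : Type*} [Group G] [Finite G] (S : Sylow 2 G)
  (hS : Cfsg.IsQuasiDihedral (S : Subgroup G)) {k : ℕ} {x y : (S : Subgroup G)}
  (h : QD (S : Subgroup G) k x y)

include hS h

open QD

/-- fusion preserves the dihedral maximal subgroup when `|N(Q):QC(Q)| = 2` -/
theorem fusion_sub_two_zero (T : Subgroup G) (hT : IsKleinFour T) (hTS : T ≤ S)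
    (Q : Subgroup G) (hQS : Q ≤ S) (eQ : Q ≃* QuaternionGroup 2)
    (h₂ : (Q ⊔ Subgroup.centralizer (Q : Set G)).relIndex (Subgroup.normalizer (Q : Set G)) = 2)
    (a : G) (ha : a ∈ (S : Subgroup G)) (g : G) (hag : g⁻¹ * a * g ∈ (S : Subgroup G)) :
    (a ∈ (h.sub 2 0 (hdbε k 0)).map (S : Subgroup G).subtype ↔
      g⁻¹ * a * g ∈ (h.sub 2 0 (hdbε k 0)).map (S : Subgroup G).subtype) := by
  refine qd_fusion_induction S hS T hT hTS Q hQS eQ
    (fun a b => (a ∈ (h.sub 2 0 (hdbε k 0)).map (S : Subgroup G).subtype ↔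
      b ∈ (h.sub 2 0 (hdbε k 0)).map (S : Subgroup G).subtype)) ?_ ?_ ?_ ?_ (Or.inl h₂) a g ha hag
  · intro a; exact Iff.rfl
  · intro a b c h1 h2; exact h1.trans h2
  · intro a ha s hs
    have hsa : s * a * s⁻¹ ∈ (S : Subgroup G) :=
      Subgroup.mul_mem _ (Subgroup.mul_mem _ hs ha) (Subgroup.inv_mem _ hs)
    rw [mem_map_subtype_iff _ _ a ha, mem_map_subtype_iff _ _ _ hsa]
    exact (conj_mem_iff_of_index_two _ (h.sub_two_index 0) ⟨s, hs⟩ ⟨a, ha⟩).symm
  · right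
    intro H hHS hHK a ha b hb _
    have eH : H.subgroupOf (S : Subgroup G) ≃* H := Subgroup.subgroupOfEquivOfLe hHS
    have hH' : IsKleinFour (H.subgroupOf (S : Subgroup G)) :=
      Cfsg.Agent.S1203.isKleinFour_of_mulEquiv eH
    obtain ⟨_, h2⟩ := Cfsg.Agent.S1190.klein_props _ hH'
    have key : ∀ c ∈ H, c ∈ (h.sub 2 0 (hdbε k 0)).map (S : Subgroup G).subtype := by
      intro c hc
      rw [mem_map_subtype_iff _ _ c (hHS hc)]
      exact h.mem_sub_two_zero_of_sq _ (h2 ⟨c, hHS hc⟩ (Subgroup.mem_subgroupOf.mpr hc))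
    exact ⟨fun _ => key b hb, fun _ => key a ha⟩

/-- fusion preserves the quaternion maximal subgroup when `|N(T):C(T)| = 2` -/
theorem fusion_sub_two_one (T : Subgroup G) (hT : IsKleinFour T) (hTS : T ≤ S)
    (Q : Subgroup G) (hQS : Q ≤ S) (eQ : Q ≃* QuaternionGroup 2)
    (h₁ : (Subgroup.centralizer (T : Set G)).relIndex (Subgroup.normalizer (T : Set G)) = 2)
    (a : G) (ha : a ∈ (S : Subgroup G)) (g : G) (hag : g⁻¹ * a * g ∈ (S : Subgroup G)) :
    (a ∈ (h.sub 2 1 (hdbε k 1)).map (S : Subgroup G).subtype ↔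
      g⁻¹ * a * g ∈ (h.sub 2 1 (hdbε k 1)).map (S : Subgroup G).subtype) := by
  refine qd_fusion_induction S hS T hT hTS Q hQS eQ
    (fun a b => (a ∈ (h.sub 2 1 (hdbε k 1)).map (S : Subgroup G).subtype ↔
      b ∈ (h.sub 2 1 (hdbε k 1)).map (S : Subgroup G).subtype)) ?_ ?_ ?_ (Or.inl h₁) ?_ a g ha hag
  · intro a; exact Iff.rfl
  · intro a b c h1 h2; exact h1.trans h2
  · intro a ha s hs
    have hsa : s * a * s⁻¹ ∈ (S : Subgroup G) :=
      Subgroup.mul_mem _ (Subgroup.mul_mem _ hs ha) (Subgroup.inv_mem _ hs)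
    rw [mem_map_subtype_iff _ _ a ha, mem_map_subtype_iff _ _ _ hsa]
    exact (conj_mem_iff_of_index_two _ (h.sub_two_index 1) ⟨s, hs⟩ ⟨a, ha⟩).symm
  · right
    rintro H hHS ⟨eH⟩ a ha b hb _
    have eH' : H.subgroupOf (S : Subgroup G) ≃* QuaternionGroup 2 :=
      (Subgroup.subgroupOfEquivOfLe hHS).trans eH
    have key : ∀ c ∈ H, c ∈ (h.sub 2 1 (hdbε k 1)).map (S : Subgroup G).subtype := by
      intro c hc
      rw [mem_map_subtype_iff _ _ c (hHS hc)]
      exact h.quat_le_sub_two_one _ eH' (Subgroup.mem_subgroupOf.mpr hc)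
    exact ⟨fun _ => key b hb, fun _ => key a ha⟩

/-- `z` is not fused to anything else in `S` when `|N(T):C(T)| = 2`. -/
theorem fusion_z (T : Subgroup G) (hT : IsKleinFour T) (hTS : T ≤ S)
    (Q : Subgroup G) (hQS : Q ≤ S) (eQ : Q ≃* QuaternionGroup 2)
    (h₁ : (Subgroup.centralizer (T : Set G)).relIndex (Subgroup.normalizer (T : Set G)) = 2)
    (a : G) (ha : a ∈ (S : Subgroup G)) (g : G) (hag : g⁻¹ * a * g ∈ (S : Subgroup G)) :
    (a = ((x ^ (4 * 2 ^ k : ℤ) : (S : Subgroup G)) : G) ↔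
      g⁻¹ * a * g = ((x ^ (4 * 2 ^ k : ℤ) : (S : Subgroup G)) : G)) := by
  refine qd_fusion_induction S hS T hT hTS Q hQS eQ
    (fun a b => (a = ((x ^ (4 * 2 ^ k : ℤ) : (S : Subgroup G)) : G) ↔
      b = ((x ^ (4 * 2 ^ k : ℤ) : (S : Subgroup G)) : G))) ?_ ?_ ?_ (Or.inl h₁) ?_ a g ha hag
  · intro a; exact Iff.rfl
  · intro a b c h1 h2; exact h1.trans h2
  · intro a ha s hs
    have hcen : ∀ s ∈ (S : Subgroup G), s * ((x ^ (4 * 2 ^ k : ℤ) : (S : Subgroup G)) : G) * s⁻¹ =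
        ((x ^ (4 * 2 ^ k : ℤ) : (S : Subgroup G)) : G) := by
      intro s hs
      have := h.central_of_dvd (4 * 2 ^ k) (dvd_refl _) ⟨s, hs⟩
      have h1 := congrArg Subtype.val this
      rw [Subgroup.coe_mul, Subgroup.coe_mul] at h1
      rw [show (s : G) = ((⟨s, hs⟩ : (S : Subgroup G)) : G) from rfl, h1]
      group
    constructor
    · intro h1; rw [h1]; exact hcen s hs
    · intro h1
      have : a = s⁻¹ * (s * a * s⁻¹) * (s⁻¹)⁻¹ := by group
      rw [this, h1]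
      exact hcen s⁻¹ (Subgroup.inv_mem _ hs)
  · right
    rintro H hHS ⟨eH⟩ a ha b hb hab
    have eH' : H.subgroupOf (S : Subgroup G) ≃* QuaternionGroup 2 :=
      (Subgroup.subgroupOfEquivOfLe hHS).trans eH
    have hf2 : Fact (Nat.Prime 2) := ⟨Nat.prime_two⟩
    have key : ∀ c ∈ H, orderOf c = 2 → c = ((x ^ (4 * 2 ^ k : ℤ) : (S : Subgroup G)) : G) := by
      intro c hc hoc
      have h1 := h.quat_invol_unique _ eH' ⟨c, hHS hc⟩ (Subgroup.mem_subgroupOf.mpr hc) ?_ ?_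
      · exact congrArg Subtype.val h1
      · apply Subtype.ext
        show c * c = 1
        rw [← sq, ← hoc]; exact pow_orderOf_eq_one c
      · intro h0
        have : c = 1 := congrArg Subtype.val h0
        rw [this, orderOf_one] at hoc; omega
    have hoz := orderOf_zG S h
    constructor
    · intro h1
      apply key b hb
      rw [← hab, h1]; exact hoz
    · intro h1
      apply key a ha
      rw [hab, h1]; exact hoz

/-- elements of order four in `⟨x⟩` are not fused to elements outside `⟨x⟩` when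
`|N(Q):QC(Q)| = 2`. -/
theorem fusion_x (T : Subgroup G) (hT : IsKleinFour T) (hTS : T ≤ S)
    (Q : Subgroup G) (hQS : Q ≤ S) (eQ : Q ≃* QuaternionGroup 2)
    (h₂ : (Q ⊔ Subgroup.centralizer (Q : Set G)).relIndex (Subgroup.normalizer (Q : Set G)) = 2)
    (a : G) (ha : a ∈ (S : Subgroup G)) (g : G) (hag : g⁻¹ * a * g ∈ (S : Subgroup G)) :
    ((a ∈ (Subgroup.zpowers x).map (S : Subgroup G).subtype ∧ a * a ≠ 1) ↔
      (g⁻¹ * a * g ∈ (Subgroup.zpowers x).map (S : Subgroup G).subtype ∧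
        (g⁻¹ * a * g) * (g⁻¹ * a * g) ≠ 1)) := by
  refine qd_fusion_induction S hS T hT hTS Q hQS eQ
    (fun a b => ((a ∈ (Subgroup.zpowers x).map (S : Subgroup G).subtype ∧ a * a ≠ 1) ↔
      (b ∈ (Subgroup.zpowers x).map (S : Subgroup G).subtype ∧ b * b ≠ 1)))
    ?_ ?_ ?_ ?_ (Or.inl h₂) a g ha hag
  · intro a; exact Iff.rfl
  · intro a b c h1 h2; exact h1.trans h2
  · intro a ha s hs
    have hsa : s * a * s⁻¹ ∈ (S : Subgroup G) :=
      Subgroup.mul_mem _ (Subgroup.mul_mem _ hs ha) (Subgroup.inv_mem _ hs)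
    rw [mem_map_subtype_iff _ _ a ha, mem_map_subtype_iff _ _ _ hsa]
    have h1 := (conj_mem_iff_of_index_two _ h.index_zpowers ⟨s, hs⟩ ⟨a, ha⟩).symm
    have h2 : a * a ≠ 1 ↔ s * a * s⁻¹ * (s * a * s⁻¹) ≠ 1 := by
      have e : s * a * s⁻¹ * (s * a * s⁻¹) = s * (a * a) * s⁻¹ := by group
      rw [e]
      constructor
      · intro h3 h4
        apply h3
        have : a * a = s⁻¹ * (s * (a * a) * s⁻¹) * s := by group
        rw [this, h4]; group
      · intro h3 h4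
        apply h3
        rw [h4]; group
    exact and_congr h1 h2
  · right
    intro H hHS hHK a ha b hb _
    have eH : H.subgroupOf (S : Subgroup G) ≃* H := Subgroup.subgroupOfEquivOfLe hHS
    have hH' : IsKleinFour (H.subgroupOf (S : Subgroup G)) :=
      Cfsg.Agent.S1203.isKleinFour_of_mulEquiv eH
    obtain ⟨_, h2⟩ := Cfsg.Agent.S1190.klein_props _ hH'
    have key : ∀ c ∈ H, c * c = 1 := by
      intro c hc
      have := h2 ⟨c, hHS hc⟩ (Subgroup.mem_subgroupOf.mpr hc)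
      exact congrArg Subtype.val this
    exact ⟨fun h3 => absurd (key a ha) h3.2, fun h3 => absurd (key b hb) h3.2⟩

end QDSylow

end Cfsg.Agent.Lib.Helper59
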