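/-
K-OMb LEAF 12 (keystone 599112, S5991 pack of helper32): the Gram determinant of an invariant
nondegenerate subspace of type `(1, 2^(2j))` is in the square class of the norm of a fixed
anisotropic vector.
-/
import Cfsg.Agent.Lib.Helper69.OPbDefs
import Cfsg.Agent.Lib.Helper63.OhA
import Cfsg.Agent.Lib.Helper98.Os1

set_option autoImplicit false
set_option linter.unusedSectionVars false
set_option linter.unusedVariables false

namespace Cfsg.Agent.Lib.Helper59.OMb

open Module Cfsg.Agent.Lib.Helper98.Elus Cfsg.Agent.Lib.Helper98.Sy Cfsg.Agent.Lib.Helper98.Oh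
  Cfsg.Agent.Lib.Helper69.OPb

universe u
variable {F : Type u} [Field F] {V : Type u} [AddCommGroup V] [Module F V]

/-- change of basis multiplies the Gram determinant by a square -/
theorem gram_det_change (B : LinearMap.BilinForm F V) (W : Submodule F V)
    {ι κ : Type} [Fintype ι] [DecidableEq ι] [Fintype κ] [DecidableEq κ]
    (b : Basis ι F W) (c : Basis κ F W) :
    ∃ d : F, (Matrix.of fun i j => B (b i : V) (b j : V)).det =
      d ^ 2 * (Matrix.of fun i j => B (c i : V) (c j : V)).det := by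
  classical
  let e : ι ≃ κ := b.indexEquiv c
  let c' : Basis ι F W := c.reindex e.symm
  have h := LinearMap.BilinForm.toMatrix_mul_basis_toMatrix (b := c') b (B.restrict W)
  have h1 : (Matrix.of fun i j => B (b i : V) (b j : V)) =
      LinearMap.BilinForm.toMatrix b (B.restrict W) := by
    ext i j
    simp [LinearMap.BilinForm.toMatrix_apply]
  have h2 : LinearMap.BilinForm.toMatrix c' (B.restrict W) =
      (Matrix.of fun i j => B (c i : V) (c j : V)).submatrix e e := by
    ext i j
    simp [LinearMap.BilinForm.toMatrix_apply, c']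
  refine ⟨(c'.toMatrix b).det, ?_⟩
  rw [h1, ← h, Matrix.det_mul, Matrix.det_mul, Matrix.det_transpose, h2,
    Matrix.det_submatrix_equiv_self]
  ring

/-- the same for two equal subspaces -/
theorem gram_det_change' (B : LinearMap.BilinForm F V) (W W' : Submodule F V) (hWW : W' = W)
    {ι κ : Type} [Fintype ι] [DecidableEq ι] [Fintype κ] [DecidableEq κ]
    (b : Basis ι F W) (c : Basis κ F W') :
    ∃ d : F, (Matrix.of fun i j => B (b i : V) (b j : V)).det =
      d ^ 2 * (Matrix.of fun i j => B (c i : V) (c j : V)).det := by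
  subst hWW
  exact gram_det_change B W' b c

/-- LEAF 12 (599112) -/
theorem gram_isSquare_of_type_one_two [Fintype F] (h2 : (2 : F) ≠ 0) [FiniteDimensional F V]
    (B : LinearMap.BilinForm F V) (hS : ∀ a b, B a b = B b a) (u : V →ₗ[F] V) (hiso : Iso B u)
    (W : Submodule F V) (hW : Inv u W) (hWnd : NonDeg B W) (j : ℕ) (hd : finrank F W = 4 * j + 1)
    (hk1 : finrank F ↥(W ⊓ LinearMap.ker (u - 1)) = 2 * j + 1)
    (hk2 : finrank F ↥(W ⊓ LinearMap.ker ((u - 1) ^ 2)) = 4 * j + 1)
    (w : V) (hwW : w ∈ W) (hw : u w = w) (hww : B w w ≠ 0)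
    {ι : Type} [Fintype ι] [DecidableEq ι] (b : Basis ι F W) :
    IsSquare ((Matrix.of fun i j => B (b i : V) (b j : V)).det * B w w) := by
  classical
  have hR : B.IsRefl := fun a b h => by rw [hS]; exact h
  obtain ⟨N, hN⟩ : ∃ N : V →ₗ[F] V, N = u - 1 := ⟨_, rfl⟩
  rw [← hN] at hk1 hk2
  have hNa : ∀ x, N x = u x - x := fun x => by
    rw [hN, LinearMap.sub_apply, Module.End.one_apply]
  have hNW : ∀ x ∈ W, N x ∈ W := fun x hx => by
    rw [hNa]
    exact W.sub_mem (hW x hx) hx
  have hW2 : W ⊓ LinearMap.ker (N ^ 2) = W := by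
    apply Submodule.eq_of_le_of_finrank_eq inf_le_left
    rw [hk2, hd]
  have hN2 : ∀ x ∈ W, N (N x) = 0 := by
    intro x hx
    have h1 : x ∈ W ⊓ LinearMap.ker (N ^ 2) := by rw [hW2]; exact hx
    have h3 := (Submodule.mem_inf.1 h1).2
    rwa [LinearMap.mem_ker, pow_two, Module.End.mul_apply] at h3
  have hort : ∀ x z, u z = z → B (N x) z = 0 := by
    intro x z hz
    have h1 := hiso x z
    rw [hz] at h1
    rw [hNa, map_sub, LinearMap.sub_apply, h1, sub_self]
  obtain ⟨I, hI⟩ : ∃ I : Submodule F V, I = W.map N := ⟨_, rfl⟩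
  have hIW : I ≤ W := by
    rw [hI]
    rintro _ ⟨x, hx, rfl⟩
    exact hNW x hx
  have hIfix : ∀ y ∈ I, u y = y := by
    rw [hI]
    rintro _ ⟨x, hx, rfl⟩
    have h1 := hN2 x hx
    rw [hNa (N x)] at h1
    exact sub_eq_zero.1 h1
  have hIiso : ∀ y ∈ I, B y y = 0 := by
    intro y hy
    have hy' := hy
    rw [hI] at hy'
    obtain ⟨x, hx, rfl⟩ := hy'
    exact hort x (N x) (hIfix _ hy)
  have hdimI : finrank F I = 2 * j := by
    have h1 := LinearMap.finrank_range_add_finrank_ker (N.domRestrict W)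
    rw [LinearMap.range_domRestrict, LinearMap.ker_domRestrict, ← hI,
      ← Submodule.finrank_map_subtype_eq W ((LinearMap.ker N).comap W.subtype),
      Submodule.map_comap_subtype, hk1, hd] at h1
    omega
  -- the line spanned by w
  have hw0 : w ≠ 0 := by
    rintro rfl
    apply hww
    simp
  obtain ⟨L, hL⟩ : ∃ L : Submodule F V, L = Submodule.span F (Set.range (fun _ : Unit => w)) :=
    ⟨_, rfl⟩
  have hL' : L = Submodule.span F {w} := by
    rw [hL, Set.range_const]
  have hLW : L ≤ W := by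
    rw [hL', Submodule.span_singleton_le_iff_mem]
    exact hwW
  have hLnd : NonDeg B L := by
    intro x hx hx0
    rw [hL'] at hx
    obtain ⟨a, rfl⟩ := Submodule.mem_span_singleton.1 hx
    have h1 := hx0 w (by rw [hL']; exact Submodule.mem_span_singleton_self w)
    rw [map_smul, LinearMap.smul_apply, smul_eq_mul] at h1
    rcases mul_eq_zero.1 h1 with h | h
    · rw [h, zero_smul]
    · exact absurd h hww
  have hLdim : finrank F L = 1 := by
    rw [hL']
    exact finrank_span_singleton hw0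
  obtain ⟨hsup, hinf, hW'nd, hdim'⟩ := Cfsg.Agent.Lib.Helper98.Os.compl_props hR L W hLnd hLW hWnd
  obtain ⟨W', hW'⟩ : ∃ W' : Submodule F V, W' = B.orthogonal L ⊓ W := ⟨_, rfl⟩
  rw [← hW'] at hsup hinf hW'nd hdim'
  have hW'dim : finrank F W' = 2 * (2 * j) := by omega
  have hIW' : I ≤ W' := by
    rw [hW']
    intro y hy
    refine Submodule.mem_inf.2 ⟨?_, hIW hy⟩
    rw [LinearMap.BilinForm.mem_orthogonal_iff]
    intro n hn
    rw [hL'] at hn
    obtain ⟨a, rfl⟩ := Submodule.mem_span_singleton.1 hn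
    have hy' := hy
    rw [hI] at hy'
    obtain ⟨x, hx, rfl⟩ := hy'
    show B (a • w) (N x) = 0
    rw [map_smul, LinearMap.smul_apply, hS, hort x w hw, smul_zero]
  have hplus : Plus B W' := ⟨I, hIW', hIiso, by rw [hdimI, hW'dim]⟩
  -- bases
  have hli : LinearIndependent F (fun _ : Unit => w) := linearIndependent_unique_iff.2 hw0
  let b1 : Basis Unit F L := (Basis.span hli).map (LinearEquiv.ofEq _ _ hL.symm)
  have hb1 : ∀ i, ((b1 i : L) : V) = w := by
    intro i
    simp [b1, Basis.span_apply]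
  let b2 : Basis (Fin (finrank F W')) F W' := Module.finBasis F W'
  have hsq2 : IsSquare (Matrix.of fun i j => B (b2 i : V) (b2 j : V)).det := by
    have h1 := (Cfsg.Agent.Lib.Helper63.Oh.plus_iff_gram h2 B hS W' hW'nd (2 * j) hW'dim b2).1 hplus
    apply h1.2
    rw [pow_mul, neg_one_sq, one_pow]
    exact ⟨1, by ring⟩
  obtain ⟨c, hc1, hc2⟩ := Cfsg.Agent.Lib.Helper63.Oh.exists_sup_basis L W' hinf b1 b2
  obtain ⟨d, hd2⟩ := gram_det_change' B W (L ⊔ W') hsup b c
  -- the Gram matrix of c is block diagonal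
  have hG : (Matrix.of fun i j => B (c i : V) (c j : V)) =
      Matrix.fromBlocks (Matrix.of fun _ _ : Unit => B w w) 0 0
        (Matrix.of fun i j => B (b2 i : V) (b2 j : V)) := by
    have hwb : ∀ i, B w (b2 i : V) = 0 := by
      intro i
      have h1 : (b2 i : V) ∈ B.orthogonal L ⊓ W := by rw [← hW']; exact (b2 i).2
      have h3 := (Submodule.mem_inf.1 h1).1
      rw [LinearMap.BilinForm.mem_orthogonal_iff] at h3
      exact h3 w (by rw [hL']; exact Submodule.mem_span_singleton_self w)
    ext x y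
    rcases x with x | x <;> rcases y with y | y
    · simp [hc1, hb1]
    · simp [hc1, hc2, hb1, hwb]
    · simp only [Matrix.of_apply, hc1, hc2, hb1, Matrix.fromBlocks_apply₂₁, Matrix.zero_apply]
      rw [hS]
      exact hwb x
    · simp [hc2]
  obtain ⟨s, hs⟩ := hsq2
  rw [hd2, hG, Matrix.det_fromBlocks_zero₂₁, hs]
  refine ⟨d * s * B w w, ?_⟩
  simp
  ring

end Cfsg.Agent.Lib.Helper59.OMb
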