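import Mathlib

/-!
# K-LTO leaves for S2363 (architect helper33): three pure-Nat bounds (parallel hand, helper59)
-/

set_option autoImplicit false
set_option linter.unusedVariables false
open Finset

namespace Cfsg.Agent.Lib.Helper59.LTO

theorem pow_sub_one_lt {q : ℕ} (hq : 2 ≤ q) (a : ℕ) : q ^ a - 1 < q ^ a := by
  have : 0 < q ^ a := Nat.pow_pos (by omega)
  omega

/-- 236303 K-LTO-S, exact spec signature. -/
theorem sp_bound (q m : ℕ) (hq : 2 ≤ q) (hm : 1 ≤ m) :
    ∏ i ∈ range m, (q ^ (2 * (i + 1)) - 1) < q ^ (m ^ 2 + m) := by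
  induction m, hm using Nat.le_induction with
  | base =>
    simp only [range_one, prod_singleton]
    exact pow_sub_one_lt hq _
  | succ m hm ih =>
    rw [prod_range_succ]
    have e : (m + 1) ^ 2 + (m + 1) = (m ^ 2 + m) + 2 * (m + 1) := by ring
    rw [e, pow_add q (m ^ 2 + m) (2 * (m + 1))]
    exact Nat.mul_lt_mul'' ih (pow_sub_one_lt hq _)

/-- 236301 K-LTO-A, exact spec signature. -/
theorem psl_bound (q k : ℕ) (hq : 2 ≤ q) :
    ∏ j ∈ range (k + 1), (q ^ (j + 2) - 1) < q ^ ((∑ i ∈ range (k + 2), i) + k + 1) := by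
  induction k with
  | zero =>
    simp only [zero_add, range_one, prod_singleton]
    have : (∑ i ∈ range 2, i) + 0 + 1 = 2 := by decide
    rw [this]
    exact pow_sub_one_lt hq _
  | succ k ih =>
    rw [prod_range_succ]
    have e : (∑ i ∈ range (k + 1 + 2), i) + (k + 1) + 1
        = ((∑ i ∈ range (k + 2), i) + k + 1) + (k + 1 + 2) := by
      rw [show k + 1 + 2 = (k + 2) + 1 by ring, sum_range_succ]; ring
    rw [e, pow_add q ((∑ i ∈ range (k + 2), i) + k + 1) (k + 1 + 2)]
    exact Nat.mul_lt_mul'' ih (pow_sub_one_lt hq _)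

/-- key pairing inequality: `(q^a - 1)(q^(a+1) + 1) < q^(2a+1)` -/
theorem pair_lt {q : ℕ} (hq : 2 ≤ q) (a : ℕ) (ha : 1 ≤ a) :
    (q ^ a - 1) * (q ^ (a + 1) + 1) < q ^ (a + (a + 1)) := by
  have hpos : 0 < q ^ a := Nat.pow_pos (by omega)
  obtain ⟨y, hy⟩ : ∃ y, q ^ a = y + 1 := ⟨q ^ a - 1, by omega⟩
  have h1 : q ^ (a + 1) = q ^ a * q := pow_succ q a
  have h2 : q ^ (a + (a + 1)) = q ^ a * (q ^ a * q) := by rw [pow_add, pow_succ]
  rw [h2, h1, hy]
  simp only [Nat.add_sub_cancel]
  nlinarith [Nat.zero_le y, Nat.zero_le (q * y)]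

/-- the factor of `psu_bound` -/
def uf (q i : ℕ) : ℕ := if Even (i + 1) then q ^ (i + 2) + 1 else q ^ (i + 2) - 1

theorem tri_succ (k : ℕ) : (k + 4) * (k + 3) / 2 = (k + 3) * (k + 2) / 2 + (k + 3) := by
  have : (k + 4) * (k + 3) = (k + 3) * (k + 2) + 2 * (k + 3) := by ring
  rw [this, Nat.add_mul_div_left _ _ (by norm_num)]

theorem psu_inv (q : ℕ) (hq : 2 ≤ q) (k : ℕ) :
    (∏ i ∈ range (k + 2), uf q i < q ^ ((k + 3) * (k + 2) / 2 + k + 2)) ∧
    (Odd k → (∏ i ∈ range (k + 2), uf q i) * (q ^ (k + 4) + 1)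
      < q ^ ((k + 3) * (k + 2) / 2 + k + 2 + (k + 4))) := by
  induction k with
  | zero =>
    refine ⟨?_, fun h => absurd h (by decide)⟩
    have : ∏ i ∈ range (0 + 2), uf q i = (q ^ 2 - 1) * (q ^ 3 + 1) := by
      rw [prod_range_succ, prod_range_succ, prod_range_zero, one_mul]
      have h0 : ¬ Even (0 + 1) := by decide
      have h1 : Even (1 + 1) := by decide
      simp only [uf, h0, h1, if_true, if_false]
    rw [this]
    have := pair_lt hq 2 (by norm_num)
    simpa using this
  | succ k ih =>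
    obtain ⟨ih1, ih2⟩ := ih
    have hexp : (k + 1 + 3) * (k + 1 + 2) / 2 + (k + 1) + 2
        = ((k + 3) * (k + 2) / 2 + k + 2) + (k + 4) := by
      have := tri_succ k
      have e1 : (k + 1 + 3) * (k + 1 + 2) = (k + 4) * (k + 3) := by ring
      rw [e1, this]; ring
    have hprod : ∏ i ∈ range (k + 1 + 2), uf q i = (∏ i ∈ range (k + 2), uf q i) * uf q (k + 2) := by
      rw [show k + 1 + 2 = (k + 2) + 1 by ring, prod_range_succ]
    constructor
    · rw [hprod, hexp]
      rcases Nat.even_or_odd k with hk | hk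
      · -- k even: the new factor has a minus sign
        have hne : ¬ Even (k + 2 + 1) := by
          rw [Nat.not_even_iff_odd]; exact (hk.add_odd (by decide : Odd 3))
        have : uf q (k + 2) = q ^ (k + 4) - 1 := by
          simp only [uf, hne, if_false]
        rw [this, pow_add q ((k + 3) * (k + 2) / 2 + k + 2) (k + 4)]
        exact Nat.mul_lt_mul'' ih1 (pow_sub_one_lt hq _)
      · -- k odd: plus sign, use the second invariant
        have he : Even (k + 2 + 1) := by
          have : Even (k + 3) := hk.add_odd (by decide : Odd 3)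
          simpa using this
        have : uf q (k + 2) = q ^ (k + 4) + 1 := by
          simp only [uf, he, if_true]
        rw [this]
        exact ih2 hk
    · intro hk1
      -- k + 1 odd, so k even: last factor is `q^(k+4) - 1`
      have hk : Even k := by
        rcases Nat.even_or_odd k with h | h
        · exact h
        · exfalso
          have : Even (k + 1) := h.add_odd (by decide : Odd 1)
          exact (Nat.not_even_iff_odd.2 hk1) this
      have hne : ¬ Even (k + 2 + 1) := by
        rw [Nat.not_even_iff_odd]; exact (hk.add_odd (by decide : Odd 3))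
      have hu : uf q (k + 2) = q ^ (k + 4) - 1 := by
        simp only [uf, hne, if_false]
      rw [hprod, hu, hexp]
      have hpair := pair_lt hq (k + 4) (by omega)
      have e2 : (k + 3) * (k + 2) / 2 + k + 2 + (k + 4) + (k + 1 + 4)
          = ((k + 3) * (k + 2) / 2 + k + 2) + ((k + 4) + (k + 4 + 1)) := by ring
      rw [e2, pow_add _ ((k + 3) * (k + 2) / 2 + k + 2), mul_assoc]
      have e3 : k + 1 + 4 = k + 4 + 1 := by ring
      rw [e3]
      exact Nat.mul_lt_mul'' ih1 hpair

/-- 236302 K-LTO-U, exact spec signature. -/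
theorem psu_bound (q k : ℕ) (hq : 2 ≤ q) :
    ∏ i ∈ range (k + 2), (if Even (i + 1) then q ^ (i + 2) + 1 else q ^ (i + 2) - 1)
      < q ^ ((k + 3) * (k + 2) / 2 + k + 2) :=
  (psu_inv q hq k).1

end Cfsg.Agent.Lib.Helper59.LTO
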