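import Cfsg.Agent.Lib.Helper64.StBDefs
import Cfsg.Agent.Lib.Helper08.BNPairSimple

/-!
# K-S2311-B1: double cosets of parabolic subgroups and `W_J n W_K`
-/

set_option autoImplicit false

namespace Cfsg.Agent.Lib.Helper59.StB

open Cfsg Cfsg.Agent.Lib.Helper08 Cfsg.Agent.Lib.Helper64.StB

variable {G : Type*} [Group G] (P : Cfsg.BNPair G)

/-- the union of the double cosets `B a m B`, `a ∈ W_J`. -/
def BJm (J : Set G) (m : G) : Set G := {g | ∃ a ∈ Subgroup.closure J, DC P (a * m) g}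

theorem closure_le_N {J : Set G} (hJ : J ⊆ P.S) : Subgroup.closure J ≤ P.N :=
  (Subgroup.closure_le _).2 fun _ hs => P.subset (hJ hs)

theorem B_le_stabSub_BJm (J : Set G) (m : G) : P.B ≤ stabSub (BJm P J m) := by
  intro b hb x hx
  obtain ⟨a, ha, hx⟩ := hx
  exact ⟨⟨a, ha, DC_mul_left P hb hx⟩, ⟨a, ha, DC_mul_left P (P.B.inv_mem hb) hx⟩⟩

theorem S_mem_stabSub_BJm {J : Set G} (hJ : J ⊆ P.S) {m : G} (hm : m ∈ P.N) {s : G} (hs : s ∈ J) :
    s ∈ stabSub (BJm P J m) := by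
  intro x hx
  obtain ⟨a, ha, b1, hb1, b2, hb2, rfl⟩ := hx
  have hamN : a * m ∈ P.N := P.N.mul_mem (closure_le_N P hJ ha) hm
  have hsa : s * a ∈ Subgroup.closure J := Subgroup.mul_mem _ (Subgroup.subset_closure hs) ha
  constructor
  · have e : s * (b1 * (a * m) * b2) = (s * b1 * (a * m)) * b2 := by group
    rw [e]
    rcases axL P (hJ hs) hamN hb1 with h | h
    · refine ⟨s * a, hsa, DC_mul_right P hb2 ?_⟩
      rw [mul_assoc s a m]
      exact h
    · exact ⟨a, ha, DC_mul_right P hb2 h⟩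
  · have e : s⁻¹ * (b1 * (a * m) * b2) = (s⁻¹ * b1 * (a * m)) * b2 := by group
    rw [e]
    rcases axL_inv P (hJ hs) hamN hb1 with h | h
    · refine ⟨s * a, hsa, DC_mul_right P hb2 ?_⟩
      rw [mul_assoc s a m]
      exact h
    · exact ⟨a, ha, DC_mul_right P hb2 h⟩

/-- left multiplication by `P_J` moves `B m B` into some `B a m B`, `a ∈ W_J`. -/
theorem exists_DC_of_mem_parabolic {J : Set G} (hJ : J ⊆ P.S) {m : G} (hm : m ∈ P.N) {p g : G}
    (hp : p ∈ P.parabolic J) (hg : DC P m g) :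
    ∃ a ∈ Subgroup.closure J, DC P (a * m) (p * g) := by
  have h1 : Subgroup.closure J ≤ stabSub (BJm P J m) :=
    (Subgroup.closure_le _).2 fun s hs => S_mem_stabSub_BJm P hJ hm hs
  have h2 : P.parabolic J ≤ stabSub (BJm P J m) := sup_le (B_le_stabSub_BJm P J m) h1
  have hg' : g ∈ BJm P J m := ⟨1, Subgroup.one_mem _, by rw [one_mul]; exact hg⟩
  exact (h2 hp g hg').1

/-- **K-S2311-B1.** -/
theorem eqv_of_mem_dcoset {J K : Set G} (hJ : J ⊆ P.S) (hK : K ⊆ P.S) {n n' p p' : G}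
    (hn : n ∈ P.N) (hn' : n' ∈ P.N) (hp : p ∈ P.parabolic J) (hp' : p' ∈ P.parabolic K)
    (h : n' = p * n * p') :
    ∃ a ∈ Subgroup.closure J, ∃ b ∈ Subgroup.closure K, Eqv P n' (a * n * b) := by
  -- right side first, by inversion
  obtain ⟨b', hb', hDC1⟩ := exists_DC_of_mem_parabolic P hK (P.N.inv_mem hn)
    ((P.parabolic K).inv_mem hp') (DC_self P n⁻¹)
  have hDC2 : DC P (n * b'⁻¹) (n * p') := by
    have := DC_inv P hDC1
    simpa [mul_inv_rev] using this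
  have hb : b'⁻¹ ∈ Subgroup.closure K := Subgroup.inv_mem _ hb'
  have hnb : n * b'⁻¹ ∈ P.N := P.N.mul_mem hn (closure_le_N P hK hb)
  obtain ⟨a, ha, hDC3⟩ := exists_DC_of_mem_parabolic P hJ hnb hp hDC2
  refine ⟨a, ha, b'⁻¹, hb, ?_⟩
  have hanb : a * (n * b'⁻¹) ∈ P.N := P.N.mul_mem (closure_le_N P hJ ha) hnb
  have hDC4 : DC P (a * (n * b'⁻¹)) n' := by
    rw [h, mul_assoc p n p']
    exact hDC3
  have := Eqv_symm P (bruhat_unique P hanb hn' hDC4)
  rwa [← mul_assoc] at this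

end Cfsg.Agent.Lib.Helper59.StB
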