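import Mathlib
import Cfsg.Agent.Lib.Helper74.MinIdxDefs

/-!
# S2140 keystone K12: a covering subgroup of the point stabiliser without transvections
gives a cocycle.
-/

set_option autoImplicit false

namespace Cfsg.Agent.Lib.Helper59.MinIdx

open Matrix Cfsg.Agent.Lib.Helper74.MinIdx

variable {κ : Type*} [Fintype κ] [DecidableEq κ] {F : Type*} [Field F]

theorem blkM_mul_blkM (A B : Matrix κ κ F) (r s : κ → F) :
    blkM A r * blkM B s = blkM (A * B) ((A.det)⁻¹ • s + r ᵥ* B) := by
  unfold blkM
  rw [fromBlocks_multiply]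
  congr 1
  · ext i j
    simp [Matrix.mul_apply, Matrix.det_mul]
    exact mul_comm _ _
  · ext i j
    simp [Matrix.mul_apply, Matrix.vecMul, dotProduct]
  · simp
  · simp

theorem blk_mul_blk (A B : GL κ F) (r s : κ → F) :
    blk A r * blk B s =
      blk (A * B) (((A : Matrix κ κ F).det)⁻¹ • s + r ᵥ* (B : Matrix κ κ F)) := by
  apply Subtype.ext
  simp only [Matrix.SpecialLinearGroup.coe_mul, coe_blk, Units.val_mul]
  exact blkM_mul_blkM _ _ _ _

theorem blk_one_eq_tv (s : κ → F) :
    blk (1 : GL κ F) s = tv (v0 : Unit ⊕ κ → F) (Sum.elim (fun _ => 0) s)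
      (by simp [dotProduct, v0]) := by
  apply Subtype.ext
  simp only [coe_blk, coe_tv]
  ext i j
  rcases i with i | i <;> rcases j with j | j <;>
    simp [blkM, tvM, vecMulVec_apply, v0, Matrix.one_apply]

omit [Fintype κ] [DecidableEq κ] in
theorem v0_ne_zero : (v0 : Unit ⊕ κ → F) ≠ 0 := by
  intro h
  have := congrFun h (Sum.inl ())
  simp [v0] at this

/-- K12: a covering subgroup without transvections gives a cocycle. -/
theorem K12_cocycle (K : Subgroup (SpecialLinearGroup (Unit ⊕ κ) F))
    (hK : ∀ A : GL κ F, ∃ r : κ → F, blk A r ∈ K) (hno : ∀ g ∈ K, ¬ IsTv g) :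
    ∃ r : GL κ F → κ → F, (∀ A, blk A (r A) ∈ K) ∧
      ∀ A B : GL κ F, r (A * B) =
        ((A : Matrix κ κ F).det)⁻¹ • r B + r A ᵥ* (B : Matrix κ κ F) := by
  -- uniqueness
  have huniq : ∀ (A : GL κ F) (r₁ r₂ : κ → F), blk A r₁ ∈ K → blk A r₂ ∈ K → r₁ = r₂ := by
    intro A r₁ r₂ h1 h2
    have hdet : (A : Matrix κ κ F).det ≠ 0 := (Matrix.isUnits_det_units A).ne_zero
    set s : κ → F := (A : Matrix κ κ F).det • (r₂ - r₁) with hs
    have hprod : blk A r₁ * blk (1 : GL κ F) s = blk A r₂ := by
      rw [blk_mul_blk, mul_one]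
      congr 1
      rw [hs, smul_smul, inv_mul_cancel₀ hdet, one_smul, Units.val_one, Matrix.vecMul_one]
      abel
    have hmem : blk (1 : GL κ F) s ∈ K := by
      have : blk (1 : GL κ F) s = (blk A r₁)⁻¹ * blk A r₂ := by
        rw [← hprod, inv_mul_cancel_left]
      rw [this]
      exact K.mul_mem (K.inv_mem h1) h2
    have hs0 : s = 0 := by
      by_contra hne
      apply hno _ hmem
      refine ⟨v0, Sum.elim (fun _ => 0) s, by simp [dotProduct, v0], v0_ne_zero, ?_,
        blk_one_eq_tv s⟩
      intro h0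
      apply hne
      funext j
      have := congrFun h0 (Sum.inr j)
      simpa using this
    have : r₂ - r₁ = 0 := by
      have h3 : (A : Matrix κ κ F).det • (r₂ - r₁) = 0 := hs0
      rcases smul_eq_zero.1 h3 with h | h
      · exact absurd h hdet
      · exact h
    exact (sub_eq_zero.1 this).symm
  refine ⟨fun A => Classical.choose (hK A), fun A => Classical.choose_spec (hK A), ?_⟩
  intro A B
  apply huniq (A * B)
  · exact Classical.choose_spec (hK (A * B))
  · rw [← blk_mul_blk]
    exact K.mul_mem (Classical.choose_spec (hK A)) (Classical.choose_spec (hK B))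

end Cfsg.Agent.Lib.Helper59.MinIdx
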