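import Mathlib
import Cfsg.Prelude.Def_GeometricClasses
import Cfsg.Agent.Lib.Helper61.AschDefs
import Cfsg.Agent.Lib.Helper43.SpAschDefs
import Cfsg.Agent.Lib.Helper43.SpAschDefs2

/-!
# K-SpAsch-S2p: an isotypic component of an adjoint-closed algebra pairs with at most one component

The core `nonempty_linearEquiv_of_pairing` and `isotypicComponent_pairing_of_adj` are stated for an
arbitrary bilinear form `f` and a subalgebra `A` closed under adjoints on both sides (for `f` and for
`fun u v => f v u`), so they apply to symplectic and to symmetric forms alike.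
-/

set_option autoImplicit false

namespace Cfsg.Agent.Lib.Helper59.SpAsch

open Cfsg Cfsg.Geo Cfsg.Agent.Lib.Helper61.Asch
open scoped Matrix Kronecker MatrixGroups

section bil

variable {F : Type*} [Field F] {ι : Type}

theorem bil_zero_left {f : (ι → F) → (ι → F) → F} (hf : IsBilinearForm f) (v : ι → F) : f 0 v = 0 := by
  have := hf.smul_left 0 0 v
  rwa [zero_smul, zero_mul] at this

theorem bil_zero_right {f : (ι → F) → (ι → F) → F} (hf : IsBilinearForm f) (v : ι → F) : f v 0 = 0 := by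
  have := hf.smul_right 0 v 0
  rwa [zero_smul, zero_mul] at this

theorem bil_sub_right {f : (ι → F) → (ι → F) → F} (hf : IsBilinearForm f) (v x y : ι → F) :
    f v (x - y) = f v x - f v y := by
  have h := hf.add_right v (x - y) y
  rw [sub_add_cancel] at h
  rw [h, add_sub_cancel_right]

theorem bil_sub_left {f : (ι → F) → (ι → F) → F} (hf : IsBilinearForm f) (x y v : ι → F) :
    f (x - y) v = f x v - f y v := by
  have h := hf.add_left (x - y) y v
  rw [sub_add_cancel] at h
  rw [h, add_sub_cancel_right]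

theorem isBilinearForm_flip {f : (ι → F) → (ι → F) → F} (hf : IsBilinearForm f) :
    IsBilinearForm (fun u v => f v u) where
  add_left x y v := hf.add_right v x y
  smul_left c x v := hf.smul_right c v x
  add_right v x y := hf.add_left x y v
  smul_right c v x := hf.smul_left c x v

variable [Fintype ι]

/-- Perfect pairing: if both kernels of the pairing `S × T → F` are trivial, every functional on `S` is
represented by a vector of `T`. -/
theorem exists_repr {f : (ι → F) → (ι → F) → F} (hf : IsBilinearForm f) (S T : Submodule F (ι → F))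
    (hl : ∀ s ∈ S, (∀ t ∈ T, f s t = 0) → s = 0) (hr : ∀ t ∈ T, (∀ s ∈ S, f s t = 0) → t = 0)
    (lam : S →ₗ[F] F) : ∃ t ∈ T, ∀ s : S, f (s : ι → F) t = lam s := by
  -- `T → S^*`
  let Φ : T →ₗ[F] Module.Dual F S :=
    { toFun := fun t =>
        { toFun := fun s => f (s : ι → F) (t : ι → F)
          map_add' := fun x y => by simpa using hf.add_left (x : ι → F) y t
          map_smul' := fun c x => by simpa using hf.smul_left c (x : ι → F) t }
      map_add' := fun x y => by
        ext s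
        simpa using hf.add_right (s : ι → F) x y
      map_smul' := fun c x => by
        ext s
        simpa using hf.smul_right c (s : ι → F) x }
  let Ψ : S →ₗ[F] Module.Dual F T :=
    { toFun := fun s =>
        { toFun := fun t => f (s : ι → F) (t : ι → F)
          map_add' := fun x y => by simpa using hf.add_right (s : ι → F) x y
          map_smul' := fun c x => by simpa using hf.smul_right c (s : ι → F) x }
      map_add' := fun x y => by
        ext t
        simpa using hf.add_left (x : ι → F) y t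
      map_smul' := fun c x => by
        ext t
        simpa using hf.smul_left c (x : ι → F) t }
  have hΦ : Function.Injective Φ := by
    rw [injective_iff_map_eq_zero]
    intro t ht
    have h0 : (t : ι → F) = 0 := hr t t.2 fun s hs => by
      have := LinearMap.congr_fun ht ⟨s, hs⟩
      simpa [Φ] using this
    exact Subtype.ext h0
  have hΨ : Function.Injective Ψ := by
    rw [injective_iff_map_eq_zero]
    intro s hs
    have h0 : (s : ι → F) = 0 := hl s s.2 fun t ht => by
      have := LinearMap.congr_fun hs ⟨t, ht⟩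
      simpa [Ψ] using this
    exact Subtype.ext h0
  have h1 : Module.finrank F T ≤ Module.finrank F S := by
    have := LinearMap.finrank_le_finrank_of_injective hΦ
    rwa [Subspace.dual_finrank_eq] at this
  have h2 : Module.finrank F S ≤ Module.finrank F T := by
    have := LinearMap.finrank_le_finrank_of_injective hΨ
    rwa [Subspace.dual_finrank_eq] at this
  have h3 : Module.finrank F T = Module.finrank F (Module.Dual F S) := by
    rw [Subspace.dual_finrank_eq]
    omega
  have hsurj : Function.Surjective Φ :=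
    (LinearMap.injective_iff_surjective_of_finrank_eq_finrank h3).1 hΦ
  obtain ⟨t, ht⟩ := hsurj lam
  refine ⟨t, t.2, fun s => ?_⟩
  have := LinearMap.congr_fun ht s
  simpa [Φ] using this

end bil

section simple

variable {F : Type*} [Field F] {n : ℕ}

local notation "V" => (Fin n → F)
local notation "Mat" => Matrix (Fin n) (Fin n) F

/-- `A` is closed under adjoints for `f`, without reference to `IsAdjointClosedFor` (so that it can be
applied to the flipped form too). -/
def AdjL (f : V → V → F) (A : Subalgebra F Mat) : Prop :=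
  ∀ a ∈ A, ∃ a' ∈ A, ∀ u v : V, f (a *ᵥ u) v = f u (a' *ᵥ v)

theorem smul_eq_mulVec (A : Subalgebra F Mat) (a : A) (w : V) : a • w = (a : Mat) *ᵥ w := rfl

/-- the left kernel of the pairing of two submodules, the first one simple, is trivial. -/
theorem left_ker_trivial {f : V → V → F} (hf : IsBilinearForm f) {A : Subalgebra F Mat} (hA : AdjL f A)
    (S T : Submodule A V) [hS : IsSimpleModule A S] (hne : ∃ s ∈ S, ∃ t ∈ T, f s t ≠ 0) :
    ∀ s ∈ S, (∀ t ∈ T, f s t = 0) → s = 0 := by
  have hso : IsSimpleOrder (Submodule A S) := hS.toIsSimpleOrder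
  let N : Submodule A V :=
    { carrier := {s | s ∈ S ∧ ∀ t ∈ T, f s t = 0}
      add_mem' := by
        rintro x y ⟨hx, hx'⟩ ⟨hy, hy'⟩
        refine ⟨S.add_mem hx hy, fun t ht => ?_⟩
        rw [hf.add_left, hx' t ht, hy' t ht, add_zero]
      zero_mem' := ⟨S.zero_mem, fun t _ => bil_zero_left hf t⟩
      smul_mem' := by
        rintro a x ⟨hx, hx'⟩
        refine ⟨S.smul_mem a hx, fun t ht => ?_⟩
        obtain ⟨a', ha', hadj⟩ := hA a a.2
        rw [smul_eq_mulVec, hadj]
        exact hx' _ (T.smul_mem ⟨a', ha'⟩ ht) }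
  have hNS : N ≤ S := fun x hx => hx.1
  rcases eq_bot_or_eq_top (N.comap S.subtype) with h | h
  · intro s hs hs'
    have hmem : (⟨s, hs⟩ : S) ∈ N.comap S.subtype := ⟨hs, hs'⟩
    rw [h, Submodule.mem_bot] at hmem
    exact congrArg Subtype.val hmem
  · exfalso
    rw [Submodule.comap_subtype_eq_top] at h
    obtain ⟨s, hs, t, ht, hst⟩ := hne
    exact hst ((h hs).2 t ht)

/-- two simple submodules `T`, `T'` pairing non-trivially with isomorphic simple submodules are
isomorphic. -/
theorem nonempty_linearEquiv_of_pairing {f : V → V → F} (hf : IsBilinearForm f) {A : Subalgebra F Mat}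
    (hL : AdjL f A) (hR : AdjL (fun u v => f v u) A)
    (S S' T T' : Submodule A V) [IsSimpleModule A S] [IsSimpleModule A S'] [IsSimpleModule A T]
    [IsSimpleModule A T'] (ψ : S ≃ₗ[A] S') (h : ∃ s ∈ S, ∃ t ∈ T, f s t ≠ 0)
    (h' : ∃ s ∈ S', ∃ t ∈ T', f s t ≠ 0) : Nonempty (T ≃ₗ[A] T') := by
  have hf' := isBilinearForm_flip hf
  -- kernels
  have kl : ∀ s ∈ S, (∀ t ∈ T, f s t = 0) → s = 0 := left_ker_trivial hf hL S T h
  have kr : ∀ t ∈ T, (∀ s ∈ S, f s t = 0) → t = 0 :=
    left_ker_trivial hf' hR T S (by obtain ⟨s, hs, t, ht, hst⟩ := h; exact ⟨t, ht, s, hs, hst⟩)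
  have kl' : ∀ s ∈ S', (∀ t ∈ T', f s t = 0) → s = 0 := left_ker_trivial hf hL S' T' h'
  have kr' : ∀ t ∈ T', (∀ s ∈ S', f s t = 0) → t = 0 :=
    left_ker_trivial hf' hR T' S' (by obtain ⟨s, hs, t, ht, hst⟩ := h'; exact ⟨t, ht, s, hs, hst⟩)
  -- the relation
  let R : V → V → Prop := fun t t' => ∀ s : S, f (s : V) t = f ((ψ s : S') : V) t'
  have hRadd : ∀ t₁ t₂ t₁' t₂', R t₁ t₁' → R t₂ t₂' → R (t₁ + t₂) (t₁' + t₂') := by
    intro t₁ t₂ t₁' t₂' h1 h2 s
    rw [hf.add_right, hf.add_right, h1 s, h2 s]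
  have hRsmul : ∀ (a : A) (t t' : V), R t t' → R (a • t) (a • t') := by
    intro a t t' h1 s
    obtain ⟨a', ha', hadj⟩ := hR a a.2
    have e1 : f (s : V) (a • t) = f ((a' : Mat) *ᵥ (s : V)) t := hadj t s
    have e2 : f ((ψ s : S') : V) (a • t') = f ((a' : Mat) *ᵥ ((ψ s : S') : V)) t' := hadj t' _
    rw [e1, e2]
    have e3 := h1 ((⟨a', ha'⟩ : A) • s)
    rw [map_smul] at e3
    exact e3
  -- existence
  have ex1 : ∀ t ∈ T, ∃ t' ∈ T', R t t' := by
    intro t _
    let lam : (S'.restrictScalars F) →ₗ[F] F :=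
      { toFun := fun s' => f ((ψ.symm ⟨s'.1, s'.2⟩ : S) : V) t
        map_add' := fun x y => by
          have : (⟨(x + y).1, (x + y).2⟩ : S') = ⟨x.1, x.2⟩ + ⟨y.1, y.2⟩ := rfl
          rw [this, map_add, Submodule.coe_add, hf.add_left]
        map_smul' := fun c x => by
          have : (⟨(c • x).1, (c • x).2⟩ : S') = c • (⟨x.1, x.2⟩ : S') := rfl
          rw [this]
          have e := (ψ.symm.toLinearMap.restrictScalars F).map_smul c (⟨x.1, x.2⟩ : S')
          simp only [LinearMap.coe_restrictScalars, LinearEquiv.coe_coe] at e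
          rw [e, Submodule.coe_smul_of_tower, hf.smul_left]
          rfl }
    obtain ⟨t', ht', hrep⟩ := exists_repr hf (S'.restrictScalars F) (T'.restrictScalars F)
      (fun s hs hs' => kl' s hs hs') (fun t ht ht' => kr' t ht ht') lam
    refine ⟨t', ht', fun s => ?_⟩
    have := hrep ⟨((ψ s : S') : V), (ψ s).2⟩
    rw [this]
    change f ((s : S) : V) t = f ((ψ.symm ⟨((ψ s : S') : V), (ψ s).2⟩ : S) : V) t
    rw [Subtype.coe_eta, LinearEquiv.symm_apply_apply]
  have ex2 : ∀ t' ∈ T', ∃ t ∈ T, R t t' := by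
    intro t' _
    let lam : (S.restrictScalars F) →ₗ[F] F :=
      { toFun := fun s => f ((ψ ⟨s.1, s.2⟩ : S') : V) t'
        map_add' := fun x y => by
          have : (⟨(x + y).1, (x + y).2⟩ : S) = ⟨x.1, x.2⟩ + ⟨y.1, y.2⟩ := rfl
          rw [this, map_add, Submodule.coe_add, hf.add_left]
        map_smul' := fun c x => by
          have : (⟨(c • x).1, (c • x).2⟩ : S) = c • (⟨x.1, x.2⟩ : S) := rfl
          rw [this]
          have e := (ψ.toLinearMap.restrictScalars F).map_smul c (⟨x.1, x.2⟩ : S)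
          simp only [LinearMap.coe_restrictScalars, LinearEquiv.coe_coe] at e
          rw [e, Submodule.coe_smul_of_tower, hf.smul_left]
          rfl }
    obtain ⟨t, ht, hrep⟩ := exists_repr hf (S.restrictScalars F) (T.restrictScalars F)
      (fun s hs hs' => kl s hs hs') (fun t ht ht' => kr t ht ht') lam
    refine ⟨t, ht, fun s => ?_⟩
    have := hrep ⟨(s : V), s.2⟩
    rw [this]
    rfl
  -- uniqueness
  have un1 : ∀ t, ∀ t₁' ∈ T', ∀ t₂' ∈ T', R t t₁' → R t t₂' → t₁' = t₂' := by
    intro t t₁' h1 t₂' h2 r1 r2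
    have : t₁' - t₂' = 0 := by
      apply kr' _ (T'.sub_mem h1 h2)
      intro s' hs'
      have e := (r1 (ψ.symm ⟨s', hs'⟩)).symm.trans (r2 (ψ.symm ⟨s', hs'⟩))
      rw [LinearEquiv.apply_symm_apply] at e
      rw [bil_sub_right hf, e, sub_self]
    exact sub_eq_zero.1 this
  have un2 : ∀ t', ∀ t₁ ∈ T, ∀ t₂ ∈ T, R t₁ t' → R t₂ t' → t₁ = t₂ := by
    intro t' t₁ h1 t₂ h2 r1 r2
    have : t₁ - t₂ = 0 := by
      apply kr _ (T.sub_mem h1 h2)
      intro s hs
      have e := (r1 ⟨s, hs⟩).trans (r2 ⟨s, hs⟩).symm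
      rw [bil_sub_right hf, e, sub_self]
    exact sub_eq_zero.1 this
  -- the map
  let φ : T →ₗ[A] T' :=
    { toFun := fun t => ⟨Classical.choose (ex1 t.1 t.2), (Classical.choose_spec (ex1 t.1 t.2)).1⟩
      map_add' := fun x y => by
        apply Subtype.ext
        have hx := (Classical.choose_spec (ex1 x.1 x.2))
        have hy := (Classical.choose_spec (ex1 y.1 y.2))
        have hxy := (Classical.choose_spec (ex1 (x + y).1 (x + y).2))
        exact un1 _ _ hxy.1 _ (T'.add_mem hx.1 hy.1) hxy.2 (hRadd _ _ _ _ hx.2 hy.2)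
      map_smul' := fun a x => by
        apply Subtype.ext
        have hx := (Classical.choose_spec (ex1 x.1 x.2))
        have hax := (Classical.choose_spec (ex1 (a • x).1 (a • x).2))
        exact un1 _ _ hax.1 _ (T'.smul_mem a hx.1) hax.2 (hRsmul a _ _ hx.2) }
  have hφ : ∀ t : T, R t.1 (φ t).1 := fun t => (Classical.choose_spec (ex1 t.1 t.2)).2
  refine ⟨LinearEquiv.ofBijective φ ⟨?_, ?_⟩⟩
  · intro x y hxy
    apply Subtype.ext
    have hx := hφ x
    have hy := hφ y
    rw [hxy] at hx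
    exact un2 _ _ x.2 _ y.2 hx hy
  · intro t'
    obtain ⟨t, ht, hr⟩ := ex2 t'.1 t'.2
    refine ⟨⟨t, ht⟩, Subtype.ext ?_⟩
    exact un1 t _ (φ ⟨t, ht⟩).2 _ t'.2 (hφ ⟨t, ht⟩) hr

end simple

section isotypic

variable {F : Type*} [Field F] {n : ℕ}

local notation "V" => (Fin n → F)
local notation "Mat" => Matrix (Fin n) (Fin n) F

/-- a non-trivial pairing between two isotypic components is witnessed by simple submodules. -/
theorem exists_simple_of_pairing {f : V → V → F} (hf : IsBilinearForm f) {A : Subalgebra F Mat}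
    (S₀ S₁ : Submodule A V)
    (h : ∃ u ∈ isotypicComponent A V S₀, ∃ v ∈ isotypicComponent A V S₁, f u v ≠ 0) :
    ∃ S T : Submodule A V, Nonempty (S ≃ₗ[A] S₀) ∧ Nonempty (T ≃ₗ[A] S₁) ∧
      ∃ s ∈ S, ∃ t ∈ T, f s t ≠ 0 := by
  obtain ⟨u, hu, v, hv, huv⟩ := h
  by_contra hcon
  push Not at hcon
  apply huv
  have h1 : ∀ S : Submodule A V, Nonempty (S ≃ₗ[A] S₀) → ∀ s ∈ S, f s v = 0 := by
    intro S hS s hs
    rw [isotypicComponent, sSup_eq_iSup'] at hv
    refine Submodule.iSup_induction (fun m : {m : Submodule A V | Nonempty (m ≃ₗ[A] S₁)} => m.1)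
      (motive := fun y => f s y = 0) hv ?_ (bil_zero_right hf s) ?_
    · intro T t ht
      exact hcon S T.1 hS T.2 s hs t ht
    · intro x y hx hy
      rw [hf.add_right, hx, hy, add_zero]
  rw [isotypicComponent, sSup_eq_iSup'] at hu
  refine Submodule.iSup_induction (fun m : {m : Submodule A V | Nonempty (m ≃ₗ[A] S₀)} => m.1)
    (motive := fun x => f x v = 0) hu ?_ (bil_zero_left hf v) ?_
  · intro S s hs
    exact h1 S.1 S.2 s hs
  · intro x y hx hy
    rw [hf.add_left, hx, hy, add_zero]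

/-- an isotypic component pairs non-trivially with at most one isotypic component (bilinear form, algebra
closed under adjoints on both sides). -/
theorem isotypicComponent_pairing_of_adj {f : V → V → F} (hf : IsBilinearForm f) {A : Subalgebra F Mat}
    (hL : AdjL f A) (hR : AdjL (fun u v => f v u) A) (c c₁ c₂ : Submodule A V)
    (hc : c ∈ isotypicComponents A V) (hc₁ : c₁ ∈ isotypicComponents A V)
    (hc₂ : c₂ ∈ isotypicComponents A V)
    (h₁ : ∃ u ∈ c, ∃ v ∈ c₁, f u v ≠ 0) (h₂ : ∃ u ∈ c, ∃ v ∈ c₂, f u v ≠ 0) : c₁ = c₂ := by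
  obtain ⟨S₀, hS₀, rfl⟩ := hc
  obtain ⟨S₁, hS₁, rfl⟩ := hc₁
  obtain ⟨S₂, hS₂, rfl⟩ := hc₂
  obtain ⟨S, T, ⟨eS⟩, ⟨eT⟩, hST⟩ := exists_simple_of_pairing hf S₀ S₁ h₁
  obtain ⟨S', T', ⟨eS'⟩, ⟨eT'⟩, hST'⟩ := exists_simple_of_pairing hf S₀ S₂ h₂
  have i1 : IsSimpleModule A S := IsSimpleModule.congr (N := S₀) eS
  have i2 : IsSimpleModule A S' := IsSimpleModule.congr (N := S₀) eS'
  have i3 : IsSimpleModule A T := IsSimpleModule.congr (N := S₁) eT
  have i4 : IsSimpleModule A T' := IsSimpleModule.congr (N := S₂) eT'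
  obtain ⟨φ⟩ := nonempty_linearEquiv_of_pairing hf hL hR S S' T T' (eS.trans eS'.symm) hST hST'
  exact LinearEquiv.isotypicComponent_eq ((eT.symm.trans φ).trans eT')

theorem adjL_of_isAdjointClosedFor {f : V → V → F} {A : Subalgebra F Mat}
    (hA : IsAdjointClosedFor f A) : AdjL f A := hA

theorem adjL_flip_of_skew {f : V → V → F} (hskew : ∀ v w, f v w = - f w v) {A : Subalgebra F Mat}
    (hA : IsAdjointClosedFor f A) : AdjL (fun u v => f v u) A := by
  intro a ha
  obtain ⟨a', ha', hadj⟩ := hA a ha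
  refine ⟨a', ha', fun u v => ?_⟩
  show f v (a *ᵥ u) = f (a' *ᵥ v) u
  rw [hskew v, hadj, hskew u]
  simp

theorem adjL_flip_of_symm {f : V → V → F} (hsymm : ∀ v w, f v w = f w v) {A : Subalgebra F Mat}
    (hA : IsAdjointClosedFor f A) : AdjL (fun u v => f v u) A := by
  intro a ha
  obtain ⟨a', ha', hadj⟩ := hA a ha
  refine ⟨a', ha', fun u v => ?_⟩
  show f v (a *ᵥ u) = f (a' *ᵥ v) u
  rw [hsymm v, hadj, hsymm u]

end isotypic

section final

variable {F : Type*} [Field F] [Fintype F] {n : ℕ}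

local notation "V" => (Fin n → F)
local notation "Mat" => Matrix (Fin n) (Fin n) F

omit [Fintype F] in
/-- **K-SpAsch-S2p.** -/
theorem isotypicComponent_pairing {f : V → V → F} (hf : IsSymplecticForm f) (A : Subalgebra F Mat)
    (hA : IsAdjointClosedFor f A) (c c₁ c₂ : Submodule A V) (hc : c ∈ isotypicComponents A V)
    (hc₁ : c₁ ∈ isotypicComponents A V) (hc₂ : c₂ ∈ isotypicComponents A V)
    (h₁ : ∃ u ∈ c, ∃ v ∈ c₁, f u v ≠ 0) (h₂ : ∃ u ∈ c, ∃ v ∈ c₂, f u v ≠ 0) : c₁ = c₂ :=
  isotypicComponent_pairing_of_adj hf.bilinear (adjL_of_isAdjointClosedFor hA)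
    (adjL_flip_of_skew hf.skew hA) c c₁ c₂ hc hc₁ hc₂ h₁ h₂

omit [Fintype F] in
/-- the same for a symmetric bilinear form. -/
theorem isotypicComponent_pairing_symm {f : V → V → F} (hf : IsBilinearForm f)
    (hsymm : ∀ v w, f v w = f w v) (A : Subalgebra F Mat)
    (hA : IsAdjointClosedFor f A) (c c₁ c₂ : Submodule A V) (hc : c ∈ isotypicComponents A V)
    (hc₁ : c₁ ∈ isotypicComponents A V) (hc₂ : c₂ ∈ isotypicComponents A V)
    (h₁ : ∃ u ∈ c, ∃ v ∈ c₁, f u v ≠ 0) (h₂ : ∃ u ∈ c, ∃ v ∈ c₂, f u v ≠ 0) : c₁ = c₂ :=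
  isotypicComponent_pairing_of_adj hf (adjL_of_isAdjointClosedFor hA)
    (adjL_flip_of_symm hsymm hA) c c₁ c₂ hc hc₁ hc₂ h₁ h₂

end final

end Cfsg.Agent.Lib.Helper59.SpAsch
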