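import Mathlib
import Cfsg.Prelude.Def_GeometricClasses
import Cfsg.Agent.Lib.Helper61.AschDefs
import Cfsg.Agent.Lib.Helper61.AschUDefs
import Cfsg.Agent.Lib.Helper80.AschUONB
import Cfsg.Agent.Lib.Helper59.AschUB6eqCore

/-!
# K-S5663-B6eq: two equal tensor factors with unitary forms give a tensor power structure with `t = 2`
-/

set_option autoImplicit false

namespace Cfsg.Agent.Lib.Helper59.AschU

open Cfsg Cfsg.Geo Cfsg.Agent.Lib.Helper61.Asch Cfsg.Agent.Lib.Helper61.AschU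
open scoped Matrix Kronecker MatrixGroups

variable {F : Type*} [Field F] [Fintype F] {n q : ℕ}

/-- **K-S5663-B6eq.** -/
theorem exists_tensorPower_of_tensor_eq (hF : Fintype.card F = q ^ 2) (K : Subgroup (GL (Fin n) F)) (k : ℕ)
    (e : Fin n ≃ Fin k × Fin k) (P : GL (Fin n) F) (hk : 1 ≤ k) (hK : K ≤ tensorProductSubgroup k k e P)
    (f₁ f₂ : (Fin k → F) → (Fin k → F) → F) (h₁ : IsUnitaryFormPow q f₁) (h₂ : IsUnitaryFormPow q f₂)
    (hT : IsTensorFormStructure (fun x : F => x ^ q) (hermForm n F q) f₁ f₂ e P) :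
    ∃ (e' : Fin n ≃ (Fin 2 → Fin k)) (P' : GL (Fin n) F),
      IsTensorPowerFormStructure (fun x : F => x ^ q) (hermForm n F q) (hermForm k F q) e' P' ∧
      K ≤ tensorWreathSubgroup k 2 e' P' := by
  obtain ⟨B₁, hB₁⟩ := Cfsg.Agent.Lib.Helper80.AschU.exists_orthonormal_matrix hF f₁ h₁
  obtain ⟨B₂, hB₂⟩ := Cfsg.Agent.Lib.Helper80.AschU.exists_orthonormal_matrix hF f₂ h₂
  exact Cfsg.Agent.Lib.Helper59.AschUB6eqCore.exists_tensorPower_core hF K k e P hK f₁ f₂ h₁ h₂ hT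
    B₁ B₂ hB₁ hB₂

end Cfsg.Agent.Lib.Helper59.AschU
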