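import Mathlib
import Cfsg.Prelude.Def_GeometricClasses

/-!
# K-SpMax-D6, linear algebra core

An absolutely irreducible finite subgroup `R` of `GL(ι, F)` (`2 ≠ 0` in `F`, `|R| ≠ 0` in `F`) with `⁅R, R⁆ ≤ Z(R)` and
`|Z(R)| = 2` satisfies `|ι|² · 2 = |R|`: coset representatives of `Z(R)` in `R` form a basis of the matrix algebra.
-/

set_option autoImplicit false

namespace Cfsg.Agent.Lib.Helper59.SpMaxD6

open Cfsg Cfsg.Geo
open scoped Matrix MatrixGroups

variable {F : Type*} [Field F] {ι : Type} [Fintype ι] [DecidableEq ι]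

/-- the matrix of an element of a subgroup of `GL` -/
def mat {R : Subgroup (GL ι F)} (g : R) : Matrix ι ι F := ((g : GL ι F) : Matrix ι ι F)

theorem mat_def {R : Subgroup (GL ι F)} (g : R) : mat g = ((g : GL ι F) : Matrix ι ι F) := rfl

theorem mat_mul {R : Subgroup (GL ι F)} (g h : R) : mat (g * h) = mat g * mat h := by
  simp [mat]

theorem mat_one {R : Subgroup (GL ι F)} : mat (1 : R) = 1 := by
  simp [mat]

theorem mat_mul_inv {R : Subgroup (GL ι F)} (g : R) : mat g * mat g⁻¹ = 1 := by
  rw [← mat_mul, mul_inv_cancel, mat_one]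

theorem mat_inv_mul {R : Subgroup (GL ι F)} (g : R) : mat g⁻¹ * mat g = 1 := by
  rw [← mat_mul, inv_mul_cancel, mat_one]

theorem mat_injective {R : Subgroup (GL ι F)} : Function.Injective (mat : R → Matrix ι ι F) := by
  intro g h hgh
  apply Subtype.ext
  apply Units.ext
  exact hgh

/-- `Rel x h c` : `h x = c • x h` on matrices -/
def Rel {R : Subgroup (GL ι F)} (x h : R) (c : F) : Prop := mat h * mat x = c • (mat x * mat h)

theorem smul_mat_inj [Nonempty ι] {R : Subgroup (GL ι F)} (g : R) {c d : F} (h : c • mat g = d • mat g) : c = d := by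
  have h1 := congrArg (fun X => X * mat g⁻¹) h
  simp only [Matrix.smul_mul, mat_mul_inv] at h1
  obtain ⟨i⟩ := ‹Nonempty ι›
  have := congrFun (congrFun h1 i) i
  simpa using this

theorem Rel.unique [Nonempty ι] {R : Subgroup (GL ι F)} {x h : R} {c d : F} (h1 : Rel x h c) (h2 : Rel x h d) :
    c = d := by
  unfold Rel at h1 h2
  rw [h1, ← mat_mul] at h2
  exact smul_mat_inj _ h2

theorem Rel.mul_right {R : Subgroup (GL ι F)} {x h h' : R} {c c' : F} (h1 : Rel x h c) (h2 : Rel x h' c') :
    Rel x (h * h') (c * c') := by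
  unfold Rel at *
  rw [mat_mul, Matrix.mul_assoc, h2, Matrix.mul_smul, ← Matrix.mul_assoc, h1, Matrix.smul_mul, smul_smul,
    Matrix.mul_assoc, mul_comm]

theorem Rel.mul_left {R : Subgroup (GL ι F)} {x y h : R} {c d : F} (h1 : Rel x h c) (h2 : Rel y h d) :
    Rel (x * y) h (c * d) := by
  unfold Rel at *
  rw [mat_mul, ← Matrix.mul_assoc, h1, Matrix.smul_mul, Matrix.mul_assoc, h2, Matrix.mul_smul, smul_smul,
    Matrix.mul_assoc]

theorem Rel.symm {R : Subgroup (GL ι F)} {x h : R} {c : F} (h1 : Rel x h c) (hc : c * c = 1) : Rel h x c := by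
  unfold Rel at *
  rw [h1, smul_smul, hc, one_smul]

theorem Rel.inv_left {R : Subgroup (GL ι F)} {x h : R} {c : F} (h1 : Rel x h c) (hc : c * c = 1) :
    Rel x⁻¹ h c := by
  unfold Rel at *
  -- h x = c x h  ⇒  x⁻¹ h = c h x⁻¹ ⇒ h x⁻¹ = c x⁻¹ h
  have h2 : mat x⁻¹ * (mat h * mat x) * mat x⁻¹ = mat x⁻¹ * (c • (mat x * mat h)) * mat x⁻¹ := by rw [h1]
  rw [← Matrix.mul_assoc, Matrix.mul_assoc, mat_mul_inv, Matrix.mul_one, Matrix.mul_smul, ← Matrix.mul_assoc,
    mat_inv_mul, Matrix.one_mul, Matrix.smul_mul] at h2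
  rw [h2, smul_smul, hc, one_smul]

theorem Rel.conj {R : Subgroup (GL ι F)} {x h : R} {c : F} (h1 : Rel x h c) :
    mat h * mat x * mat h⁻¹ = c • mat x := by
  unfold Rel at h1
  rw [h1, Matrix.smul_mul, Matrix.mul_assoc, mat_mul_inv, Matrix.mul_one]

/-- the hypotheses of the core lemma -/
structure Data (R : Subgroup (GL ι F)) : Prop where
  two_ne : (2 : F) ≠ 0
  absIrred : ActsAbsolutelyIrreducibly (matrixSet R)
  comm : ∀ a b : R, a * b * a⁻¹ * b⁻¹ ∈ Subgroup.center R
  cardZ : Nat.card (Subgroup.center R) = 2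

section core

variable {R : Subgroup (GL ι F)}

theorem Data.nonempty (D : Data R) : Nonempty ι := by
  by_contra hne
  rw [not_nonempty_iff] at hne
  have hsub : Subsingleton (GL ι F) := by
    refine ⟨fun a b => ?_⟩
    apply Units.ext
    ext i j
    exact (hne.false i).elim
  have : Subsingleton (Subgroup.center R) := by
    refine ⟨fun a b => ?_⟩
    apply Subtype.ext
    apply Subtype.ext
    exact Subsingleton.elim _ _
  have h1 : Nat.card (Subgroup.center R) = 1 := Nat.card_unique
  rw [D.cardZ] at h1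
  omega

theorem Data.commutes_scalar (D : Data R) (Y : Matrix ι ι F) (hY : ∀ g : R, mat g * Y = Y * mat g) :
    ∃ c : F, Y = c • (1 : Matrix ι ι F) := by
  apply D.absIrred.2
  rintro s ⟨g, hg, rfl⟩
  exact (hY ⟨g, hg⟩).symm

theorem Data.central_scalar (D : Data R) (z : R) (hz : z ∈ Subgroup.center R) :
    ∃ c : F, mat z = c • (1 : Matrix ι ι F) ∧ c * c = 1 := by
  have := D.nonempty
  obtain ⟨c, hc⟩ := D.commutes_scalar (mat z) (fun g => by
    rw [← mat_mul, ← mat_mul, Subgroup.mem_center_iff.1 hz g])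
  refine ⟨c, hc, ?_⟩
  have ho : orderOf (⟨z, hz⟩ : Subgroup.center R) ∣ 2 := by
    have := orderOf_dvd_natCard (⟨z, hz⟩ : Subgroup.center R)
    rwa [D.cardZ] at this
  have h2 : (⟨z, hz⟩ : Subgroup.center R) ^ 2 = 1 := orderOf_dvd_iff_pow_eq_one.1 ho
  have h3 : z * z = 1 := by
    have := congrArg (fun w : Subgroup.center R => (w : R)) h2
    simpa [pow_two] using this
  have h4 : mat z * mat z = 1 := by rw [← mat_mul, h3, mat_one]
  rw [hc, Matrix.smul_mul, Matrix.one_mul, smul_smul] at h4
  obtain ⟨i⟩ := ‹Nonempty ι›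
  have := congrFun (congrFun h4 i) i
  simpa using this

theorem Data.exists_rel (D : Data R) (x h : R) : ∃ c : F, Rel x h c ∧ c * c = 1 := by
  obtain ⟨c, hc, hcc⟩ := D.central_scalar _ (D.comm h x)
  refine ⟨c, ?_, hcc⟩
  unfold Rel
  have : h * x = (h * x * h⁻¹ * x⁻¹) * (x * h) := by group
  rw [← mat_mul h x, this, mat_mul, hc, Matrix.smul_mul, Matrix.one_mul, mat_mul]

/-- the commutator scalar -/
noncomputable def eps (D : Data R) (x h : R) : F := Classical.choose (D.exists_rel x h)

theorem eps_rel (D : Data R) (x h : R) : Rel x h (eps D x h) := (Classical.choose_spec (D.exists_rel x h)).1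

theorem eps_sq (D : Data R) (x h : R) : eps D x h * eps D x h = 1 :=
  (Classical.choose_spec (D.exists_rel x h)).2

theorem eps_cases (D : Data R) (x h : R) : eps D x h = 1 ∨ eps D x h = -1 :=
  mul_self_eq_one_iff.1 (eps_sq D x h)

theorem eps_mul_right (D : Data R) (x h h' : R) : eps D x (h * h') = eps D x h * eps D x h' := by
  have := D.nonempty
  exact (eps_rel D x (h * h')).unique ((eps_rel D x h).mul_right (eps_rel D x h'))

theorem eps_mul_left (D : Data R) (x y h : R) : eps D (x * y) h = eps D x h * eps D y h := by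
  have := D.nonempty
  exact (eps_rel D (x * y) h).unique ((eps_rel D x h).mul_left (eps_rel D y h))

theorem eps_symm (D : Data R) (x h : R) : eps D x h = eps D h x := by
  have := D.nonempty
  exact (eps_rel D x h).unique ((eps_rel D h x).symm (eps_sq D h x))

theorem eps_inv_left (D : Data R) (x h : R) : eps D x⁻¹ h = eps D x h := by
  have := D.nonempty
  exact (eps_rel D x⁻¹ h).unique ((eps_rel D x h).inv_left (eps_sq D x h))

theorem eps_inv_right (D : Data R) (x h : R) : eps D x h⁻¹ = eps D x h := by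
  rw [eps_symm, eps_inv_left, eps_symm]

theorem eps_of_mem_center (D : Data R) (x h : R) (hx : x ∈ Subgroup.center R) : eps D x h = 1 := by
  have := D.nonempty
  refine (eps_rel D x h).unique ?_
  unfold Rel
  rw [one_smul, ← mat_mul, ← mat_mul, Subgroup.mem_center_iff.1 hx h]

theorem exists_eps_ne_one (D : Data R) (x : R) (hx : x ∉ Subgroup.center R) : ∃ h : R, eps D x h = -1 := by
  by_contra hcon
  push Not at hcon
  apply hx
  rw [Subgroup.mem_center_iff]
  intro h
  have h1 : eps D x h = 1 := (eps_cases D x h).resolve_right (hcon h)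
  have h2 := eps_rel D x h
  rw [h1] at h2
  unfold Rel at h2
  rw [one_smul, ← mat_mul, ← mat_mul] at h2
  exact mat_injective h2

open Classical in
theorem sum_eps [Fintype R] (D : Data R) (x : R) :
    ∑ h : R, eps D x h = if x ∈ Subgroup.center R then (Fintype.card R : F) else 0 := by
  split_ifs with hx
  · simp [eps_of_mem_center D x _ hx]
  · obtain ⟨h₀, hh₀⟩ := exists_eps_ne_one D x hx
    have h1 : ∑ h : R, eps D x h = ∑ h : R, eps D x (h₀ * h) :=
      (Fintype.sum_equiv (Equiv.mulLeft h₀) _ _ (fun h => rfl)).symm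
    have h2 : ∑ h : R, eps D x (h₀ * h) = - ∑ h : R, eps D x h := by
      simp only [eps_mul_right, hh₀, neg_one_mul, Finset.sum_neg_distrib]
    rw [h2] at h1
    have h3 : (2 : F) * ∑ h : R, eps D x h = 0 := by linear_combination h1
    rcases mul_eq_zero.1 h3 with h4 | h4
    · exact absurd h4 D.two_ne
    · exact h4

/-- the averaging operator -/
noncomputable def PiL [Fintype R] (D : Data R) (x : R) : Matrix ι ι F →ₗ[F] Matrix ι ι F :=
  ∑ h : R, eps D x h • ((LinearMap.mulLeft F (mat h)).comp (LinearMap.mulRight F (mat h⁻¹)))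

theorem PiL_apply [Fintype R] (D : Data R) (x : R) (X : Matrix ι ι F) :
    PiL D x X = ∑ h : R, eps D x h • (mat h * (X * mat h⁻¹)) := by
  simp [PiL, LinearMap.sum_apply]

theorem PiL_conj [Fintype R] (D : Data R) (x g : R) (X : Matrix ι ι F) :
    mat g * PiL D x X = eps D x g • (PiL D x X * mat g) := by
  rw [PiL_apply, Finset.mul_sum, Finset.sum_mul, Finset.smul_sum]
  rw [← Fintype.sum_equiv (Equiv.mulLeft g) (fun h => eps D x g • (eps D x (g * h) • (mat (g * h) *
    (X * mat (g * h)⁻¹)) * mat g)) (fun h' => eps D x g • (eps D x h' • (mat h' * (X * mat h'⁻¹)) * mat g))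
    (fun h => rfl)]
  apply Finset.sum_congr rfl
  intro h _
  have he : eps D x g * (eps D x g * eps D x h) = eps D x h := by
    rw [← mul_assoc, eps_sq, one_mul]
  rw [eps_mul_right, Matrix.smul_mul, smul_smul, he, Matrix.mul_smul]
  congr 1
  rw [mul_inv_rev, mat_mul, mat_mul]
  simp only [Matrix.mul_assoc]
  rw [mat_inv_mul, Matrix.mul_one]

theorem PiL_mem [Fintype R] (D : Data R) (x : R) (X : Matrix ι ι F) : ∃ c : F, PiL D x X = c • mat x := by
  obtain ⟨c, hc⟩ := D.commutes_scalar (mat x⁻¹ * PiL D x X) (fun g => by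
    have h1 : mat g * mat x⁻¹ = eps D x g • (mat x⁻¹ * mat g) := by
      have := eps_rel D x⁻¹ g
      rw [eps_inv_left] at this
      exact this
    rw [← Matrix.mul_assoc, h1, Matrix.smul_mul, Matrix.mul_assoc, PiL_conj, Matrix.mul_smul, smul_smul, eps_sq,
      one_smul, Matrix.mul_assoc])
  refine ⟨c, ?_⟩
  have : PiL D x X = mat x * (mat x⁻¹ * PiL D x X) := by
    rw [← Matrix.mul_assoc, mat_mul_inv, Matrix.one_mul]
  rw [this, hc, Matrix.mul_smul, Matrix.mul_one]

theorem conj_of_mem_center (D : Data R) (h : R) (hh : h ∈ Subgroup.center R) (X : Matrix ι ι F) :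
    mat h * (X * mat h⁻¹) = X := by
  obtain ⟨c, hc, -⟩ := D.central_scalar h hh
  have h1 : mat h * X = X * mat h := by
    rw [hc, Matrix.smul_mul, Matrix.one_mul, Matrix.mul_smul, Matrix.mul_one]
  rw [← Matrix.mul_assoc, h1, Matrix.mul_assoc, mat_mul_inv, Matrix.mul_one]

open Classical in
theorem sum_PiL [Fintype R] (D : Data R) (X : Matrix ι ι F) :
    ∑ x : R, PiL D x X = ((Fintype.card R : F) * 2) • X := by
  simp only [PiL_apply]
  rw [Finset.sum_comm]
  have h1 : ∀ h : R, ∑ x : R, eps D x h • (mat h * (X * mat h⁻¹)) =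
      if h ∈ Subgroup.center R then (Fintype.card R : F) • X else 0 := by
    intro h
    rw [← Finset.sum_smul]
    have : ∑ x : R, eps D x h = ∑ x : R, eps D h x := Finset.sum_congr rfl (fun x _ => eps_symm D x h)
    rw [this, sum_eps]
    split_ifs with hh
    · rw [conj_of_mem_center D h hh]
    · rw [zero_smul]
  simp only [h1]
  rw [Finset.sum_ite, Finset.sum_const_zero, add_zero, Finset.sum_const]
  have hcard : (Finset.univ.filter (fun h : R => h ∈ Subgroup.center R)).card = 2 := by
    rw [← D.cardZ, Nat.card_eq_fintype_card, Fintype.card_subtype]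
  rw [hcard, ← Nat.cast_smul_eq_nsmul F, smul_smul]
  congr 1
  push_cast
  ring

theorem mem_span_range_mat [Fintype R] (D : Data R) (hcard : (Fintype.card R : F) ≠ 0) (X : Matrix ι ι F) :
    X ∈ Submodule.span F (Set.range (mat : R → Matrix ι ι F)) := by
  have h1 := sum_PiL D X
  have hne : ((Fintype.card R : F) * 2) ≠ 0 := mul_ne_zero hcard D.two_ne
  have h2 : X = ((Fintype.card R : F) * 2)⁻¹ • ∑ x : R, PiL D x X := by
    rw [h1, smul_smul, inv_mul_cancel₀ hne, one_smul]
  rw [h2]
  apply Submodule.smul_mem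
  apply Submodule.sum_mem
  intro x _
  obtain ⟨c, hc⟩ := PiL_mem D x X
  rw [hc]
  exact Submodule.smul_mem _ _ (Submodule.subset_span ⟨x, rfl⟩)

/-- coset representatives -/
noncomputable def rep (q : R ⧸ Subgroup.center R) : R := Quotient.out q

theorem mk_rep (q : R ⧸ Subgroup.center R) : (QuotientGroup.mk (rep q) : R ⧸ Subgroup.center R) = q :=
  QuotientGroup.out_eq' q

theorem rep_inv_mul_mem_iff (q q' : R ⧸ Subgroup.center R) :
    (rep q)⁻¹ * rep q' ∈ Subgroup.center R ↔ q = q' := by
  rw [← QuotientGroup.eq, mk_rep, mk_rep]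

theorem mat_mem_span_rep (D : Data R) (x : R) :
    mat x ∈ Submodule.span F (Set.range (fun q : R ⧸ Subgroup.center R => mat (rep q))) := by
  have hz : (rep (QuotientGroup.mk x : R ⧸ Subgroup.center R))⁻¹ * x ∈ Subgroup.center R := by
    rw [← QuotientGroup.eq, mk_rep]
  obtain ⟨c, hc, -⟩ := D.central_scalar _ hz
  have : mat x = c • mat (rep (QuotientGroup.mk x : R ⧸ Subgroup.center R)) := by
    have h1 : x = rep (QuotientGroup.mk x : R ⧸ Subgroup.center R) *
        ((rep (QuotientGroup.mk x : R ⧸ Subgroup.center R))⁻¹ * x) := by group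
    conv_lhs => rw [h1]
    rw [mat_mul, hc, Matrix.mul_smul, Matrix.mul_one]
  rw [this]
  exact Submodule.smul_mem _ _ (Submodule.subset_span ⟨_, rfl⟩)

theorem span_rep_eq_top [Fintype R] (D : Data R) (hcard : (Fintype.card R : F) ≠ 0) :
    Submodule.span F (Set.range (fun q : R ⧸ Subgroup.center R => mat (rep q))) = ⊤ := by
  rw [eq_top_iff]
  intro X _
  have h1 := mem_span_range_mat D hcard X
  refine Submodule.span_le.2 ?_ h1
  rintro _ ⟨x, rfl⟩
  exact mat_mem_span_rep D x

open Classical in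
theorem PiL_mat [Fintype R] (D : Data R) (x t : R) :
    PiL D x (mat t) = (if x * t ∈ Subgroup.center R then (Fintype.card R : F) else 0) • mat t := by
  rw [PiL_apply, ← sum_eps D (x * t), Finset.sum_smul]
  apply Finset.sum_congr rfl
  intro h _
  rw [eps_mul_left, ← Matrix.mul_assoc, (eps_rel D t h).conj, smul_smul]

open Classical in
theorem linearIndependent_rep [Fintype R] [Fintype (R ⧸ Subgroup.center R)] (D : Data R)
    (hcard : (Fintype.card R : F) ≠ 0) :
    LinearIndependent F (fun q : R ⧸ Subgroup.center R => mat (rep q)) := by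
  have := D.nonempty
  rw [Fintype.linearIndependent_iff]
  intro l hl q₀
  have h1 := congrArg (PiL D (rep q₀)⁻¹) hl
  rw [map_sum, map_zero] at h1
  simp only [map_smul, PiL_mat, rep_inv_mul_mem_iff] at h1
  rw [Finset.sum_eq_single q₀] at h1
  · rw [if_pos rfl, smul_smul] at h1
    have h2 : (l q₀ * (Fintype.card R : F)) • mat (rep q₀) = (0 : F) • mat (rep q₀) := by rw [h1, zero_smul]
    have h3 := smul_mat_inj _ h2
    rcases mul_eq_zero.1 h3 with h4 | h4
    · exact h4
    · exact absurd h4 hcard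
  · intro q _ hq
    rw [if_neg (Ne.symm hq), zero_smul, smul_zero]
  · intro h
    exact absurd (Finset.mem_univ _) h

/-- the core count: `|ι|² · 2 = |R|` -/
theorem card_sq_mul_two [Finite R] (D : Data R) (hcard : (Nat.card R : F) ≠ 0) :
    Fintype.card ι ^ 2 * 2 = Nat.card R := by
  classical
  have : Fintype R := Fintype.ofFinite R
  have : Fintype (R ⧸ Subgroup.center R) := Fintype.ofFinite _
  have hcard' : (Fintype.card R : F) ≠ 0 := by rwa [← Nat.card_eq_fintype_card]
  have hli := linearIndependent_rep D hcard'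
  have hsp := span_rep_eq_top D hcard'
  have h1 : Fintype.card (R ⧸ Subgroup.center R) ≤ Module.finrank F (Matrix ι ι F) :=
    hli.fintype_card_le_finrank
  have h2 : Module.finrank F (Matrix ι ι F) ≤ Fintype.card (R ⧸ Subgroup.center R) := by
    have := finrank_range_le_card (R := F) (fun q : R ⧸ Subgroup.center R => mat (rep q))
    unfold Set.finrank at this
    rwa [hsp, finrank_top] at this
  have h3 : Module.finrank F (Matrix ι ι F) = Fintype.card ι * Fintype.card ι := by
    simp [Module.finrank_matrix]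
  have h4 : Nat.card R = Nat.card (R ⧸ Subgroup.center R) * Nat.card (Subgroup.center R) :=
    Subgroup.card_eq_card_quotient_mul_card_subgroup _
  rw [h4, D.cardZ, Nat.card_eq_fintype_card, ← le_antisymm h2 h1, h3, pow_two]

end core

end Cfsg.Agent.Lib.Helper59.SpMaxD6
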