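import Mathlib
import Cfsg.Prelude.Def_GeometricClasses
import Cfsg.Agent.Lib.Helper59.SpMaxD6a
import Cfsg.Agent.Lib.Helper59.SympMain

/-!
# K-SpMax-D6 : the dimension of an absolutely irreducible symplectic-type 2-group of exponent 4 with centre of order 2
-/

set_option autoImplicit false

namespace Cfsg.Agent.Lib.Helper59.SpMax

open Cfsg Cfsg.Geo
open scoped Matrix Kronecker MatrixGroups commutatorElement

/-- A finite 2-group of exponent dividing 4 all of whose characteristic abelian subgroups are cyclic has its commutators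
in the centre (by P. Hall's structure theorem it is `E ∘ S` with `E` extraspecial or trivial and `S` cyclic). -/
theorem commutator_mem_center_of_symplecticType {G : Type*} [Group G] [Finite G] (hG : IsPGroup 2 G)
    (hsymp : ∀ A : Subgroup G, A.Characteristic → IsMulCommutative A → IsCyclic A)
    (hexp : ∀ g : G, g ^ 4 = 1) (a b : G) : a * b * a⁻¹ * b⁻¹ ∈ Subgroup.center G := by
  have : Fact (Nat.Prime 2) := ⟨Nat.prime_two⟩
  obtain ⟨E, S, hES, hsup, hE, hS⟩ := Cfsg.Agent.Lib.Helper59.symplectic_type_structure hG hsymp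
  -- `S` is cyclic
  have hScyc : IsCyclic S := by
    rcases hS with h | ⟨-, h16, h | h | h⟩
    · exact h
    · exfalso
      obtain ⟨m, ⟨e⟩⟩ := h
      have hcard : Nat.card S = 2 * m := by rw [Nat.card_congr e.toEquiv, DihedralGroup.nat_card]
      have h1 : (e.symm (DihedralGroup.r 1)) ^ 4 = 1 := by
        apply Subtype.ext
        simpa using hexp _
      have h2 : (DihedralGroup.r (1 : ZMod m)) ^ 4 = 1 := by
        have := congrArg e h1
        simpa using this
      have h3 : orderOf (DihedralGroup.r (1 : ZMod m)) ∣ 4 := orderOf_dvd_of_pow_eq_one h2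
      rw [DihedralGroup.orderOf_r_one] at h3
      have := Nat.le_of_dvd (by norm_num) h3
      omega
    · exfalso
      obtain ⟨m, ⟨e⟩⟩ := h
      have h1 : (e.symm (QuaternionGroup.a 1)) ^ 4 = 1 := by
        apply Subtype.ext
        simpa using hexp _
      have h2 : (QuaternionGroup.a (1 : ZMod (2 * m))) ^ 4 = 1 := by
        have := congrArg e h1
        simpa using this
      have h3 : orderOf (QuaternionGroup.a (1 : ZMod (2 * m))) ∣ 4 := orderOf_dvd_of_pow_eq_one h2
      rw [QuaternionGroup.orderOf_a_one] at h3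
      have := Nat.le_of_dvd (by norm_num) h3
      rcases Nat.eq_zero_or_pos m with hm0 | hm0
      · subst hm0
        simp at h3
      · have : NeZero m := ⟨by omega⟩
        have hcard : Nat.card S = 4 * m := by
          rw [Nat.card_congr e.toEquiv, Nat.card_eq_fintype_card, QuaternionGroup.card]
        omega
    · exfalso
      obtain ⟨n, hn, -, x, y, hx, -, -⟩ := h
      have h1 : x ^ 4 = 1 := by
        apply Subtype.ext
        simpa using hexp _
      have h3 : orderOf x ∣ 4 := orderOf_dvd_of_pow_eq_one h1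
      rw [hx] at h3
      have h4 : 2 ^ 3 ∣ 2 ^ n := pow_dvd_pow 2 hn
      have := Nat.le_of_dvd (by norm_num) (h4.trans h3)
      omega
  -- `S ≤ Z(G)`
  have hScomm : ∀ s ∈ S, ∀ s' ∈ S, s * s' = s' * s := by
    intro s hs s' hs'
    obtain ⟨g, hg⟩ := IsCyclic.exists_generator (α := S)
    obtain ⟨i, hi⟩ := Subgroup.mem_zpowers_iff.1 (hg ⟨s, hs⟩)
    obtain ⟨j, hj⟩ := Subgroup.mem_zpowers_iff.1 (hg ⟨s', hs'⟩)
    have : (⟨s, hs⟩ : S) * ⟨s', hs'⟩ = ⟨s', hs'⟩ * ⟨s, hs⟩ := by
      rw [← hi, ← hj, ← zpow_add, ← zpow_add, add_comm]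
    exact congrArg Subtype.val this
  have hSZ : ∀ s ∈ S, s ∈ Subgroup.center G := by
    intro s hs
    rw [Subgroup.mem_center_iff]
    intro g
    have hg : g ∈ E ⊔ S := by rw [hsup]; trivial
    have hcent : E ⊔ S ≤ Subgroup.centralizer {s} := by
      apply sup_le
      · intro e he
        rw [Subgroup.mem_centralizer_singleton_iff]
        exact (hES e he s hs)
      · intro s' hs'
        rw [Subgroup.mem_centralizer_singleton_iff]
        exact hScomm s' hs' s hs
    have := hcent hg
    rw [Subgroup.mem_centralizer_singleton_iff] at this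
    exact this
  -- commutators of elements of `E` are central
  have hEE : ∀ e ∈ E, ∀ e' ∈ E, e * e' * e⁻¹ * e'⁻¹ ∈ Subgroup.center G := by
    intro e he e' he'
    rcases hE with hE | hE
    · rw [hE, Subgroup.mem_bot] at he he'
      subst he he'
      simp
    · obtain ⟨⟨-, -, hcomm⟩, -⟩ := hE
      have h1 : (⟨e, he⟩ : E) * ⟨e', he'⟩ * (⟨e, he⟩ : E)⁻¹ * (⟨e', he'⟩ : E)⁻¹ ∈ commutator E := by
        have : (⟨e, he⟩ : E) * ⟨e', he'⟩ * (⟨e, he⟩ : E)⁻¹ * (⟨e', he'⟩ : E)⁻¹ = ⁅(⟨e, he⟩ : E), ⟨e', he'⟩⁆ := by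
          rw [commutatorElement_def]
        rw [this, commutator_def]
        exact Subgroup.commutator_mem_commutator (Subgroup.mem_top _) (Subgroup.mem_top _)
      rw [hcomm] at h1
      rw [Subgroup.mem_center_iff]
      intro g
      have hg : g ∈ E ⊔ S := by rw [hsup]; trivial
      have hcent : E ⊔ S ≤ Subgroup.centralizer {e * e' * e⁻¹ * e'⁻¹} := by
        apply sup_le
        · intro x hx
          rw [Subgroup.mem_centralizer_singleton_iff]
          have := Subgroup.mem_center_iff.1 h1 ⟨x, hx⟩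
          have := congrArg Subtype.val this
          simpa using this
        · intro s hs
          rw [Subgroup.mem_centralizer_singleton_iff]
          exact (Subgroup.mem_center_iff.1 (hSZ s hs) _).symm
      have := hcent hg
      rw [Subgroup.mem_centralizer_singleton_iff] at this
      exact this
  -- general commutators
  have key : ∀ x ∈ E ⊔ S, ∀ y ∈ E ⊔ S, x * y * x⁻¹ * y⁻¹ ∈ Subgroup.center G := by
    intro x hx y hy
    rw [Subgroup.sup_eq_closure] at hx hy
    induction hx using Subgroup.closure_induction with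
    | mem x hx =>
      induction hy using Subgroup.closure_induction with
      | mem y hy =>
        rcases hx with hx | hx
        · rcases hy with hy | hy
          · exact hEE x hx y hy
          · have := Subgroup.mem_center_iff.1 (hSZ y hy) x
            have h1 : x * y * x⁻¹ * y⁻¹ = 1 := by rw [this]; group
            rw [h1]; exact Subgroup.one_mem _
        · have := Subgroup.mem_center_iff.1 (hSZ x hx) y
          have h1 : x * y * x⁻¹ * y⁻¹ = 1 := by rw [← this]; group
          rw [h1]; exact Subgroup.one_mem _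
      | one => simp
      | mul y y' _ _ ihy ihy' =>
        have h1 : x * (y * y') * x⁻¹ * (y * y')⁻¹ = (x * y * x⁻¹ * y⁻¹) * (y * (x * y' * x⁻¹ * y'⁻¹) * y⁻¹) := by
          group
        have h2 : y * (x * y' * x⁻¹ * y'⁻¹) * y⁻¹ = x * y' * x⁻¹ * y'⁻¹ := by
          rw [Subgroup.mem_center_iff.1 ihy' y]; group
        rw [h1, h2]
        exact Subgroup.mul_mem _ ihy ihy'
      | inv y _ ihy =>
        have h1 : x * y⁻¹ * x⁻¹ * y⁻¹⁻¹ = y⁻¹ * (x * y * x⁻¹ * y⁻¹)⁻¹ * y := by group
        have h2 : y⁻¹ * (x * y * x⁻¹ * y⁻¹)⁻¹ * y = (x * y * x⁻¹ * y⁻¹)⁻¹ := by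
          have := Subgroup.mem_center_iff.1 (Subgroup.inv_mem _ ihy) y⁻¹
          rw [this]; group
        rw [h1, h2]
        exact Subgroup.inv_mem _ ihy
    | one => simp
    | mul x x' _ _ ihx ihx' =>
      have h1 : (x * x') * y * (x * x')⁻¹ * y⁻¹ = x * (x' * y * x'⁻¹ * y⁻¹) * x⁻¹ * (x * y * x⁻¹ * y⁻¹) := by
        group
      have h2 : x * (x' * y * x'⁻¹ * y⁻¹) * x⁻¹ = x' * y * x'⁻¹ * y⁻¹ := by
        rw [Subgroup.mem_center_iff.1 ihx' x]; group
      rw [h1, h2]
      exact Subgroup.mul_mem _ ihx' ihx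
    | inv x _ ihx =>
      have h1 : x⁻¹ * y * x⁻¹⁻¹ * y⁻¹ = x⁻¹ * (x * y * x⁻¹ * y⁻¹)⁻¹ * x := by group
      have h2 : x⁻¹ * (x * y * x⁻¹ * y⁻¹)⁻¹ * x = (x * y * x⁻¹ * y⁻¹)⁻¹ := by
        have := Subgroup.mem_center_iff.1 (Subgroup.inv_mem _ ihx) x⁻¹
        rw [this]; group
      rw [h1, h2]
      exact Subgroup.inv_mem _ ihx
  exact key a (by rw [hsup]; trivial) b (by rw [hsup]; trivial)

variable {F : Type*} [Field F] [Fintype F] {m : ℕ}

/-- K-SpMax-D6. -/
theorem card_sq_eq_of_symplecticType (hodd : Odd (Fintype.card F))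
    (R : Subgroup (GL (Fin m ⊕ Fin m) F)) (hR : IsSymplecticTypeGroup 2 R)
    (habs : ActsAbsolutelyIrreducibly (matrixSet R)) (k : ℕ) (hcard : Nat.card R = 2 ^ (1 + 2 * k))
    (hZ : Nat.card (Subgroup.center R) = 2) : (2 * m) ^ 2 = 2 ^ (2 * k) := by
  classical
  -- `2 ≠ 0` in `F`
  have h2 : (2 : F) ≠ 0 := by
    intro h
    have h1 : ((2 : ℕ) : F) = 0 := by exact_mod_cast h
    obtain ⟨p, hp⟩ := CharP.exists F
    have hpp : p.Prime := (CharP.char_is_prime_or_zero F p).resolve_right (by
      intro h0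
      subst h0
      have := CharP.charP_to_charZero F
      exact absurd h1 (by norm_num))
    have hdvd : p ∣ 2 := (CharP.cast_eq_zero_iff F p 2).1 h1
    have hp2 : p = 2 := (Nat.prime_dvd_prime_iff_eq hpp Nat.prime_two).1 hdvd
    subst hp2
    have hcardF : (2 : ℕ) ∣ Fintype.card F := by
      rw [← CharP.cast_eq_zero_iff F 2]
      exact Nat.cast_card_eq_zero F
    obtain ⟨j, hj⟩ := hodd
    omega
  have hexp : ∀ g : R, g ^ 4 = 1 := by
    intro g
    have := Monoid.pow_exponent_eq_one g
    rw [hR.exponent_eq] at this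
    simpa using this
  have hfin : Finite R := inferInstance
  have hcomm := commutator_mem_center_of_symplecticType hR.pGroup hR.cyclic_of_characteristic hexp
  have D : SpMaxD6.Data R := ⟨h2, habs, hcomm, hZ⟩
  have hcardF : (Nat.card R : F) ≠ 0 := by
    rw [hcard]
    push_cast
    exact pow_ne_zero _ h2
  have h := SpMaxD6.card_sq_mul_two D hcardF
  rw [hcard, Fintype.card_sum, Fintype.card_fin] at h
  have h3 : 2 ^ (1 + 2 * k) = 2 ^ (2 * k) * 2 := by rw [add_comm, pow_succ]
  rw [h3] at h
  have h4 : (m + m) ^ 2 = 2 ^ (2 * k) := Nat.eq_of_mul_eq_mul_right (by norm_num) h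
  rw [← h4, two_mul]

end Cfsg.Agent.Lib.Helper59.SpMax
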