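import Cfsg.Agent.Lib.Helper45.AltFreeDefs
import Cfsg.Agent.Lib.Helper67.AltFreeP1

/-!
# S2276 keystone K-II (`case_two`): two 3-cycles, degree at least 14
-/

set_option autoImplicit false

namespace Cfsg.Agent.Lib.Helper59.AltFree

open Equiv Equiv.Perm Cfsg.Agent.Lib.Helper45.AltFree

variable {α : Type*} [Fintype α] [DecidableEq α]
variable {β : Type*} [Fintype β] [DecidableEq β]

omit [Fintype β] in
/-- a permutation fixing `a` and `b` commutes with `swap a b`. -/
theorem mul_swap_comm_of_fixed (σ : Perm β) (a b : β) (ha : σ a = a) (hb : σ b = b) :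
    σ * swap a b = swap a b * σ := by
  rw [Equiv.mul_swap_eq_swap_mul, ha, hb]

omit [Fintype β] in
/-- conjugate of a swap. -/
theorem conj_swap_eq (σ : Perm β) (a b : β) : σ * swap a b * σ⁻¹ = swap (σ a) (σ b) := by
  rw [Equiv.mul_swap_eq_swap_mul, mul_inv_cancel_right]

omit [Fintype β] [DecidableEq β] in
/-- powers of a permutation interchanging `a` and `b`. -/
theorem swapping_pow (z : Perm β) (a b : β) (hab : z a = b) (hba : z b = a) (n : ℕ) :
    (z ^ n) a = if Even n then a else b := by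
  induction n with
  | zero => simp
  | succ k ih =>
    rw [pow_succ', Perm.mul_apply, ih]
    by_cases hk : Even k
    · simp [hk, Nat.even_add_one, hab]
    · simp [hk, Nat.even_add_one, hba]

omit [Fintype β] [DecidableEq β] in
/-- a permutation interchanging two distinct points is not a `p`-element for odd `p`. -/
theorem not_isPE_of_swapping (z : Perm β) (a b : β) (hne : a ≠ b) (hab : z a = b) (hba : z b = a)
    (p : ℕ) (hp2 : Odd p) : ¬ IsPE p z := by
  rintro ⟨k, hk⟩
  have hodd : Odd (p ^ k) := hp2.pow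
  have h1 : (z ^ (p ^ k)) a = a := by rw [← hk, pow_orderOf_eq_one]; rfl
  rw [swapping_pow z a b hab hba] at h1
  have h2 : ¬ Even (p ^ k) := Nat.not_even_iff_odd.2 hodd
  rw [if_neg h2] at h1
  exact hne h1.symm

/-- odd powers of an involution. -/
theorem pow_odd_of_mul_self {G : Type*} [Group G] (d : G) (hd : d * d = 1) (N : ℕ) (hN : Odd N) :
    d ^ N = d := by
  obtain ⟨m, rfl⟩ := hN
  rw [pow_succ, pow_mul, pow_two, hd, one_pow, one_mul]

/-- K-II: two 3-cycles, degree at least 14. -/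
theorem case_two (c y : Perm β) (hc : c.IsCycle) (hcs : c.support = Finset.univ)
    (hodd : Odd (Fintype.card β)) (h14 : 14 ≤ Fintype.card β) (r : β)
    (hy1 : y (c r) = r) (hy2 : y ((c ^ 2) r) = c r) (hy4 : y ((c ^ 4) r) = (c ^ 3) r)
    (hy5 : y ((c ^ 5) r) = (c ^ 4) r)
    (N : ℕ) (hN : Odd N) (ht : (c * y) ^ N = 1) (p : ℕ) (hp2 : Odd p) :
    Good p c (swap (c r) ((c ^ 4) r) * y * (swap (c r) ((c ^ 4) r))⁻¹) := by
  obtain ⟨x, hx⟩ : ∃ x : ℕ → β, ∀ i, x i = (c ^ i) r := ⟨fun i => (c ^ i) r, fun _ => rfl⟩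
  have e0 : r = x 0 := by rw [hx, pow_zero]; rfl
  have e1 : c r = x 1 := by rw [hx, pow_one]
  have e2 : (c ^ 2) r = x 2 := (hx 2).symm
  have e3 : (c ^ 3) r = x 3 := (hx 3).symm
  have e4 : (c ^ 4) r = x 4 := (hx 4).symm
  have e5 : (c ^ 5) r = x 5 := (hx 5).symm
  have hcpow : ∀ k i, (c ^ k) (x i) = x (k + i) := by
    intro k i
    rw [hx, hx, ← Perm.mul_apply, ← pow_add]
  have hcx : ∀ i, c (x i) = x (1 + i) := by
    intro i
    have := hcpow 1 i
    rwa [pow_one] at this
  have hne : ∀ i j, i < 14 → j < 14 → i ≠ j → x i ≠ x j := by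
    intro i j hi hj hij
    rw [hx, hx]
    exact pow_apply_ne c hc hcs r (lt_of_lt_of_le hi h14) (lt_of_lt_of_le hj h14) hij
  have hsw : ∀ a b i, a < 14 → b < 14 → i < 14 →
      (swap (x a) (x b)) (x i) = x (if i = a then b else if i = b then a else i) := by
    intro a b i ha hb hi
    by_cases hia : i = a
    · subst hia
      simp
    · by_cases hib : i = b
      · subst hib
        simp [hia]
      · rw [if_neg hia, if_neg hib]
        exact Equiv.swap_apply_of_ne_of_ne (hne i a hi ha hia) (hne i b hi hb hib)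
  have hy1' : y (x 1) = x 0 := by rw [← e1, ← e0]; exact hy1
  have hy2' : y (x 2) = x 1 := by rw [← e2, ← e1]; exact hy2
  have hy4' : y (x 4) = x 3 := by rw [← e4, ← e3]; exact hy4
  have hy5' : y (x 5) = x 4 := by rw [← e5, ← e4]; exact hy5
  rw [e1, e4, Equiv.swap_inv]
  clear hy1 hy2 hy4 hy5
  -- notation
  set τ : Perm β := swap (x 1) (x 4) with hτ
  set s25 : Perm β := swap (x 2) (x 5) with hs25
  set t : Perm β := c * y with ht_def
  set d : Perm β := s25 * τ with hd_def
  -- t fixes x1 x2 x4 x5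
  have ht1 : t (x 1) = x 1 := by
    rw [ht_def, Perm.mul_apply, hy1', hcx]
  have ht2 : t (x 2) = x 2 := by
    rw [ht_def, Perm.mul_apply, hy2', hcx]
  have ht4 : t (x 4) = x 4 := by
    rw [ht_def, Perm.mul_apply, hy4', hcx]
  have ht5 : t (x 5) = x 5 := by
    rw [ht_def, Perm.mul_apply, hy5', hcx]
  -- z = t * d
  have hz : c * (τ * y * τ) = t * d := by
    have h1 : c * τ = s25 * c := by
      rw [hτ, Equiv.mul_swap_eq_swap_mul, hcx, hcx]
    have h2 : t * s25 = s25 * t := mul_swap_comm_of_fixed t _ _ ht2 ht5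
    calc c * (τ * y * τ) = (c * τ) * y * τ := by group
      _ = s25 * c * y * τ := by rw [h1]
      _ = (s25 * t) * τ := by rw [ht_def]; group
      _ = t * s25 * τ := by rw [h2]
      _ = t * d := by rw [hd_def, mul_assoc]
  have hcomm_td : Commute t d := by
    have h2 : t * s25 = s25 * t := mul_swap_comm_of_fixed t _ _ ht2 ht5
    have h3 : t * τ = τ * t := mul_swap_comm_of_fixed t _ _ ht1 ht4
    show t * d = d * t
    rw [hd_def, ← mul_assoc, h2, mul_assoc, h3, mul_assoc]
  have hdd : d * d = 1 := by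
    have h4 : τ * s25 = s25 * τ := by
      apply mul_swap_comm_of_fixed
      · rw [hτ, hsw 1 4 2 (by norm_num) (by norm_num) (by norm_num)]; simp
      · rw [hτ, hsw 1 4 5 (by norm_num) (by norm_num) (by norm_num)]; simp
    calc d * d = s25 * (τ * s25) * τ := by rw [hd_def]; group
      _ = s25 * (s25 * τ) * τ := by rw [h4]
      _ = (s25 * s25) * (τ * τ) := by group
      _ = 1 := by rw [hs25, hτ, Equiv.swap_mul_self, Equiv.swap_mul_self, one_mul]
  refine ⟨?_, ?_⟩
  · -- (A)
    rw [hz]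
    have hd1 : d (x 1) = x 4 := by
      rw [hd_def, hs25, hτ, Perm.mul_apply,
        hsw 1 4 1 (by norm_num) (by norm_num) (by norm_num), if_pos rfl,
        hsw 2 5 4 (by norm_num) (by norm_num) (by norm_num)]
      norm_num
    have hd4 : d (x 4) = x 1 := by
      rw [hd_def, hs25, hτ, Perm.mul_apply,
        hsw 1 4 4 (by norm_num) (by norm_num) (by norm_num)]
      norm_num
      rw [hsw 2 5 1 (by norm_num) (by norm_num) (by norm_num)]
      norm_num
    have hzx1 : (t * d) (x 1) = x 4 := by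
      rw [Perm.mul_apply, hd1, ht4]
    have hzx4 : (t * d) (x 4) = x 1 := by
      rw [Perm.mul_apply, hd4, ht1]
    exact not_isPE_of_swapping (t * d) (x 1) (x 4)
      (hne 1 4 (by norm_num) (by norm_num) (by norm_num)) hzx1 hzx4 p hp2
  · -- (B)
    set H : Subgroup (Perm β) := Subgroup.closure ({c, τ * y * τ} : Set (Perm β)) with hH
    have hcH : c ∈ H := Subgroup.subset_closure (by simp)
    have hyH : τ * y * τ ∈ H := Subgroup.subset_closure (by simp)
    have hzH : t * d ∈ H := by rw [← hz]; exact H.mul_mem hcH hyH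
    have hdH : d ∈ H := by
      have h1 : (t * d) ^ N = d := by
        rw [hcomm_td.mul_pow, ht, one_mul, pow_odd_of_mul_self d hdd N hN]
      rw [← h1]
      exact H.pow_mem hzH N
    -- E = d * (c^2 d c^-2)
    set E : Perm β := swap (x 2) (x 5) * swap (x 1) (x 4) * (swap (x 4) (x 7) * swap (x 3) (x 6))
      with hE
    have hEH : E ∈ H := by
      have h1 : c ^ 2 * d * (c ^ 2)⁻¹ = swap (x 4) (x 7) * swap (x 3) (x 6) := by
        have h2 : c ^ 2 * d * (c ^ 2)⁻¹ = (c ^ 2 * s25 * (c ^ 2)⁻¹) * (c ^ 2 * τ * (c ^ 2)⁻¹) := by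
          rw [hd_def]; group
        rw [h2, hs25, hτ, conj_swap_eq, conj_swap_eq, hcpow, hcpow, hcpow, hcpow]
      have h3 : E = d * (c ^ 2 * d * (c ^ 2)⁻¹) := by
        rw [h1, hE, hd_def]
      rw [h3]
      exact H.mul_mem hdH (H.mul_mem (H.mul_mem (H.pow_mem hcH 2) hdH) (H.inv_mem (H.pow_mem hcH 2)))
    set E' : Perm β := swap (x 8) (x 11) * swap (x 7) (x 10) * (swap (x 10) (x 13) * swap (x 9) (x 12))
      with hE'
    have hE'H : E' ∈ H := by
      have h1 : E' = c ^ 6 * E * (c ^ 6)⁻¹ := by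
        have h2 : c ^ 6 * E * (c ^ 6)⁻¹ = (c ^ 6 * swap (x 2) (x 5) * (c ^ 6)⁻¹) *
            (c ^ 6 * swap (x 1) (x 4) * (c ^ 6)⁻¹) * ((c ^ 6 * swap (x 4) (x 7) * (c ^ 6)⁻¹) *
            (c ^ 6 * swap (x 3) (x 6) * (c ^ 6)⁻¹)) := by
          rw [hE]; group
        rw [h2, conj_swap_eq, conj_swap_eq, conj_swap_eq, conj_swap_eq]
        simp only [hcpow, Nat.reduceAdd]
        rfl
      rw [h1]
      exact H.mul_mem (H.mul_mem (H.pow_mem hcH 6) hEH) (H.inv_mem (H.pow_mem hcH 6))
    have hfH : E * E ∈ H := H.mul_mem hEH hEH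
    have hgH : E' * E' ∈ H := H.mul_mem hE'H hE'H
    -- the five points
    let w : Fin 5 → ℕ := ![4, 1, 7, 13, 10]
    have hw14 : ∀ i, w i < 14 := by decide
    have hwinj : Function.Injective w := by decide
    let v : Fin 5 → β := fun i => x (w i)
    have hv : Function.Injective v := by
      intro i j hij
      by_contra hne'
      exact hne (w i) (w j) (hw14 i) (hw14 j) (fun h => hne' (hwinj h)) hij
    have ev : ∀ (a b i : ℕ), a < 14 → b < 14 → i < 14 →
        (swap (x a) (x b)) (x i) = x (if i = a then b else if i = b then a else i) := hsw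
    refine Cfsg.Agent.Lib.Helper67.AltFree.not_solvable_of_local_three_cycles H (E * E) (E' * E') hfH hgH v hv ?_ ?_ ?_ ?_ ?_
      ?_ ?_ ?_ ?_ ?_
    all_goals
      show _ = x _
      simp only [v, w, hE, hE', Perm.mul_apply, Matrix.cons_val_zero, Matrix.cons_val_one,
        Matrix.cons_val]
      simp [hsw]
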