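import Mathlib
import Cfsg.Agent.Lib.Helper78.SL23Recognition

set_option autoImplicit false

namespace Cfsg.Agent.Lib.Helper59

open QuaternionGroup
open Cfsg.Agent.Lib.Helper78

/-- evaluation of the canonical word of an element of `Q₈` at a pair `(p, q)` -/
def q8ev (p q : QuaternionGroup 2) : QuaternionGroup 2 → QuaternionGroup 2
  | a k => p ^ k.val
  | xa k => q * p ^ k.val

set_option maxRecDepth 100000 in
theorem q8_key : ∀ p q : QuaternionGroup 2,
    (∀ u v, q8ev p q (u * v) = q8ev p q u * q8ev p q v) →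
    (∀ u, q8ev p q (q8ev p q (q8ev p q u)) = u) → ¬ (p = a 1 ∧ q = xa 0) →
    ∃ i j : QuaternionGroup 2, i * i = a 2 ∧ j * j = i * i ∧ j * i * j⁻¹ = i⁻¹ ∧
      q8ev p q i = j ∧ q8ev p q j = i * j := by
  decide +kernel

theorem q8ev_id : ∀ u : QuaternionGroup 2, q8ev (a 1) (xa 0) u = u := by
  decide +kernel

theorem q8ev_apply (ψ : MulAut (QuaternionGroup 2)) (u : QuaternionGroup 2) :
    ψ u = q8ev (ψ (a 1)) (ψ (xa 0)) u := by
  cases u with
  | a k =>
    show ψ (a k) = ψ (a 1) ^ k.val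
    rw [← map_pow, QuaternionGroup.a_one_pow, ZMod.natCast_zmod_val]
  | xa k =>
    show ψ (xa k) = ψ (xa 0) * ψ (a 1) ^ k.val
    rw [← map_pow, ← map_mul, QuaternionGroup.a_one_pow, ZMod.natCast_zmod_val,
      QuaternionGroup.xa_mul_a, zero_add]

/-- a nontrivial automorphism of `Q₈` with trivial cube is conjugate to the standard one -/
theorem q8_aut_triple (ψ : MulAut (QuaternionGroup 2)) (h3 : ∀ u, ψ (ψ (ψ u)) = u) (hne : ψ ≠ 1) :
    ∃ i j : QuaternionGroup 2, i * i = a 2 ∧ j * j = i * i ∧ j * i * j⁻¹ = i⁻¹ ∧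
      ψ i = j ∧ ψ j = i * j := by
  have hev := q8ev_apply ψ
  obtain ⟨i, j, h1, h2, h3', h4, h5⟩ := q8_key (ψ (a 1)) (ψ (xa 0))
    (by intro u v; rw [← hev, ← hev, ← hev, map_mul])
    (by intro u; rw [← hev, ← hev, ← hev]; exact h3 u)
    (by
      rintro ⟨hp, hq⟩
      apply hne
      ext u
      rw [hev u, hp, hq, q8ev_id]
      rfl)
  exact ⟨i, j, h1, h2, h3', by rw [hev]; exact h4, by rw [hev]; exact h5⟩

theorem q8_a2 : (a 2 : QuaternionGroup 2) ≠ 1 ∧ (a 2 : QuaternionGroup 2) * a 2 = 1 := by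
  decide +kernel

variable {G : Type*} [Group G]

/-- an element of order three acting nontrivially on a normal quaternion subgroup gives a binary
tetrahedral triple -/
theorem exists_bttriple_of_q8 (Q : Subgroup G) [Q.Normal] (e : Q ≃* QuaternionGroup 2) (g : G)
    (hg3 : g ^ 3 = 1) (hgC : g ∉ Subgroup.centralizer (Q : Set G)) :
    ∃ i j : G, i ∈ Q ∧ j ∈ Q ∧ BTTriple i j g := by
  set ψ₀ : MulAut Q := MulAut.conjNormal g with hψ₀
  have hψ₀3 : ∀ v : Q, ψ₀ (ψ₀ (ψ₀ v)) = v := by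
    intro v
    have h1 : ψ₀ ^ 3 = 1 := by rw [hψ₀, ← map_pow, hg3, map_one]
    have h2 : (ψ₀ ^ 3) v = ψ₀ (ψ₀ (ψ₀ v)) := by
      rw [pow_succ, pow_two, MulAut.mul_apply, MulAut.mul_apply]
    rw [← h2, h1, MulAut.one_apply]
  have hψ₀c : ∀ v : Q, ((ψ₀ v : Q) : G) = g * v * g⁻¹ := fun v => MulAut.conjNormal_apply g v
  set ψ : MulAut (QuaternionGroup 2) := (e.symm.trans ψ₀).trans e with hψ
  have hψa : ∀ u, ψ u = e (ψ₀ (e.symm u)) := fun u => rfl
  obtain ⟨i', j', h1, h2, h3, h4, h5⟩ := q8_aut_triple ψ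
    (by
      intro u
      rw [hψa, hψa, hψa, MulEquiv.symm_apply_apply, MulEquiv.symm_apply_apply, hψ₀3,
        MulEquiv.apply_symm_apply])
    (by
      intro h1
      apply hgC
      rw [Subgroup.mem_centralizer_iff]
      intro x hx
      have h2 : ψ (e ⟨x, hx⟩) = e ⟨x, hx⟩ := by rw [h1, MulAut.one_apply]
      rw [hψa, MulEquiv.symm_apply_apply] at h2
      have h3 := congrArg Subtype.val (e.injective h2)
      rw [hψ₀c] at h3
      calc x * g = (g * x * g⁻¹) * g := by rw [h3]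
        _ = g * x := by group)
  refine ⟨(e.symm i' : Q), (e.symm j' : Q), (e.symm i').2, (e.symm j').2, ?_⟩
  have hz1 : (e.symm (a 2) : Q) ≠ 1 := by
    intro h0
    have := congrArg e h0
    rw [MulEquiv.apply_symm_apply, map_one] at this
    exact q8_a2.1 this
  have hii : (e.symm i' : Q) * e.symm i' = e.symm (a 2) := by rw [← map_mul, h1]
  have hzz : (e.symm (a 2) : Q) * e.symm (a 2) = 1 := by rw [← map_mul, q8_a2.2, map_one]
  constructor
  · -- order four
    have hnot : ¬ ((e.symm i' : Q) : G) ^ 2 ^ 1 = 1 := by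
      intro h0
      apply hz1
      apply Subtype.ext
      rw [← hii, Subgroup.coe_mul, Subgroup.coe_one, ← h0]
      simp [pow_two]
    have hfin : ((e.symm i' : Q) : G) ^ 2 ^ 2 = 1 := by
      have h0 : ((e.symm i' : Q) : G) ^ 2 ^ 2 =
          (((e.symm i' : Q) * e.symm i') * ((e.symm i' : Q) * e.symm i') : Q) := by
        rw [Subgroup.coe_mul, Subgroup.coe_mul]
        simp [pow_succ, mul_assoc]
      rw [h0, hii, hzz, Subgroup.coe_one]
    have := orderOf_eq_prime_pow hnot hfin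
    rw [this]; norm_num
  · rw [← Subgroup.coe_mul, ← Subgroup.coe_mul, ← map_mul, ← map_mul, h2]
  · rw [← Subgroup.coe_inv, ← Subgroup.coe_inv, ← Subgroup.coe_mul, ← Subgroup.coe_mul,
      ← map_inv, ← map_mul, ← map_mul, h3, map_inv]
  · have h6 : ψ₀ (e.symm i') = e.symm j' := by
      apply e.injective
      rw [MulEquiv.apply_symm_apply, ← h4, hψa]
    rw [← hψ₀c, h6]
  · have h6 : ψ₀ (e.symm j') = e.symm (i' * j') := by
      apply e.injective
      rw [MulEquiv.apply_symm_apply, ← h5, hψa]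
    rw [← hψ₀c, h6, map_mul, Subgroup.coe_mul]
  · exact hg3

end Cfsg.Agent.Lib.Helper59
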