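import Mathlib
import Cfsg.Agent.Lib.Helper74.MinIdxDefs

/-!
# S2140 keystone K19: in case (B) the transvections of `H` with centre `v` form an
`F`-hyperplane of `Qst v`.
-/

set_option autoImplicit false

namespace Cfsg.Agent.Lib.Helper59.MinIdx

open Matrix Cfsg.Agent.Lib.Helper74.MinIdx

variable {ι : Type*} [Fintype ι] [DecidableEq ι] {F : Type*} [Field F]

theorem tv_congr' {v v' φ φ' : ι → F} (hv : v = v') (hφ : φ = φ') (h : φ ⬝ᵥ v = 0)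
    (h' : φ' ⬝ᵥ v' = 0) : tv v φ h = tv v' φ' h' := by
  subst hv; subst hφ; rfl

theorem tv_inj' (v : ι → F) (hv : v ≠ 0) (φ ψ : ι → F) (h : φ ⬝ᵥ v = 0) (h' : ψ ⬝ᵥ v = 0)
    (he : tv v φ h = tv v ψ h') : φ = ψ := by
  obtain ⟨i, hi⟩ : ∃ i, v i ≠ 0 := by
    by_contra hc
    push Not at hc
    exact hv (funext hc)
  have hM : tvM v φ = tvM v ψ := congrArg Subtype.val he
  funext j
  have h1 := congrFun (congrFun hM i) j
  simp only [tvM, Matrix.add_apply, vecMulVec_apply] at h1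
  have h2 : v i * φ j = v i * ψ j := add_left_cancel h1
  exact mul_left_cancel₀ hi h2

theorem tvM_mulVec_self' (a ψ v : ι → F) (hψv : ψ ⬝ᵥ v = 0) : tvM a ψ *ᵥ v = v := by
  rw [tvM_mulVec, hψv, zero_smul, add_zero]

/-- conjugating `tv v φ` by the transvection `tv a ψ` fixing `v`. -/
theorem conj_tv_tv' (a ψ v φ : ι → F) (hψa : ψ ⬝ᵥ a = 0) (hψv : ψ ⬝ᵥ v = 0)
    (hφ : φ ⬝ᵥ v = 0) :
    tv a ψ hψa * tv v φ hφ * (tv a ψ hψa)⁻¹ =
      tv v (φ - (φ ⬝ᵥ a) • ψ)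
        (by rw [sub_dotProduct, smul_dotProduct, hφ, hψv, smul_zero, sub_zero]) := by
  have h'' : (φ ᵥ* (((tv a ψ hψa)⁻¹ : SpecialLinearGroup ι F) : Matrix ι ι F)) ⬝ᵥ
      (((tv a ψ hψa : SpecialLinearGroup ι F) : Matrix ι ι F) *ᵥ v) = 0 := by
    rw [conj_dot]; exact hφ
  rw [conj_tv (tv a ψ hψa) v φ hφ h'']
  apply tv_congr'
  · rw [coe_tv]; exact tvM_mulVec_self' a ψ v hψv
  · rw [tv_inv, coe_tv, vecMul_tvM, smul_neg, sub_eq_add_neg]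

/-- conjugating `tv v φ` by the inverse of the transvection `tv a ψ` fixing `v`. -/
theorem conj_tv_tv_inv' (a ψ v φ : ι → F) (hψa : ψ ⬝ᵥ a = 0) (hψv : ψ ⬝ᵥ v = 0)
    (hφ : φ ⬝ᵥ v = 0) :
    (tv a ψ hψa)⁻¹ * tv v φ hφ * tv a ψ hψa =
      tv v (φ + (φ ⬝ᵥ a) • ψ)
        (by rw [add_dotProduct, smul_dotProduct, hφ, hψv, smul_zero, add_zero]) := by
  have hna : (-ψ) ⬝ᵥ a = 0 := by rw [neg_dotProduct, hψa, neg_zero]
  have hnv : (-ψ) ⬝ᵥ v = 0 := by rw [neg_dotProduct, hψv, neg_zero]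
  have h1 := conj_tv_tv' a (-ψ) v φ hna hnv hφ
  have h2 : (tv a ψ hψa)⁻¹ = tv a (-ψ) hna := tv_inv a ψ hψa
  rw [h2]
  have h3 : tv a ψ hψa = (tv a (-ψ) hna)⁻¹ := by rw [← h2, inv_inv]
  rw [h3, h1]
  apply tv_congr' rfl
  rw [smul_neg, sub_neg_eq_add]

theorem Qst_comm' (v : ι → F) : ∀ x ∈ Qst v, ∀ y ∈ Qst v, x * y = y * x := by
  rintro x ⟨φ, h, rfl⟩ y ⟨ψ, h', rfl⟩
  rw [tv_mul_tv, tv_mul_tv]
  exact tv_congr' rfl (add_comm φ ψ) _ _


/-! ### the functional of an element of `Qst v` -/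

/-- the functional `φ` with `g = tv v φ` -/
noncomputable def phiOf (v : ι → F) (g : ↥(Qst v)) : ι → F := Classical.choose g.2

theorem phiOf_spec (v : ι → F) (g : ↥(Qst v)) :
    ∃ h : phiOf v g ⬝ᵥ v = 0, (g : SpecialLinearGroup ι F) = tv v (phiOf v g) h :=
  Classical.choose_spec g.2

theorem phiOf_tv (v : ι → F) (hv : v ≠ 0) (φ : ι → F) (h : φ ⬝ᵥ v = 0) :
    phiOf v ⟨tv v φ h, tv_mem_Qst v φ h⟩ = φ := by
  obtain ⟨h', he⟩ := phiOf_spec v ⟨tv v φ h, tv_mem_Qst v φ h⟩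
  exact (tv_inj' v hv _ _ h h' he).symm

theorem phiOf_mul (v : ι → F) (hv : v ≠ 0) (g g' : ↥(Qst v)) :
    phiOf v (g * g') = phiOf v g + phiOf v g' := by
  obtain ⟨h1, e1⟩ := phiOf_spec v g
  obtain ⟨h2, e2⟩ := phiOf_spec v g'
  obtain ⟨h3, e3⟩ := phiOf_spec v (g * g')
  have h4 : (phiOf v g + phiOf v g') ⬝ᵥ v = 0 := by rw [add_dotProduct, h1, h2, add_zero]
  have : tv v (phiOf v (g * g')) h3 = tv v (phiOf v g + phiOf v g') h4 := by
    rw [← e3, Subgroup.coe_mul, ← tv_mul_tv v _ _ h1 h2, ← e1, ← e2]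
  exact tv_inj' v hv _ _ _ _ this

/-- `g ↦ φ_g ⬝ᵥ a` as a homomorphism `Qst v →* Multiplicative F` -/
noncomputable def dHom (v a : ι → F) (hv : v ≠ 0) : ↥(Qst v) →* Multiplicative F :=
  MonoidHom.mk' (fun g => Multiplicative.ofAdd (phiOf v g ⬝ᵥ a)) (by
    intro g g'
    rw [phiOf_mul v hv, add_dotProduct, ofAdd_add])

theorem dHom_apply (v a : ι → F) (hv : v ≠ 0) (g : ↥(Qst v)) :
    dHom v a hv g = Multiplicative.ofAdd (phiOf v g ⬝ᵥ a) := rfl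

theorem dHom_tv (v a : ι → F) (hv : v ≠ 0) (φ : ι → F) (h : φ ⬝ᵥ v = 0) :
    dHom v a hv ⟨tv v φ h, tv_mem_Qst v φ h⟩ = Multiplicative.ofAdd (φ ⬝ᵥ a) := by
  rw [dHom_apply, phiOf_tv v hv]

theorem relIndex_ker_map' {G G' : Type*} [Group G] [Group G'] (Q : Subgroup G)
    (f : ↥Q →* G') : (f.ker.map Q.subtype).relIndex Q = Nat.card f.range := by
  rw [Subgroup.relIndex, Subgroup.subgroupOf,
    Subgroup.comap_map_eq_self_of_injective Q.subtype_injective, Subgroup.index_ker]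

theorem mem_ker_map_iff' (v : ι → F) (hv : v ≠ 0) {Z : Type*} [Group Z]
    (f : Multiplicative F →* Z) (a : ι → F) (x : SpecialLinearGroup ι F) :
    x ∈ ((f.comp (dHom v a hv)).ker.map (Qst v).subtype) ↔
      ∃ (φ : ι → F) (h : φ ⬝ᵥ v = 0), f (Multiplicative.ofAdd (φ ⬝ᵥ a)) = 1 ∧ x = tv v φ h := by
  constructor
  · rintro ⟨g, hg, rfl⟩
    obtain ⟨h, e⟩ := phiOf_spec v g
    refine ⟨phiOf v g, h, ?_, e⟩
    have : (f.comp (dHom v a hv)) g = 1 := hg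
    rw [MonoidHom.comp_apply, dHom_apply] at this
    exact this
  · rintro ⟨φ, h, hf, rfl⟩
    refine ⟨⟨tv v φ h, tv_mem_Qst v φ h⟩, ?_, rfl⟩
    show (f.comp (dHom v a hv)) _ = 1
    rw [MonoidHom.comp_apply, dHom_tv]
    exact hf

/-! ### duality for the trace form -/

theorem exists_dual_vector' [Fintype F] [Algebra (ZMod (ringChar F)) F]
    (R A : AddSubgroup (ι → F)) (hRA : ¬ A ≤ R) :
    ∃ a₀ : ι → F, (∀ φ ∈ R, Algebra.trace (ZMod (ringChar F)) F (φ ⬝ᵥ a₀) = 0) ∧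
      ∃ φ₁ ∈ A, Algebra.trace (ZMod (ringChar F)) F (φ₁ ⬝ᵥ a₀) ≠ 0 := by
  classical
  have hpr : Fact (ringChar F).Prime := ⟨CharP.char_is_prime F (ringChar F)⟩
  let B : LinearMap.BilinForm (ZMod (ringChar F)) (ι → F) :=
    LinearMap.mk₂ (ZMod (ringChar F))
      (fun φ a => Algebra.trace (ZMod (ringChar F)) F (φ ⬝ᵥ a))
      (fun φ ψ a => by rw [add_dotProduct, map_add])
      (fun c φ a => by rw [smul_dotProduct, map_smul])
      (fun φ a b => by rw [dotProduct_add, map_add])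
      (fun c φ a => by rw [dotProduct_smul, map_smul])
  have hBapp : ∀ φ a, B φ a = Algebra.trace (ZMod (ringChar F)) F (φ ⬝ᵥ a) := fun φ a => rfl
  have hsymm : ∀ φ a, B φ a = B a φ := by
    intro φ a
    rw [hBapp, hBapp, dotProduct_comm]
  have hrefl : B.IsRefl := by
    intro φ a h
    rw [← hsymm]; exact h
  have hsepL : ∀ φ : ι → F, (∀ a, B φ a = 0) → φ = 0 := by
    intro φ hφ
    by_contra hne
    obtain ⟨i, hi⟩ : ∃ i, φ i ≠ 0 := by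
      by_contra hc
      push Not at hc
      exact hne (funext hc)
    obtain ⟨b, hb⟩ := FiniteField.trace_to_zmod_nondegenerate F hi
    apply hb
    have := hφ (Pi.single i b)
    rw [hBapp, dotProduct_single] at this
    exact this
  have hnd : B.Nondegenerate := by
    refine ⟨hsepL, ?_⟩
    intro a ha
    apply hsepL
    intro φ
    rw [hsymm]; exact ha φ
  by_contra hcon
  push Not at hcon
  apply hRA
  set Rp := AddSubgroup.toZModSubmodule (ringChar F) R with hRp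
  set Ap := AddSubgroup.toZModSubmodule (ringChar F) A with hAp
  have hle : B.orthogonal Rp ≤ B.orthogonal Ap := by
    intro a₀ ha₀
    rw [LinearMap.BilinForm.mem_orthogonal_iff] at ha₀ ⊢
    intro φ₁ hφ₁
    exact hcon a₀ (fun φ hφ => ha₀ φ hφ) φ₁ hφ₁
  have h2 := LinearMap.BilinForm.orthogonal_le (B := B) hle
  rw [LinearMap.BilinForm.orthogonal_orthogonal hnd hrefl,
    LinearMap.BilinForm.orthogonal_orthogonal hnd hrefl] at h2
  exact h2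


/-! ### the keystone -/

/-- K19: in case (B) the transvections of `H` with centre `v` form an `F`-hyperplane. -/
theorem K19_hyperplane [Fintype F] (v : ι → F) (hv : v ≠ 0)
    (H : Subgroup (SpecialLinearGroup ι F))
    (hidx : H.relIndex (Qst v) = Fintype.card F)
    (hstar : ∀ M₀ : Subgroup (SpecialLinearGroup ι F), M₀ ≤ Qst v →
      (M₀.relIndex (Qst v)).Prime → ∀ a ∈ Pst v,
      (∀ t ∈ Qst v, t ∈ H → t ∈ M₀) → (∀ t ∈ Qst v, a⁻¹ * t * a ∈ H → t ∈ M₀) →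
      ∃ t ∈ Qst v, t⁻¹ * a ∈ H) :
    ∃ u : ι → F, u ∉ Submodule.span F {v} ∧
      ∀ (φ : ι → F) (h : φ ⬝ᵥ v = 0), tv v φ h ∈ H ↔ φ ⬝ᵥ u = 0 := by
  classical
  have hchar : CharP F (ringChar F) := ringChar.charP F
  have hpr : Fact (ringChar F).Prime := ⟨CharP.char_is_prime F (ringChar F)⟩
  let alg : Algebra (ZMod (ringChar F)) F := ZMod.algebra F (ringChar F)
  -- additive subgroups
  let A : AddSubgroup (ι → F) :=
    { carrier := {φ | φ ⬝ᵥ v = 0}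
      zero_mem' := zero_dotProduct v
      add_mem' := by
        intro φ ψ h h'
        show (φ + ψ) ⬝ᵥ v = 0
        have h1 : φ ⬝ᵥ v = 0 := h
        have h2 : ψ ⬝ᵥ v = 0 := h'
        rw [add_dotProduct, h1, h2, add_zero]
      neg_mem' := by
        intro φ h
        show (-φ) ⬝ᵥ v = 0
        have h1 : φ ⬝ᵥ v = 0 := h
        rw [neg_dotProduct, h1, neg_zero] }
  let R : AddSubgroup (ι → F) :=
    { carrier := {φ | ∃ h : φ ⬝ᵥ v = 0, tv v φ h ∈ H}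
      zero_mem' := ⟨zero_dotProduct v, by rw [tv_zero_right]; exact H.one_mem⟩
      add_mem' := by
        rintro φ ψ ⟨h, hH⟩ ⟨h', hH'⟩
        refine ⟨by rw [add_dotProduct, h, h', add_zero], ?_⟩
        rw [← tv_mul_tv v φ ψ h h']
        exact H.mul_mem hH hH'
      neg_mem' := by
        rintro φ ⟨h, hH⟩
        refine ⟨by rw [neg_dotProduct, h, neg_zero], ?_⟩
        rw [← tv_inv v φ h]
        exact H.inv_mem hH }
  have hq1 : 1 < Fintype.card F := Fintype.one_lt_card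
  have hRA : ¬ A ≤ R := by
    intro hle
    have hQH : Qst v ≤ H := by
      rintro g ⟨φ, h, rfl⟩
      obtain ⟨_, hH⟩ := hle (show φ ∈ A from h)
      exact hH
    rw [← Subgroup.relIndex_eq_one] at hQH
    omega
  obtain ⟨a₀, ha₀R, φ₁, hφ₁A, hφ₁⟩ := exists_dual_vector' R A hRA
  have hφ₁v : φ₁ ⬝ᵥ v = 0 := hφ₁A
  have hφ₁a : φ₁ ⬝ᵥ a₀ ≠ 0 := by
    intro h0
    apply hφ₁
    rw [h0, map_zero]
  have ha₀v : a₀ ∉ Submodule.span F {v} := by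
    intro hmem
    obtain ⟨c, rfl⟩ := Submodule.mem_span_singleton.1 hmem
    apply hφ₁a
    rw [dotProduct_smul, hφ₁v, smul_zero]
  have ha₀R' : ∀ (φ : ι → F) (h : φ ⬝ᵥ v = 0), tv v φ h ∈ H →
      Algebra.trace (ZMod (ringChar F)) F (φ ⬝ᵥ a₀) = 0 :=
    fun φ h hH => ha₀R φ ⟨h, hH⟩
  refine ⟨a₀, ha₀v, ?_⟩
  -- the homomorphism `D`
  have hDsurj : Function.Surjective (dHom v a₀ hv) := by
    intro z
    have hz : ((Multiplicative.toAdd z / (φ₁ ⬝ᵥ a₀)) • φ₁) ⬝ᵥ v = 0 := by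
      rw [smul_dotProduct, hφ₁v, smul_zero]
    refine ⟨⟨tv v _ hz, tv_mem_Qst v _ hz⟩, ?_⟩
    rw [dHom_tv, smul_dotProduct, smul_eq_mul, div_mul_cancel₀ _ hφ₁a]
    rfl
  -- the `F`-hyperplane `E'`
  set E' : Subgroup (SpecialLinearGroup ι F) :=
    (((MonoidHom.id (Multiplicative F)).comp (dHom v a₀ hv)).ker.map (Qst v).subtype) with hE'
  have hE'le : E' ≤ Qst v := Subgroup.map_subtype_le _
  have hE'idx : E'.relIndex (Qst v) = Fintype.card F := by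
    rw [hE', relIndex_ker_map', MonoidHom.id_comp, MonoidHom.range_eq_top.2 hDsurj,
      Subgroup.card_top, Nat.card_eq_fintype_card, Fintype.card_multiplicative]
  have hE'mem : ∀ x, x ∈ E' ↔
      ∃ (φ : ι → F) (h : φ ⬝ᵥ v = 0), φ ⬝ᵥ a₀ = 0 ∧ x = tv v φ h := by
    intro x
    rw [hE', mem_ker_map_iff']
    constructor
    · rintro ⟨φ, h, hf, hx⟩
      exact ⟨φ, h, ofAdd_eq_one.1 hf, hx⟩
    · rintro ⟨φ, h, hf, hx⟩
      exact ⟨φ, h, ofAdd_eq_one.2 hf, hx⟩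
  -- the subgroup `M₀` of index `p`
  set fM : Multiplicative F →* Multiplicative (ZMod (ringChar F)) :=
    AddMonoidHom.toMultiplicative (Algebra.trace (ZMod (ringChar F)) F).toAddMonoidHom with hfM
  have hfM_apply : ∀ z : F, fM (Multiplicative.ofAdd z) =
      Multiplicative.ofAdd (Algebra.trace (ZMod (ringChar F)) F z) := fun z => rfl
  set M₀ : Subgroup (SpecialLinearGroup ι F) :=
    ((fM.comp (dHom v a₀ hv)).ker.map (Qst v).subtype) with hM₀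
  have hM₀le : M₀ ≤ Qst v := Subgroup.map_subtype_le _
  have hM₀mem : ∀ x, x ∈ M₀ ↔ ∃ (φ : ι → F) (h : φ ⬝ᵥ v = 0),
      Algebra.trace (ZMod (ringChar F)) F (φ ⬝ᵥ a₀) = 0 ∧ x = tv v φ h := by
    intro x
    rw [hM₀, mem_ker_map_iff']
    constructor
    · rintro ⟨φ, h, hf, hx⟩
      rw [hfM_apply] at hf
      exact ⟨φ, h, ofAdd_eq_one.1 hf, hx⟩
    · rintro ⟨φ, h, hf, hx⟩
      refine ⟨φ, h, ?_, hx⟩
      rw [hfM_apply]
      exact ofAdd_eq_one.2 hf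
  have hcardZ : Nat.card (Multiplicative (ZMod (ringChar F))) = ringChar F := by
    rw [Nat.card_eq_fintype_card, Fintype.card_multiplicative, ZMod.card]
  have hM₀prime : (M₀.relIndex (Qst v)).Prime := by
    rw [hM₀, relIndex_ker_map']
    have : Fact (Nat.card (Multiplicative (ZMod (ringChar F)))).Prime := by
      rw [hcardZ]; exact hpr
    rcases Subgroup.eq_bot_or_eq_top_of_prime_card (fM.comp (dHom v a₀ hv)).range with hb | ht
    · exfalso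
      have hmem : (fM.comp (dHom v a₀ hv)) ⟨tv v φ₁ hφ₁v, tv_mem_Qst v φ₁ hφ₁v⟩ ∈
          (fM.comp (dHom v a₀ hv)).range := ⟨_, rfl⟩
      rw [hb, Subgroup.mem_bot, MonoidHom.comp_apply, dHom_tv, hfM_apply] at hmem
      exact hφ₁ (ofAdd_eq_one.1 hmem)
    · rw [ht, Subgroup.card_top, hcardZ]
      exact hpr.1
  -- closure property from `hstar`
  have hclose : ∀ (φ ψ : ι → F) (hφ : φ ⬝ᵥ v = 0) (hψv : ψ ⬝ᵥ v = 0) (hψa : ψ ⬝ᵥ a₀ = 0),
      tv v φ hφ ∈ H →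
      ∃ h' : (φ - (φ ⬝ᵥ a₀) • ψ) ⬝ᵥ v = 0, tv v (φ - (φ ⬝ᵥ a₀) • ψ) h' ∈ H := by
    intro φ ψ hφ hψv hψa hφH
    have hτP : tv a₀ ψ hψa ∈ Pst v :=
      ⟨1, by rw [coe_tv, tvM_mulVec_self' a₀ ψ v hψv, Units.val_one, one_smul]⟩
    have h1 : ∀ t ∈ Qst v, t ∈ H → t ∈ M₀ := by
      rintro t ⟨χ, h, rfl⟩ htH
      exact (hM₀mem _).2 ⟨χ, h, ha₀R' χ h htH, rfl⟩
    have h2 : ∀ t ∈ Qst v, (tv a₀ ψ hψa)⁻¹ * t * tv a₀ ψ hψa ∈ H → t ∈ M₀ := by
      rintro t ⟨χ, h, rfl⟩ htH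
      rw [conj_tv_tv_inv' a₀ ψ v χ hψa hψv h] at htH
      have h3 := ha₀R' _ _ htH
      rw [add_dotProduct, smul_dotProduct, hψa, smul_zero, add_zero] at h3
      exact (hM₀mem _).2 ⟨χ, h, h3, rfl⟩
    obtain ⟨t₀, ht₀Q, ht₀H⟩ := hstar M₀ hM₀le hM₀prime _ hτP h1 h2
    have hconj : (t₀⁻¹ * tv a₀ ψ hψa) * tv v φ hφ * (t₀⁻¹ * tv a₀ ψ hψa)⁻¹ ∈ H :=
      H.mul_mem (H.mul_mem ht₀H hφH) (H.inv_mem ht₀H)
    have heq : (t₀⁻¹ * tv a₀ ψ hψa) * tv v φ hφ * (t₀⁻¹ * tv a₀ ψ hψa)⁻¹ =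
        t₀⁻¹ * (tv a₀ ψ hψa * tv v φ hφ * (tv a₀ ψ hψa)⁻¹) * t₀ := by group
    rw [heq, conj_tv_tv' a₀ ψ v φ hψa hψv hφ] at hconj
    have h' : (φ - (φ ⬝ᵥ a₀) • ψ) ⬝ᵥ v = 0 := by
      rw [sub_dotProduct, smul_dotProduct, hφ, hψv, smul_zero, sub_zero]
    have hconj' : t₀⁻¹ * tv v (φ - (φ ⬝ᵥ a₀) • ψ) h' * t₀ ∈ H := hconj
    have hc := Qst_comm' v _ (tv_mem_Qst v (φ - (φ ⬝ᵥ a₀) • ψ) h') t₀ ht₀Q
    rw [mul_assoc, hc, ← mul_assoc, inv_mul_cancel, one_mul] at hconj'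
    exact ⟨h', hconj'⟩
  have hqpos : 0 < Fintype.card F := by omega
  have hRHidx : (H ⊓ Qst v).relIndex (Qst v) = Fintype.card F := by
    rw [Subgroup.inf_relIndex_right]; exact hidx
  by_cases hex : ∃ (φ₀ : ι → F) (h₀ : φ₀ ⬝ᵥ v = 0), tv v φ₀ h₀ ∈ H ∧ φ₀ ⬝ᵥ a₀ ≠ 0
  · -- impossible
    exfalso
    obtain ⟨φ₀, h₀, hφ₀H, hφ₀a⟩ := hex
    have hE'H : E' ≤ H ⊓ Qst v := by
      intro x hx
      refine ⟨?_, hE'le hx⟩
      obtain ⟨ψ, hψv, hψa, rfl⟩ := (hE'mem x).1 hx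
      have hψv' : ((φ₀ ⬝ᵥ a₀)⁻¹ • ψ) ⬝ᵥ v = 0 := by rw [smul_dotProduct, hψv, smul_zero]
      have hψa' : ((φ₀ ⬝ᵥ a₀)⁻¹ • ψ) ⬝ᵥ a₀ = 0 := by rw [smul_dotProduct, hψa, smul_zero]
      obtain ⟨h', hH'⟩ := hclose φ₀ _ h₀ hψv' hψa' hφ₀H
      have h4 : φ₀ - (φ₀ ⬝ᵥ a₀) • ((φ₀ ⬝ᵥ a₀)⁻¹ • ψ) = φ₀ - ψ := by
        rw [smul_smul, mul_inv_cancel₀ hφ₀a, one_smul]
      have h5 : (φ₀ - ψ) ⬝ᵥ v = 0 := by rw [sub_dotProduct, h₀, hψv, sub_zero]
      have h6 : tv v (φ₀ - ψ) h5 ∈ H := by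
        have := tv_congr' (v := v) rfl h4 h' h5
        rw [← this]; exact hH'
      have h7 : tv v ψ hψv = tv v φ₀ h₀ * (tv v (φ₀ - ψ) h5)⁻¹ := by
        rw [tv_inv, tv_mul_tv]
        apply tv_congr' rfl
        abel
      rw [h7]
      exact H.mul_mem hφ₀H (H.inv_mem h6)
    have hmul := Subgroup.relIndex_mul_relIndex E' (H ⊓ Qst v) (Qst v) hE'H inf_le_right
    rw [hRHidx, hE'idx] at hmul
    have h1 : E'.relIndex (H ⊓ Qst v) = 1 := by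
      have : E'.relIndex (H ⊓ Qst v) * Fintype.card F = 1 * Fintype.card F := by
        rw [hmul, one_mul]
      exact Nat.eq_of_mul_eq_mul_right hqpos this
    rw [Subgroup.relIndex_eq_one] at h1
    have hmem : tv v φ₀ h₀ ∈ E' := h1 ⟨hφ₀H, tv_mem_Qst v φ₀ h₀⟩
    obtain ⟨χ, hχv, hχa, he⟩ := (hE'mem _).1 hmem
    have := tv_inj' v hv _ _ h₀ hχv he
    rw [this] at hφ₀a
    exact hφ₀a hχa
  · push Not at hex
    have hRHE' : H ⊓ Qst v ≤ E' := by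
      rintro x ⟨hxH, ⟨φ, h, rfl⟩⟩
      exact (hE'mem _).2 ⟨φ, h, hex φ h hxH, rfl⟩
    have hmul := Subgroup.relIndex_mul_relIndex (H ⊓ Qst v) E' (Qst v) hRHE' hE'le
    rw [hRHidx, hE'idx] at hmul
    have h1 : (H ⊓ Qst v).relIndex E' = 1 := by
      have : (H ⊓ Qst v).relIndex E' * Fintype.card F = 1 * Fintype.card F := by
        rw [hmul, one_mul]
      exact Nat.eq_of_mul_eq_mul_right hqpos this
    rw [Subgroup.relIndex_eq_one] at h1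
    intro φ h
    constructor
    · intro hH
      exact hex φ h hH
    · intro hφa
      exact (h1 ((hE'mem _).2 ⟨φ, h, hφa, rfl⟩)).1

end Cfsg.Agent.Lib.Helper59.MinIdx
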