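import Mathlib

set_option autoImplicit false

namespace Cfsg.Agent.Lib.Helper59

open Subgroup
open scoped commutatorElement

section basic

variable {X : Type*} [Group X]

/-- Bezout inside a subgroup. -/
theorem mem_of_pow_mem_of_coprime {M : Subgroup X} {z : X} {m n : ℕ} (hmn : Nat.Coprime m n)
    (hm : z ^ m ∈ M) (hn : z ^ n ∈ M) : z ∈ M := by
  have h1 : z ^ (m.gcd n : ℤ) ∈ M := by
    rw [Nat.gcd_eq_gcd_ab, zpow_add, zpow_mul, zpow_mul]
    exact M.mul_mem (M.zpow_mem (by simpa using hm) _) (M.zpow_mem (by simpa using hn) _)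
  rw [Nat.Coprime] at hmn
  rw [hmn] at h1
  simpa using h1

/-- Quotient trick: an element of `N ⊔ M` (`N` normal) of order prime to the exponent of `M`
lies in `N`. -/
theorem mem_of_mem_sup_of_coprime (N : Subgroup X) [hN : N.Normal] (M : Subgroup X) (k : ℕ)
    (hM : ∀ u ∈ M, u ^ k = 1) {y : X} (hy : y ∈ N ⊔ M) (hcop : (orderOf y).Coprime k) :
    y ∈ N := by
  have h1 : (QuotientGroup.mk' N y) ^ k = 1 := by
    have h2 : QuotientGroup.mk' N y ∈ (N ⊔ M).map (QuotientGroup.mk' N) := ⟨y, hy, rfl⟩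
    rw [Subgroup.map_sup, (QuotientGroup.map_mk'_self N), bot_sup_eq] at h2
    obtain ⟨u, hu, hu2⟩ := h2
    rw [← hu2, ← map_pow, hM u hu, map_one]
  have h3 : y ^ k ∈ N := by
    rw [← QuotientGroup.eq_one_iff, QuotientGroup.mk_pow]
    exact h1
  have h4 : y ^ orderOf y ∈ N := by rw [pow_orderOf_eq_one]; exact N.one_mem
  exact mem_of_pow_mem_of_coprime hcop h4 h3

/-- If `⁅x, h⁆` commutes with `h` and the orders are coprime then `x` and `h` commute. -/
theorem commute_of_commutator_commute {x h : X} (hc : Commute ⁅x, h⁆ h)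
    (hcop : (orderOf h).Coprime (orderOf ⁅x, h⁆)) : Commute x h := by
  -- x h x⁻¹ = c h with c commuting with h
  set c := ⁅x, h⁆ with hcdef
  have h1 : x * h * x⁻¹ = c * h := by rw [hcdef, commutatorElement_def]; group
  have h2 : ∀ j : ℕ, x * h ^ j * x⁻¹ = c ^ j * h ^ j := by
    intro j
    induction j with
    | zero => simp
    | succ j ih =>
      have : x * h ^ (j + 1) * x⁻¹ = (x * h ^ j * x⁻¹) * (x * h * x⁻¹) := by
        rw [pow_succ]; group
      rw [this, ih, h1, pow_succ, pow_succ]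
      have hc' : Commute (h ^ j) c := (hc.symm.pow_left j)
      calc c ^ j * h ^ j * (c * h) = c ^ j * (h ^ j * c) * h := by group
        _ = c ^ j * (c * h ^ j) * h := by rw [hc'.eq]
        _ = c ^ j * c * (h ^ j * h) := by group
  have h3 : c ^ orderOf h = 1 := by
    have := h2 (orderOf h)
    rw [pow_orderOf_eq_one, mul_one, mul_inv_cancel, mul_one] at this
    exact this.symm
  have h4 : orderOf c ∣ orderOf h := orderOf_dvd_of_pow_eq_one h3
  have h5 : orderOf c = 1 := by
    have := Nat.Coprime.eq_one_of_dvd hcop.symm h4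
    exact this
  have h6 : c = 1 := orderOf_eq_one_iff.1 h5
  rw [hcdef, commutatorElement_eq_one_iff_commute] at h6
  exact h6

/-- In a nilpotent subgroup, a proper subgroup is properly contained in its normalizer. -/
theorem exists_mem_normalizer_not_mem_of_nilpotent {N S₁ : Subgroup X} (hnil : Group.IsNilpotent N)
    (hS : S₁ ≤ N) (hne : S₁ ≠ N) :
    ∃ x ∈ N, x ∈ normalizer (S₁ : Set X) ∧ x ∉ S₁ := by
  have hlt : S₁.subgroupOf N < ⊤ := by
    rw [lt_top_iff_ne_top, Ne, Subgroup.subgroupOf_eq_top]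
    intro h
    exact hne (le_antisymm hS h)
  have hnc := (Group.normalizerCondition_of_isNilpotent (G := N)) (S₁.subgroupOf N) hlt
  obtain ⟨x, hx1, hx2⟩ := SetLike.exists_of_lt hnc
  rw [← Subgroup.subgroupOf_normalizer_eq hS] at hx1
  exact ⟨x, x.2, hx1, hx2⟩

/-- Normalizer growth (a form of Thompson's `A × B` lemma): a subgroup `H` acting coprimely on a
nilpotent subgroup `N` and centralizing a subgroup `S₁ ≤ N` with `C_N(S₁) ≤ S₁` centralizes `N`. -/
theorem centralizes_of_selfcentralizing [Finite X] :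
    ∀ (k : ℕ) {N S₁ H : Subgroup X}, Nat.card N - Nat.card S₁ ≤ k → Group.IsNilpotent N → S₁ ≤ N →
      N ⊓ centralizer (S₁ : Set X) ≤ S₁ → H ≤ normalizer (N : Set X) →
      (Nat.card H).Coprime (Nat.card N) → (∀ h ∈ H, ∀ s ∈ S₁, h * s = s * h) →
      ∀ h ∈ H, ∀ x ∈ N, h * x = x * h := by
  intro k
  induction k with
  | zero =>
    intro N S₁ H hk hnil hS hC hHN hcop hHS h hh x hx
    have hcard : Nat.card N ≤ Nat.card S₁ := by omega
    have : S₁ = N := Subgroup.eq_of_le_of_card_ge hS hcard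
    exact hHS h hh x (this ▸ hx)
  | succ k ih =>
    intro N S₁ H hk hnil hS hC hHN hcop hHS
    by_cases hne : S₁ = N
    · intro h hh x hx
      exact hHS h hh x (hne ▸ hx)
    · obtain ⟨x₀, hx₀N, hx₀n, hx₀S⟩ := exists_mem_normalizer_not_mem_of_nilpotent hnil hS hne
      -- `H` centralizes `N₁ = N ⊓ normalizer S₁`
      have hstep : ∀ h ∈ H, ∀ x ∈ N ⊓ normalizer (S₁ : Set X), h * x = x * h := by
        intro h hh x hx
        obtain ⟨hxN, hxn⟩ := Subgroup.mem_inf.1 hx
        have hhN : h ∈ normalizer (N : Set X) := hHN hh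
        have hcomm : ⁅x, h⁆ ∈ N ⊓ centralizer (S₁ : Set X) := by
          refine Subgroup.mem_inf.2 ⟨?_, ?_⟩
          · rw [commutatorElement_def]
            have : h * x⁻¹ * h⁻¹ ∈ N := (Subgroup.mem_normalizer_iff.1 hhN x⁻¹).1 (N.inv_mem hxN)
            have h2 : x * h * x⁻¹ * h⁻¹ = x * (h * x⁻¹ * h⁻¹) := by group
            rw [h2]; exact N.mul_mem hxN this
          · rw [Subgroup.mem_centralizer_iff]
            intro s hs
            -- conjugation by x and by h x h⁻¹ agree on S₁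
            have hs1 : x⁻¹ * s * x ∈ S₁ := by
              have := (Subgroup.mem_normalizer_iff.1 (Subgroup.inv_mem _ hxn) s).1 hs
              simpa using this
            have e1 : h * (x⁻¹ * s * x) = (x⁻¹ * s * x) * h := hHS h hh _ hs1
            have e2 : h * s = s * h := hHS h hh s hs
            rw [commutatorElement_def]
            -- s * (x h x⁻¹ h⁻¹) = (x h x⁻¹ h⁻¹) * s
            have e3 : h⁻¹ * s = s * h⁻¹ := by
              have : s = h * s * h⁻¹ := by rw [e2]; group
              calc h⁻¹ * s = h⁻¹ * (h * s * h⁻¹) := by rw [← this]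
                _ = s * h⁻¹ := by group
            have e4 : h * (x⁻¹ * s * x) * h⁻¹ = x⁻¹ * s * x := by rw [e1]; group
            calc s * (x * h * x⁻¹ * h⁻¹) = s * (x * h * x⁻¹ * h⁻¹) := rfl
              _ = x * h * x⁻¹ * h⁻¹ * s := by
                have : x * h * x⁻¹ * h⁻¹ * s = x * (h * (x⁻¹ * (h⁻¹ * s * h) * x) * h⁻¹) * x⁻¹ * (x * h * x⁻¹ * h⁻¹) := by
                  group
                rw [this, e3]
                have e5 : s * h⁻¹ * h = s := by group
                rw [e5, e4]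
                group
        have hcS : ⁅x, h⁆ ∈ S₁ := hC hcomm
        have hc : Commute ⁅x, h⁆ h := (hHS h hh _ hcS).symm
        have ho1 : orderOf h ∣ Nat.card H := by
          have := orderOf_dvd_natCard (⟨h, hh⟩ : H)
          rwa [Subgroup.orderOf_mk] at this
        have ho2 : orderOf ⁅x, h⁆ ∣ Nat.card N := by
          have := orderOf_dvd_natCard (⟨_, hcomm.1⟩ : N)
          rwa [Subgroup.orderOf_mk] at this
        have hcop' : (orderOf h).Coprime (orderOf ⁅x, h⁆) :=
          Nat.Coprime.coprime_dvd_left ho1 (Nat.Coprime.coprime_dvd_right ho2 hcop)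
        exact (commute_of_commutator_commute hc hcop').eq.symm
      have hS' : S₁ ≤ N ⊓ normalizer (S₁ : Set X) := le_inf hS Subgroup.le_normalizer
      have hlt : S₁ < N ⊓ normalizer (S₁ : Set X) :=
        lt_of_le_of_ne hS' (fun h => hx₀S (h ▸ ⟨hx₀N, hx₀n⟩))
      have hcardlt : Nat.card S₁ < Nat.card (N ⊓ normalizer (S₁ : Set X) : Subgroup X) := by
        by_contra hge
        exact hlt.ne (Subgroup.eq_of_le_of_card_ge hS' (not_lt.1 hge))
      refine ih (S₁ := N ⊓ normalizer (S₁ : Set X)) ?_ hnil inf_le_left ?_ hHN hcop hstep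
      · have : Nat.card (N ⊓ normalizer (S₁ : Set X) : Subgroup X) ≤ Nat.card N :=
          Subgroup.card_le_of_le inf_le_left
        omega
      · intro y hy
        refine hS' (hC ⟨hy.1, ?_⟩)
        exact Subgroup.centralizer_le hS' hy.2

theorem conj_inv_pow {Y : Type*} [Group Y] (t z : Y) (j : ℕ) :
    (t⁻¹ * z * t) ^ j = t⁻¹ * z ^ j * t := by
  have := conj_pow (i := j) (a := t⁻¹) (b := z)
  rwa [inv_inv] at this

/-- If `t⁻¹ d t = d z` and `t` commutes with `z` modulo the normal subgroup `R`, then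
`z ^ m ∈ R` whenever `t ^ m = 1`. -/
theorem pow_mem_of_conj_eq_mul {R : Subgroup X} [R.Normal] {d t z : X}
    (h1 : t⁻¹ * d * t = d * z) (h2 : t⁻¹ * z * t * z⁻¹ ∈ R) (m : ℕ) (ht : t ^ m = 1) :
    z ^ m ∈ R := by
  have hq1 : (QuotientGroup.mk' R t)⁻¹ * QuotientGroup.mk' R d * QuotientGroup.mk' R t =
      QuotientGroup.mk' R d * QuotientGroup.mk' R z := by
    rw [← map_inv, ← map_mul, ← map_mul, h1, map_mul]
  have hq2 : (QuotientGroup.mk' R t)⁻¹ * QuotientGroup.mk' R z * QuotientGroup.mk' R t =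
      QuotientGroup.mk' R z := by
    have : QuotientGroup.mk' R (t⁻¹ * z * t * z⁻¹) = 1 := by
      rw [QuotientGroup.mk'_apply, QuotientGroup.eq_one_iff]; exact h2
    rw [map_mul, map_mul, map_mul, map_inv, map_inv] at this
    exact mul_inv_eq_one.1 this
  set T := QuotientGroup.mk' R t with hT
  set D := QuotientGroup.mk' R d with hD
  set Z := QuotientGroup.mk' R z with hZ
  have hj : ∀ j : ℕ, (T ^ j)⁻¹ * D * T ^ j = D * Z ^ j := by
    intro j
    induction j with
    | zero => simp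
    | succ j ih =>
      have hZj : T⁻¹ * Z ^ j * T = Z ^ j := by
        have : T⁻¹ * Z ^ j * T = (T⁻¹ * Z * T) ^ j := by
          rw [conj_inv_pow]
        rw [this, hq2]
      calc (T ^ (j + 1))⁻¹ * D * T ^ (j + 1)
          = T⁻¹ * ((T ^ j)⁻¹ * D * T ^ j) * T := by rw [pow_succ]; group
        _ = T⁻¹ * (D * Z ^ j) * T := by rw [ih]
        _ = (T⁻¹ * D * T) * (T⁻¹ * Z ^ j * T) := by group
        _ = D * Z * Z ^ j := by rw [hq1, hZj]
        _ = D * Z ^ (j + 1) := by rw [pow_succ']; group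
  have h3 := hj m
  have hTm : T ^ m = 1 := by rw [hT, ← map_pow, ht, map_one]
  rw [hTm] at h3
  have h4 : Z ^ m = 1 := by
    have : D = D * Z ^ m := by simpa using h3
    exact (mul_eq_left.1 this.symm)
  rw [hZ, ← map_pow, QuotientGroup.mk'_apply, QuotientGroup.eq_one_iff] at h4
  exact h4

/-- If `t⁻¹ d t = d z` with `d` commuting with `z` and `d ^ n = 1`, then `z ^ n = 1`. -/
theorem pow_eq_one_of_conj_eq_mul {d t z : X} {n : ℕ} (hd : d ^ n = 1)
    (h1 : t⁻¹ * d * t = d * z) (hc : Commute d z) : z ^ n = 1 := by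
  have h2 : (t⁻¹ * d * t) ^ n = 1 := by
    rw [conj_inv_pow, hd]; group
  rw [h1, hc.mul_pow, hd, one_mul] at h2
  exact h2

end basic

end Cfsg.Agent.Lib.Helper59
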