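import Mathlib
import Cfsg.Agent.Lib.Helper05.A10Defs

/-!
# K-A10-A1 (keystone 348901, pack K-A10 for S3489, architect helper5): every number in
`spec = {1,…,10,12,15,21}` is the order of an element of `A₁₀`.
-/

set_option autoImplicit false

namespace Cfsg.Agent.Lib.Helper59.A10Iso

open Cfsg.Agent.Lib.Helper05.A10Iso

/-- an even permutation of `Fin 10` of order `n` gives `n` in the range -/
theorem a1_mem (σ : Equiv.Perm (Fin 10)) (n : ℕ) (hn : 0 < n) (hs : Equiv.Perm.sign σ = 1)
    (h1 : σ ^ n = 1) (h2 : ∀ m < n, 0 < m → σ ^ m ≠ 1) :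
    n ∈ Set.range (orderOf : alternatingGroup (Fin 10) → ℕ) := by
  refine ⟨⟨σ, Equiv.Perm.mem_alternatingGroup.mpr hs⟩, ?_⟩
  rw [Subgroup.orderOf_mk]
  exact (orderOf_eq_iff hn).mpr ⟨h1, h2⟩

/-- LEAF A1 (348901) -/
theorem spec_subset_alt10 : spec ⊆ Set.range (orderOf : alternatingGroup (Fin 10) → ℕ) := by
  intro n hn
  simp only [spec, Set.mem_insert_iff, Set.mem_singleton_iff] at hn
  rcases hn with rfl | rfl | rfl | rfl | rfl | rfl | rfl | rfl | rfl | rfl | rfl | rfl | rfl
  · exact a1_mem 1 1 (by norm_num) (by decide +kernel) (by decide +kernel) (by decide +kernel)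
  · exact a1_mem (List.formPerm [0, 1] * List.formPerm [2, 3]) 2 (by norm_num)
      (by decide +kernel) (by decide +kernel) (by decide +kernel)
  · exact a1_mem (List.formPerm [0, 1, 2]) 3 (by norm_num)
      (by decide +kernel) (by decide +kernel) (by decide +kernel)
  · exact a1_mem (List.formPerm [0, 1, 2, 3] * List.formPerm [4, 5]) 4 (by norm_num)
      (by decide +kernel) (by decide +kernel) (by decide +kernel)
  · exact a1_mem (List.formPerm [0, 1, 2, 3, 4]) 5 (by norm_num)
      (by decide +kernel) (by decide +kernel) (by decide +kernel)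
  · exact a1_mem (List.formPerm [0, 1, 2] * List.formPerm [3, 4] * List.formPerm [5, 6]) 6
      (by norm_num) (by decide +kernel) (by decide +kernel) (by decide +kernel)
  · exact a1_mem (List.formPerm [0, 1, 2, 3, 4, 5, 6]) 7 (by norm_num)
      (by decide +kernel) (by decide +kernel) (by decide +kernel)
  · exact a1_mem (List.formPerm [0, 1, 2, 3, 4, 5, 6, 7] * List.formPerm [8, 9]) 8 (by norm_num)
      (by decide +kernel) (by decide +kernel) (by decide +kernel)
  · exact a1_mem (List.formPerm [0, 1, 2, 3, 4, 5, 6, 7, 8]) 9 (by norm_num)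
      (by decide +kernel) (by decide +kernel) (by decide +kernel)
  · exact a1_mem (List.formPerm [0, 1, 2, 3, 4] * List.formPerm [5, 6] * List.formPerm [7, 8]) 10
      (by norm_num) (by decide +kernel) (by decide +kernel) (by decide +kernel)
  · exact a1_mem (List.formPerm [0, 1, 2, 3] * List.formPerm [4, 5, 6] * List.formPerm [7, 8]) 12
      (by norm_num) (by decide +kernel) (by decide +kernel) (by decide +kernel)
  · exact a1_mem (List.formPerm [0, 1, 2, 3, 4] * List.formPerm [5, 6, 7]) 15 (by norm_num)
      (by decide +kernel) (by decide +kernel) (by decide +kernel)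
  · exact a1_mem (List.formPerm [0, 1, 2, 3, 4, 5, 6] * List.formPerm [7, 8, 9]) 21 (by norm_num)
      (by decide +kernel) (by decide +kernel) (by decide +kernel)

#print axioms spec_subset_alt10

end Cfsg.Agent.Lib.Helper59.A10Iso
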