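import Mathlib
import Cfsg.Agent.Lib.Helper05.A10Defs

/-!
# K-A10-A2 (keystone 348902, pack K-A10 for S3489, architect helper5): every element order of `A₁₀`
lies in `spec = {1,…,10,12,15,21}`.
-/

set_option autoImplicit false

namespace Cfsg.Agent.Lib.Helper59.A10Iso

open Cfsg.Agent.Lib.Helper05.A10Iso

/-- lists of numbers `≥ 2` with sum `≤ 10` and `sum + length` even have lcm in `spec` -/
theorem a2_list (l : List ℕ) (h2 : ∀ n ∈ l, 2 ≤ n) (hs : l.sum ≤ 10)
    (he : (l.sum + l.length) % 2 = 0) : l.foldr Nat.lcm 1 ∈ spec := by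
  match l, h2, hs, he with
  | [], _, _, _ => simp [spec]
  | [a], h2, hs, he =>
    have ha : 2 ≤ a := h2 a (by simp)
    simp only [List.sum_cons, List.sum_nil, List.length_cons, List.length_nil] at hs he
    have ha' : a ≤ 10 := by omega
    simp only [List.foldr_cons, List.foldr_nil]
    interval_cases a <;>
      first
      | omega
      | (simp only [spec, Set.mem_insert_iff, Set.mem_singleton_iff]; decide)
  | [a, b], h2, hs, he =>
    have ha : 2 ≤ a := h2 a (by simp)
    have hb : 2 ≤ b := h2 b (by simp)
    simp only [List.sum_cons, List.sum_nil, List.length_cons, List.length_nil] at hs he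
    have ha' : a ≤ 8 := by omega
    have hb' : b ≤ 8 := by omega
    simp only [List.foldr_cons, List.foldr_nil]
    interval_cases a <;> interval_cases b <;>
      first
      | omega
      | (simp only [spec, Set.mem_insert_iff, Set.mem_singleton_iff]; decide)
  | [a, b, c], h2, hs, he =>
    have ha : 2 ≤ a := h2 a (by simp)
    have hb : 2 ≤ b := h2 b (by simp)
    have hc : 2 ≤ c := h2 c (by simp)
    simp only [List.sum_cons, List.sum_nil, List.length_cons, List.length_nil] at hs he
    have ha' : a ≤ 6 := by omega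
    have hb' : b ≤ 6 := by omega
    have hc' : c ≤ 6 := by omega
    simp only [List.foldr_cons, List.foldr_nil]
    interval_cases a <;> interval_cases b <;> interval_cases c <;>
      first
      | omega
      | (simp only [spec, Set.mem_insert_iff, Set.mem_singleton_iff]; decide)
  | [a, b, c, d], h2, hs, he =>
    have ha : 2 ≤ a := h2 a (by simp)
    have hb : 2 ≤ b := h2 b (by simp)
    have hc : 2 ≤ c := h2 c (by simp)
    have hd : 2 ≤ d := h2 d (by simp)
    simp only [List.sum_cons, List.sum_nil, List.length_cons, List.length_nil] at hs he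
    have ha' : a ≤ 4 := by omega
    have hb' : b ≤ 4 := by omega
    have hc' : c ≤ 4 := by omega
    have hd' : d ≤ 4 := by omega
    simp only [List.foldr_cons, List.foldr_nil]
    interval_cases a <;> interval_cases b <;> interval_cases c <;> interval_cases d <;>
      first
      | omega
      | (simp only [spec, Set.mem_insert_iff, Set.mem_singleton_iff]; decide)
  | [a, b, c, d, e], h2, hs, he =>
    have ha : 2 ≤ a := h2 a (by simp)
    have hb : 2 ≤ b := h2 b (by simp)
    have hc : 2 ≤ c := h2 c (by simp)
    have hd : 2 ≤ d := h2 d (by simp)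
    have he2 : 2 ≤ e := h2 e (by simp)
    simp only [List.sum_cons, List.sum_nil, List.length_cons, List.length_nil] at hs he
    omega
  | a :: b :: c :: d :: e :: f :: l', h2, hs, he =>
    have ha : 2 ≤ a := h2 a (by simp)
    have hb : 2 ≤ b := h2 b (by simp)
    have hc : 2 ≤ c := h2 c (by simp)
    have hd : 2 ≤ d := h2 d (by simp)
    have he2 : 2 ≤ e := h2 e (by simp)
    have hf : 2 ≤ f := h2 f (by simp)
    simp only [List.sum_cons] at hs
    omega

theorem a2_lcm_coe (l : List ℕ) : Multiset.lcm (l : Multiset ℕ) = l.foldr Nat.lcm 1 := by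
  induction l with
  | nil => simp
  | cons a l ih =>
    rw [← Multiset.cons_coe, Multiset.lcm_cons, ih]
    rfl

/-- the multiset version -/
theorem a2_multiset (m : Multiset ℕ) (h2 : ∀ n ∈ m, 2 ≤ n) (hs : m.sum ≤ 10)
    (he : Even (m.sum + Multiset.card m)) : m.lcm ∈ spec := by
  obtain ⟨l, rfl⟩ : ∃ l : List ℕ, m = (l : Multiset ℕ) := ⟨m.toList, (Multiset.coe_toList m).symm⟩
  rw [a2_lcm_coe]
  apply a2_list l
  · intro n hn
    exact h2 n (by simpa using hn)
  · simpa using hs
  · have := Nat.even_iff.mp he
    simpa using this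

/-- LEAF A2 (348902) -/
theorem alt10_subset_spec : Set.range (orderOf : alternatingGroup (Fin 10) → ℕ) ⊆ spec := by
  rintro _ ⟨σ, rfl⟩
  have h1 : orderOf σ = (σ : Equiv.Perm (Fin 10)).cycleType.lcm := by
    rw [Equiv.Perm.lcm_cycleType, Subgroup.orderOf_coe]
  rw [h1]
  apply a2_multiset
  · intro n hn
    exact Equiv.Perm.two_le_of_mem_cycleType hn
  · have := Equiv.Perm.sum_cycleType_le (σ : Equiv.Perm (Fin 10))
    simpa using this
  · have hs : Equiv.Perm.sign (σ : Equiv.Perm (Fin 10)) = 1 :=
      Equiv.Perm.mem_alternatingGroup.mp σ.2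
    rw [Equiv.Perm.sign_of_cycleType] at hs
    by_contra hodd
    rw [Nat.not_even_iff_odd] at hodd
    rw [hodd.neg_one_pow] at hs
    exact absurd hs (by decide)

#print axioms alt10_subset_spec

end Cfsg.Agent.Lib.Helper59.A10Iso
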