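import Mathlib
import Cfsg.Agent.Lib.Helper05.A10Defs

/-!
# K-A10-D2 (keystone 348913, pack K-A10 for S3489, architect helper5): an odd function on which the
"norm" `∑_{i<m} k^i` does not vanish.
-/

set_option autoImplicit false

namespace Cfsg.Agent.Lib.Helper59.A10Iso

open Matrix Cfsg.Agent.Lib.Helper05.A10Iso

/-- the test vector -/
def d2v0 : V := Pi.single 0 1

theorem d2v0_ne_zero : d2v0 ≠ 0 := by
  intro h
  have := congrFun h 0
  simp only [d2v0, Pi.single_eq_same, Pi.zero_apply] at this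
  revert this
  decide

theorem d2v0_ne_neg : d2v0 ≠ -d2v0 := by
  intro h
  have := congrFun h 0
  simp only [d2v0, Pi.neg_apply, Pi.single_eq_same] at this
  revert this
  decide

/-- the odd function `δ_{v₀} - δ_{-v₀}` -/
def d2f : ↥Qodd :=
  ⟨fun v => if v = d2v0 then 1 else if v = -d2v0 then -1 else 0, by
    intro v
    by_cases h1 : v = d2v0
    · subst h1
      have h2 : -d2v0 ≠ d2v0 := fun h => d2v0_ne_neg h.symm
      simp [h2]
    · by_cases h2 : v = -d2v0
      · subst h2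
        have h3 : -d2v0 ≠ d2v0 := fun h => d2v0_ne_neg h.symm
        simp [h3]
      · have h3 : -v ≠ d2v0 := fun h => h2 (by rw [← h, neg_neg])
        have h4 : -v ≠ -d2v0 := fun h => h1 (neg_injective h)
        simp [h1, h2, h3, h4]⟩

theorem d2f_apply (v : V) :
    d2f.1 v = if v = d2v0 then 1 else if v = -d2v0 then -1 else 0 := rfl

/-- LEAF D2 (348913) -/
theorem exists_sum_actQ_ne_zero (k : GL4) (m : ℕ) (hm : 0 < m)
    (hfix : ∀ i : ℕ, 0 < i → i < m → ∀ v : V, v ≠ 0 →
      ((k ^ i : GL4) : M4).mulVec v ≠ v ∧ ((k ^ i : GL4) : M4).mulVec v ≠ -v) :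
    ∃ f : ↥Qodd, ∑ i ∈ Finset.range m, actQ (k ^ i) f ≠ 0 := by
  refine ⟨d2f, ?_⟩
  intro h
  have h1 : ((∑ i ∈ Finset.range m, actQ (k ^ i) d2f : ↥Qodd) : V → ZMod 3) d2v0 = 0 := by
    rw [h]; rfl
  rw [AddSubmonoidClass.coe_finsetSum, Finset.sum_apply] at h1
  rw [Finset.sum_eq_single 0] at h1
  · rw [pow_zero, actQ_one, d2f_apply, if_pos rfl] at h1
    revert h1
    decide
  · intro i hi hi0
    have hi' : i < m := Finset.mem_range.mp hi
    have hipos : 0 < i := Nat.pos_of_ne_zero hi0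
    obtain ⟨hA, hB⟩ := hfix i hipos hi' d2v0 d2v0_ne_zero
    show (actQ (k ^ i) d2f).1 d2v0 = 0
    rw [actQ_apply, d2f_apply]
    have hmul : ∀ w : V, ((k ^ i : GL4) : M4).mulVec ((((k ^ i)⁻¹ : GL4) : M4).mulVec w) = w := by
      intro w
      rw [Matrix.mulVec_mulVec, ← Units.val_mul, mul_inv_cancel, Units.val_one, Matrix.one_mulVec]
    have hw1 : (((k ^ i)⁻¹ : GL4) : M4).mulVec d2v0 ≠ d2v0 := by
      intro hw
      apply hA
      have := hmul d2v0
      rw [hw] at this
      exact this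
    have hw2 : (((k ^ i)⁻¹ : GL4) : M4).mulVec d2v0 ≠ -d2v0 := by
      intro hw
      apply hB
      have := hmul d2v0
      rw [hw, Matrix.mulVec_neg] at this
      exact neg_eq_iff_eq_neg.mp this
    rw [if_neg hw1, if_neg hw2]
  · intro h0
    exact absurd (Finset.mem_range.mpr hm) h0

#print axioms exists_sum_actQ_ne_zero

end Cfsg.Agent.Lib.Helper59.A10Iso
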