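import Cfsg.Agent.Lib.Helper59.CSCHom
import Cfsg.Agent.Lib.Helper59.QuaternionIso
import Cfsg.Agent.Lib.Helper97.DihRecog
import Cfsg.Prelude.Def_CaseTheorems

set_option autoImplicit false

namespace Cfsg.Agent.Lib.Helper59

namespace CSC

variable {G : Type*} [Group G] {n : ℕ} {U : Subgroup G} {u : G}

theorem final_case [Finite G] (h : CSC 2 n U u) (hidx : U.index = 2) {g : G} (hgU : g ∉ U)
    (he : (g * u * g⁻¹ * u) ^ 2 = 1) :
    Nat.card G = 2 ^ (n + 1) ∧ ((∃ m : ℕ, Nonempty (G ≃* DihedralGroup m)) ∨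
      (∃ m : ℕ, Nonempty (G ≃* QuaternionGroup m)) ∨ Cfsg.IsQuasiDihedral G) := by
  have : Fact (Nat.Prime 2) := ⟨Nat.prime_two⟩
  have hn := h.hn
  have hcardU : Nat.card U = 2 ^ n := by rw [h.hu, Nat.card_zpowers, h.hou]
  have hcard : Nat.card G = 2 ^ (n + 1) := by
    rw [← U.card_mul_index, hidx, hcardU, pow_succ]
  refine ⟨hcard, ?_⟩
  set z := u ^ (2 ^ (n - 1)) with hz
  have hzU : z ∈ U := U.pow_mem h.u_mem _
  have hz2 : z ^ 2 = 1 := by
    have := pow_orderOf_eq_one z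
    rwa [h.orderOf_z0] at this
  have hz1 : z ≠ 1 := by
    intro hc
    have := h.orderOf_z0
    rw [← hz, hc, orderOf_one] at this
    omega
  have heU : g * u * g⁻¹ * u ∈ U := U.mul_mem (h.conj_mem g h.u_mem) h.u_mem
  have hecase : g * u * g⁻¹ * u = 1 ∨ g * u * g⁻¹ * u = z := by
    have := h.mem_zpowers_z0 heU he
    obtain ⟨j, hj⟩ := Subgroup.mem_zpowers_iff.mp this
    rcases Int.even_or_odd' j with ⟨m, rfl | rfl⟩
    · left; rw [← hj, zpow_mul, zpow_ofNat, hz2, one_zpow]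
    · right; rw [← hj, zpow_add, zpow_mul, zpow_ofNat, hz2, one_zpow, one_mul, zpow_one]
  have hg2U : g ^ 2 ∈ U := Subgroup.sq_mem_of_index_two hidx g
  have hgz : g ∉ Subgroup.zpowers u := by rw [← h.hu]; exact hgU
  have hn1 : 2 ^ n = 2 * 2 ^ (n - 1) := by rw [← pow_succ']; congr 1; omega
  rcases hecase with he1 | hez
  · -- inverting action
    have hinv : g * u * g⁻¹ = u⁻¹ := eq_inv_of_mul_eq_one_left he1
    have hg2 : g ^ 2 = 1 ∨ g ^ 2 = z := by
      have hg2' := hg2U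
      rw [h.hu] at hg2'
      obtain ⟨j, hj⟩ := Subgroup.mem_zpowers_iff.mp hg2'
      have h1 : g * (g ^ 2) * g⁻¹ = g ^ 2 := by group
      have h2 : g * (g ^ 2) * g⁻¹ = (g ^ 2)⁻¹ := by
        rw [← hj]
        have : g * u ^ j * g⁻¹ = (g * u * g⁻¹) ^ j := (conj_zpow).symm
        rw [this, hinv, inv_zpow]
      have h3 : (g ^ 2) ^ 2 = 1 := by
        rw [h1] at h2
        rw [sq (g ^ 2)]
        nth_rewrite 1 [h2]
        exact inv_mul_cancel _
      have := h.mem_zpowers_z0 hg2U h3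
      obtain ⟨j, hj⟩ := Subgroup.mem_zpowers_iff.mp this
      rcases Int.even_or_odd' j with ⟨m, rfl | rfl⟩
      · left; rw [← hj, zpow_mul, zpow_ofNat, hz2, one_zpow]
      · right; rw [← hj, zpow_add, zpow_mul, zpow_ofNat, hz2, one_zpow, one_mul, zpow_one]
    rcases hg2 with hg1 | hgz2
    · left
      have : NeZero (2 ^ n) := ⟨by positivity⟩
      exact ⟨2 ^ n, Cfsg.Agent.Lib.Helper97.nonempty_mulEquiv_dihedral (2 ^ n) u g
        (by rw [hcard, pow_succ, mul_comm]) h.hou (by rw [← sq]; exact hg1) hinv hgz⟩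
    · right; left
      have : NeZero (2 ^ (n - 1)) := ⟨by positivity⟩
      refine ⟨2 ^ (n - 1), nonempty_mulEquiv_quaternion (2 ^ (n - 1)) u g ?_ ?_ ?_ hinv hgz⟩
      · rw [hcard, pow_succ, hn1]; ring
      · rw [h.hou, hn1]
      · rw [← sq]; exact hgz2
  · -- quasi-dihedral action
    right; right
    have hconj : g * u * g⁻¹ = z * u⁻¹ := eq_mul_inv_of_mul_eq hez
    have hn3 : 3 ≤ n := by
      by_contra hlt
      have hn2 : n = 2 := by omega
      apply hgU
      rw [h.mem_U_iff]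
      unfold cm
      rw [hconj, hz, hn2]
      group
    -- exponent form
    have hone : 1 ≤ 2 ^ (n - 1) := Nat.one_le_two_pow
    have hk : g * u * g⁻¹ = u ^ (2 ^ (n - 1) - 1) := by
      rw [hconj, hz, pow_sub u hone, pow_one]
    have hg2 : g ^ 2 = 1 ∨ g ^ 2 = z := by
      have hg2' := hg2U
      rw [h.hu] at hg2'
      obtain ⟨j, hj⟩ := Subgroup.mem_zpowers_iff.mp hg2'
      have h1 : g * (g ^ 2) * g⁻¹ = g ^ 2 := by group
      have h2 : g * u ^ j * g⁻¹ = u ^ (((2 ^ (n - 1) - 1 : ℕ) : ℤ) * j) := by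
        have : g * u ^ j * g⁻¹ = (g * u * g⁻¹) ^ j := (conj_zpow).symm
        rw [this, hk, ← zpow_natCast, ← zpow_mul]
      rw [← hj, h2, ← orderOf_dvd_sub_iff_zpow_eq_zpow, h.hou] at h1
      obtain ⟨m, rfl⟩ : ∃ m, n = m + 3 := ⟨n - 3, by omega⟩
      have e1 : m + 3 - 1 = m + 2 := by omega
      rw [e1] at h1 hz
      push_cast [Nat.one_le_two_pow] at h1
      -- 2^(m+3) ∣ (2^(m+2) - 1) * j - j
      have hdvd : (2 : ℤ) ^ (m + 2) ∣ j := by
        have hcop : IsCoprime ((2 : ℤ) ^ (m + 2)) (2 ^ (m + 1) - 1) := by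
          apply IsCoprime.pow_left
          exact ⟨2 ^ m, -1, by ring⟩
        have h3 : (2 : ℤ) ^ (m + 2) ∣ (2 ^ (m + 1) - 1) * j := by
          obtain ⟨c, hc⟩ := h1
          have h5 : 2 * ((2 ^ (m + 1) - 1) * j) = 2 * ((2 : ℤ) ^ (m + 2) * c) := by
            linear_combination hc
          exact ⟨c, mul_left_cancel₀ two_ne_zero h5⟩
        exact hcop.dvd_of_dvd_mul_left h3
      obtain ⟨j', rfl⟩ := hdvd
      have h4 : u ^ ((2 : ℤ) ^ (m + 2) * j') = z ^ j' := by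
        rw [hz, zpow_mul]; norm_cast
      rw [h4] at hj
      rcases Int.even_or_odd' j' with ⟨c, rfl | rfl⟩
      · left; rw [← hj, zpow_mul, zpow_ofNat, hz2, one_zpow]
      · right; rw [← hj, zpow_add, zpow_mul, zpow_ofNat, hz2, one_zpow, one_mul, zpow_one]
    have hzu : z * u = u * z := h.comm_of_mem hzU h.u_mem
    obtain ⟨y, hyU, hy2, hyu⟩ : ∃ y : G, y ∉ U ∧ y ^ 2 = 1 ∧ y * u * y⁻¹ = u ^ (2 ^ (n - 1) - 1) := by
      rcases hg2 with hg1 | hgz2
      · exact ⟨g, hgU, hg1, hk⟩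
      · refine ⟨u * g, ?_, ?_, ?_⟩
        · intro hc
          apply hgU
          have : g = u⁻¹ * (u * g) := by group
          rw [this]; exact U.mul_mem (U.inv_mem h.u_mem) hc
        · have : (u * g) ^ 2 = u * (g * u * g⁻¹) * g ^ 2 := by rw [sq, sq]; group
          rw [this, hconj, hgz2]
          calc u * (z * u⁻¹) * z = (u * z) * u⁻¹ * z := by simp only [mul_assoc]
            _ = (z * u) * u⁻¹ * z := by rw [hzu]
            _ = z * z := by group
            _ = 1 := by rw [← sq, hz2]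
        · have : u * g * u * (u * g)⁻¹ = u * (g * u * g⁻¹) * u⁻¹ := by group
          rw [this, hk]
          have hc : Commute u (u ^ (2 ^ (n - 1) - 1)) := (Commute.refl u).pow_right _
          rw [hc.eq]; group
    have hy1 : y ≠ 1 := fun hc => hyU (hc ▸ U.one_mem)
    exact ⟨n, hn3, hcard, u, y, h.hou, orderOf_eq_prime hy2 hy1, hyu⟩

end CSC

end Cfsg.Agent.Lib.Helper59
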