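import Cfsg.Agent.Lib.Helper59.CSCBasic

set_option autoImplicit false

namespace Cfsg.Agent.Lib.Helper59

namespace CSC

variable {G : Type*} [Group G] {p n : ℕ} [hp : Fact p.Prime] {U : Subgroup G} {u : G}

theorem pow_p_imp (h : CSC p n U u) {x : G} (hxp : x ^ p = 1) : x ^ (p ^ (n - 1)) = 1 := by
  have hn := h.hn
  have e : p ^ (n - 1) = p * p ^ (n - 2) := by
    rw [← pow_succ']; congr 1; omega
  rw [e, pow_mul, hxp, one_pow]

/-- an element of `U` killed by `p^(n-1)` is a `p`-th power in `U` -/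
theorem exists_pow_eq (h : CSC p n U u) {x : G} (hx : x ∈ U) (hxp : x ^ (p ^ (n - 1)) = 1) :
    ∃ w ∈ U, x = w ^ p := by
  rw [h.hu] at hx
  obtain ⟨i, rfl⟩ := Subgroup.mem_zpowers_iff.mp hx
  rw [← zpow_natCast, ← zpow_mul, ← orderOf_dvd_iff_zpow_eq_one, h.hou] at hxp
  have hn := h.hn
  have hpos : (0 : ℤ) < (p : ℤ) ^ (n - 1) := by
    have := hp.out.pos
    positivity
  have hdvd : (p : ℤ) ∣ i := by
    have e : ((p ^ n : ℕ) : ℤ) = (p : ℤ) ^ (n - 1) * p := by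
      push_cast; rw [← pow_succ]; congr 1; omega
    rw [e, mul_comm i] at hxp
    push_cast at hxp
    exact (mul_dvd_mul_iff_left hpos.ne').mp hxp
  obtain ⟨j, rfl⟩ := hdvd
  refine ⟨u ^ j, by rw [h.hu]; exact Subgroup.zpow_mem_zpowers u j, ?_⟩
  rw [← zpow_natCast, ← zpow_mul, mul_comm]

theorem central_in_M (h : CSC p n U u) {g : G} (hg : g ∈ MM p U) {x : G} (hx : x ∈ U)
    (hxp : x ^ (p ^ (n - 1)) = 1) : g * x = x * g := by
  obtain ⟨w, hw, rfl⟩ := h.exists_pow_eq hx hxp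
  exact (Subgroup.mem_centralizer_iff.mp hg _ (pow_mem_powerClosure hw)).symm

theorem cm_mul (h : CSC p n U u) {g k : G} (hg : g ∈ MM p U) (hk : k ∈ MM p U) :
    cm u (g * k) = cm u g * cm u k := by
  have h1 : cm u (g * k) = (g * cm u k * g⁻¹) * cm u g := by unfold cm; group
  have h2 : g * cm u k = cm u k * g :=
    h.central_in_M hg (h.cm_mem k) (h.pow_p_imp ((h.mem_M_iff k).mp hk))
  have h3 : cm u k * g * g⁻¹ = cm u k := by group
  rw [h1, h2, h3]
  exact h.comm_of_mem (h.cm_mem k) (h.cm_mem g)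

/-- the commutator homomorphism `M → U`, `g ↦ [g, u]` -/
def cmHom (h : CSC p n U u) : ↥(MM p U) →* G where
  toFun g := cm u g
  map_one' := by simp [cm]
  map_mul' a b := h.cm_mul a.2 b.2

@[simp] theorem cmHom_apply (h : CSC p n U u) (g : ↥(MM p U)) : h.cmHom g = cm u (g : G) := rfl

theorem cmHom_ker (h : CSC p n U u) : h.cmHom.ker = U.subgroupOf (MM p U) := by
  ext x
  rw [MonoidHom.mem_ker, cmHom_apply, Subgroup.mem_subgroupOf, h.mem_U_iff]

theorem orderOf_z0 (h : CSC p n U u) : orderOf (u ^ (p ^ (n - 1))) = p := by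
  have hn := h.hn
  have hpos := hp.out.pos
  rw [orderOf_pow_of_dvd (by positivity) (by rw [h.hou]; exact pow_dvd_pow p (by omega)), h.hou]
  have e : p ^ n = p ^ (n - 1) * p := by rw [← pow_succ]; congr 1; omega
  rw [e, Nat.mul_div_cancel_left _ (by positivity)]

theorem mem_zpowers_z0 (h : CSC p n U u) {x : G} (hx : x ∈ U) (hxp : x ^ p = 1) :
    x ∈ Subgroup.zpowers (u ^ (p ^ (n - 1))) := by
  rw [h.hu] at hx
  obtain ⟨i, rfl⟩ := Subgroup.mem_zpowers_iff.mp hx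
  rw [← zpow_natCast, ← zpow_mul, ← orderOf_dvd_iff_zpow_eq_one, h.hou] at hxp
  have hn := h.hn
  have hppos : (0 : ℤ) < (p : ℤ) := by exact_mod_cast hp.out.pos
  have hdvd : (p : ℤ) ^ (n - 1) ∣ i := by
    have e : ((p ^ n : ℕ) : ℤ) = (p : ℤ) ^ (n - 1) * p := by
      push_cast; rw [← pow_succ]; congr 1; omega
    rw [e] at hxp
    exact (mul_dvd_mul_iff_right hppos.ne').mp hxp
  obtain ⟨j, rfl⟩ := hdvd
  rw [Subgroup.mem_zpowers_iff]
  refine ⟨j, ?_⟩
  rw [← zpow_natCast, ← zpow_mul]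
  push_cast
  rfl

theorem mem_zpowers_of_pow_eq_one [Finite G] (h : CSC p n U u) {y x : G} (hy : y ∈ U) (hyp : y ^ p = 1)
    (hy1 : y ≠ 1) (hx : x ∈ U) (hxp : x ^ p = 1) : x ∈ Subgroup.zpowers y := by
  have h1 : Subgroup.zpowers y ≤ Subgroup.zpowers (u ^ (p ^ (n - 1))) := by
    rw [Subgroup.zpowers_le]; exact h.mem_zpowers_z0 hy hyp
  have h2 : Nat.card (Subgroup.zpowers y) = p := by
    rw [Nat.card_zpowers]; exact orderOf_eq_prime hyp hy1
  have h3 : Nat.card (Subgroup.zpowers (u ^ (p ^ (n - 1)))) = p := by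
    rw [Nat.card_zpowers]; exact h.orderOf_z0
  have h4 : Subgroup.zpowers y = Subgroup.zpowers (u ^ (p ^ (n - 1))) :=
    Subgroup.eq_of_le_of_card_ge h1 (by rw [h2, h3])
  rw [h4]; exact h.mem_zpowers_z0 hx hxp

theorem cm_ne_one (h : CSC p n U u) {t : G} (htU : t ∉ U) : cm u t ≠ 1 :=
  fun hc => htU ((h.mem_U_iff t).mpr hc)

theorem relIndex_eq [Finite G] (h : CSC p n U u) {t : G} (ht : t ∈ MM p U) (htU : t ∉ U) :
    U.relIndex (MM p U) = p := by
  unfold Subgroup.relIndex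
  rw [← h.cmHom_ker, Subgroup.index_ker]
  have hr : h.cmHom.range = Subgroup.zpowers (cm u t) := by
    apply le_antisymm
    · rintro _ ⟨x, rfl⟩
      rw [cmHom_apply]
      exact h.mem_zpowers_of_pow_eq_one (h.cm_mem t) ((h.mem_M_iff t).mp ht) (h.cm_ne_one htU)
        (h.cm_mem x) ((h.mem_M_iff x).mp x.2)
    · rw [Subgroup.zpowers_le]
      exact ⟨⟨t, ht⟩, rfl⟩
  rw [hr, Nat.card_zpowers]
  exact orderOf_eq_prime ((h.mem_M_iff t).mp ht) (h.cm_ne_one htU)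

theorem exists_decomp [Finite G] (h : CSC p n U u) {t : G} (ht : t ∈ MM p U) (htU : t ∉ U) {x : G}
    (hx : x ∈ MM p U) : ∃ i : ℤ, ∃ v ∈ U, x = v * t ^ i := by
  have h1 : cm u x ∈ Subgroup.zpowers (cm u t) :=
    h.mem_zpowers_of_pow_eq_one (h.cm_mem t) ((h.mem_M_iff t).mp ht) (h.cm_ne_one htU)
      (h.cm_mem x) ((h.mem_M_iff x).mp hx)
  obtain ⟨i, hi⟩ := Subgroup.mem_zpowers_iff.mp h1
  refine ⟨i, x * t ^ (-i), ?_, by group⟩
  rw [h.mem_U_iff]
  have h2 : h.cmHom (⟨x, hx⟩ * ⟨t, ht⟩ ^ (-i)) = 1 := by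
    rw [map_mul, map_zpow, cmHom_apply, cmHom_apply, zpow_neg, ← hi]
    exact mul_inv_cancel _
  simpa using h2

end CSC

end Cfsg.Agent.Lib.Helper59
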