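import Mathlib

set_option autoImplicit false

namespace Cfsg.Agent.Lib.Helper59

/-- `p` odd, `p^n ∣ k^p - 1` implies `p^(n-1) ∣ k - 1`. -/
theorem nt1_odd (p : ℕ) (hp : p.Prime) (hp2 : p ≠ 2) (n : ℕ) (hn : 1 ≤ n) (k : ℤ)
    (h : (p : ℤ) ^ n ∣ k ^ p - 1) : (p : ℤ) ^ (n - 1) ∣ k - 1 := by
  have : Fact p.Prime := ⟨hp⟩
  have hpdvd : (p : ℤ) ∣ k ^ p - 1 := dvd_trans (dvd_pow_self _ (by omega)) h
  have h1 : (p : ℤ) ∣ k - 1 := by
    have h2 : ((k ^ p - 1 : ℤ) : ZMod p) = 0 := (ZMod.intCast_zmod_eq_zero_iff_dvd _ _).mpr hpdvd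
    push_cast at h2
    rw [ZMod.pow_card] at h2
    apply (ZMod.intCast_zmod_eq_zero_iff_dvd (k - 1) p).mp
    push_cast
    exact h2
  have h2 : ¬ (p : ℤ) ∣ k := by
    intro hk
    have h3 : (p : ℤ) ∣ k ^ p := dvd_pow hk hp.ne_zero
    have h4 : (p : ℤ) ∣ 1 := by
      have := dvd_sub h3 hpdvd
      simpa using this
    have := Int.eq_one_of_dvd_one (by positivity) h4
    have : p = 1 := by exact_mod_cast this
    exact hp.one_lt.ne' this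
  have hodd : Odd p := hp.odd_of_ne_two hp2
  have hpi : Prime (p : ℤ) := Nat.prime_iff_prime_int.mp hp
  have key := emultiplicity_pow_prime_sub_pow_prime (R := ℤ) (x := k) (y := 1) hpi hodd (by simpa using h1) h2
  rw [one_pow] at key
  by_contra hnot
  have h5 : emultiplicity (p : ℤ) (k - 1) < ((n - 1 : ℕ) : ℕ∞) := emultiplicity_lt_iff_not_dvd.mpr hnot
  have h6 : emultiplicity (p : ℤ) (k - 1) + 1 ≤ ((n - 1 : ℕ) : ℕ∞) := Order.add_one_le_of_lt h5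
  have h7 : emultiplicity (p : ℤ) (k ^ p - 1) < (n : ℕ∞) := by
    rw [key]
    refine lt_of_le_of_lt h6 ?_
    exact_mod_cast (by omega : n - 1 < n)
  exact (emultiplicity_lt_iff_not_dvd.mp h7) h

/-- `2^n ∣ k^2 - 1` implies `2^(n-1) ∣ k - 1` or `2^(n-1) ∣ k + 1`. -/
theorem nt1_two (n : ℕ) (k : ℤ) (h : (2 : ℤ) ^ n ∣ k ^ 2 - 1) :
    (2 : ℤ) ^ (n - 1) ∣ k - 1 ∨ (2 : ℤ) ^ (n - 1) ∣ k + 1 := by
  rcases Nat.lt_or_ge n 2 with hn | hn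
  · have : n - 1 = 0 := by omega
    rw [this]; left; simp
  obtain ⟨m, rfl⟩ : ∃ m, n = m + 2 := ⟨n - 2, by omega⟩
  have hodd : Odd k := by
    by_contra hk
    rw [Int.not_odd_iff_even] at hk
    obtain ⟨a, rfl⟩ := hk
    have h2 : (2 : ℤ) ∣ (a + a) ^ 2 - 1 := dvd_trans (dvd_pow_self _ (by omega)) h
    have h3 : (a + a) ^ 2 - 1 = 2 * (2 * (a * a)) - 1 := by ring
    rw [h3] at h2
    omega
  obtain ⟨a, rfl⟩ := hodd
  have h1 : (2 * a + 1) ^ 2 - 1 = 2 ^ 2 * (a * (a + 1)) := by ring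
  rw [h1, pow_add, mul_comm ((2:ℤ) ^ m) (2 ^ 2)] at h
  have h2 : (2 : ℤ) ^ m ∣ a * (a + 1) := (mul_dvd_mul_iff_left (by norm_num)).mp h
  have h2p : Prime (2 : ℤ) := Int.prime_two
  have e1 : m + 2 - 1 = m + 1 := by omega
  rw [e1]
  rcases Int.even_or_odd a with ⟨b, hb⟩ | ⟨b, hb⟩
  · left
    have h3 : ¬ (2 : ℤ) ∣ a + 1 := by omega
    have h4 := h2p.pow_dvd_of_dvd_mul_right m h3 h2
    obtain ⟨c, hc⟩ := h4
    exact ⟨c, by rw [pow_succ, hc]; ring⟩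
  · right
    have h3 : ¬ (2 : ℤ) ∣ a := by omega
    have h4 := h2p.pow_dvd_of_dvd_mul_left m h3 h2
    obtain ⟨c, hc⟩ := h4
    exact ⟨c, by rw [pow_succ]; linear_combination 2 * hc⟩

theorem nt2 (k : ℤ) : ¬ (4 : ℤ) ∣ k ^ 2 + 1 := by
  rcases Int.even_or_odd k with ⟨a, rfl⟩ | ⟨a, rfl⟩
  · intro ⟨c, hc⟩
    have : (a + a) ^ 2 + 1 = 4 * (a * a) + 1 := by ring
    omega
  · intro ⟨c, hc⟩
    have : (2 * a + 1) ^ 2 + 1 = 4 * (a * a + a) + 2 := by ring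
    omega

end Cfsg.Agent.Lib.Helper59
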