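import Cfsg.Agent.Lib.Helper59.CSCOmega2
import Cfsg.Agent.Lib.Helper59.CSCFinal
import Cfsg.Agent.Lib.Helper59.CSCNumberTheory
import Cfsg.Agent.Lib.Helper59.PGroupCenter

set_option autoImplicit false

namespace Cfsg.Agent.Lib.Helper59

namespace CSC

variable {G : Type*} [Group G] {p n : ℕ} [hp : Fact p.Prime] {U : Subgroup G} {u : G}

omit hp in
theorem exists_k (h : CSC p n U u) (g : G) : ∃ k : ℤ, g * u * g⁻¹ = u ^ k := by
  have := h.conj_mem g h.u_mem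
  rw [h.hu] at this
  obtain ⟨k, hk⟩ := Subgroup.mem_zpowers_iff.mp this
  exact ⟨k, hk.symm⟩

omit hp in
theorem conj_k_zpow {g : G} {k : ℤ} (hk : g * u * g⁻¹ = u ^ k) (i : ℤ) :
    g * u ^ i * g⁻¹ = u ^ (k * i) := by
  have : g * u ^ i * g⁻¹ = (g * u * g⁻¹) ^ i := (conj_zpow).symm
  rw [this, hk, zpow_mul]

omit hp in
theorem conj_k_mul {a b : G} {ka kb : ℤ} (ha : a * u * a⁻¹ = u ^ ka) (hb : b * u * b⁻¹ = u ^ kb) :
    (a * b) * u * (a * b)⁻¹ = u ^ (ka * kb) := by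
  have : (a * b) * u * (a * b)⁻¹ = a * (b * u * b⁻¹) * a⁻¹ := by group
  rw [this, hb, conj_k_zpow ha]

omit hp in
theorem conj_k_pow {g : G} {k : ℤ} (hk : g * u * g⁻¹ = u ^ k) (m : ℕ) :
    g ^ m * u * (g ^ m)⁻¹ = u ^ (k ^ m) := by
  induction m with
  | zero => simp
  | succ m ih =>
    have : g ^ (m + 1) = g * g ^ m := pow_succ' g m
    rw [this, conj_k_mul hk ih, pow_succ']

omit hp in
theorem mem_U_iff_k (h : CSC p n U u) {g : G} {k : ℤ} (hk : g * u * g⁻¹ = u ^ k) :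
    g ∈ U ↔ ((p : ℤ) ^ n) ∣ k - 1 := by
  rw [h.mem_U_iff]
  unfold cm
  rw [hk, ← zpow_neg_one, ← zpow_add, ← orderOf_dvd_iff_zpow_eq_one, h.hou]
  push_cast
  rfl

theorem mem_M_iff_k (h : CSC p n U u) {g : G} {k : ℤ} (hk : g * u * g⁻¹ = u ^ k) :
    g ∈ MM p U ↔ ((p : ℤ) ^ (n - 1)) ∣ k - 1 := by
  rw [h.mem_M_iff]
  unfold cm
  rw [hk, ← zpow_neg_one, ← zpow_add, ← zpow_natCast, ← zpow_mul, ← orderOf_dvd_iff_zpow_eq_one, h.hou]
  have hn := h.hn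
  have hppos : (0 : ℤ) < (p : ℤ) := by exact_mod_cast hp.out.pos
  have e : ((p ^ n : ℕ) : ℤ) = (p : ℤ) ^ (n - 1) * p := by
    push_cast; rw [← pow_succ]; congr 1; omega
  rw [e]
  have e2 : k + -1 = k - 1 := by ring
  rw [e2]
  exact mul_dvd_mul_iff_right hppos.ne'

omit hp in
theorem exists_pow_notMem (hG : IsPGroup p G) {x : G} (hx : x ∉ U) :
    ∃ i : ℕ, x ^ (p ^ i) ∉ U ∧ (x ^ (p ^ i)) ^ p ∈ U := by
  classical
  obtain ⟨N, hN⟩ := hG x
  have hex : ∃ j : ℕ, x ^ (p ^ j) ∈ U := ⟨N, by rw [hN]; exact U.one_mem⟩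
  have hj0 : Nat.find hex ≠ 0 := by
    intro h0
    have := Nat.find_spec hex
    rw [h0, pow_zero, pow_one] at this
    exact hx this
  refine ⟨Nat.find hex - 1, Nat.find_min hex (by omega), ?_⟩
  have := Nat.find_spec hex
  rw [← pow_mul, ← pow_succ]
  have e : Nat.find hex - 1 + 1 = Nat.find hex := by omega
  rw [e]; exact this

/-- the case `M = U` -/
theorem case_M_eq_U [Finite G] (h : CSC p n U u) (hMU : ∀ t ∈ MM p U, t ∈ U) {g₀ : G} (hg₀ : g₀ ∉ U) :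
    p = 2 ∧ U.index = 2 ∧ (g₀ * u * g₀⁻¹ * u) ^ 2 = 1 := by
  have hn := h.hn
  have L : ∀ y : G, y ∉ U → y ^ p ∈ U → ∀ k : ℤ, y * u * y⁻¹ = u ^ k →
      p = 2 ∧ ((2 : ℤ) ^ (n - 1)) ∣ k + 1 ∧ 3 ≤ n := by
    intro y hyU hypU k hk
    have h1 : ((p : ℤ) ^ n) ∣ k ^ p - 1 := (h.mem_U_iff_k (conj_k_pow hk p)).mp hypU
    have h2 : ¬ ((p : ℤ) ^ (n - 1)) ∣ k - 1 := fun hc => hyU (hMU y ((h.mem_M_iff_k hk).mpr hc))
    by_cases hp2 : p = 2
    · subst hp2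
      refine ⟨rfl, ?_, ?_⟩
      · rcases nt1_two n k (by exact_mod_cast h1) with h3 | h3
        · exact absurd (by exact_mod_cast h3) h2
        · exact h3
      · by_contra hlt
        have hn2 : n = 2 := by omega
        subst hn2
        apply h2
        have h4 : (4 : ℤ) ∣ k ^ 2 - 1 := by
          have : ((2 : ℕ) : ℤ) ^ 2 = 4 := by norm_num
          rw [this] at h1; exact h1
        rcases Int.even_or_odd' k with ⟨a, rfl | rfl⟩
        · exfalso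
          obtain ⟨c, hc⟩ := h4
          have : (2 * a) ^ 2 - 1 = 4 * (a * a) - 1 := by ring
          omega
        · exact ⟨a, by push_cast; ring⟩
    · exact absurd (nt1_odd p hp.out hp2 n (by omega) k h1) h2
  obtain ⟨i₀, hy₀, hy₀p⟩ := exists_pow_notMem h.hG hg₀
  obtain ⟨k₀, hk₀⟩ := h.exists_k (g₀ ^ (p ^ i₀))
  obtain ⟨hp2, -, hn3⟩ := L _ hy₀ hy₀p k₀ hk₀
  subst hp2
  have h4dvd : (4 : ℤ) ∣ (2 : ℤ) ^ (n - 1) := by
    have : (4 : ℤ) = 2 ^ 2 := by norm_num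
    rw [this]; exact pow_dvd_pow 2 (by omega)
  -- squares lie in U
  have hsq : ∀ x : G, x ^ 2 ∈ U := by
    intro x
    by_contra hx2
    obtain ⟨i, hy, hyp⟩ := exists_pow_notMem h.hG hx2
    obtain ⟨kw, hkw⟩ := h.exists_k (x ^ (2 ^ i))
    have hyw : (x ^ 2) ^ (2 ^ i) = (x ^ (2 ^ i)) ^ 2 := by
      rw [← pow_mul, ← pow_mul, mul_comm]
    rw [hyw] at hy hyp
    obtain ⟨-, h5, -⟩ := L _ hy hyp _ (conj_k_pow hkw 2)
    exact nt2 kw (dvd_trans h4dvd h5)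
  have hQ : ∀ x : G, x ∉ U → ∀ k : ℤ, x * u * x⁻¹ = u ^ k → ((2 : ℤ) ^ (n - 1)) ∣ k + 1 := by
    intro x hx k hk
    exact (L x hx (hsq x) k hk).2.1
  obtain ⟨kg, hkg⟩ := h.exists_k g₀
  have hkg1 := hQ g₀ hg₀ kg hkg
  refine ⟨rfl, ?_, ?_⟩
  · rw [Subgroup.index_eq_two_iff]
    refine ⟨g₀, fun b => ?_⟩
    by_cases hb : b ∈ U
    · right
      refine ⟨hb, fun hc => hg₀ ?_⟩
      have : g₀ = b⁻¹ * (b * g₀) := by group
      rw [this]; exact U.mul_mem (U.inv_mem hb) hc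
    · left
      refine ⟨?_, hb⟩
      obtain ⟨kb, hkb⟩ := h.exists_k b
      have hkb1 := hQ b hb kb hkb
      apply hMU
      rw [h.mem_M_iff_k (conj_k_mul hkb hkg)]
      have : kb * kg - 1 = (kb + 1) * (kg + 1) - (kb + 1) - (kg + 1) := by ring
      rw [this]
      push_cast
      exact dvd_sub (dvd_sub (dvd_mul_of_dvd_left hkb1 _) hkb1) hkg1
  · rw [hkg]
    have : u ^ kg * u = u ^ (kg + 1) := by rw [zpow_add, zpow_one]
    rw [this, ← zpow_natCast, ← zpow_mul, ← orderOf_dvd_iff_zpow_eq_one, h.hou]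
    obtain ⟨c, hc⟩ := hkg1
    refine ⟨c, ?_⟩
    rw [hc]
    push_cast
    have e : (2 : ℤ) ^ n = 2 ^ (n - 1) * 2 := by rw [← pow_succ]; congr 1; omega
    rw [e]; ring

/-- the case `p = 2`, `n = 2` -/
theorem case_two_two [Finite G] (h : CSC 2 2 U u) {g₀ : G} (hg₀ : g₀ ∉ U) :
    U.index = 2 ∧ (g₀ * u * g₀⁻¹ * u) ^ 2 = 1 := by
  have hou : orderOf u = 4 := by rw [h.hou]; norm_num
  have hQ : ∀ x : G, x ∉ U → ∀ k : ℤ, x * u * x⁻¹ = u ^ k → (4 : ℤ) ∣ k + 1 := by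
    intro x hx k hk
    have h1 : ¬ (4 : ℤ) ∣ k - 1 := by
      intro hc
      apply hx
      rw [h.mem_U_iff_k hk]
      have : ((2 : ℕ) : ℤ) ^ 2 = 4 := by norm_num
      rw [this]; exact hc
    have h2 : orderOf (u ^ k) = 4 := by
      rw [← hk]
      have : x * u * x⁻¹ = MulAut.conj x u := by simp [MulAut.conj_apply]
      rw [this, MulEquiv.orderOf_eq, hou]
    rcases Int.even_or_odd' k with ⟨a, rfl | rfl⟩
    · exfalso
      have h3 : (u ^ (2 * a)) ^ 2 = 1 := by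
        rw [← zpow_natCast, ← zpow_mul, ← orderOf_dvd_iff_zpow_eq_one, hou]
        exact ⟨a, by push_cast; ring⟩
      have := orderOf_dvd_of_pow_eq_one h3
      rw [h2] at this
      omega
    · omega
  obtain ⟨kg, hkg⟩ := h.exists_k g₀
  have hkg1 := hQ g₀ hg₀ kg hkg
  refine ⟨?_, ?_⟩
  · rw [Subgroup.index_eq_two_iff]
    refine ⟨g₀, fun b => ?_⟩
    by_cases hb : b ∈ U
    · right
      refine ⟨hb, fun hc => hg₀ ?_⟩
      have : g₀ = b⁻¹ * (b * g₀) := by group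
      rw [this]; exact U.mul_mem (U.inv_mem hb) hc
    · left
      refine ⟨?_, hb⟩
      obtain ⟨kb, hkb⟩ := h.exists_k b
      have hkb1 := hQ b hb kb hkb
      rw [h.mem_U_iff_k (conj_k_mul hkb hkg)]
      have : kb * kg - 1 = (kb + 1) * (kg + 1) - (kb + 1) - (kg + 1) := by ring
      rw [this]
      have e4 : ((2 : ℕ) : ℤ) ^ 2 = 4 := by norm_num
      rw [e4]
      exact dvd_sub (dvd_sub (dvd_mul_of_dvd_left hkb1 _) hkb1) hkg1
  · rw [hkg]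
    have : u ^ kg * u = u ^ (kg + 1) := by rw [zpow_add, zpow_one]
    rw [this, ← zpow_natCast, ← zpow_mul, ← orderOf_dvd_iff_zpow_eq_one, hou]
    obtain ⟨c, hc⟩ := hkg1
    exact ⟨2 * c, by rw [hc]; push_cast; ring⟩

end CSC

end Cfsg.Agent.Lib.Helper59
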