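import Cfsg.Agent.Lib.Helper59.CSCHom

set_option autoImplicit false

namespace Cfsg.Agent.Lib.Helper59

theorem closure_normal_of_conj_mem {G : Type*} [Group G] {s : Set G}
    (hs : ∀ g x, x ∈ s → g * x * g⁻¹ ∈ s) : (Subgroup.closure s).Normal := by
  constructor
  intro x hx g
  induction hx using Subgroup.closure_induction with
  | mem x hx => exact Subgroup.subset_closure (hs g x hx)
  | one => simp
  | mul x y _ _ hx hy =>
    have : g * (x * y) * g⁻¹ = (g * x * g⁻¹) * (g * y * g⁻¹) := by group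
    rw [this]; exact Subgroup.mul_mem _ hx hy
  | inv x _ hx =>
    have : g * x⁻¹ * g⁻¹ = (g * x * g⁻¹)⁻¹ := by group
    rw [this]; exact Subgroup.inv_mem _ hx

theorem two_pow_pred_eq {n : ℕ} (hn : 3 ≤ n) : 2 ^ (n - 1) = 2 * 2 * 2 ^ (n - 3) := by
  obtain ⟨m, rfl⟩ : ∃ m, n = m + 3 := ⟨n - 3, by omega⟩
  have e1 : m + 3 - 1 = m + 2 := by omega
  have e2 : m + 3 - 3 = m := by omega
  rw [e1, e2]; ring

namespace CSC

variable {G : Type*} [Group G] {p n : ℕ} [hp : Fact p.Prime] {U : Subgroup G} {u : G}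

/-- for `y ∈ M`, `v ∈ U` the commutator `d = [y, v]` lies in `Ω₁(U)` -/
theorem exists_comm_elt (h : CSC p n U u) {y : G} (hy : y ∈ MM p U) {v : G} (hv : v ∈ U) :
    ∃ d ∈ U, d ^ p = 1 ∧ y * v = d * v * y := by
  have hv' := hv
  rw [h.hu] at hv'
  obtain ⟨i, rfl⟩ := Subgroup.mem_zpowers_iff.mp hv'
  refine ⟨cm u y ^ i, U.zpow_mem (h.cm_mem y) i, ?_, ?_⟩
  · rw [← zpow_natCast, ← zpow_mul, mul_comm, zpow_mul, zpow_natCast, (h.mem_M_iff y).mp hy, one_zpow]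
  · rw [← h.conj_zpow']; group

theorem d_comm_M (h : CSC p n U u) {d : G} (hd : d ∈ U) (hdp : d ^ p = 1) {y : G} (hy : y ∈ MM p U) :
    Commute d y := (h.central_in_M hy hd (h.pow_p_imp hdp)).symm

theorem mul_pow_p_odd (h : CSC p n U u) (hp2 : p ≠ 2) {y : G} (hy : y ∈ MM p U) {v : G} (hv : v ∈ U) :
    (v * y) ^ p = v ^ p * y ^ p := by
  obtain ⟨d, hd, hdp, hyv⟩ := h.exists_comm_elt hy hv
  have h1 := mul_pow_of_commutator_central hyv (h.comm_of_mem hd hv) (h.d_comm_M hd hdp hy) p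
  rw [h1]
  have hodd : Odd p := hp.out.odd_of_ne_two hp2
  obtain ⟨m, hm⟩ := hodd
  have e : p * (p - 1) / 2 = p * m := by
    have : p - 1 = 2 * m := by omega
    rw [this, ← mul_assoc, mul_comm p 2, mul_assoc, Nat.mul_div_cancel_left _ (by norm_num)]
  rw [e, pow_mul, hdp, one_pow, mul_one]

theorem mul_sq_two (h : CSC 2 n U u) {y : G} (hy : y ∈ MM 2 U) {v : G} (hv : v ∈ U) :
    ∃ d ∈ U, d ^ 2 = 1 ∧ y * v = d * v * y ∧ (v * y) ^ 2 = v ^ 2 * y ^ 2 * d := by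
  have : Fact (Nat.Prime 2) := ⟨Nat.prime_two⟩
  obtain ⟨d, hd, hdp, hyv⟩ := h.exists_comm_elt hy hv
  refine ⟨d, hd, hdp, hyv, ?_⟩
  have h1 := mul_pow_of_commutator_central hyv (h.comm_of_mem hd hv) (h.d_comm_M hd hdp hy) 2
  rw [h1]; norm_num

theorem pow_p_mem_U (h : CSC p n U u) {t : G} (ht : t ∈ MM p U) : t ^ p ∈ U := by
  rw [h.mem_U_iff]
  have h2 : h.cmHom (⟨t, ht⟩ ^ p) = 1 := by
    rw [map_pow, cmHom_apply, (h.mem_M_iff t).mp ht]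
  simpa using h2

/-- existence of an element of order `p` in `M \ U` -/
theorem exists_t [Finite G] (h : CSC p n U u) (h2 : p = 2 → 3 ≤ n) {t₀ : G} (ht₀ : t₀ ∈ MM p U)
    (ht₀U : t₀ ∉ U) : ∃ t ∈ MM p U, t ∉ U ∧ t ^ p = 1 := by
  have haU : t₀ ^ p ∈ U := h.pow_p_mem_U ht₀
  -- `t₀^p = w^p` with `w ∈ U`
  obtain ⟨w, hw, hwp⟩ : ∃ w ∈ U, t₀ ^ p = w ^ p := by
    have haU' := haU
    rw [h.hu] at haU'
    obtain ⟨j, hj⟩ := Subgroup.mem_zpowers_iff.mp haU'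
    have h1 : t₀ * u ^ j * t₀⁻¹ = u ^ j := by
      rw [hj]; group
    rw [h.conj_zpow'] at h1
    have h3 : cm u t₀ ^ j = 1 := mul_eq_right.mp h1
    have h4 : orderOf (cm u t₀) = p := orderOf_eq_prime ((h.mem_M_iff t₀).mp ht₀) (h.cm_ne_one ht₀U)
    rw [← orderOf_dvd_iff_zpow_eq_one, h4] at h3
    obtain ⟨j', rfl⟩ := h3
    refine ⟨u ^ j', by rw [h.hu]; exact Subgroup.zpow_mem_zpowers u j', ?_⟩
    rw [← hj, ← zpow_natCast (u ^ j'), ← zpow_mul, mul_comm]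
  have hwinv : w⁻¹ ∈ U := U.inv_mem hw
  have hM : w⁻¹ * t₀ ∈ MM p U := (MM p U).mul_mem (h.U_le_M hwinv) ht₀
  have hnU : w⁻¹ * t₀ ∉ U := by
    intro hc
    apply ht₀U
    have : t₀ = w * (w⁻¹ * t₀) := by group
    rw [this]; exact U.mul_mem hw hc
  by_cases hp2 : p = 2
  · subst hp2
    have hn3 := h2 rfl
    obtain ⟨d, hd, hd2, hyv, hsq⟩ := h.mul_sq_two ht₀ hwinv
    have hsq' : (w⁻¹ * t₀) ^ 2 = d := by
      rw [hsq, hwp, inv_pow, inv_mul_cancel, one_mul]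
    by_cases hd1 : d = 1
    · exact ⟨w⁻¹ * t₀, hM, hnU, by rw [hsq', hd1]⟩
    · obtain ⟨y₄, hy₄, hdy⟩ := h.exists_pow_eq hd (h.pow_p_imp hd2)
      have hy4 : y₄ ^ (2 ^ (n - 1)) = 1 := by
        have e : 2 ^ (n - 1) = 2 * 2 * 2 ^ (n - 3) := two_pow_pred_eq hn3
        rw [e, pow_mul, pow_mul, ← hdy, hd2, one_pow]
      have hc : (w⁻¹ * t₀) * y₄ = y₄ * (w⁻¹ * t₀) := h.central_in_M hM hy₄ hy4
      refine ⟨y₄ * (w⁻¹ * t₀), (MM 2 U).mul_mem (h.U_le_M hy₄) hM, ?_, ?_⟩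
      · intro hc'
        apply hnU
        have : w⁻¹ * t₀ = y₄⁻¹ * (y₄ * (w⁻¹ * t₀)) := by group
        rw [this]; exact U.mul_mem (U.inv_mem hy₄) hc'
      · have : (y₄ * (w⁻¹ * t₀)) ^ 2 = y₄ ^ 2 * (w⁻¹ * t₀) ^ 2 := by
          rw [sq, sq, sq]
          calc y₄ * (w⁻¹ * t₀) * (y₄ * (w⁻¹ * t₀)) = y₄ * ((w⁻¹ * t₀) * y₄) * (w⁻¹ * t₀) := by
                simp only [mul_assoc]
            _ = y₄ * (y₄ * (w⁻¹ * t₀)) * (w⁻¹ * t₀) := by rw [hc]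
            _ = y₄ * y₄ * ((w⁻¹ * t₀) * (w⁻¹ * t₀)) := by simp only [mul_assoc]
        rw [this, hsq', ← hdy, ← sq, hd2]
  · refine ⟨w⁻¹ * t₀, hM, hnU, ?_⟩
    rw [h.mul_pow_p_odd hp2 ht₀ hwinv, hwp, inv_pow, inv_mul_cancel]

/-- elements of order dividing `p` in `M` -/
theorem decomp_of_pow_eq_one [Finite G] (h : CSC p n U u) (h2 : p = 2 → 3 ≤ n) {t : G} (ht : t ∈ MM p U)
    (htU : t ∉ U) (htp : t ^ p = 1) {x : G} (hx : x ∈ MM p U) (hxp : x ^ p = 1) :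
    ∃ i : ℤ, ∃ v ∈ U, v ^ p = 1 ∧ x = v * t ^ i := by
  obtain ⟨i, v, hv, rfl⟩ := h.exists_decomp ht htU hx
  refine ⟨i, v, hv, ?_, rfl⟩
  have hy : t ^ i ∈ MM p U := (MM p U).zpow_mem ht i
  have hyp : (t ^ i) ^ p = 1 := by
    rw [← zpow_natCast, ← zpow_mul, mul_comm, zpow_mul, zpow_natCast, htp, one_zpow]
  by_cases hp2 : p = 2
  · subst hp2
    have hn3 := h2 rfl
    obtain ⟨d, hd, hd2, hyv, hsq⟩ := h.mul_sq_two hy hv
    rw [hsq, hyp, mul_one] at hxp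
    -- v^2 * d = 1
    have hv2 : v ^ 2 = d⁻¹ := eq_inv_of_mul_eq_one_left hxp
    have hv4 : v ^ (2 ^ (n - 1)) = 1 := by
      have e : 2 ^ (n - 1) = 2 * 2 * 2 ^ (n - 3) := two_pow_pred_eq hn3
      rw [e, pow_mul, pow_mul, hv2, inv_pow, hd2, inv_one, one_pow]
    have hc : t ^ i * v = v * t ^ i := h.central_in_M hy hv hv4
    have hd1 : d = 1 := by
      rw [hc] at hyv
      have : d * (v * t ^ i) = v * t ^ i := by rw [← mul_assoc]; exact hyv.symm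
      exact mul_eq_right.mp this
    rw [hv2, hd1, inv_one]
  · rw [h.mul_pow_p_odd hp2 hy hv, hyp, mul_one] at hxp
    exact hxp

end CSC

end Cfsg.Agent.Lib.Helper59
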