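import Cfsg.Agent.Lib.Helper59.CSCOmega

set_option autoImplicit false

namespace Cfsg.Agent.Lib.Helper59

namespace CSC

variable {G : Type*} [Group G] {p n : ℕ} [hp : Fact p.Prime] {U : Subgroup G} {u : G}

theorem M_normal (h : CSC p n U u) : (MM p U).Normal := by
  have : (Cfsg.powerClosure p 1 U).Normal := by
    unfold Cfsg.powerClosure
    apply closure_normal_of_conj_mem
    rintro g y ⟨x, hx, rfl⟩
    refine ⟨g * x * g⁻¹, h.conj_mem g hx, ?_⟩
    rw [conj_pow]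
  exact Subgroup.normal_centralizer

theorem prod_decomp (h : CSC p n U u) {t : G} (ht : t ∈ MM p U) {v v' : G} (hv' : v' ∈ U)
    (hv'p : v' ^ p = 1) (i j : ℤ) : (v * t ^ i) * (v' * t ^ j) = (v * v') * t ^ (i + j) := by
  have hc : t ^ i * v' = v' * t ^ i := h.central_in_M ((MM p U).zpow_mem ht i) hv' (h.pow_p_imp hv'p)
  calc (v * t ^ i) * (v' * t ^ j) = v * (t ^ i * v') * t ^ j := by simp only [mul_assoc]
    _ = v * (v' * t ^ i) * t ^ j := by rw [hc]
    _ = (v * v') * t ^ (i + j) := by rw [zpow_add]; simp only [mul_assoc]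

theorem omega_props [Finite G] (h : CSC p n U u) (h2 : p = 2 → 3 ≤ n) {t₀ : G} (ht₀ : t₀ ∈ MM p U)
    (ht₀U : t₀ ∉ U) :
    U.relIndex (MM p U) = p ∧ Cfsg.IsElementaryAbelian p (Cfsg.omegaOne p (MM p U)) ∧
      Nat.card ↥(Cfsg.omegaOne p (MM p U)) = p ^ 2 ∧ (Cfsg.omegaOne p (MM p U)).Characteristic := by
  have hrel := h.relIndex_eq ht₀ ht₀U
  obtain ⟨t, ht, htU, htp⟩ := h.exists_t h2 ht₀ ht₀U
  have := h.normal
  have hMn := h.M_normal
  set E := Cfsg.omegaOne p (MM p U) with hE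
  have hgen : ∀ x, x ∈ MM p U → x ^ p = 1 → x ∈ E := fun x hx hxp =>
    Subgroup.subset_closure ⟨hx, hxp⟩
  -- elements of E
  have hP : ∀ x ∈ E, x ∈ MM p U ∧ x ^ p = 1 := by
    intro x hx
    induction hx using Subgroup.closure_induction with
    | mem x hx => exact hx
    | one => exact ⟨Subgroup.one_mem _, one_pow _⟩
    | mul x y _ _ hx hy =>
      refine ⟨Subgroup.mul_mem _ hx.1 hy.1, ?_⟩
      obtain ⟨i, v, hv, hvp, rfl⟩ := h.decomp_of_pow_eq_one h2 ht htU htp hx.1 hx.2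
      obtain ⟨j, v', hv', hv'p, rfl⟩ := h.decomp_of_pow_eq_one h2 ht htU htp hy.1 hy.2
      rw [h.prod_decomp ht hv' hv'p]
      have hvv : (v * v') ^ p = 1 := by
        rw [(show Commute v v' from h.comm_of_mem hv hv').mul_pow, hvp, hv'p, one_mul]
      have hc : Commute (v * v') (t ^ (i + j)) :=
        (h.central_in_M ((MM p U).zpow_mem ht (i + j)) (U.mul_mem hv hv') (h.pow_p_imp hvv)).symm
      rw [hc.mul_pow, hvv, one_mul, ← zpow_natCast, ← zpow_mul, mul_comm, zpow_mul, zpow_natCast,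
        htp, one_zpow]
    | inv x _ hx => exact ⟨Subgroup.inv_mem _ hx.1, by rw [inv_pow, hx.2, inv_one]⟩
  have hcomm : ∀ x ∈ E, ∀ y ∈ E, x * y = y * x := by
    intro x hx y hy
    obtain ⟨i, v, hv, hvp, rfl⟩ := h.decomp_of_pow_eq_one h2 ht htU htp (hP x hx).1 (hP x hx).2
    obtain ⟨j, v', hv', hv'p, rfl⟩ := h.decomp_of_pow_eq_one h2 ht htU htp (hP y hy).1 (hP y hy).2
    rw [h.prod_decomp ht hv' hv'p, h.prod_decomp ht hv hvp, h.comm_of_mem hv hv', add_comm]
  have hEA : Cfsg.IsElementaryAbelian p E := by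
    refine ⟨⟨⟨fun a b => Subtype.ext (hcomm a.1 a.2 b.1 b.2)⟩⟩, fun a ha => (hP a ha).2⟩
  have hEM : E ≤ MM p U := fun x hx => (hP x hx).1
  have htE : t ∈ E := hgen t ht htp
  -- card
  have hcard : Nat.card ↥E = p ^ 2 := by
    have h1 : E ⊓ U = Subgroup.zpowers (u ^ (p ^ (n - 1))) := by
      apply le_antisymm
      · rintro x ⟨hxE, hxU⟩
        exact h.mem_zpowers_z0 hxU (hP x hxE).2
      · rw [Subgroup.zpowers_le]
        have hzU : u ^ (p ^ (n - 1)) ∈ U := U.pow_mem h.u_mem _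
        refine ⟨hgen _ (h.U_le_M hzU) ?_, hzU⟩
        have := pow_orderOf_eq_one (u ^ (p ^ (n - 1)))
        rwa [h.orderOf_z0] at this
    have h3 : Nat.card ↥(E ⊓ U) = p := by rw [h1, Nat.card_zpowers, h.orderOf_z0]
    have h4 : (E ⊓ U).relIndex E = p := by
      rw [Subgroup.inf_relIndex_left, ← Subgroup.relIndex_sup_left, ← hrel]
      congr 1
      apply le_antisymm
      · exact sup_le h.U_le_M hEM
      · intro x hx
        obtain ⟨i, v, hv, rfl⟩ := h.exists_decomp ht htU hx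
        exact Subgroup.mul_mem _ (Subgroup.mem_sup_left hv) (Subgroup.mem_sup_right (E.zpow_mem htE i))
    have h5 : Nat.card ↥((E ⊓ U).subgroupOf E) = p := by
      rw [← h3]
      exact Nat.card_congr (Subgroup.subgroupOfEquivOfLe inf_le_left).toEquiv
    have h6 := Subgroup.card_mul_index ((E ⊓ U).subgroupOf E)
    unfold Subgroup.relIndex at h4
    rw [h5, h4] at h6
    rw [← h6, sq]
  have hEn : E.Normal := by
    rw [hE]; unfold Cfsg.omegaOne
    apply closure_normal_of_conj_mem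
    rintro g x ⟨hx, hxp⟩
    exact ⟨hMn.conj_mem x hx g, by rw [conj_pow, hxp]; group⟩
  refine ⟨hrel, hEA, hcard, ?_⟩
  rw [Subgroup.characteristic_iff_map_le]
  intro φ
  have hmapn : (E.map φ.toMonoidHom).Normal := hEn.map _ φ.surjective
  rintro y ⟨x, hx, rfl⟩
  have hyp : (φ.toMonoidHom x) ^ p = 1 := by rw [← map_pow, (hP x hx).2, map_one]
  refine hgen _ ?_ hyp
  rw [h.mem_M_iff]
  have hy : φ.toMonoidHom x ∈ E.map φ.toMonoidHom := ⟨x, hx, rfl⟩
  have hcm : cm u (φ.toMonoidHom x) ∈ E.map φ.toMonoidHom := by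
    have h1 : cm u (φ.toMonoidHom x) = φ.toMonoidHom x * (u * (φ.toMonoidHom x)⁻¹ * u⁻¹) := by
      unfold cm; group
    rw [h1]
    exact Subgroup.mul_mem _ hy (hmapn.conj_mem _ (Subgroup.inv_mem _ hy) u)
  obtain ⟨x', hx', hx'e⟩ := hcm
  rw [← hx'e, ← map_pow, (hP x' hx').2, map_one]

end CSC

end Cfsg.Agent.Lib.Helper59
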