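import Mathlib
import Cfsg.Agent.Lib.Helper73.CT4Defs
import Cfsg.Agent.Lib.Helper73.BHMBasic
import Cfsg.Agent.Lib.Helper01.Basic

set_option autoImplicit false

/-!
Keystone K-S4146-D4 (`bb1_false`) for S4146: class sizes `{1, n, m, n m}`, `n < m` coprime, no good
elements; a primary `y` of class size `m` acting fixed-point-freely on the normal subgroup `F ≤ T`
leads to a contradiction (counting argument).  Self-contained: the few basic facts about `Hyp`
that are needed are reproved here under primed names.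
-/

namespace Cfsg.Agent.Lib.Helper59.CT4

open Cfsg.Agent.Lib.Helper73 Cfsg.Agent.Lib.Helper73.CT4

variable {G : Type*} [Group G] {n m : ℕ}

local notation "Cz(" x ")" => Subgroup.centralizer ({x} : Set G)

theorem idx_cases' (H : Hyp G n m) (x : G) :
    (Cz(x)).index = 1 ∨ (Cz(x)).index = n ∨ (Cz(x)).index = m ∨ (Cz(x)).index = n * m := by
  have h : (Cz(x)).index ∈ Set.range (fun x : G => (Cz(x)).index) := ⟨x, rfl⟩
  rw [H.range] at h
  simpa using h

theorem exists_nm' (H : Hyp G n m) : ∃ g : G, (Cz(g)).index = n * m := by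
  have h : n * m ∈ Set.range (fun x : G => (Cz(x)).index) := by
    rw [H.range]; simp
  obtain ⟨g, hg⟩ := h
  exact ⟨g, hg⟩

theorem idx_eq_one_iff' (x : G) : (Cz(x)).index = 1 ↔ x ∈ Subgroup.center G := by
  rw [Subgroup.index_eq_one]
  constructor
  · intro h
    rw [Subgroup.mem_center_iff]
    intro g
    have : g ∈ Cz(x) := by rw [h]; trivial
    exact mem_Cz.1 this
  · intro h
    rw [eq_top_iff]
    intro g _
    exact mem_Cz.2 ((Subgroup.mem_center_iff.1 h) g)

theorem le_of_max' [Finite G] (H : Hyp G n m) {g w : G} (hg : (Cz(g)).index = n * m)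
    (hw : w ∈ Cz(g)) (hcop : (orderOf g).Coprime (orderOf w)) : Cz(g) ≤ Cz(w) := by
  have hcomm : Commute g w := (mem_Cz.1 hw).symm
  have hC := Cz_mul_of_coprime hcomm hcop
  have hle : Cz(g * w) ≤ Cz(g) := by rw [hC]; exact inf_le_left
  have hdvd : (Cz(g)).index ∣ (Cz(g * w)).index := Subgroup.index_dvd_of_le hle
  have hdvd2 : (Cz(g * w)).index ∣ n * m := by
    rcases idx_cases' H (g * w) with h | h | h | h <;> rw [h]
    · exact one_dvd _
    · exact dvd_mul_right _ _
    · exact dvd_mul_left _ _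
  have heq : (Cz(g * w)).index = (Cz(g)).index := by
    rw [hg] at hdvd ⊢
    exact Nat.dvd_antisymm hdvd2 hdvd
  have hEq : Cz(g * w) = Cz(g) := by
    apply Subgroup.eq_of_le_of_card_ge hle
    have h1 := Subgroup.index_mul_card (Cz(g * w))
    have h2 := Subgroup.index_mul_card (Cz(g))
    rw [heq] at h1
    have hpos : 0 < (Cz(g)).index := Nat.pos_of_ne_zero Subgroup.index_ne_zero_of_finite
    have : Nat.card ↥(Cz(g * w)) = Nat.card ↥(Cz(g)) :=
      Nat.eq_of_mul_eq_mul_left hpos (h1.trans h2.symm)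
    exact this.ge
  rw [← hEq, hC]; exact inf_le_right

/-- the map `x ↦ x (y x y⁻¹)⁻¹` as a homomorphism from the abelian normal subgroup `T` to `F` -/
noncomputable def thetaHom (T F : Subgroup G) [T.Normal]
    (hTcomm : ∀ a ∈ T, ∀ b ∈ T, a * b = b * a) (y : G)
    (hθ : ∀ x ∈ T, x * (y * x * y⁻¹)⁻¹ ∈ F) : ↥T →* ↥F where
  toFun x := ⟨(x : G) * (y * x * y⁻¹)⁻¹, hθ x x.2⟩
  map_one' := by
    apply Subtype.ext
    simp
  map_mul' a b := by
    apply Subtype.ext
    have ha' : (y * (a : G) * y⁻¹)⁻¹ ∈ T := T.inv_mem (Subgroup.Normal.conj_mem inferInstance _ a.2 y)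
    have hb' : (y * (b : G) * y⁻¹)⁻¹ ∈ T := T.inv_mem (Subgroup.Normal.conj_mem inferInstance _ b.2 y)
    have e1 : (y * ((a : G) * (b : G)) * y⁻¹)⁻¹ = (y * (b : G) * y⁻¹)⁻¹ * (y * (a : G) * y⁻¹)⁻¹ := by
      group
    have e2 : ((b : G) * (y * (b : G) * y⁻¹)⁻¹) * (y * (a : G) * y⁻¹)⁻¹ =
        (y * (a : G) * y⁻¹)⁻¹ * ((b : G) * (y * (b : G) * y⁻¹)⁻¹) :=
      hTcomm _ (T.mul_mem b.2 hb') _ ha'
    show ((a : G) * (b : G)) * (y * ((a : G) * (b : G)) * y⁻¹)⁻¹ =
      ((a : G) * (y * (a : G) * y⁻¹)⁻¹) * ((b : G) * (y * (b : G) * y⁻¹)⁻¹)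
    rw [e1]
    calc (a : G) * (b : G) * ((y * (b : G) * y⁻¹)⁻¹ * (y * (a : G) * y⁻¹)⁻¹)
        = (a : G) * (((b : G) * (y * (b : G) * y⁻¹)⁻¹) * (y * (a : G) * y⁻¹)⁻¹) := by
          simp only [mul_assoc]
      _ = (a : G) * ((y * (a : G) * y⁻¹)⁻¹ * ((b : G) * (y * (b : G) * y⁻¹)⁻¹)) := by rw [e2]
      _ = _ := by simp only [mul_assoc]

theorem bb1_false [Finite G] (H : Hyp G n m) (hlt : n < m) (hN : ¬ Good G n) (hM : ¬ Good G m)
    (T : Subgroup G) [T.Normal]
    (hT : ∀ g : G, g ∈ T ↔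
      ((Subgroup.centralizer ({g} : Set G)).index = 1 ∨ (Subgroup.centralizer ({g} : Set G)).index = n))
    (hTcomm : ∀ a ∈ T, ∀ b ∈ T, a * b = b * a)
    (y : G) (s k : ℕ) (hs : s.Prime) (hsn : s ∣ n) (hy : orderOf y = s ^ k)
    (hym : (Subgroup.centralizer ({y} : Set G)).index = m)
    (F : Subgroup G) [F.Normal] (hFT : F ≤ T) (hFm : Nat.card F ∣ m) (hF1 : F ≠ ⊥)
    (hfix : ∀ f ∈ F, Commute f y → f = 1)
    (hθ : ∀ x ∈ T, x * (y * x * y⁻¹)⁻¹ ∈ F)
    (hcen : ∀ x ∈ T, Commute x y → x ∈ Subgroup.center G) : False := by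
  classical
  have hn0 : 0 < n := lt_trans Nat.zero_lt_one H.hn
  have hm0 : 0 < m := lt_trans Nat.zero_lt_one H.hm
  have hZT : Subgroup.center G ≤ T := fun z hz => (hT z).2 (Or.inl ((idx_eq_one_iff' z).2 hz))
  -- a prime `t` dividing `|F|`
  have hFc : Nat.card F ≠ 1 := fun h => hF1 (Subgroup.card_eq_one.1 h)
  obtain ⟨t, ht, htF⟩ := Nat.exists_prime_and_dvd hFc
  have htm : t ∣ m := htF.trans hFm
  have : Fact t.Prime := ⟨ht⟩
  have hts : t ≠ s := by
    rintro rfl
    have h1 : Nat.Coprime t m := Nat.Coprime.coprime_dvd_left hsn H.cop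
    exact ht.one_lt.ne' (Nat.Coprime.eq_one_of_dvd h1 htm)
  -- (b) every `t`-element of `C(y)` is central
  have hB : ∀ v : G, v ∈ Cz(y) → ∀ j : ℕ, orderOf v = t ^ j → v ∈ Subgroup.center G := by
    intro v hv j hvj
    have hvy : Commute v y := mem_Cz.1 hv
    rcases idx_cases' H v with h | h | h | h
    · exact (idx_eq_one_iff' v).1 h
    · exact hcen v ((hT v).2 (Or.inr h)) hvy
    · exact absurd ⟨v, t, j, ht, htm, hvj, h⟩ hM
    · exfalso
      have hyv : y ∈ Cz(v) := mem_Cz.2 hvy.symm.eq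
      have hcop : (orderOf v).Coprime (orderOf y) := by
        rw [hvj, hy]
        exact Nat.Coprime.pow _ _ ((Nat.coprime_primes ht hs).2 hts)
      have hle := le_of_max' H h hyv hcop
      let P : Subgroup (ConjAct G) := Subgroup.zpowers (ConjAct.toConjAct v)
      have hP : IsPGroup t P := by
        apply IsPGroup.of_card (n := j)
        rw [Nat.card_zpowers, MulEquiv.orderOf_eq, hvj]
      obtain ⟨b, hb, hb1⟩ := hP.exists_fixed_point_of_prime_dvd_card_of_fixed_point (α := ↥F) htF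
        (a := (1 : ↥F)) (by
          rw [MulAction.mem_fixedPoints]; intro g
          show (g : ConjAct G) • (1 : ↥F) = 1
          exact smul_one _)
      have h1 := (MulAction.mem_fixedPoints.1 hb) ⟨ConjAct.toConjAct v, Subgroup.mem_zpowers _⟩
      have h2 : v * (b : G) * v⁻¹ = (b : G) := by
        have h3 : (ConjAct.toConjAct v) • b = b := h1
        have := congrArg (fun x : ↥F => (x : G)) h3
        simpa [ConjAct.Subgroup.val_conj_smul, ConjAct.smul_def] using this
      have hbv : (b : G) ∈ Cz(v) := by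
        rw [mem_Cz]
        calc (b : G) * v = (v * (b : G) * v⁻¹) * v := by rw [h2]
          _ = v * (b : G) := by group
      have hby : Commute (b : G) y := mem_Cz.1 (hle hbv)
      have := hfix b b.2 hby
      exact hb1 (Subtype.ext this.symm)
  -- (c) the `t`-part of `|C(y)|` divides `|Z(G)|`
  have hC : ∀ j : ℕ, t ^ j ∣ Nat.card ↥(Cz(y)) → t ^ j ∣ Nat.card ↥(Subgroup.center G) := by
    intro j hj
    have P : Sylow t ↥(Cz(y)) := default
    have hPcard := P.card_eq_multiplicity
    have hle : (P : Subgroup ↥(Cz(y))).map (Cz(y)).subtype ≤ Subgroup.center G := by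
      rintro _ ⟨g, hg, rfl⟩
      obtain ⟨i, hi⟩ := P.isPGroup' ⟨g, hg⟩
      have hgi : (g : G) ^ (t ^ i) = 1 := by
        have := congrArg (fun x : ↥(P : Subgroup ↥(Cz(y))) => ((x : ↥(Cz(y))) : G)) hi
        simpa using this
      obtain ⟨i', _, hi'⟩ := (Nat.dvd_prime_pow ht).1 (orderOf_dvd_of_pow_eq_one hgi)
      exact hB (g : G) g.2 i' hi'
    have hcard : Nat.card ↥((P : Subgroup ↥(Cz(y))).map (Cz(y)).subtype) =
        Nat.card ↥(P : Subgroup ↥(Cz(y))) :=
      Subgroup.card_map_of_injective (Subgroup.subtype_injective _)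
    have hdvd : Nat.card ↥(P : Subgroup ↥(Cz(y))) ∣ Nat.card ↥(Subgroup.center G) := by
      rw [← hcard]; exact Subgroup.card_dvd_of_le hle
    have hj' : j ≤ (Nat.card ↥(Cz(y))).factorization t :=
      (ht.pow_dvd_iff_le_factorization Nat.card_pos.ne').1 hj
    rw [hPcard] at hdvd
    exact (pow_dvd_pow t hj').trans hdvd
  -- (d) an element `f'` of order `t` in `F`
  obtain ⟨f, hf⟩ := exists_prime_orderOf_dvd_card' (G := ↥F) t htF
  have hf't : orderOf (f : G) = t := by rw [Subgroup.orderOf_coe]; exact hf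
  have hf'Z : (f : G) ∉ Subgroup.center G := by
    intro hz
    have hcomm : Commute (f : G) y := ((Subgroup.mem_center_iff.1 hz) y).symm
    have h1 := hfix f f.2 hcomm
    rw [h1, orderOf_one] at hf't
    exact ht.one_lt.ne hf't
  have hD : ∀ w : G, w ∈ Cz((f : G)) → ¬ m ∣ (Cz(w)).index := by
    intro w hw hmw
    have hf'w : (f : G) ∈ Cz(w) := mem_Cz.2 (mem_Cz.1 hw).symm
    have hK : Subgroup.zpowers (f : G) ⊔ Subgroup.center G ≤ Cz(w) :=
      sup_le (by rw [Subgroup.zpowers_le]; exact hf'w) (center_le_Cz w)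
    have hinf : Subgroup.center G ⊓ Subgroup.zpowers (f : G) = ⊥ := by
      rw [eq_bot_iff]
      intro g hg
      obtain ⟨hgZ, hgf⟩ := Subgroup.mem_inf.1 hg
      rw [Subgroup.mem_bot]
      by_contra hg1
      apply hf'Z
      have hdv : orderOf g ∣ t := by
        rw [← hf't]; exact orderOf_dvd_of_mem_zpowers hgf
      have hog : orderOf g = t := by
        rcases (Nat.dvd_prime ht).1 hdv with h | h
        · exact absurd (orderOf_eq_one_iff.1 h) hg1
        · exact h
      have hzz : Subgroup.zpowers g = Subgroup.zpowers (f : G) := by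
        apply Subgroup.eq_of_le_of_card_ge
        · rw [Subgroup.zpowers_le]; exact hgf
        · rw [Nat.card_zpowers, Nat.card_zpowers, hog, hf't]
      have : (f : G) ∈ Subgroup.zpowers g := by rw [hzz]; exact Subgroup.mem_zpowers _
      exact (Subgroup.zpowers_le.2 hgZ) this
    have hcardK : Nat.card ↥(Subgroup.zpowers (f : G) ⊔ Subgroup.center G) =
        Nat.card ↥(Subgroup.center G) * t := by
      have h1 := Cfsg.Agent.Lib.Helper01.card_sup_mul_card_inf (Subgroup.center G)
        (Subgroup.zpowers (f : G))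
      rw [hinf, Subgroup.card_bot, mul_one, Nat.card_zpowers, hf't] at h1
      exact h1
    obtain ⟨q, hq⟩ := hmw
    have h1 := Subgroup.index_mul_card (Cz(w))
    have h2 := Subgroup.index_mul_card (Cz(y))
    have hdv : Nat.card ↥(Cz(w)) ∣ Nat.card ↥(Cz(y)) := by
      rw [hq] at h1; rw [hym] at h2
      have h3 : m * (q * Nat.card ↥(Cz(w))) = m * Nat.card ↥(Cz(y)) := by
        rw [← mul_assoc, h1, h2]
      have h4 := Nat.eq_of_mul_eq_mul_left hm0 h3
      exact ⟨q, by rw [← h4, mul_comm]⟩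
    have hbad : t ^ ((Nat.card ↥(Subgroup.center G)).factorization t + 1) ∣
        Nat.card ↥(Subgroup.center G) := by
      apply hC
      refine dvd_trans ?_ ((Subgroup.card_dvd_of_le hK).trans hdv)
      rw [hcardK, pow_succ]
      exact mul_dvd_mul_right (Nat.ordProj_dvd _ _) t
    exact Nat.pow_succ_factorization_not_dvd Nat.card_pos.ne' ht hbad
  -- `C(f') = T`, hence `|G| = n |T|`
  have hfT : (f : G) ∈ T := hFT f.2
  have hCT : Cz((f : G)) = T := by
    apply le_antisymm
    · intro w hw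
      rw [hT]
      rcases idx_cases' H w with h | h | h | h
      · exact Or.inl h
      · exact Or.inr h
      · exact absurd (by rw [h]) (hD w hw)
      · exact absurd (by rw [h]; exact dvd_mul_left _ _) (hD w hw)
    · intro x hx
      exact mem_Cz.2 (hTcomm x hx _ hfT)
  have hidxf : (Cz((f : G))).index = n := by
    rcases (hT _).1 hfT with h | h
    · exact absurd ((idx_eq_one_iff' _).1 h) hf'Z
    · exact h
  have hGT : n * Nat.card ↥T = Nat.card G := by
    have := Subgroup.index_mul_card (Cz((f : G)))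
    rw [hidxf, hCT] at this
    exact this
  -- (a) `|T| ≤ |Z(G)| |F|`
  have hTle : Nat.card ↥T ≤ Nat.card ↥(Subgroup.center G) * Nat.card ↥F := by
    set θ := thetaHom T F hTcomm y hθ with hθdef
    have h1 := θ.ker.card_mul_index
    rw [Subgroup.index_ker] at h1
    have hker : Nat.card ↥θ.ker ≤ Nat.card ↥(Subgroup.center G) := by
      have hmem : ∀ x : ↥θ.ker, ((x : ↥T) : G) ∈ Subgroup.center G := by
        intro x
        have hx : θ (x : ↥T) = 1 := x.2
        have hx' : ((x : ↥T) : G) * (y * ((x : ↥T) : G) * y⁻¹)⁻¹ = 1 := by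
          have := congrArg (fun z : ↥F => (z : G)) hx
          simpa [hθdef, thetaHom] using this
        apply hcen _ (x : ↥T).2
        have h5 : ((x : ↥T) : G) = y * ((x : ↥T) : G) * y⁻¹ := by
          have := mul_eq_one_iff_eq_inv.1 hx'
          rw [inv_inv] at this
          exact this
        show ((x : ↥T) : G) * y = y * ((x : ↥T) : G)
        calc ((x : ↥T) : G) * y = (y * ((x : ↥T) : G) * y⁻¹) * y := by rw [← h5]
          _ = y * ((x : ↥T) : G) := by group
      apply Nat.card_le_card_of_injective (fun x : ↥θ.ker => (⟨((x : ↥T) : G), hmem x⟩ : ↥(Subgroup.center G)))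
      intro a b hab
      have := congrArg (fun z : ↥(Subgroup.center G) => (z : G)) hab
      exact Subtype.ext (Subtype.ext this)
    have hrange : Nat.card ↥θ.range ≤ Nat.card ↥F := Subgroup.card_le_card_group _
    calc Nat.card ↥T = Nat.card ↥θ.ker * Nat.card ↥θ.range := h1.symm
      _ ≤ Nat.card ↥(Subgroup.center G) * Nat.card ↥F := Nat.mul_le_mul hker hrange
  -- (e) an element of class size `n m`
  obtain ⟨g, hg⟩ := exists_nm' H
  have hGg : n * m * Nat.card ↥(Cz(g)) = Nat.card G := by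
    have := Subgroup.index_mul_card (Cz(g))
    rw [hg] at this
    exact this
  have hFm' : Nat.card ↥F ≤ m := Nat.le_of_dvd hm0 hFm
  have hle : Nat.card ↥(Cz(g)) ≤ Nat.card ↥(Subgroup.center G) := by
    have h1 : n * m * Nat.card ↥(Cz(g)) ≤ n * m * Nat.card ↥(Subgroup.center G) := by
      rw [hGg, ← hGT]
      calc n * Nat.card ↥T ≤ n * (Nat.card ↥(Subgroup.center G) * Nat.card ↥F) :=
            Nat.mul_le_mul_left _ hTle
        _ ≤ n * (Nat.card ↥(Subgroup.center G) * m) :=
            Nat.mul_le_mul_left _ (Nat.mul_le_mul_left _ hFm')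
        _ = n * m * Nat.card ↥(Subgroup.center G) := by ring
    exact Nat.le_of_mul_le_mul_left h1 (Nat.mul_pos hn0 hm0)
  have hEq : Subgroup.center G = Cz(g) := Subgroup.eq_of_le_of_card_ge (center_le_Cz g) hle
  have hgZ : g ∈ Subgroup.center G := by rw [hEq]; exact self_mem_Cz g
  have := (idx_eq_one_iff' g).2 hgZ
  rw [hg] at this
  have h1n : 1 < n * m := Nat.one_lt_mul_iff.2 ⟨hn0, hm0, Or.inl H.hn⟩
  omega

end Cfsg.Agent.Lib.Helper59.CT4
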