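import Mathlib
import Cfsg.Agent.Lib.Helper59.QDIndexTwo

set_option autoImplicit false

namespace Cfsg.Agent.Lib.Helper59

open scoped commutatorElement

variable {G : Type*} [Group G]

/-- The generic local-to-global fusion principle: if every subgroup `H` of the Sylow subgroup `P`
has a `p`-group of automorphisms, or has its automizer induced by `P`, or has all its elements of
equal order `R`-related, then `R` is preserved by `G`-fusion in `P`. -/
theorem fusion_induction_of_local [Finite G] {p : ℕ} [Fact p.Prime] (P : Sylow p G)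
    (R : G → G → Prop) (hrefl : ∀ a, R a a) (htrans : ∀ a b c, R a b → R b c → R a c)
    (hconj : ∀ a ∈ (P : Subgroup G), ∀ s ∈ (P : Subgroup G), R a (s * a * s⁻¹))
    (hloc : ∀ H : Subgroup G, H ≤ P → IsPGroup p (MulAut H) ∨ SCtrl (P : Subgroup G) H ∨
      (∀ a ∈ H, ∀ b ∈ H, orderOf a = orderOf b → R a b))
    (a g : G) (ha : a ∈ (P : Subgroup G)) (hag : g⁻¹ * a * g ∈ (P : Subgroup G)) :
    R a (g⁻¹ * a * g) := by
  apply alperin_induction P R hrefl htrans _ a g ha hag
  intro Q' htame n hn _ a ha
  set H : Subgroup G := (P : Subgroup G) ⊓ (Q' : Subgroup G) with hH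
  have hHS : H ≤ P := inf_le_left
  have hninv : n⁻¹ ∈ Subgroup.normalizer (H : Set G) := Subgroup.inv_mem _ hn
  have hnaH : n⁻¹ * a * n ∈ H := by
    have := ((Subgroup.mem_normalizer_iff.mp hninv) a).mp ha
    rwa [inv_inv] at this
  have hord : orderOf a = orderOf (n⁻¹ * a * n) := by
    have := (MulAut.conj n⁻¹).orderOf_eq a
    rw [MulAut.conj_apply, inv_inv] at this
    exact this.symm
  have hctrl : SCtrl (P : Subgroup G) H → R a (n⁻¹ * a * n) := by
    intro hc
    obtain ⟨s, hs, hact⟩ := hc _ hninv
    have := hact a ha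
    rw [inv_inv] at this
    rw [this]
    exact hconj a (hHS ha) s hs
  rcases hloc H hHS with h1 | h1 | h1
  · apply hctrl
    intro m hm
    obtain ⟨s, hs, hact⟩ := exists_conj_of_pgroup_automizer (P : Subgroup G) H htame.1
      (h1.to_subgroup _) m hm
    exact ⟨s, hs.1, hact⟩
  · exact hctrl h1
  · exact h1 a ha _ hnaH hord

/-- if the automizer has order two and some element of `P` acts nontrivially, the automizer is
induced by `P`. -/
theorem sctrl_of_relIndex_two (P H : Subgroup G) (g : G) (hgP : g ∈ P)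
    (hgN : g ∈ Subgroup.normalizer (H : Set G)) (hgC : g ∉ Subgroup.centralizer (H : Set G))
    (h₁ : (Subgroup.centralizer (H : Set G)).relIndex (Subgroup.normalizer (H : Set G)) = 2) :
    SCtrl P H := by
  intro n hn
  by_cases hnC : n ∈ Subgroup.centralizer (H : Set G)
  · refine ⟨1, Subgroup.one_mem _, ?_⟩
    intro a ha
    have := (Subgroup.mem_centralizer_iff.mp hnC) a ha
    rw [one_mul, inv_one, mul_one, ← this]; group
  · refine ⟨g, hgP, ?_⟩
    have hidx : ((Subgroup.centralizer (H : Set G)).subgroupOf (Subgroup.normalizer (H : Set G))).index = 2 := h₁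
    have hmem : (⟨n, hn⟩ : Subgroup.normalizer (H : Set G)) * (⟨g, hgN⟩ : Subgroup.normalizer (H : Set G))⁻¹ ∈
        (Subgroup.centralizer (H : Set G)).subgroupOf (Subgroup.normalizer (H : Set G)) := by
      rw [Subgroup.mul_mem_iff_of_index_two hidx, Subgroup.inv_mem_iff]
      constructor
      · intro h; exact absurd (Subgroup.mem_subgroupOf.mp h) hnC
      · intro h; exact absurd (Subgroup.mem_subgroupOf.mp h) hgC
    have hc : n * g⁻¹ ∈ Subgroup.centralizer (H : Set G) := Subgroup.mem_subgroupOf.mp hmem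
    intro a ha
    have hga : g * a * g⁻¹ ∈ H := ((Subgroup.mem_normalizer_iff.mp hgN) a).mp ha
    have := (Subgroup.mem_centralizer_iff.mp hc) _ hga
    have e1 : n * a * n⁻¹ = (n * g⁻¹) * (g * a * g⁻¹) * (n * g⁻¹)⁻¹ := by group
    rw [e1, ← this]; group

/-- the automizer of a four-group normalized nontrivially by a `2`-element has order 2 or 6 -/
theorem automizer_klein_two_or_six (T : Subgroup G) (hT : IsKleinFour T) (g : G) (m : ℕ)
    (hg : g ^ (2 ^ m) = 1) (hgN : g ∈ Subgroup.normalizer (T : Set G))
    (hgC : g ∉ Subgroup.centralizer (T : Set G)) :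
    (Subgroup.centralizer (T : Set G)).relIndex (Subgroup.normalizer (T : Set G)) = 2 ∨
      (Subgroup.centralizer (T : Set G)).relIndex (Subgroup.normalizer (T : Set G)) = 6 := by
  have : Finite T := IsKleinFour.instFinite
  have : Finite (MulAut T) := Nat.finite_of_card_ne_zero (by rw [card_mulAut_klein T]; norm_num)
  rw [relIndex_centralizer_normalizer]
  apply Cfsg.Agent.S1203.two_or_six
  · apply two_dvd_card_range T.normalizerMonoidHom ⟨g, hgN⟩ m
    · apply Subtype.ext
      simpa using hg
    · intro h1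
      apply hgC
      have : (⟨g, hgN⟩ : Subgroup.normalizer (T : Set G)) ∈ T.normalizerMonoidHom.ker := h1
      rw [Subgroup.normalizerMonoidHom_ker] at this
      exact Subgroup.mem_subgroupOf.mp this
  · rw [← card_mulAut_klein T]
    exact Subgroup.card_subgroup_dvd_card _

/-- all nonidentity elements of a four-group with automizer of order six are conjugate -/
theorem klein_isConj_of_six (T : Subgroup G) (hT : IsKleinFour T)
    (h₁ : (Subgroup.centralizer (T : Set G)).relIndex (Subgroup.normalizer (T : Set G)) = 6)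
    (a b : G) (ha : a ∈ T) (hb : b ∈ T) (ha1 : a ≠ 1) (hb1 : b ≠ 1) : IsConj a b := by
  obtain ⟨φ, hφ⟩ := klein_trans T ⟨a, ha⟩ ⟨b, hb⟩
    (fun h => ha1 (congrArg Subtype.val h)) (fun h => hb1 (congrArg Subtype.val h))
  obtain ⟨n, hn, hact⟩ := klein_full T hT h₁ (φ * φ)
  rw [isConj_iff]
  refine ⟨n, ?_⟩
  have := hact ⟨a, ha⟩
  rw [MulAut.mul_apply, hφ] at this
  exact this

section Sylow2

variable [Finite G] (P : Sylow 2 G)

/-- the focal subgroup theorem: a normal subgroup of index `|P : foc(P)|` -/
theorem exists_normal_index_eq (M : Subgroup G) (hM : Subgroup.focalSubgroup (P : Subgroup G) = M) :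
    ∃ N : Subgroup G, N.Normal ∧ N.index = M.relIndex (P : Subgroup G) := by
  have hf2 : Fact (Nat.Prime 2) := ⟨Nat.prime_two⟩
  have hHall : (Nat.card (P : Subgroup G)).Coprime (P : Subgroup G).index := P.card_coprime_index
  obtain ⟨hinf, hsup⟩ := Cfsg.Agent.Lib.Helper13.hall_transferFocal (P : Subgroup G) hHall
  refine ⟨(P : Subgroup G).transferFocal.ker, MonoidHom.normal_ker _, ?_⟩
  set K : Subgroup G := (P : Subgroup G).transferFocal.ker with hK
  have hKn : K.Normal := MonoidHom.normal_ker _
  calc K.index = K.relIndex ⊤ := (Subgroup.relIndex_top_right K).symm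
    _ = K.relIndex (K ⊔ (P : Subgroup G)) := by rw [hsup]
    _ = K.relIndex (P : Subgroup G) := Subgroup.relIndex_sup_left (P : Subgroup G) K
    _ = (K ⊓ (P : Subgroup G)).relIndex (P : Subgroup G) :=
        (Subgroup.inf_relIndex_right K (P : Subgroup G)).symm
    _ = M.relIndex (P : Subgroup G) := by rw [hinf, hM]

/-- if the focal subgroup has index two in `P`, no normal subgroup has index four -/
theorem no_normal_index_four (M : Subgroup G) (hM : Subgroup.focalSubgroup (P : Subgroup G) = M)
    (hM2 : M.relIndex (P : Subgroup G) = 2) (N : Subgroup G) (hN : N.Normal) : N.index ≠ 4 := by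
  have hf2 : Fact (Nat.Prime 2) := ⟨Nat.prime_two⟩
  intro h4
  -- the quotient is abelian
  have hcard : Nat.card (G ⧸ N) = 2 ^ 2 := by rw [← Subgroup.index_eq_card, h4]; norm_num
  have hmc : IsMulCommutative (G ⧸ N) := IsPGroup.isMulCommutative_of_card_eq_prime_sq hcard
  have hcomm : ∀ a b : G ⧸ N, a * b = b * a := fun a b => hmc.is_comm.comm a b
  have hle : commutator G ≤ N := by
    rw [commutator_def, Subgroup.commutator_le]
    intro a _ b _
    rw [← QuotientGroup.eq_one_iff, commutatorElement_def]
    simp only [QuotientGroup.mk_mul, QuotientGroup.mk_inv]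
    rw [hcomm (a : G ⧸ N) (b : G ⧸ N)]
    group
  have hfoc : M ≤ N ⊓ (P : Subgroup G) := by
    rw [← hM]
    exact le_inf (le_trans (Subgroup.focalSubgroup_le_commutator _) hle)
      (Subgroup.focalSubgroup_le _)
  -- N P = G
  have hsup : N ⊔ (P : Subgroup G) = ⊤ := by
    rw [← Subgroup.index_eq_one]
    have h1 : (N ⊔ (P : Subgroup G)).index ∣ N.index := Subgroup.index_dvd_of_le le_sup_left
    have h2 : (N ⊔ (P : Subgroup G)).index ∣ (P : Subgroup G).index :=
      Subgroup.index_dvd_of_le le_sup_right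
    rw [h4] at h1
    have h3 : ¬ 2 ∣ (N ⊔ (P : Subgroup G)).index := fun h => P.not_dvd_index (dvd_trans h h2)
    have h5 : (N ⊔ (P : Subgroup G)).index ≤ 4 := Nat.le_of_dvd (by norm_num) h1
    interval_cases hi : (N ⊔ (P : Subgroup G)).index
    · omega
    · rfl
    · omega
    · omega
    · omega
  have h6 : N.relIndex (P : Subgroup G) = 4 := by
    rw [← Subgroup.relIndex_sup_left (P : Subgroup G) N, hsup, Subgroup.relIndex_top_right, h4]
  have h7 : (N ⊓ (P : Subgroup G)).relIndex (P : Subgroup G) ∣ M.relIndex (P : Subgroup G) :=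
    Subgroup.relIndex_dvd_of_le_left _ hfoc
  rw [Subgroup.inf_relIndex_right, h6, hM2] at h7
  omega

end Sylow2

end Cfsg.Agent.Lib.Helper59
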