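import Mathlib
import Cfsg.Agent.Lib.Helper59.QDCases

set_option autoImplicit false

namespace Cfsg.Agent.Lib.Helper59

namespace QD

variable {S : Type*} [Group S] {k : ℕ} {x y : S}

theorem hdb4 (k : ℕ) (ε : ℤ) : (4 : ℤ) ∣ 4 * 2 ^ k * ε := ⟨2 ^ k * ε, by ring⟩

theorem four_dvd_8w (k : ℕ) : (4 : ℤ) ∣ 8 * 2 ^ k := ⟨2 * 2 ^ k, by ring⟩

/-- conjugation by an even power of `x` -/
theorem conj_xy_by_x2 (h : QD S k x y) (b m : ℤ) :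
    x ^ (2 * m) * (x ^ b * y) * (x ^ (2 * m))⁻¹ = x ^ (b + 4 * m) * y := by
  rw [h.conj_xy_by_x, h.xy_eq_xy]
  exact ⟨-m, by ring⟩

/-- a four-group of type `ε` (`ε = 0` or `2`): its reflections are `x^c y` with `c ≡ ε mod 4`. -/
def KType (_h : QD S k x y) (T : Subgroup S) (ε : ℤ) : Prop :=
  ∃ b : ℤ, (4 : ℤ) ∣ b - ε ∧ (∀ c : ℤ, x ^ c ∈ T ↔ (4 * 2 ^ k : ℤ) ∣ c) ∧
    (∀ c : ℤ, x ^ c * y ∈ T ↔ (4 * 2 ^ k : ℤ) ∣ c - b)

theorem ktype_cases (h : QD S k x y) [Finite S] (T : Subgroup S) (h4 : Nat.card T = 4)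
    (h2 : ∀ t ∈ T, t * t = 1) : h.KType T 0 ∨ h.KType T 2 := by
  obtain ⟨b, ⟨b', rfl⟩, hx, hy⟩ := h.klein_desc T h4 h2
  rcases Int.even_or_odd' b' with ⟨j, h1 | h1⟩
  · left; exact ⟨2 * b', ⟨j, by rw [h1]; ring⟩, hx, hy⟩
  · right; exact ⟨2 * b', ⟨j, by rw [h1]; ring⟩, hx, hy⟩

theorem ktype_conj (h : QD S k x y) [Finite S] {T T' : Subgroup S} {ε : ℤ}
    (hT : h.KType T ε) (hT' : h.KType T' ε) :
    ∃ i : ℤ, T.map (MulAut.conj (x ^ (2 * i))).toMonoidHom = T' := by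
  obtain ⟨b, ⟨i, hi⟩, hx, hy⟩ := hT
  obtain ⟨b', ⟨i', hi'⟩, hx', hy'⟩ := hT'
  refine ⟨i' - i, ?_⟩
  ext g
  rw [mem_map_conj]
  rcases h.cases g with ⟨c, rfl⟩ | ⟨c, rfl⟩
  · have e : (x ^ (2 * (i' - i)))⁻¹ * x ^ c * x ^ (2 * (i' - i)) = x ^ c := by
      rw [← zpow_neg, ← zpow_add, ← zpow_add]; congr 1; ring
    rw [e, hx, hx']
  · have e : (x ^ (2 * (i' - i)))⁻¹ * (x ^ c * y) * x ^ (2 * (i' - i)) =
        x ^ (c + 4 * (-(i' - i))) * y := by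
      have := h.conj_xy_by_x2 c (-(i' - i))
      rw [← this, mul_neg, zpow_neg, inv_inv]
    rw [e, hy, hy']
    have e2 : c + 4 * (-(i' - i)) - b = c - b' := by linarith
    rw [e2]

theorem x2w_mem_normalizer (h : QD S k x y) [Finite S] {T : Subgroup S} {ε : ℤ}
    (hT : h.KType T ε) : x ^ (2 * 2 ^ k : ℤ) ∈ Subgroup.normalizer (T : Set S) := by
  obtain ⟨b, _, hx, hy⟩ := hT
  rw [Subgroup.mem_normalizer_iff]
  intro g
  rcases h.cases g with ⟨c, rfl⟩ | ⟨c, rfl⟩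
  · rw [conj_x_by_x]
  · have := h.conj_xy_by_x2 c (2 ^ k)
    rw [this, hy, hy]
    have e : c + 4 * 2 ^ k - b = (c - b) + 4 * 2 ^ k := by ring
    rw [e]
    exact (Int.dvd_add_left (dvd_refl _)).symm

theorem x2w_notMem_centralizer (h : QD S k x y) [Finite S] {T : Subgroup S} {ε : ℤ}
    (hT : h.KType T ε) : x ^ (2 * 2 ^ k : ℤ) ∉ Subgroup.centralizer (T : Set S) := by
  obtain ⟨b, _, hx, hy⟩ := hT
  intro hc
  have hmem : x ^ b * y ∈ T := (hy b).mpr (by simp)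
  have h1 := (Subgroup.mem_centralizer_iff.mp hc) _ hmem
  have h2 : x ^ (2 * 2 ^ k : ℤ) * (x ^ b * y) * (x ^ (2 * 2 ^ k : ℤ))⁻¹ = x ^ b * y := by
    rw [← h1]; group
  rw [h.conj_xy_by_x2, h.xy_eq_xy] at h2
  obtain ⟨c, hc⟩ := h2
  have h2k : (0 : ℤ) < 2 ^ k := by positivity
  have : (2 : ℤ) ^ k * (1 - 2 * c) = 0 := by linarith
  rcases mul_eq_zero.mp this with h0 | h0 <;> omega

theorem ktype_le (h : QD S k x y) [Finite S] {T : Subgroup S} {ε : ℤ}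
    (hT : h.KType T ε) : T ≤ h.sub 4 ε (hdb4 k ε) := by
  obtain ⟨b, ⟨i, hi⟩, hx, hy⟩ := hT
  have hd8 := four_dvd_8w k
  intro g hg
  rcases h.cases g with ⟨c, rfl⟩ | ⟨c, rfl⟩
  · rw [h.x_mem_sub hd8]
    exact dvd_trans ⟨2 ^ k, by ring⟩ ((hx c).mp hg)
  · rw [h.xy_mem_sub hd8]
    obtain ⟨j, hj⟩ := (hy c).mp hg
    exact ⟨2 ^ k * j + i, by linarith⟩

theorem sub_four_le_sub_two (h : QD S k x y) [Finite S] (ε : ℤ) (hε : (2 : ℤ) ∣ ε) :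
    h.sub 4 ε (hdb4 k ε) ≤ h.sub 2 0 (hdbε k 0) := by
  have hd8 := four_dvd_8w k
  have hd8' := two_dvd_8w k
  intro g hg
  rcases h.cases g with ⟨c, rfl⟩ | ⟨c, rfl⟩
  · rw [h.x_mem_sub hd8'] 
    rw [h.x_mem_sub hd8] at hg
    exact dvd_trans ⟨2, by ring⟩ hg
  · rw [h.xy_mem_sub hd8']
    rw [h.xy_mem_sub hd8] at hg
    obtain ⟨j, hj⟩ := hg
    obtain ⟨e, he⟩ := hε
    exact ⟨2 * j + e, by linarith⟩

/-- `sub 4 ε` has index two in `D = sub 2 0`: the coset criterion. -/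
theorem sub_four_coset (h : QD S k x y) [Finite S] (ε : ℤ) (hε : (2 : ℤ) ∣ ε) (g : S)
    (hg : g ∈ h.sub 2 0 (hdbε k 0)) :
    g * x ^ (2 : ℤ) ∈ h.sub 4 ε (hdb4 k ε) ∨ g ∈ h.sub 4 ε (hdb4 k ε) := by
  have hd8 := four_dvd_8w k
  have hd8' := two_dvd_8w k
  obtain ⟨e, he⟩ := hε
  rcases h.cases g with ⟨c, rfl⟩ | ⟨c, rfl⟩
  · rw [h.x_mem_sub hd8'] at hg
    obtain ⟨c', rfl⟩ := hg
    rcases Int.even_or_odd' c' with ⟨j, h1 | h1⟩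
    · right; rw [h.x_mem_sub hd8]; exact ⟨j, by rw [h1]; ring⟩
    · left; rw [← zpow_add, h.x_mem_sub hd8]; exact ⟨j + 1, by rw [h1]; ring⟩
  · rw [h.xy_mem_sub hd8'] at hg
    obtain ⟨c', hc'⟩ := hg
    rcases Int.even_or_odd' (c' - e) with ⟨j, h1 | h1⟩
    · right; rw [h.xy_mem_sub hd8]; exact ⟨j, by linarith⟩
    · left
      rw [h.mul_xy_x, h.xy_mem_sub hd8]
      exact ⟨j + 2 * 2 ^ k, by linarith⟩

theorem x_sq_notMem_sub_four (h : QD S k x y) [Finite S] (ε : ℤ) :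
    x ^ (2 : ℤ) ∉ h.sub 4 ε (hdb4 k ε) := by
  rw [h.x_mem_sub (four_dvd_8w k)]
  norm_num

theorem quat_not_le_sub_two_zero (h : QD S k x y) [Finite S] (Q : Subgroup S)
    (e : Q ≃* QuaternionGroup 2) : ¬ Q ≤ h.sub 2 0 (hdbε k 0) := by
  obtain ⟨f, hx, hy⟩ := h.quat_desc Q e
  intro hle
  have h1 : x ^ (2 * f + 1) * y ∈ Q := (hy _).mpr (by simp)
  have h2 := hle h1
  rw [h.xy_mem_sub (two_dvd_8w k)] at h2
  omega

/-- involutions of `D` -/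
theorem invol_sub_two_zero (h : QD S k x y) [Finite S] (t : S) (h2 : t * t = 1) (h1 : t ≠ 1) :
    t = x ^ (4 * 2 ^ k : ℤ) ∨
      (∃ m : ℤ, t = x ^ (2 * m) * (x ^ (0 : ℤ) * y) * (x ^ (2 * m))⁻¹) ∨
      (∃ m : ℤ, t = x ^ (2 * m) * (x ^ (2 : ℤ) * y) * (x ^ (2 * m))⁻¹) := by
  rcases h.invol_cases t h2 h1 with h3 | ⟨j, h3⟩
  · left; exact h3
  · right
    rcases Int.even_or_odd' j with ⟨m, h4 | h4⟩
    · left
      refine ⟨m, ?_⟩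
      rw [h.conj_xy_by_x2, h3, h4]; congr 2; ring
    · right
      refine ⟨m, ?_⟩
      rw [h.conj_xy_by_x2, h3, h4]; congr 2; ring

end QD

end Cfsg.Agent.Lib.Helper59
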