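import Mathlib
import Cfsg.Agent.Lib.Helper59.FusionLocal
import Cfsg.Agent.Lib.Helper59.QDDihedral

set_option autoImplicit false

namespace Cfsg.Agent.Lib.Helper59

open QD

variable {G : Type*} [Group G]

/-- homomorphisms commute with conjugation of subgroups -/
theorem map_conj_comm {A B : Type*} [Group A] [Group B] (j : A →* B) (K : Subgroup A) (s : A) :
    (K.map (MulAut.conj s).toMonoidHom).map j = (K.map j).map (MulAut.conj (j s)).toMonoidHom := by
  rw [Subgroup.map_map, Subgroup.map_map]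
  congr 1
  ext a
  simp [MulAut.conj_apply]

section Dih

variable [Finite G] (P : Sylow 2 G) {St : Type*} [Group St] [Finite St] {k : ℕ} {x y : St}
  (h : QD St k x y) (j : (P : Subgroup G) →* St) (hj : Function.Injective j)
  (hr : j.range = h.sub 2 0 (hdbε k 0))

/-- the image in the quasi-dihedral overgroup of a subgroup of `G` (inside `P`) -/
def Hj (H : Subgroup G) : Subgroup St := (H.subgroupOf (P : Subgroup G)).map j

include hj in
/-- the image is isomorphic to the subgroup -/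
noncomputable def equivHj (H : Subgroup G) (hHP : H ≤ P) : H ≃* Hj P j H :=
  (Subgroup.subgroupOfEquivOfLe hHP).symm.trans
    ((H.subgroupOf (P : Subgroup G)).equivMapOfInjective j hj)

include hr in
theorem Hj_le (H : Subgroup G) : Hj P j H ≤ h.sub 2 0 (hdbε k 0) := by
  rw [← hr]
  rintro _ ⟨a, _, rfl⟩
  exact ⟨a, rfl⟩

include hr in
theorem exists_preimage (d : St) (hd : d ∈ h.sub 2 0 (hdbε k 0)) :
    ∃ s : (P : Subgroup G), j s = d := by
  rw [← hr] at hd
  exact hd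

include hj in
theorem mem_Hj_iff (H : Subgroup G) (a : (P : Subgroup G)) : j a ∈ Hj P j H ↔ (a : G) ∈ H := by
  unfold Hj
  rw [Subgroup.mem_map_iff_mem hj, Subgroup.mem_subgroupOf]

include hj hr in
/-- local analysis of the dihedral Sylow subgroup -/
theorem dih_local (H : Subgroup G) (hHP : H ≤ P) : IsPGroup 2 (MulAut H) ∨ IsKleinFour H := by
  have e := equivHj P j hj H hHP
  rcases h.sub_trichotomy (Hj P j H) with h1 | h1 | ⟨⟨e1⟩⟩
  · left; exact h1.of_equiv (MulAut.congr e.symm)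
  · right; exact Cfsg.Agent.S1203.isKleinFour_of_mulEquiv e
  · exact absurd (Hj_le P h j hr H) (h.quat_not_le_sub_two_zero _ e1)

include hj in
theorem dih_ktype_cases (H : Subgroup G) (hHP : H ≤ P) (hH : IsKleinFour H) :
    h.KType (Hj P j H) 0 ∨ h.KType (Hj P j H) 2 := by
  have e := equivHj P j hj H hHP
  have hK : IsKleinFour (Hj P j H) := Cfsg.Agent.S1203.isKleinFour_of_mulEquiv e.symm
  obtain ⟨h4, h2⟩ := Cfsg.Agent.S1190.klein_props _ hK
  exact h.ktype_cases _ h4 h2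

include hj hr in
theorem dih_ktype_conj (H H' : Subgroup G) (hHP : H ≤ P) (hHP' : H' ≤ P) (ε : ℤ)
    (hT : h.KType (Hj P j H) ε) (hT' : h.KType (Hj P j H') ε) :
    ∃ s ∈ (P : Subgroup G), H' = H.map (MulAut.conj s).toMonoidHom := by
  obtain ⟨i, hi⟩ := h.ktype_conj hT hT'
  have hmem : x ^ (2 * i) ∈ h.sub 2 0 (hdbε k 0) :=
    (h.x_mem_sub (two_dvd_8w k) _ _).mpr ⟨i, rfl⟩
  obtain ⟨s, hs⟩ := exists_preimage P h j hr _ hmem
  refine ⟨s, s.2, ?_⟩
  apply eq_map_conj_of_subgroupOf (P : Subgroup G) H H' hHP hHP' s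
  apply Subgroup.map_injective hj
  rw [map_conj_comm, hs]
  exact hi

include hj hr in
theorem dih_exists_normalizing (H : Subgroup G) (hHP : H ≤ P) (ε : ℤ)
    (hT : h.KType (Hj P j H) ε) :
    ∃ g ∈ (P : Subgroup G), g ∈ Subgroup.normalizer (H : Set G) ∧
      g ∉ Subgroup.centralizer (H : Set G) := by
  have hmem : x ^ (2 * 2 ^ k : ℤ) ∈ h.sub 2 0 (hdbε k 0) :=
    (h.x_mem_sub (two_dvd_8w k) _ _).mpr ⟨2 ^ k, rfl⟩
  obtain ⟨s, hs⟩ := exists_preimage P h j hr _ hmem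
  have hN := h.x2w_mem_normalizer hT
  have hC := h.x2w_notMem_centralizer hT
  refine ⟨s, s.2, ?_, ?_⟩
  · apply Cfsg.Agent.S1203.val_mem_normalizer _ H hHP s
    rw [Subgroup.mem_normalizer_iff]
    intro t
    have h1 := (Subgroup.mem_normalizer_iff.mp hN) (j t)
    rw [← hs, ← map_inv, ← map_mul, ← map_mul, mem_Hj_iff P j hj, mem_Hj_iff P j hj] at h1
    rw [Subgroup.mem_subgroupOf, Subgroup.mem_subgroupOf]
    exact h1
  · intro hc
    apply hC
    rw [Subgroup.mem_centralizer_iff]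
    rintro _ ⟨t, ht, rfl⟩
    have h1 := (Subgroup.mem_centralizer_iff.mp hc) (t : G) (Subgroup.mem_subgroupOf.mp ht)
    have h2 : t * s = s * t := Subtype.ext h1
    rw [← hs, ← map_mul, ← map_mul, h2]

/-- the two index two subgroups of `P` -/
def MG (ε : ℤ) : Subgroup G := ((h.sub 4 ε (hdb4 k ε)).comap j).map (P : Subgroup G).subtype

include hj in
theorem dih_ktype_le (H : Subgroup G) (hHP : H ≤ P) (ε : ℤ) (hT : h.KType (Hj P j H) ε) :
    H ≤ MG P h j ε := by
  intro a ha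
  refine ⟨⟨a, hHP ha⟩, ?_, rfl⟩
  rw [SetLike.mem_coe, Subgroup.mem_comap]
  apply h.ktype_le hT
  rw [mem_Hj_iff P j hj]
  exact ha

include hr in
theorem MG_index (ε : ℤ) (hε : (2 : ℤ) ∣ ε) : ((h.sub 4 ε (hdb4 k ε)).comap j).index = 2 := by
  have hmem : x ^ (2 : ℤ) ∈ h.sub 2 0 (hdbε k 0) :=
    (h.x_mem_sub (two_dvd_8w k) _ _).mpr (dvd_refl _)
  obtain ⟨ρ, hρ⟩ := exists_preimage P h j hr _ hmem
  rw [Subgroup.index_eq_two_iff_exists_notMem_and]
  refine ⟨ρ, ?_, ?_⟩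
  · rw [Subgroup.mem_comap, hρ]
    exact h.x_sq_notMem_sub_four ε
  · intro b
    have hb : j b ∈ h.sub 2 0 (hdbε k 0) := by rw [← hr]; exact ⟨b, rfl⟩
    rw [Subgroup.mem_comap, Subgroup.mem_comap, map_mul, hρ]
    exact h.sub_four_coset ε hε _ hb

theorem mem_MG_iff (ε : ℤ) (a : G) (ha : a ∈ (P : Subgroup G)) :
    a ∈ MG P h j ε ↔ j ⟨a, ha⟩ ∈ h.sub 4 ε (hdb4 k ε) := by
  unfold MG
  rw [mem_map_subtype_iff _ _ a ha, Subgroup.mem_comap]

include hj hr in
/-- representatives of the involutions -/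
theorem dih_invol_isConj (zP yP vP : (P : Subgroup G)) (hz : j zP = x ^ (4 * 2 ^ k : ℤ))
    (hy : j yP = x ^ (0 : ℤ) * y) (hv : j vP = x ^ (2 : ℤ) * y) (t : G) (ht : orderOf t = 2) :
    IsConj t (zP : G) ∨ IsConj t (yP : G) ∨ IsConj t (vP : G) := by
  have hf : Fact (Nat.Prime 2) := ⟨Nat.prime_two⟩
  obtain ⟨g, hg⟩ := exists_conj_mem_sylow P t 1 (by rw [ht, pow_one])
  have hconj : IsConj t (g * t * g⁻¹) := isConj_iff.mpr ⟨g, rfl⟩
  set τ : (P : Subgroup G) := ⟨g * t * g⁻¹, hg⟩ with hτ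
  have ht2 : t * t = 1 := by rw [← sq, ← ht]; exact pow_orderOf_eq_one t
  have ht1 : t ≠ 1 := by
    intro h1; rw [h1, orderOf_one] at ht; omega
  have hτ2 : τ * τ = 1 := by
    apply Subtype.ext
    show g * t * g⁻¹ * (g * t * g⁻¹) = 1
    have : g * t * g⁻¹ * (g * t * g⁻¹) = g * (t * t) * g⁻¹ := by group
    rw [this, ht2]; group
  have hτ1 : τ ≠ 1 := by
    intro h1
    have := congrArg Subtype.val h1
    apply ht1
    have e : g * t * g⁻¹ = 1 := this
    have : t = g⁻¹ * (g * t * g⁻¹) * g := by group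
    rw [this, e]; group
  have hjτ2 : j τ * j τ = 1 := by rw [← map_mul, hτ2, map_one]
  have hjτ1 : j τ ≠ 1 := fun h1 => hτ1 (hj (by rw [h1, map_one]))
  have hconjP : ∀ (rP : (P : Subgroup G)) (m : ℤ) (r : St), j rP = r →
      j τ = x ^ (2 * m) * r * (x ^ (2 * m))⁻¹ → IsConj t (rP : G) := by
    intro rP m r hrP hτr
    have hmem : x ^ (2 * m) ∈ h.sub 2 0 (hdbε k 0) :=
      (h.x_mem_sub (two_dvd_8w k) _ _).mpr ⟨m, rfl⟩
    obtain ⟨s, hs⟩ := exists_preimage P h j hr _ hmem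
    have h1 : τ = s * rP * s⁻¹ := by
      apply hj
      rw [map_mul, map_mul, map_inv, hs, hrP, hτr]
    have hc : IsConj rP τ := isConj_iff.mpr ⟨s, h1.symm⟩
    exact hconj.trans ((P : Subgroup G).subtype.map_isConj hc).symm
  rcases h.invol_sub_two_zero (j τ) hjτ2 hjτ1 with h1 | ⟨m, h1⟩ | ⟨m, h1⟩
  · left
    have : τ = zP := hj (by rw [h1, hz])
    rw [← this]; exact hconj
  · right; left; exact hconjP yP m _ hy h1
  · right; right; exact hconjP vP m _ hv h1

end Dih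

end Cfsg.Agent.Lib.Helper59
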