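import Mathlib
import Cfsg.Agent.Lib.Helper59.DihedralFusion

set_option autoImplicit false

namespace Cfsg.Agent.Lib.Helper59

open QD
open scoped commutatorElement

variable {G : Type*} [Group G]

theorem card_classes_eq_one' (m : ℕ) (r : G) (hr : orderOf r = m)
    (hall : ∀ t : G, orderOf t = m → IsConj t r) :
    Nat.card {C : ConjClasses G // ∃ g : G, ConjClasses.mk g = C ∧ orderOf g = m} = 1 := by
  rw [Nat.card_eq_one_iff_unique]
  constructor
  · constructor
    rintro ⟨C, t, rfl, ht⟩ ⟨C', t', rfl, ht'⟩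
    apply Subtype.ext
    show ConjClasses.mk t = ConjClasses.mk t'
    rw [ConjClasses.mk_eq_mk_iff_isConj]
    exact (hall t ht).trans (hall t' ht').symm
  · exact ⟨⟨ConjClasses.mk r, r, rfl, hr⟩⟩

theorem card_classes_eq_two' (m : ℕ) (r₁ r₂ : G) (h₁ : orderOf r₁ = m) (h₂ : orderOf r₂ = m)
    (hne : ¬ IsConj r₁ r₂) (hall : ∀ t : G, orderOf t = m → IsConj t r₁ ∨ IsConj t r₂) :
    Nat.card {C : ConjClasses G // ∃ g : G, ConjClasses.mk g = C ∧ orderOf g = m} = 2 := by
  rw [Nat.card_eq_two_iff]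
  refine ⟨⟨ConjClasses.mk r₁, r₁, rfl, h₁⟩, ⟨ConjClasses.mk r₂, r₂, rfl, h₂⟩, ?_, ?_⟩
  · intro h
    apply hne
    have := congrArg Subtype.val h
    exact ConjClasses.mk_eq_mk_iff_isConj.mp this
  · ext ⟨C, t, rfl, ht⟩
    simp only [Set.mem_insert_iff, Set.mem_singleton_iff, Set.mem_univ, iff_true]
    rcases hall t ht with h | h
    · left
      apply Subtype.ext
      exact ConjClasses.mk_eq_mk_iff_isConj.mpr h
    · right
      apply Subtype.ext
      exact ConjClasses.mk_eq_mk_iff_isConj.mpr h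

theorem card_classes_eq_three' (m : ℕ) (r₁ r₂ r₃ : G) (h₁ : orderOf r₁ = m) (h₂ : orderOf r₂ = m)
    (h₃ : orderOf r₃ = m) (h12 : ¬ IsConj r₁ r₂) (h13 : ¬ IsConj r₁ r₃) (h23 : ¬ IsConj r₂ r₃)
    (hall : ∀ t : G, orderOf t = m → IsConj t r₁ ∨ IsConj t r₂ ∨ IsConj t r₃) :
    Nat.card {C : ConjClasses G // ∃ g : G, ConjClasses.mk g = C ∧ orderOf g = m} = 3 := by
  let f : Fin 3 → {C : ConjClasses G // ∃ g : G, ConjClasses.mk g = C ∧ orderOf g = m} :=
    ![⟨ConjClasses.mk r₁, r₁, rfl, h₁⟩, ⟨ConjClasses.mk r₂, r₂, rfl, h₂⟩,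
      ⟨ConjClasses.mk r₃, r₃, rfl, h₃⟩]
  have hne : ∀ a b : G, ¬ IsConj a b → ConjClasses.mk a ≠ ConjClasses.mk b :=
    fun a b hab h => hab (ConjClasses.mk_eq_mk_iff_isConj.mp h)
  have hinj : Function.Injective f := by
    intro a b hab
    have hab' := congrArg Subtype.val hab
    fin_cases a <;> fin_cases b <;> first | rfl | (exfalso; revert hab'; simp [f]) 
    · exact hne _ _ h12
    · exact hne _ _ h13
    · exact fun h => hne _ _ h12 h.symm
    · exact hne _ _ h23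
    · exact fun h => hne _ _ h13 h.symm
    · exact fun h => hne _ _ h23 h.symm
  have hsurj : Function.Surjective f := by
    rintro ⟨C, t, rfl, ht⟩
    rcases hall t ht with h | h | h
    · exact ⟨0, Subtype.ext (ConjClasses.mk_eq_mk_iff_isConj.mpr h.symm)⟩
    · exact ⟨1, Subtype.ext (ConjClasses.mk_eq_mk_iff_isConj.mpr h.symm)⟩
    · exact ⟨2, Subtype.ext (ConjClasses.mk_eq_mk_iff_isConj.mpr h.symm)⟩
  rw [← Nat.card_eq_of_bijective f ⟨hinj, hsurj⟩, Nat.card_fin]

section Dih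

variable [Finite G] (P : Sylow 2 G) {St : Type*} [Group St] [Finite St] {k : ℕ} {x y : St}
  (h : QD St k x y) (j : (P : Subgroup G) →* St) (hj : Function.Injective j)
  (hr : j.range = h.sub 2 0 (hdbε k 0))

include hj hr in
/-- some four-group of type `ε` has automizer of order six, or all of them are `P`-controlled -/
theorem dih_type_dichotomy (ε : ℤ) :
    (∃ H : Subgroup G, H ≤ P ∧ IsKleinFour H ∧ h.KType (Hj P j H) ε ∧
      (Subgroup.centralizer (H : Set G)).relIndex (Subgroup.normalizer (H : Set G)) = 6) ∨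
    (∀ H : Subgroup G, H ≤ P → IsKleinFour H → h.KType (Hj P j H) ε →
      SCtrl (P : Subgroup G) H) := by
  by_cases hex : ∃ H : Subgroup G, H ≤ P ∧ IsKleinFour H ∧ h.KType (Hj P j H) ε ∧
      (Subgroup.centralizer (H : Set G)).relIndex (Subgroup.normalizer (H : Set G)) = 6
  · left; exact hex
  · right
    intro H hHP hHK hT
    obtain ⟨g, hgP, hgN, hgC⟩ := dih_exists_normalizing P h j hj hr H hHP ε hT
    obtain ⟨m, hm⟩ := P.isPGroup' ⟨g, hgP⟩
    have hg : g ^ (2 ^ m) = 1 := by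
      have := congrArg Subtype.val hm
      simpa using this
    rcases automizer_klein_two_or_six H hHK g m hg hgN hgC with h2 | h6
    · exact sctrl_of_relIndex_two _ H g hgP hgN hgC h2
    · exact absurd ⟨H, hHP, hHK, hT, h6⟩ hex

include hj hr in
theorem dih_conj_of_six (ε : ℤ) (zP rP : (P : Subgroup G)) (hz : j zP = x ^ (4 * 2 ^ k : ℤ))
    (hrP : j rP = x ^ ε * y) (H : Subgroup G) (_hHP : H ≤ P) (hHK : IsKleinFour H)
    (hT : h.KType (Hj P j H) ε)
    (h6 : (Subgroup.centralizer (H : Set G)).relIndex (Subgroup.normalizer (H : Set G)) = 6) :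
    IsConj (zP : G) (rP : G) := by
  obtain ⟨b, ⟨i, hi⟩, hx, hy⟩ := hT
  have hzH : (zP : G) ∈ H := by
    rw [← mem_Hj_iff P j hj, hz]; exact (hx _).mpr dvd_rfl
  have hbm : x ^ b * y ∈ Hj P j H := (hy b).mpr (by simp)
  obtain ⟨u, hu, hju⟩ := Subgroup.mem_map.mp hbm
  have huH : (u : G) ∈ H := Subgroup.mem_subgroupOf.mp hu
  have hz1 : (zP : G) ≠ 1 := by
    intro h1
    have : zP = 1 := Subtype.ext h1
    rw [this, map_one] at hz
    exact h.z_ne_one hz.symm
  have hu1 : (u : G) ≠ 1 := by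
    intro h1
    have : u = 1 := Subtype.ext h1
    rw [this, map_one] at hju
    exact h.xy_ne_x b 0 (by rw [← hju, zpow_zero])
  have hc1 : IsConj (zP : G) (u : G) := klein_isConj_of_six H hHK h6 _ _ hzH huH hz1 hu1
  have hmem : x ^ (2 * i) ∈ h.sub 2 0 (hdbε k 0) :=
    (h.x_mem_sub (two_dvd_8w k) _ _).mpr ⟨i, rfl⟩
  obtain ⟨s, hs⟩ := exists_preimage P h j hr _ hmem
  have h1 : u = s * rP * s⁻¹ := by
    apply hj
    rw [map_mul, map_mul, map_inv, hs, hrP, hju, h.conj_xy_by_x2]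
    congr 2; linarith
  have hc2 : IsConj rP u := isConj_iff.mpr ⟨s, h1.symm⟩
  exact hc1.trans ((P : Subgroup G).subtype.map_isConj hc2).symm

include hj hr in
theorem dih_fusion_MG (ε ε' : ℤ) (hε : (2 : ℤ) ∣ ε)
    (hcases : ∀ H : Subgroup G, H ≤ P → IsKleinFour H →
      h.KType (Hj P j H) ε ∨ h.KType (Hj P j H) ε')
    (hB : ∀ H : Subgroup G, H ≤ P → IsKleinFour H → h.KType (Hj P j H) ε' →
      SCtrl (P : Subgroup G) H)
    (a : G) (ha : a ∈ (P : Subgroup G)) (g : G) (hag : g⁻¹ * a * g ∈ (P : Subgroup G)) :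
    (a ∈ MG P h j ε ↔ g⁻¹ * a * g ∈ MG P h j ε) := by
  have hf2 : Fact (Nat.Prime 2) := ⟨Nat.prime_two⟩
  refine fusion_induction_of_local P (fun a b => (a ∈ MG P h j ε ↔ b ∈ MG P h j ε))
    (fun a => Iff.rfl) (fun a b c h1 h2 => h1.trans h2) ?_ ?_ a g ha hag
  · intro a ha s hs
    have hsa : s * a * s⁻¹ ∈ (P : Subgroup G) :=
      Subgroup.mul_mem _ (Subgroup.mul_mem _ hs ha) (Subgroup.inv_mem _ hs)
    unfold MG
    rw [mem_map_subtype_iff _ _ a ha, mem_map_subtype_iff _ _ _ hsa]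
    exact (conj_mem_iff_of_index_two _ (MG_index P h j hr ε hε) ⟨s, hs⟩ ⟨a, ha⟩).symm
  · intro H hHP
    rcases dih_local P h j hj hr H hHP with h1 | hK
    · left; exact h1
    · right
      rcases hcases H hHP hK with hT | hT
      · right
        intro a ha b hb _
        have hle := dih_ktype_le P h j hj H hHP ε hT
        exact ⟨fun _ => hle hb, fun _ => hle ha⟩
      · left; exact hB H hHP hK hT

include hj hr in
/-- the focal subgroup in the mixed case -/
theorem dih_focal_eq (ε ε' : ℤ) (hε : (2 : ℤ) ∣ ε)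
    (hcases : ∀ H : Subgroup G, H ≤ P → IsKleinFour H →
      h.KType (Hj P j H) ε ∨ h.KType (Hj P j H) ε')
    (hB : ∀ H : Subgroup G, H ≤ P → IsKleinFour H → h.KType (Hj P j H) ε' →
      SCtrl (P : Subgroup G) H)
    (zP rP : (P : Subgroup G)) (hz : j zP = x ^ (4 * 2 ^ k : ℤ)) (hrP : j rP = x ^ ε * y)
    (hconj : IsConj (zP : G) (rP : G)) :
    Subgroup.focalSubgroup (P : Subgroup G) = MG P h j ε := by
  have hidx := MG_index P h j hr ε hε
  apply le_antisymm
  · rw [Subgroup.focalSubgroup_def, Subgroup.closure_le]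
    rintro g ⟨hgS, a, haS, u, rfl⟩
    have hb : u * a * u⁻¹ ∈ (P : Subgroup G) := by
      have h1 : a⁻¹ * ⁅a, u⁆ ∈ (P : Subgroup G) :=
        (P : Subgroup G).mul_mem ((P : Subgroup G).inv_mem haS) hgS
      have h2 : u * a * u⁻¹ = (a⁻¹ * ⁅a, u⁆)⁻¹ := by rw [commutatorElement_def]; group
      rw [h2]; exact (P : Subgroup G).inv_mem h1
    have h3 := dih_fusion_MG P h j hj hr ε ε' hε hcases hB a haS u⁻¹ (by rw [inv_inv]; exact hb)
    rw [inv_inv] at h3
    unfold MG at h3 ⊢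
    rw [mem_map_subtype_iff _ _ a haS, mem_map_subtype_iff _ _ _ hb] at h3
    rw [SetLike.mem_coe, mem_map_subtype_iff _ _ _ hgS]
    have e : (⟨⁅a, u⁆, hgS⟩ : (P : Subgroup G)) =
        (⟨a, haS⟩ : (P : Subgroup G)) * (⟨u * a * u⁻¹, hb⟩ : (P : Subgroup G))⁻¹ := by
      apply Subtype.ext
      show ⁅a, u⁆ = a * (u * a * u⁻¹)⁻¹
      rw [commutatorElement_def]
      group
    rw [e, Subgroup.mul_mem_iff_of_index_two hidx, Subgroup.inv_mem_iff]
    exact h3
  · -- generators of `M_ε`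
    have hmem2 : x ^ (2 : ℤ) ∈ h.sub 2 0 (hdbε k 0) :=
      (h.x_mem_sub (two_dvd_8w k) _ _).mpr (dvd_refl _)
    have hmemy : x ^ (0 : ℤ) * y ∈ h.sub 2 0 (hdbε k 0) :=
      (h.xy_mem_sub (two_dvd_8w k) _ _).mpr (by simp)
    obtain ⟨ρ, hρ⟩ := exists_preimage P h j hr _ hmem2
    obtain ⟨yP, hyP⟩ := exists_preimage P h j hr _ hmemy
    set F := Subgroup.focalSubgroupOf (P : Subgroup G) with hF
    -- `j⁻¹(x⁴)` is a commutator
    have hx4 : ∀ c : (P : Subgroup G), j c = x ^ (4 : ℤ) → c ∈ F := by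
      intro c hc
      have h1 : c = ⁅ρ, yP⁆ := by
        apply hj
        rw [hc, map_commutatorElement, hρ, hyP, commutatorElement_def, zpow_zero, one_mul]
        have := h.conj_zpow (-2)
        have e : x ^ (2 : ℤ) * y * (x ^ (2 : ℤ))⁻¹ * y⁻¹ = x ^ (2 : ℤ) * (y * x ^ (-2 : ℤ) * y⁻¹) := by
          rw [zpow_neg]; group
        rw [e, this, ← zpow_add, h.zpow_eq_zpow]
        exact ⟨1, by ring⟩
      rw [h1]
      apply Subgroup.commutator_le_focalSubgroupOf
      rw [commutator_def]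
      exact Subgroup.commutator_mem_commutator (Subgroup.mem_top _) (Subgroup.mem_top _)
    have hmem4 : x ^ (4 : ℤ) ∈ h.sub 2 0 (hdbε k 0) :=
      (h.x_mem_sub (two_dvd_8w k) _ _).mpr ⟨2, by ring⟩
    obtain ⟨c4, hc4⟩ := exists_preimage P h j hr _ hmem4
    have hc4F := hx4 c4 hc4
    have hzF : zP ∈ F := by
      have : zP = c4 ^ (2 ^ k : ℤ) := by
        apply hj
        rw [map_zpow, hc4, hz, ← zpow_mul]
      rw [this]; exact F.zpow_mem hc4F _
    have hrF : rP ∈ F := by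
      obtain ⟨n, hn⟩ := isConj_iff.mp hconj
      have h1 : (zP : G) * (rP : G)⁻¹ ∈ Subgroup.focalSubgroup (P : Subgroup G) := by
        apply Subgroup.subset_closure
        refine ⟨(P : Subgroup G).mul_mem zP.2 ((P : Subgroup G).inv_mem rP.2), zP, zP.2, n, ?_⟩
        rw [commutatorElement_def, ← hn]; group
      have h2 : zP * rP⁻¹ ∈ F := by
        rw [hF, Subgroup.focalSubgroupOf_def, Subgroup.mem_subgroupOf]
        exact h1
      have := F.mul_mem (F.inv_mem h2) hzF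
      have e : (zP * rP⁻¹)⁻¹ * zP = rP := by group
      rwa [e] at this
    intro a ha
    have haP : a ∈ (P : Subgroup G) := Subgroup.map_subtype_le _ ha
    rw [mem_MG_iff P h j ε a haP] at ha
    have key : (⟨a, haP⟩ : (P : Subgroup G)) ∈ F := by
      rcases (h.mem_sub _ _).mp ha with ⟨c, ⟨i, rfl⟩, hc⟩ | ⟨c, ⟨i, hi⟩, hc⟩
      · have : (⟨a, haP⟩ : (P : Subgroup G)) = c4 ^ i := by
          apply hj
          rw [hc, map_zpow, hc4, ← zpow_mul]
        rw [this]; exact F.zpow_mem hc4F _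
      · have : (⟨a, haP⟩ : (P : Subgroup G)) = c4 ^ i * rP := by
          apply hj
          rw [hc, map_mul, map_zpow, hc4, hrP, ← zpow_mul, ← mul_assoc, ← zpow_add]
          congr 2; linarith
        rw [this]; exact F.mul_mem (F.zpow_mem hc4F _) hrF
    rw [hF, Subgroup.focalSubgroupOf_def, Subgroup.mem_subgroupOf] at key
    exact key

end Dih

end Cfsg.Agent.Lib.Helper59
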