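import Mathlib
import Cfsg.Agent.Lib.Helper59.DihedralTrichotomy

set_option autoImplicit false

namespace Cfsg.Agent.Lib.Helper59

open QD
open scoped commutatorElement

variable {G : Type*} [Group G]

section Dih

variable [Finite G] (P : Sylow 2 G) {St : Type*} [Group St] [Finite St] {k : ℕ} {x y : St}
  (h : QD St k x y) (j : (P : Subgroup G) →* St) (hj : Function.Injective j)
  (hr : j.range = h.sub 2 0 (hdbε k 0))

/-- separation of classes by a fusion-invariant subgroup -/
theorem not_isConj_of_pres (M : Subgroup G)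
    (hp : ∀ a ∈ (P : Subgroup G), ∀ g : G, g⁻¹ * a * g ∈ (P : Subgroup G) →
      (a ∈ M ↔ g⁻¹ * a * g ∈ M))
    (a b : G) (haP : a ∈ (P : Subgroup G)) (hbP : b ∈ (P : Subgroup G)) (ha : a ∈ M)
    (hb : b ∉ M) : ¬ IsConj a b := by
  intro hc
  obtain ⟨c, hc⟩ := isConj_iff.mp hc
  have h1 := hp a haP c⁻¹ (by rw [inv_inv, hc]; exact hbP)
  rw [inv_inv, hc] at h1
  exact hb (h1.mp ha)

theorem MG_relIndex (ε : ℤ) (h2 : ((h.sub 4 ε (hdb4 k ε)).comap j).index = 2) :
    (MG P h j ε).relIndex (P : Subgroup G) = 2 := by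
  unfold MG
  rw [Subgroup.relIndex, Subgroup.subgroupOf,
    Subgroup.comap_map_eq_self_of_injective (P : Subgroup G).subtype_injective]
  exact h2

include hj hr in
/-- The trichotomy for groups with dihedral Sylow `2`-subgroups of order at least `8`. -/
theorem dihedral_trichotomy :
    (Nat.card {C : ConjClasses G // ∃ g : G, ConjClasses.mk g = C ∧ orderOf g = 2} = 1 ∧
      ∀ N : Subgroup G, N.Normal → N.index ≠ 2) ∨
    (Nat.card {C : ConjClasses G // ∃ g : G, ConjClasses.mk g = C ∧ orderOf g = 2} = 2 ∧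
      (∃ N : Subgroup G, N.Normal ∧ N.index = 2) ∧ ∀ N : Subgroup G, N.Normal → N.index ≠ 4) ∨
    (Nat.card {C : ConjClasses G // ∃ g : G, ConjClasses.mk g = C ∧ orderOf g = 2} = 3 ∧
      Cfsg.HasNormalPComplement 2 G) := by
  have hf2 : Fact (Nat.Prime 2) := ⟨Nat.prime_two⟩
  have hd8 := two_dvd_8w k
  have hd84 := four_dvd_8w k
  -- representatives
  obtain ⟨zP, hz⟩ := exists_preimage P h j hr (x ^ (4 * 2 ^ k : ℤ))
    ((h.x_mem_sub hd8 _ _).mpr ⟨2 * 2 ^ k, by ring⟩)
  obtain ⟨yP, hy⟩ := exists_preimage P h j hr (x ^ (0 : ℤ) * y)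
    ((h.xy_mem_sub hd8 _ _).mpr (by simp))
  obtain ⟨vP, hv⟩ := exists_preimage P h j hr (x ^ (2 : ℤ) * y)
    ((h.xy_mem_sub hd8 _ _).mpr (by simp))
  obtain ⟨ρ, hρ⟩ := exists_preimage P h j hr (x ^ (2 : ℤ))
    ((h.x_mem_sub hd8 _ _).mpr (dvd_refl _))
  obtain ⟨w₀, hw₀⟩ := exists_preimage P h j hr (x ^ (2 * 2 ^ k : ℤ))
    ((h.x_mem_sub hd8 _ _).mpr ⟨2 ^ k, rfl⟩)
  have hoz : orderOf (zP : G) = 2 := by
    rw [Subgroup.orderOf_coe, ← orderOf_injective j hj, hz]
    apply orderOf_eq_prime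
    · rw [sq]; exact h.z_sq
    · exact h.z_ne_one
  have hoy : orderOf (yP : G) = 2 := by
    rw [Subgroup.orderOf_coe, ← orderOf_injective j hj, hy, zpow_zero, one_mul]
    exact h.hy
  have hov : orderOf (vP : G) = 2 := by
    rw [Subgroup.orderOf_coe, ← orderOf_injective j hj, hv]
    exact h.orderOf_x_sq_y
  have hall := dih_invol_isConj P h j hj hr zP yP vP hz hy hv
  have hc02 : ∀ H : Subgroup G, H ≤ P → IsKleinFour H →
      h.KType (Hj P j H) 0 ∨ h.KType (Hj P j H) 2 :=
    fun H hHP hK => dih_ktype_cases P h j hj H hHP hK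
  have hc20 : ∀ H : Subgroup G, H ≤ P → IsKleinFour H →
      h.KType (Hj P j H) 2 ∨ h.KType (Hj P j H) 0 :=
    fun H hHP hK => (hc02 H hHP hK).symm
  -- membership of the representatives
  have hz0 : (zP : G) ∈ MG P h j 0 := by
    rw [mem_MG_iff P h j 0 _ zP.2, hz, h.x_mem_sub hd84]; exact ⟨2 ^ k, by ring⟩
  have hz2 : (zP : G) ∈ MG P h j 2 := by
    rw [mem_MG_iff P h j 2 _ zP.2, hz, h.x_mem_sub hd84]; exact ⟨2 ^ k, by ring⟩
  have hy0 : (yP : G) ∈ MG P h j 0 := by
    rw [mem_MG_iff P h j 0 _ yP.2, hy, h.xy_mem_sub hd84]; simp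
  have hy2 : (yP : G) ∉ MG P h j 2 := by
    rw [mem_MG_iff P h j 2 _ yP.2, hy, h.xy_mem_sub hd84]; norm_num
  have hv2 : (vP : G) ∈ MG P h j 2 := by
    rw [mem_MG_iff P h j 2 _ vP.2, hv, h.xy_mem_sub hd84]; simp
  have hv0 : (vP : G) ∉ MG P h j 0 := by
    rw [mem_MG_iff P h j 0 _ vP.2, hv, h.xy_mem_sub hd84]; norm_num
  rcases dih_type_dichotomy P h j hj hr 0 with ⟨H₀, hH₀P, hH₀K, hH₀T, hH₀6⟩ | hB0 <;>
  rcases dih_type_dichotomy P h j hj hr 2 with ⟨H₂, hH₂P, hH₂K, hH₂T, hH₂6⟩ | hB2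
  · -- one class
    left
    have hzy := dih_conj_of_six P h j hj hr 0 zP yP hz hy H₀ hH₀P hH₀K hH₀T hH₀6
    have hzv := dih_conj_of_six P h j hj hr 2 zP vP hz hv H₂ hH₂P hH₂K hH₂T hH₂6
    refine ⟨?_, ?_⟩
    · apply card_classes_eq_one' 2 _ hoz
      intro t ht
      rcases hall t ht with h1 | h1 | h1
      · exact h1
      · exact h1.trans hzy.symm
      · exact h1.trans hzv.symm
    · intro N _ h2
      apply index_ne_two_of_sylow_le P N _ h2
      have hzN : (zP : G) ∈ N := by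
        have : zP = w₀ * w₀ := by
          apply hj
          rw [map_mul, hw₀, hz, ← zpow_add]; congr 1; ring
        rw [this, Subgroup.coe_mul]
        exact Subgroup.mul_self_mem_of_index_two h2 _
      have hyN : (yP : G) ∈ N := by
        obtain ⟨c, hc⟩ := isConj_iff.mp hzy
        rw [← hc, conj_mem_iff_of_index_two N h2]; exact hzN
      have hvN : (vP : G) ∈ N := by
        obtain ⟨c, hc⟩ := isConj_iff.mp hzv
        rw [← hc, conj_mem_iff_of_index_two N h2]; exact hzN
      have hρN : (ρ : G) ∈ N := by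
        have : ρ = vP * yP⁻¹ := by
          apply hj
          rw [map_mul, map_inv, hρ, hv, hy, zpow_zero, one_mul, mul_inv_cancel_right]
        rw [this, Subgroup.coe_mul, Subgroup.coe_inv]
        exact N.mul_mem hvN (N.inv_mem hyN)
      intro a ha
      have hja : j ⟨a, ha⟩ ∈ h.sub 2 0 (hdbε k 0) := by rw [← hr]; exact ⟨_, rfl⟩
      rcases (h.mem_sub _ _).mp hja with ⟨c, ⟨i, rfl⟩, hc⟩ | ⟨c, ⟨i, hi⟩, hc⟩
      · have : (⟨a, ha⟩ : (P : Subgroup G)) = ρ ^ i := by
          apply hj; rw [hc, map_zpow, hρ, ← zpow_mul]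
        have h1 := congrArg Subtype.val this
        rw [Subgroup.coe_zpow] at h1
        rw [show a = ((⟨a, ha⟩ : (P : Subgroup G)) : G) from rfl, h1]
        exact N.zpow_mem hρN i
      · have : (⟨a, ha⟩ : (P : Subgroup G)) = ρ ^ i * yP := by
          apply hj
          rw [hc, map_mul, map_zpow, hρ, hy, ← zpow_mul, zpow_zero, one_mul]
          congr 2; linarith
        have h1 := congrArg Subtype.val this
        rw [Subgroup.coe_mul, Subgroup.coe_zpow] at h1
        rw [show a = ((⟨a, ha⟩ : (P : Subgroup G)) : G) from rfl, h1]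
        exact N.mul_mem (N.zpow_mem hρN i) hyN
  · -- type 0 fused, type 2 controlled
    right; left
    have hzy := dih_conj_of_six P h j hj hr 0 zP yP hz hy H₀ hH₀P hH₀K hH₀T hH₀6
    have hp := dih_fusion_MG P h j hj hr 0 2 (dvd_zero _) hc02 hB2
    have hfoc := dih_focal_eq P h j hj hr 0 2 (dvd_zero _) hc02 hB2 zP yP hz hy hzy
    have hri := MG_relIndex P h j 0 (MG_index P h j hr 0 (dvd_zero _))
    refine ⟨?_, ?_, ?_⟩
    · apply card_classes_eq_two' 2 _ _ hoz hov
        (not_isConj_of_pres P _ hp _ _ zP.2 vP.2 hz0 hv0)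
      intro t ht
      rcases hall t ht with h1 | h1 | h1
      · left; exact h1
      · left; exact h1.trans hzy.symm
      · right; exact h1
    · obtain ⟨N, hN, hNi⟩ := exists_normal_index_eq P _ hfoc
      exact ⟨N, hN, by rw [hNi, hri]⟩
    · exact fun N hN => no_normal_index_four P _ hfoc hri N hN
  · -- type 2 fused, type 0 controlled
    right; left
    have hzv := dih_conj_of_six P h j hj hr 2 zP vP hz hv H₂ hH₂P hH₂K hH₂T hH₂6
    have hp := dih_fusion_MG P h j hj hr 2 0 (dvd_refl _) hc20 hB0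
    have hfoc := dih_focal_eq P h j hj hr 2 0 (dvd_refl _) hc20 hB0 zP vP hz hv hzv
    have hri := MG_relIndex P h j 2 (MG_index P h j hr 2 (dvd_refl _))
    refine ⟨?_, ?_, ?_⟩
    · apply card_classes_eq_two' 2 _ _ hoz hoy
        (not_isConj_of_pres P _ hp _ _ zP.2 yP.2 hz2 hy2)
      intro t ht
      rcases hall t ht with h1 | h1 | h1
      · left; exact h1
      · right; exact h1
      · left; exact h1.trans hzv.symm
    · obtain ⟨N, hN, hNi⟩ := exists_normal_index_eq P _ hfoc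
      exact ⟨N, hN, by rw [hNi, hri]⟩
    · exact fun N hN => no_normal_index_four P _ hfoc hri N hN
  · -- everything controlled
    right; right
    have hp0 := dih_fusion_MG P h j hj hr 0 2 (dvd_zero _) hc02 hB2
    have hp2 := dih_fusion_MG P h j hj hr 2 0 (dvd_refl _) hc20 hB0
    refine ⟨?_, ?_⟩
    · apply card_classes_eq_three' 2 _ _ _ hoz hoy hov
        (not_isConj_of_pres P _ hp2 _ _ zP.2 yP.2 hz2 hy2)
        (not_isConj_of_pres P _ hp0 _ _ zP.2 vP.2 hz0 hv0)
        (not_isConj_of_pres P _ hp0 _ _ yP.2 vP.2 hy0 hv0) hall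
    · apply hasNormalPComplement_of_control P
      intro a ha g hag
      have := fusion_induction_of_local P (fun a b => ∃ s ∈ (P : Subgroup G), b = s * a * s⁻¹)
        (fun a => ⟨1, Subgroup.one_mem _, by group⟩)
        (by
          rintro a b c ⟨s, hs, rfl⟩ ⟨s', hs', rfl⟩
          exact ⟨s' * s, Subgroup.mul_mem _ hs' hs, by group⟩)
        (fun a _ s hs => ⟨s, hs, rfl⟩)
        (by
          intro H hHP
          rcases dih_local P h j hj hr H hHP with h1 | hK
          · left; exact h1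
          · right; left
            rcases hc02 H hHP hK with hT | hT
            · exact hB0 H hHP hK hT
            · exact hB2 H hHP hK hT) a g ha hag
      obtain ⟨s, hs, hsa⟩ := this
      exact ⟨s⁻¹, Subgroup.inv_mem _ hs, by rw [hsa, inv_inv]⟩

end Dih

end Cfsg.Agent.Lib.Helper59
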