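import Mathlib
import Cfsg.Agent.Lib.Helper59.QuasiDihedral
import Cfsg.Agent.Lib.Helper59.QuaternionIso

set_option autoImplicit false

namespace Cfsg.Agent.Lib.Helper59

/-- the cyclic group of order `2^(k+3)` -/
abbrev QDN (k : ℕ) := Multiplicative (ZMod (2 ^ (k + 3)))

theorem qd_twist_sq (k : ℕ) (g : QDN k) :
    (g ^ (2 ^ (k + 2) - 1)) ^ (2 ^ (k + 2) - 1) = g := by
  rw [← pow_mul]
  have h1 : (2 ^ (k + 2) - 1) * (2 ^ (k + 2) - 1) = 2 ^ (k + 3) * (2 ^ (k + 1) - 1) + 1 := by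
    have h2 : 1 ≤ 2 ^ (k + 1) := Nat.one_le_two_pow
    obtain ⟨t, ht⟩ : ∃ t, 2 ^ (k + 1) = t + 1 := ⟨2 ^ (k + 1) - 1, by omega⟩
    have e2 : 2 ^ (k + 2) = 2 * t + 2 := by rw [pow_succ, ht]; ring
    have e3 : 2 ^ (k + 3) = 4 * t + 4 := by rw [pow_succ, e2]; ring
    rw [e2, e3, ht]
    have : 2 * t + 2 - 1 = 2 * t + 1 := by omega
    rw [this, Nat.add_sub_cancel]
    ring
  rw [h1, pow_succ, pow_mul]
  have h3 : g ^ 2 ^ (k + 3) = 1 := by
    have := pow_card_eq_one' (G := QDN k) (x := g)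
    rwa [Nat.card_congr Multiplicative.toAdd, Nat.card_zmod] at this
  rw [h3, one_pow, one_mul]

/-- the twisting automorphism `g ↦ g^(2^(k+2) - 1)` -/
def qdTwist (k : ℕ) : MulAut (QDN k) :=
  MonoidHom.toMulEquiv (powMonoidHom (2 ^ (k + 2) - 1)) (powMonoidHom (2 ^ (k + 2) - 1))
    (by ext g; exact qd_twist_sq k g) (by ext g; exact qd_twist_sq k g)

theorem qdTwist_apply (k : ℕ) (g : QDN k) : qdTwist k g = g ^ (2 ^ (k + 2) - 1) := rfl

theorem qdTwist_sq (k : ℕ) : qdTwist k ^ 2 = 1 := by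
  ext g
  rw [sq, MulAut.mul_apply, qdTwist_apply, qdTwist_apply, MulAut.one_apply]
  exact qd_twist_sq k g

/-- the action of `Z/2` -/
noncomputable def qdPhi (k : ℕ) : Multiplicative (ZMod 2) →* MulAut (QDN k) :=
  MonoidHom.mk' (fun g => zpw 2 (qdTwist k) (Multiplicative.toAdd g))
    (fun a b => zpw_add (qdTwist k) (qdTwist_sq k) _ _)

/-- the model of the quasi-dihedral group of order `2^(k+4)` -/
abbrev QDModel (k : ℕ) := QDN k ⋊[qdPhi k] Multiplicative (ZMod 2)

theorem qdModel_QD (k : ℕ) :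
    QD (QDModel k) k (SemidirectProduct.inl (Multiplicative.ofAdd 1))
      (SemidirectProduct.inr (Multiplicative.ofAdd 1)) where
  card := by
    rw [SemidirectProduct.card, Nat.card_congr Multiplicative.toAdd, Nat.card_zmod,
      Nat.card_congr Multiplicative.toAdd, Nat.card_zmod]
    ring
  hx := by
    rw [orderOf_injective (SemidirectProduct.inl : QDN k →* QDModel k)
      SemidirectProduct.inl_injective, orderOf_ofAdd_eq_addOrderOf, ZMod.addOrderOf_one]
  hy := by
    rw [orderOf_injective (SemidirectProduct.inr : Multiplicative (ZMod 2) →* QDModel k)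
      SemidirectProduct.inr_injective, orderOf_ofAdd_eq_addOrderOf, ZMod.addOrderOf_one]
  hxy := by
    rw [← map_inv, ← SemidirectProduct.inl_aut, ← map_pow]
    congr 1

instance (k : ℕ) : Finite (QDModel k) :=
  Nat.finite_of_card_ne_zero (by rw [(qdModel_QD k).card]; positivity)

end Cfsg.Agent.Lib.Helper59
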