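import Mathlib
import Cfsg.Agent.Lib.Helper59.DihedralMain
import Cfsg.Agent.Lib.Helper59.QDModel
import Cfsg.Agent.Lib.Helper12.FourGroup
import Cfsg.Agent.Lib.Helper06.KleinSylow

set_option autoImplicit false

namespace Cfsg.Agent.Lib.Helper59

open QD
open Cfsg.Agent.Lib.Helper12

variable {G : Type*} [Group G]

/-- all nonidentity elements of a four-group with automizer of order three are conjugate -/
theorem klein_isConj_of_three (T : Subgroup G) (hT : IsKleinFour T)
    (h₁ : (Subgroup.centralizer (T : Set G)).relIndex (Subgroup.normalizer (T : Set G)) = 3)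
    (a b : G) (ha : a ∈ T) (hb : b ∈ T) (ha1 : a ≠ 1) (hb1 : b ≠ 1) : IsConj a b := by
  obtain ⟨φ, hφ⟩ := klein_trans T ⟨a, ha⟩ ⟨b, hb⟩
    (fun h => ha1 (congrArg Subtype.val h)) (fun h => hb1 (congrArg Subtype.val h))
  have : Finite T := IsKleinFour.instFinite
  have : Finite (MulAut T) := Nat.finite_of_card_ne_zero (by rw [card_mulAut_klein T]; norm_num)
  have hr : Nat.card T.normalizerMonoidHom.range = 3 := by
    rw [← relIndex_centralizer_normalizer, h₁]
  have hidx : T.normalizerMonoidHom.range.index = 2 := by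
    have h1 := T.normalizerMonoidHom.range.card_mul_index
    rw [hr, card_mulAut_klein T] at h1
    omega
  have hmem : φ * φ ∈ T.normalizerMonoidHom.range := Subgroup.mul_self_mem_of_index_two hidx φ
  obtain ⟨n, hn⟩ := hmem
  rw [isConj_iff]
  refine ⟨n, ?_⟩
  have h2 : ((T.normalizerMonoidHom n) ⟨a, ha⟩ : G) = (n : G) * a * (n : G)⁻¹ := rfl
  rw [← h2, hn, MulAut.mul_apply, hφ]

/-- if all involutions are conjugate and two distinct involutions commute, no involution is
isolated -/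
theorem not_isolated_of_all_conj
    (hall : ∀ a b : G, orderOf a = 2 → orderOf b = 2 → IsConj a b)
    (a b : G) (ha : orderOf a = 2) (hb : orderOf b = 2) (hab : a * b = b * a) (hne : a ≠ b)
    (z : G) : ¬ Cfsg.IsIsolatedInvolution z := by
  rintro ⟨hz, hiso⟩
  obtain ⟨c, hc⟩ := isConj_iff.mp (hall z a hz ha)
  obtain ⟨d, hd⟩ := isConj_iff.mp (hall z b hz hb)
  have h1 := hiso (c⁻¹ * d) (by
    have e : c⁻¹ * d * z * (c⁻¹ * d)⁻¹ = c⁻¹ * b * c := by rw [← hd]; group
    rw [e]
    have hz' : z = c⁻¹ * a * c := by rw [← hc]; group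
    show z * (c⁻¹ * b * c) = c⁻¹ * b * c * z
    rw [hz']
    calc c⁻¹ * a * c * (c⁻¹ * b * c) = c⁻¹ * (a * b) * c := by group
      _ = c⁻¹ * (b * a) * c := by rw [hab]
      _ = c⁻¹ * b * c * (c⁻¹ * a * c) := by group)
  have e : c⁻¹ * d * z * (c⁻¹ * d)⁻¹ = c⁻¹ * b * c := by rw [← hd]; group
  rw [e] at h1
  apply hne
  rw [← hc, ← h1]; group

/-- a normal `2`-complement in a group of even order gives a subgroup of index two -/
theorem exists_index_two_of_normalPComplement [Finite G] (hc : Cfsg.HasNormalPComplement 2 G)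
    (h2 : 2 ∣ Nat.card G) : ∃ H : Subgroup G, H.index = 2 := by
  have hf2 : Fact (Nat.Prime 2) := ⟨Nat.prime_two⟩
  obtain ⟨Q, N, hN, hcompl⟩ := hc
  have hcard : Nat.card N * Nat.card Q = Nat.card G := hcompl.card_mul_card
  have hidx : N.index = Nat.card Q := by
    have h1 := N.card_mul_index
    have hpos : 0 < Nat.card N := Nat.card_pos
    rw [← hcard] at h1
    exact Nat.eq_of_mul_eq_mul_left hpos h1
  obtain ⟨n, hn⟩ := (Q.2).exists_card_eq
  have hn0 : n ≠ 0 := by
    rintro rfl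
    rw [pow_zero] at hn
    have h3 : ¬ 2 ∣ (Q : Subgroup G).index := Q.not_dvd_index
    have h4 := (Q : Subgroup G).card_mul_index
    rw [hn, one_mul] at h4
    rw [h4] at h3
    exact h3 h2
  have hq : Nat.card (G ⧸ N) = 2 ^ n := by rw [← Subgroup.index_eq_card, hidx]; exact hn
  obtain ⟨K, hK⟩ := Sylow.exists_subgroup_card_pow_prime (G := G ⧸ N) 2 (n := n - 1)
    (by rw [hq]; exact pow_dvd_pow 2 (Nat.sub_le n 1))
  have hKi : K.index = 2 := by
    have h1 := K.card_mul_index
    rw [hK, hq] at h1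
    have h5 : 2 ^ n = 2 ^ (n - 1) * 2 := by
      rw [← pow_succ]; congr 1; omega
    rw [h5] at h1
    exact Nat.eq_of_mul_eq_mul_left (by positivity) h1
  refine ⟨K.comap (QuotientGroup.mk' N), ?_⟩
  rw [Subgroup.index_comap_of_surjective _ (QuotientGroup.mk'_surjective N)]
  exact hKi

section Dih

variable [Finite G] (P : Sylow 2 G) {St : Type*} [Group St] [Finite St] {k : ℕ} {x y : St}
  (h : QD St k x y) (j : (P : Subgroup G) →* St) (hj : Function.Injective j)
  (hr : j.range = h.sub 2 0 (hdbε k 0))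

include hj in
/-- four-groups of both types exist -/
theorem dih_exists_ktype (ε : ℤ) (hε : ε = 0 ∨ ε = 2) (zP rP : (P : Subgroup G))
    (hz : j zP = x ^ (4 * 2 ^ k : ℤ)) (hrP : j rP = x ^ ε * y) :
    ∃ H : Subgroup G, H ≤ P ∧ IsKleinFour H ∧ h.KType (Hj P j H) ε ∧ (zP : G) ∈ H ∧
      (rP : G) ∈ H := by
  have hzz : zP * zP = 1 := by apply hj; rw [map_mul, hz, map_one]; exact h.z_sq
  have hrr : rP * rP = 1 := by
    apply hj; rw [map_mul, hrP, map_one, h.sq_xy, h.zpow_eq_one]
    rcases hε with rfl | rfl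
    · exact ⟨0, by ring⟩
    · exact ⟨1, by ring⟩
  have hzr : zP * rP = rP * zP := by
    apply hj; rw [map_mul, map_mul, hz, hrP, mul_x_xy, h.mul_xy_x, h.xy_eq_xy]
    exact ⟨1 - 2 * 2 ^ k, by ring⟩
  have hz1 : zP ≠ 1 := by
    intro h0; rw [h0, map_one] at hz; exact h.z_ne_one hz.symm
  have hr1 : rP ≠ 1 := by
    intro h0; rw [h0, map_one] at hrP
    exact h.xy_ne_x ε 0 (by rw [zpow_zero]; exact hrP.symm)
  have hne : zP ≠ rP := by
    intro h0; rw [h0, hrP] at hz; exact h.xy_ne_x _ _ hz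
  have hzz' : (zP : G) * zP = 1 := congrArg Subtype.val hzz
  have hrr' : (rP : G) * rP = 1 := congrArg Subtype.val hrr
  have hzr' : (zP : G) * rP = rP * zP := congrArg Subtype.val hzr
  have hK : IsKleinFour (fourSub (zP : G) (rP : G) hzz' hrr' hzr') :=
    isKleinFour_fourSub hzz' hrr' hzr' (fun h0 => hz1 (Subtype.ext h0))
      (fun h0 => hr1 (Subtype.ext h0)) (fun h0 => hne (Subtype.ext h0))
  have hHP : fourSub (zP : G) (rP : G) hzz' hrr' hzr' ≤ P := by
    intro a ha
    rcases mem_fourSub.mp ha with rfl | rfl | rfl | rfl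
    · exact Subgroup.one_mem _
    · exact zP.2
    · exact rP.2
    · exact Subgroup.mul_mem _ zP.2 rP.2
  refine ⟨_, hHP, hK, ?_, left_mem_fourSub, right_mem_fourSub⟩
  have hmem : x ^ ε * y ∈ Hj P j (fourSub (zP : G) (rP : G) hzz' hrr' hzr') := by
    rw [← hrP, mem_Hj_iff P j hj]; exact right_mem_fourSub
  have hw := w_pos k
  rcases dih_ktype_cases P h j hj _ hHP hK with hT | hT
  · rcases hε with rfl | rfl
    · exact hT
    · exfalso
      obtain ⟨b, ⟨i, hi⟩, hx, hy⟩ := hT
      obtain ⟨c, hc⟩ := (hy 2).mp hmem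
      have : (2 : ℤ) = 4 * (2 ^ k * c + i) := by linarith
      omega
  · rcases hε with rfl | rfl
    · exfalso
      obtain ⟨b, ⟨i, hi⟩, hx, hy⟩ := hT
      obtain ⟨c, hc⟩ := (hy 0).mp hmem
      have : (2 : ℤ) = 4 * (-(2 ^ k * c) - i) := by linarith
      omega
    · exact hT

include hj hr in
/-- if all four-subgroups of `P` have automizer of order six, all involutions are conjugate -/
theorem dih_all_conj_of_six
    (h6 : ∀ U : Subgroup G, U ≤ P → IsKleinFour U →
      (Subgroup.centralizer (U : Set G)).relIndex (Subgroup.normalizer (U : Set G)) = 6)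
    (a b : G) (ha : orderOf a = 2) (hb : orderOf b = 2) : IsConj a b := by
  have hd8 := two_dvd_8w k
  obtain ⟨zP, hz⟩ := exists_preimage P h j hr (x ^ (4 * 2 ^ k : ℤ))
    ((h.x_mem_sub hd8 _ _).mpr ⟨2 * 2 ^ k, by ring⟩)
  obtain ⟨yP, hy⟩ := exists_preimage P h j hr (x ^ (0 : ℤ) * y)
    ((h.xy_mem_sub hd8 _ _).mpr (by simp))
  obtain ⟨vP, hv⟩ := exists_preimage P h j hr (x ^ (2 : ℤ) * y)
    ((h.xy_mem_sub hd8 _ _).mpr (by simp))
  obtain ⟨H₀, hH₀P, hH₀K, hH₀T, -, -⟩ := dih_exists_ktype P h j hj 0 (Or.inl rfl) zP yP hz hy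
  obtain ⟨H₂, hH₂P, hH₂K, hH₂T, -, -⟩ := dih_exists_ktype P h j hj 2 (Or.inr rfl) zP vP hz hv
  have hzy := dih_conj_of_six P h j hj hr 0 zP yP hz hy H₀ hH₀P hH₀K hH₀T (h6 H₀ hH₀P hH₀K)
  have hzv := dih_conj_of_six P h j hj hr 2 zP vP hz hv H₂ hH₂P hH₂K hH₂T (h6 H₂ hH₂P hH₂K)
  have key : ∀ t : G, orderOf t = 2 → IsConj t (zP : G) := by
    intro t ht
    rcases dih_invol_isConj P h j hj hr zP yP vP hz hy hv t ht with h1 | h1 | h1
    · exact h1
    · exact h1.trans hzy.symm
    · exact h1.trans hzv.symm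
  exact (key a ha).trans (key b hb).symm

include hj hr in
/-- two distinct commuting involutions in `P` -/
theorem dih_exists_commuting_invols :
    ∃ a b : G, orderOf a = 2 ∧ orderOf b = 2 ∧ a * b = b * a ∧ a ≠ b := by
  have hd8 := two_dvd_8w k
  obtain ⟨zP, hz⟩ := exists_preimage P h j hr (x ^ (4 * 2 ^ k : ℤ))
    ((h.x_mem_sub hd8 _ _).mpr ⟨2 * 2 ^ k, by ring⟩)
  obtain ⟨yP, hy⟩ := exists_preimage P h j hr (x ^ (0 : ℤ) * y)
    ((h.xy_mem_sub hd8 _ _).mpr (by simp))
  obtain ⟨H₀, hH₀P, hH₀K, hH₀T, hzH, hyH⟩ :=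
    dih_exists_ktype P h j hj 0 (Or.inl rfl) zP yP hz hy
  have hoz : orderOf (zP : G) = 2 := by
    rw [Subgroup.orderOf_coe, ← orderOf_injective j hj, hz]
    apply orderOf_eq_prime
    · rw [sq]; exact h.z_sq
    · exact h.z_ne_one
  have hoy : orderOf (yP : G) = 2 := by
    rw [Subgroup.orderOf_coe, ← orderOf_injective j hj, hy, zpow_zero, one_mul]
    exact h.hy
  refine ⟨zP, yP, hoz, hoy, ?_, ?_⟩
  · have := hH₀K
    exact comm_of_mem_kleinFour H₀ hzH hyH
  · intro h0
    have h1 : zP = yP := Subtype.ext h0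
    rw [h1, hy] at hz
    exact h.xy_ne_x _ _ hz

end Dih

/-- a dihedral Sylow `2`-subgroup of order `2 ^ (k + 3)` embeds in the quasi-dihedral model -/
theorem exists_dih_embedding [Finite G] (P : Sylow 2 G) (k : ℕ)
    (eP : ↥(P : Subgroup G) ≃* DihedralGroup (2 ^ (k + 2))) :
    ∃ j : ↥(P : Subgroup G) →* QDModel k, Function.Injective j ∧
      j.range = (qdModel_QD k).sub 2 0 (hdbε k 0) := by
  have h := qdModel_QD k
  obtain ⟨eD⟩ := h.sub_two_zero_dihedral (QD.hdbε k 0)
  let e : ↥(P : Subgroup G) ≃* ↥(h.sub 2 0 (QD.hdbε k 0)) := eP.trans eD.symm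
  refine ⟨(h.sub 2 0 (QD.hdbε k 0)).subtype.comp e.toMonoidHom, ?_, ?_⟩
  · intro a b hab
    have h1 : ((e a : ↥(h.sub 2 0 (QD.hdbε k 0))) : QDModel k) = e b := hab
    exact e.injective (Subtype.ext h1)
  · ext s
    constructor
    · rintro ⟨a, rfl⟩
      exact (e a).2
    · intro hs
      refine ⟨e.symm ⟨s, hs⟩, ?_⟩
      show ((e (e.symm ⟨s, hs⟩) : ↥(h.sub 2 0 (QD.hdbε k 0))) : QDModel k) = s
      rw [MulEquiv.apply_symm_apply]

end Cfsg.Agent.Lib.Helper59

namespace Cfsg.Agent.Lib.Helper59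

open Cfsg.Agent.Lib.Helper12

section KleinSylow

variable {G : Type*} [Group G] [Finite G] (S : Sylow 2 G) (hK : IsKleinFour (S : Subgroup G))

include hK in
theorem klein_sylow_le_centralizer :
    (S : Subgroup G) ≤ Subgroup.centralizer ((S : Subgroup G) : Set G) := by
  intro a ha
  rw [Subgroup.mem_centralizer_iff]
  intro b hb
  have := hK
  exact comm_of_mem_kleinFour (S : Subgroup G) hb ha

include hK in
/-- the automizer of a Klein four Sylow subgroup has order one or three -/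
theorem klein_sylow_relIndex :
    (Subgroup.centralizer ((S : Subgroup G) : Set G)).relIndex
        (Subgroup.normalizer ((S : Subgroup G) : Set G)) = 1 ∨
      (Subgroup.centralizer ((S : Subgroup G) : Set G)).relIndex
        (Subgroup.normalizer ((S : Subgroup G) : Set G)) = 3 := by
  have hf2 : Fact (Nat.Prime 2) := ⟨Nat.prime_two⟩
  have := hK
  have : Finite (MulAut (S : Subgroup G)) :=
    Nat.finite_of_card_ne_zero (by rw [card_mulAut_klein]; norm_num)
  have hd6 : (Subgroup.centralizer ((S : Subgroup G) : Set G)).relIndex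
      (Subgroup.normalizer ((S : Subgroup G) : Set G)) ∣ 6 := by
    rw [relIndex_centralizer_normalizer, ← card_mulAut_klein (S : Subgroup G)]
    exact Subgroup.card_subgroup_dvd_card _
  have hle := klein_sylow_le_centralizer S hK
  have h1 := Subgroup.relIndex_mul_relIndex (S : Subgroup G)
    (Subgroup.centralizer ((S : Subgroup G) : Set G))
    (Subgroup.normalizer ((S : Subgroup G) : Set G)) hle
    (Subgroup.centralizer_le_normalizer _)
  have h2 := Subgroup.relIndex_mul_index (Subgroup.le_normalizer (H := (S : Subgroup G)))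
  have hodd : ¬ 2 ∣ (Subgroup.centralizer ((S : Subgroup G) : Set G)).relIndex
      (Subgroup.normalizer ((S : Subgroup G) : Set G)) := by
    intro hdvd
    apply S.not_dvd_index
    rw [← h2, ← h1]
    exact Dvd.dvd.mul_right (Dvd.dvd.mul_left hdvd _) _
  have hpos : 0 < (Subgroup.centralizer ((S : Subgroup G) : Set G)).relIndex
      (Subgroup.normalizer ((S : Subgroup G) : Set G)) := Nat.pos_of_dvd_of_pos hd6 (by norm_num)
  have hle6 := Nat.le_of_dvd (by norm_num) hd6
  generalize (Subgroup.centralizer ((S : Subgroup G) : Set G)).relIndex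
      (Subgroup.normalizer ((S : Subgroup G) : Set G)) = r at *
  interval_cases r <;> simp_all <;> omega

include hK in
theorem klein_sylow_exists_invols :
    ∃ a b : G, a ∈ (S : Subgroup G) ∧ b ∈ (S : Subgroup G) ∧ orderOf a = 2 ∧ orderOf b = 2 ∧
      a * b = b * a ∧ a ≠ b := by
  have := hK
  obtain ⟨a, ha, ha1⟩ := exists_ne_one_of_kleinFour (S : Subgroup G)
  obtain ⟨b, hb, hb1, hab, -⟩ := exists_second_gen_of_kleinFour (S : Subgroup G) ha ha1
  refine ⟨a, b, ha, hb, ?_, ?_, comm_of_mem_kleinFour (S : Subgroup G) ha hb, hab⟩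
  · apply orderOf_eq_prime _ ha1
    rw [sq]; exact mul_self_of_mem_kleinFour (S : Subgroup G) ha
  · apply orderOf_eq_prime _ hb1
    rw [sq]; exact mul_self_of_mem_kleinFour (S : Subgroup G) hb

include hK in
/-- automizer of order three: the group is fusion simple -/
theorem klein_sylow_three
    (h3 : (Subgroup.centralizer ((S : Subgroup G) : Set G)).relIndex
        (Subgroup.normalizer ((S : Subgroup G) : Set G)) = 3) :
    (∀ a b : G, orderOf a = 2 → orderOf b = 2 → IsConj a b) ∧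
      (∀ H : Subgroup G, H.index ≠ 2) ∧ (∀ z : G, ¬ Cfsg.IsIsolatedInvolution z) := by
  have hf2 : Fact (Nat.Prime 2) := ⟨Nat.prime_two⟩
  obtain ⟨a₀, b₀, ha₀, hb₀, hoa, hob, hab, hne⟩ := klein_sylow_exists_invols S hK
  have key : ∀ t : G, orderOf t = 2 → IsConj t a₀ := by
    intro t ht
    obtain ⟨g, hg⟩ := exists_conj_mem_sylow S t 1 (by rw [ht, pow_one])
    have hconj : IsConj t (g * t * g⁻¹) := isConj_iff.mpr ⟨g, rfl⟩
    have hne1 : g * t * g⁻¹ ≠ 1 := by
      intro h0
      have : t = 1 := by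
        have : t = g⁻¹ * (g * t * g⁻¹) * g := by group
        rw [this, h0]; group
      rw [this, orderOf_one] at ht
      norm_num at ht
    exact hconj.trans (klein_isConj_of_three (S : Subgroup G) hK h3 _ _ hg ha₀ hne1
      (fun h0 => by rw [h0, orderOf_one] at hoa; norm_num at hoa))
  have hall : ∀ a b : G, orderOf a = 2 → orderOf b = 2 → IsConj a b :=
    fun a b ha hb => (key a ha).trans (key b hb).symm
  refine ⟨hall, ?_, not_isolated_of_all_conj hall a₀ b₀ hoa hob hab hne⟩
  intro H h2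
  -- some involution of `S` lies in `H`, hence all do, hence `S ≤ H`
  have hex : ∃ c ∈ (S : Subgroup G), orderOf c = 2 ∧ c ∈ H := by
    by_cases haH : a₀ ∈ H
    · exact ⟨a₀, ha₀, hoa, haH⟩
    by_cases hbH : b₀ ∈ H
    · exact ⟨b₀, hb₀, hob, hbH⟩
    refine ⟨a₀ * b₀, Subgroup.mul_mem _ ha₀ hb₀, ?_, ?_⟩
    · apply orderOf_eq_prime
      · have := hK
        rw [sq]; exact mul_self_of_mem_kleinFour (S : Subgroup G) (Subgroup.mul_mem _ ha₀ hb₀)
      · intro h0
        apply hne
        have h1 : a₀ * a₀ = 1 := by rw [← sq, ← hoa]; exact pow_orderOf_eq_one a₀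
        calc a₀ = a₀ * (a₀ * b₀) := by rw [h0, mul_one]
          _ = (a₀ * a₀) * b₀ := by group
          _ = b₀ := by rw [h1, one_mul]
    · rw [Subgroup.mul_mem_iff_of_index_two h2]
      tauto
  obtain ⟨c, hcS, hoc, hcH⟩ := hex
  apply index_ne_two_of_sylow_le S H _ h2
  intro s hs
  by_cases hs1 : s = 1
  · rw [hs1]; exact Subgroup.one_mem _
  have hos : orderOf s = 2 := by
    apply orderOf_eq_prime _ hs1
    have := hK
    rw [sq]; exact mul_self_of_mem_kleinFour (S : Subgroup G) hs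
  obtain ⟨d, hd⟩ := isConj_iff.mp (hall c s hoc hos)
  rw [← hd, conj_mem_iff_of_index_two H h2]
  exact hcH

include hK in
/-- trivial automizer: a normal `2`-complement, no fusion -/
theorem klein_sylow_one
    (h1 : (Subgroup.centralizer ((S : Subgroup G) : Set G)).relIndex
        (Subgroup.normalizer ((S : Subgroup G) : Set G)) = 1) :
    (∃ H : Subgroup G, H.index = 2) ∧
      ¬ (∀ a b : G, orderOf a = 2 → orderOf b = 2 → IsConj a b) := by
  have hf2 : Fact (Nat.Prime 2) := ⟨Nat.prime_two⟩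
  have hNC : Subgroup.normalizer ((S : Subgroup G) : Set G) ≤
      Subgroup.centralizer ((S : Subgroup G) : Set G) := Subgroup.relIndex_eq_one.mp h1
  constructor
  · apply exists_index_two_of_normalPComplement
    · exact ⟨S, _, MonoidHom.normal_ker _, MonoidHom.ker_transferSylow_isComplement' S hNC⟩
    · have h4 : Nat.card (S : Subgroup G) = 4 := hK.card_four
      have := (S : Subgroup G).card_subgroup_dvd_card
      rw [h4] at this
      exact dvd_trans (by norm_num) this
  · intro hall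
    obtain ⟨a₀, b₀, ha₀, hb₀, hoa, hob, hab, hne⟩ := klein_sylow_exists_invols S hK
    obtain ⟨g, hg⟩ := isConj_iff.mp (hall a₀ b₀ hoa hob)
    obtain ⟨n, hn, hna⟩ := Cfsg.Agent.Lib.Helper06.klein_fusion S hK ha₀ g (by rw [hg]; exact hb₀)
    have hc := Subgroup.mem_centralizer_iff.mp (hNC hn) a₀ ha₀
    apply hne
    rw [← hg, hna, ← hc]; group

end KleinSylow

end Cfsg.Agent.Lib.Helper59
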