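import Mathlib
import Cfsg.Agent.Lib.Helper59.FusionLocal

set_option autoImplicit false

namespace Cfsg.Agent.Lib.Helper59

variable {G : Type*} [Group G]

theorem map_conj_one (A : Subgroup G) : A.map (MulAut.conj (1 : G)⁻¹).toMonoidHom = A := by
  ext b
  rw [mem_map_conj]
  simp

theorem map_conj_map_conj (A : Subgroup G) (s t : G) :
    (A.map (MulAut.conj s).toMonoidHom).map (MulAut.conj t).toMonoidHom =
      A.map (MulAut.conj (t * s)).toMonoidHom := by
  ext b
  rw [mem_map_conj, mem_map_conj, mem_map_conj]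
  have : s⁻¹ * (t⁻¹ * b * t) * s = (t * s)⁻¹ * b * (t * s) := by group
  rw [this]

theorem map_conj_le_of_le {A B : Subgroup G} (hAB : A ≤ B) (s : G) :
    A.map (MulAut.conj s).toMonoidHom ≤ B.map (MulAut.conj s).toMonoidHom :=
  Subgroup.map_mono hAB

theorem map_conj_eq_of_mem_normalizer (H : Subgroup G) (n : G)
    (hn : n ∈ Subgroup.normalizer (H : Set G)) : H.map (MulAut.conj n).toMonoidHom = H := by
  ext b
  rw [mem_map_conj]
  have hninv : n⁻¹ ∈ Subgroup.normalizer (H : Set G) := Subgroup.inv_mem _ hn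
  have := (Subgroup.mem_normalizer_iff.mp hninv) b
  rw [inv_inv] at this
  exact this.symm

/-- Alperin's theorem as an induction principle on subgroups. -/
theorem alperin_induction_subgroup [Finite G] {p : ℕ} [Fact p.Prime] (P : Sylow p G)
    (R : Subgroup G → Subgroup G → Prop)
    (hrefl : ∀ A, R A A) (htrans : ∀ A B C, R A B → R B C → R A C)
    (hstep : ∀ Q : Sylow p G, Tame p (P : Subgroup G) (Q : Subgroup G) →
      ∀ n ∈ Subgroup.normalizer (((P : Subgroup G) ⊓ (Q : Subgroup G) : Subgroup G) : Set G),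
        ((Q : Subgroup G) = (P : Subgroup G) ∨ ∃ k : ℕ, orderOf n = p ^ k) →
        ∀ A : Subgroup G, A ≤ (P : Subgroup G) ⊓ (Q : Subgroup G) →
          R A (A.map (MulAut.conj n⁻¹).toMonoidHom))
    (A : Subgroup G) (g : G) (hA : A ≤ P) (hAg : A.map (MulAut.conj g⁻¹).toMonoidHom ≤ P) :
    R A (A.map (MulAut.conj g⁻¹).toMonoidHom) := by
  obtain ⟨n, Q, x, hprod, hx, h0, hnext⟩ := Cfsg.Agent.S2012.result P (A : Set G) g
    (by intro b hb; exact hA hb)
    (by
      rintro b ⟨c, hc, rfl⟩
      apply hAg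
      rw [mem_map_conj, inv_inv]
      have : g * (g⁻¹ * c * g) * g⁻¹ = c := by group
      rw [this]; exact hc)
  have hlen : (List.ofFn x).length = n := List.length_ofFn
  have key : ∀ i : ℕ, i ≤ n →
      R A (A.map (MulAut.conj (((List.ofFn x).take i).prod)⁻¹).toMonoidHom) := by
    intro i
    induction i with
    | zero =>
      intro _
      rw [List.take_zero, List.prod_nil, map_conj_one]
      exact hrefl A
    | succ i ih =>
      intro hi
      have hi' : i < n := hi
      have hR := ih (le_of_lt hi')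
      refine htrans _ _ _ hR ?_
      have hmem : A.map (MulAut.conj (((List.ofFn x).take i).prod)⁻¹).toMonoidHom ≤
          (P : Subgroup G) ⊓ (Q ⟨i, hi'⟩ : Subgroup G) := by
        intro b hb
        rw [mem_map_conj, inv_inv] at hb
        have hb' : b = (((List.ofFn x).take i).prod)⁻¹ *
            (((List.ofFn x).take i).prod * b * (((List.ofFn x).take i).prod)⁻¹) *
            ((List.ofFn x).take i).prod := by group
        rcases Nat.eq_zero_or_pos i with h0i | hpos
        · subst h0i
          rw [List.take_zero, List.prod_nil, inv_one, mul_one, one_mul] at hb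
          exact h0 hi' hb
        · obtain ⟨j, rfl⟩ : ∃ j, i = j + 1 := ⟨i - 1, by omega⟩
          have := hnext ⟨j, by omega⟩ hi' ⟨_, hb, rfl⟩
          rw [hb']
          exact this
      have hxi := hx ⟨i, hi'⟩
      have hstep' := hstep (Q ⟨i, hi'⟩) ⟨hxi.2.1, hxi.2.2.1⟩ (x ⟨i, hi'⟩) hxi.1 hxi.2.2.2 _ hmem
      have htake : ((List.ofFn x).take (i + 1)).prod =
          ((List.ofFn x).take i).prod * x ⟨i, hi'⟩ := by
        rw [List.prod_take_succ _ _ (by rw [hlen]; exact hi')]
        simp
      rw [htake, mul_inv_rev, ← map_conj_map_conj]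
      exact hstep'
  have := key n le_rfl
  rw [List.take_of_length_le (by rw [hlen]), hprod] at this
  exact this

/-- local-to-global principle for fusion of subgroups -/
theorem subgroup_fusion_of_local [Finite G] {p : ℕ} [Fact p.Prime] (P : Sylow p G)
    (R : Subgroup G → Subgroup G → Prop)
    (hrefl : ∀ A, R A A) (htrans : ∀ A B C, R A B → R B C → R A C)
    (hconj : ∀ A : Subgroup G, A ≤ P → ∀ s ∈ (P : Subgroup G),
      R A (A.map (MulAut.conj s).toMonoidHom))
    (hloc : ∀ H : Subgroup G, H ≤ P → IsPGroup p (MulAut H) ∨ SCtrl (P : Subgroup G) H ∨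
      (∀ A : Subgroup G, A ≤ H → ∀ n ∈ Subgroup.normalizer (H : Set G),
        R A (A.map (MulAut.conj n).toMonoidHom)))
    (A : Subgroup G) (g : G) (hA : A ≤ P) (hAg : A.map (MulAut.conj g⁻¹).toMonoidHom ≤ P) :
    R A (A.map (MulAut.conj g⁻¹).toMonoidHom) := by
  apply alperin_induction_subgroup P R hrefl htrans _ A g hA hAg
  intro Q' htame n hn _ A hAH
  set H : Subgroup G := (P : Subgroup G) ⊓ (Q' : Subgroup G) with hH
  have hHS : H ≤ P := inf_le_left
  have hninv : n⁻¹ ∈ Subgroup.normalizer (H : Set G) := Subgroup.inv_mem _ hn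
  have hctrl : SCtrl (P : Subgroup G) H → R A (A.map (MulAut.conj n⁻¹).toMonoidHom) := by
    intro hc
    obtain ⟨s, hs, hact⟩ := hc _ hninv
    have : A.map (MulAut.conj n⁻¹).toMonoidHom = A.map (MulAut.conj s).toMonoidHom := by
      ext b
      constructor
      · rintro ⟨a, ha, rfl⟩
        refine ⟨a, ha, ?_⟩
        simp only [MulEquiv.toMonoidHom_eq_coe, MonoidHom.coe_coe, MulAut.conj_apply]
        exact (hact a (hAH ha)).symm
      · rintro ⟨a, ha, rfl⟩
        refine ⟨a, ha, ?_⟩
        simp only [MulEquiv.toMonoidHom_eq_coe, MonoidHom.coe_coe, MulAut.conj_apply]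
        exact hact a (hAH ha)
    rw [this]
    exact hconj A (le_trans hAH hHS) s hs
  rcases hloc H hHS with h1 | h1 | h1
  · apply hctrl
    intro m hm
    obtain ⟨s, hs, hact⟩ := exists_conj_of_pgroup_automizer (P : Subgroup G) H htame.1
      (h1.to_subgroup _) m hm
    exact ⟨s, hs.1, hact⟩
  · exact hctrl h1
  · exact h1 A hAH _ hninv

end Cfsg.Agent.Lib.Helper59
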