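import Mathlib
import Cfsg.Agent.Lib.Helper59.FusionSubgroup
import Cfsg.Agent.Lib.Helper59.DihedralSimple

set_option autoImplicit false

namespace Cfsg.Agent.Lib.Helper59

open QD

variable {G : Type*} [Group G]

theorem map_conj_one' (A : Subgroup G) : A.map (MulAut.conj (1 : G)).toMonoidHom = A := by
  ext b
  rw [mem_map_conj]
  simp

theorem isKleinFour_map_conj (A : Subgroup G) (hA : IsKleinFour A) (s : G) :
    IsKleinFour (A.map (MulAut.conj s).toMonoidHom) :=
  Cfsg.Agent.S1203.isKleinFour_of_mulEquiv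
    (A.equivMapOfInjective (MulAut.conj s).toMonoidHom (MulAut.conj s).injective).symm

/-- a `p`-subgroup is conjugate into a given Sylow `p`-subgroup -/
theorem exists_map_conj_le_sylow [Finite G] {p : ℕ} [Fact p.Prime] (S : Sylow p G)
    (V : Subgroup G) (hV : IsPGroup p V) : ∃ g : G, V.map (MulAut.conj g).toMonoidHom ≤ S := by
  obtain ⟨Q, hQ⟩ := hV.exists_le_sylow
  obtain ⟨g, hg⟩ := MulAction.exists_smul_eq G Q S
  refine ⟨g, ?_⟩
  rintro _ ⟨t, ht, rfl⟩
  rw [← hg, Sylow.coe_subgroup_smul]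
  have h2 := Subgroup.smul_mem_pointwise_smul t (MulAut.conj g) (Q : Subgroup G) (hQ ht)
  exact h2

theorem isPGroup_two_of_kleinFour (V : Subgroup G) (hV : IsKleinFour V) : IsPGroup 2 V :=
  IsPGroup.of_card (n := 2) (by rw [hV.card_four]; norm_num)

/-- if the Sylow `2`-subgroup has order four, all four-subgroups are conjugate -/
theorem klein_conj_of_card_four [Finite G] (S : Sylow 2 G) (h4 : Nat.card (S : Subgroup G) = 4)
    (U V : Subgroup G) (hU : IsKleinFour U) (hV : IsKleinFour V) :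
    ∃ g : G, U.map (MulAut.conj g).toMonoidHom = V := by
  have hf2 : Fact (Nat.Prime 2) := ⟨Nat.prime_two⟩
  have key : ∀ W : Subgroup G, IsKleinFour W →
      ∃ g : G, W.map (MulAut.conj g).toMonoidHom = (S : Subgroup G) := by
    intro W hW
    obtain ⟨g, hg⟩ := exists_map_conj_le_sylow S W (isPGroup_two_of_kleinFour W hW)
    refine ⟨g, ?_⟩
    have hK := isKleinFour_map_conj W hW g
    apply Subgroup.eq_of_le_of_card_ge hg
    rw [h4, hK.card_four]
  obtain ⟨g₁, h₁⟩ := key U hU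
  obtain ⟨g₂, h₂⟩ := key V hV
  refine ⟨g₂⁻¹ * g₁, ?_⟩
  rw [← map_conj_map_conj, h₁, ← h₂, map_conj_map_conj, inv_mul_cancel, map_conj_one']

section Dih

variable [Finite G] (P : Sylow 2 G) {St : Type*} [Group St] [Finite St] {k : ℕ} {x y : St}
  (h : QD St k x y) (j : (P : Subgroup G) →* St) (hj : Function.Injective j)
  (hr : j.range = h.sub 2 0 (hdbε k 0))

include hj hr in
/-- four-subgroups of `P` fused in `G` are fused in `P` -/
theorem dih_klein_fusion (A : Subgroup G) (hAK : IsKleinFour A) (g : G) (hA : A ≤ P)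
    (hAg : A.map (MulAut.conj g⁻¹).toMonoidHom ≤ P) :
    ∃ s ∈ (P : Subgroup G),
      A.map (MulAut.conj g⁻¹).toMonoidHom = A.map (MulAut.conj s).toMonoidHom := by
  have hf2 : Fact (Nat.Prime 2) := ⟨Nat.prime_two⟩
  have := subgroup_fusion_of_local P
    (fun A B => IsKleinFour A → ∃ s ∈ (P : Subgroup G), B = A.map (MulAut.conj s).toMonoidHom)
    (fun A _ => ⟨1, Subgroup.one_mem _, (map_conj_one' A).symm⟩)
    (by
      intro A B C hAB hBC hK
      obtain ⟨s, hs, rfl⟩ := hAB hK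
      obtain ⟨s', hs', rfl⟩ := hBC (isKleinFour_map_conj A hK s)
      exact ⟨s' * s, Subgroup.mul_mem _ hs' hs, map_conj_map_conj A s s'⟩)
    (fun A _ s hs _ => ⟨s, hs, rfl⟩)
    (by
      intro H hHP
      rcases dih_local P h j hj hr H hHP with h1 | hK
      · left; exact h1
      · right; right
        intro A hAH n hn hAK
        have : Finite H := IsKleinFour.instFinite
        have hAeq : A = H := by
          apply Subgroup.eq_of_le_of_card_ge hAH
          rw [hAK.card_four, hK.card_four]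
        refine ⟨1, Subgroup.one_mem _, ?_⟩
        rw [map_conj_one', hAeq]
        exact map_conj_eq_of_mem_normalizer H n hn) A g hA hAg
  exact this hAK

include hr in
/-- `MG` is invariant under conjugation in `P` -/
theorem MG_conj_mem (ε : ℤ) (hε : (2 : ℤ) ∣ ε) (a s : G) (hs : s ∈ (P : Subgroup G))
    (ha : a ∈ MG P h j ε) : s * a * s⁻¹ ∈ MG P h j ε := by
  obtain ⟨a', ha', rfl⟩ := ha
  have h2 := MG_index P h j hr ε hε
  have h1 := (conj_mem_iff_of_index_two _ h2 ⟨s, hs⟩ a').mpr ha'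
  exact ⟨⟨s, hs⟩ * a' * ⟨s, hs⟩⁻¹, h1, rfl⟩

include hj hr in
/-- four-subgroups of different types are not conjugate -/
theorem dih_klein_not_conj (H₀ H₂ : Subgroup G) (h₀P : H₀ ≤ P) (h₂P : H₂ ≤ P)
    (h₀K : IsKleinFour H₀) (hT₀ : h.KType (Hj P j H₀) 0) (hT₂ : h.KType (Hj P j H₂) 2) :
    ¬ ∃ g : G, H₀.map (MulAut.conj g).toMonoidHom = H₂ := by
  rintro ⟨g, hg⟩
  obtain ⟨s, hs, hsg⟩ := dih_klein_fusion P h j hj hr H₀ h₀K g⁻¹ h₀P
    (by rw [inv_inv, hg]; exact h₂P)
  rw [inv_inv, hg] at hsg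
  have hle : H₂ ≤ MG P h j 0 := by
    rw [hsg]
    rintro _ ⟨a, ha, rfl⟩
    simp only [MulEquiv.toMonoidHom_eq_coe, MonoidHom.coe_coe, MulAut.conj_apply]
    exact MG_conj_mem P h j hr 0 (dvd_zero _) a s hs (dih_ktype_le P h j hj H₀ h₀P 0 hT₀ ha)
  obtain ⟨b, ⟨i, hi⟩, hx, hy⟩ := hT₂
  have hmem : x ^ b * y ∈ Hj P j H₂ := (hy b).mpr (by simp)
  obtain ⟨a, ha, hja⟩ := hmem
  have haH : (a : G) ∈ H₂ := Subgroup.mem_subgroupOf.mp ha
  have h1 := (mem_MG_iff P h j 0 (a : G) a.2).mp (hle haH)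
  have h2 : j ⟨(a : G), a.2⟩ = x ^ b * y := hja
  rw [h2, h.xy_mem_sub (four_dvd_8w k)] at h1
  obtain ⟨c, hc⟩ := h1
  omega

include hj hr in
/-- every four-subgroup is conjugate to one of the two types -/
theorem dih_klein_cases (H₀ H₂ : Subgroup G) (h₀P : H₀ ≤ P) (h₂P : H₂ ≤ P)
    (hT₀ : h.KType (Hj P j H₀) 0) (hT₂ : h.KType (Hj P j H₂) 2)
    (V : Subgroup G) (hV : IsKleinFour V) :
    (∃ g : G, V.map (MulAut.conj g).toMonoidHom = H₀) ∨
      (∃ g : G, V.map (MulAut.conj g).toMonoidHom = H₂) := by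
  have hf2 : Fact (Nat.Prime 2) := ⟨Nat.prime_two⟩
  obtain ⟨g, hg⟩ := exists_map_conj_le_sylow P V (isPGroup_two_of_kleinFour V hV)
  have hK := isKleinFour_map_conj V hV g
  rcases dih_ktype_cases P h j hj _ hg hK with hT | hT
  · left
    obtain ⟨s, _, hs⟩ := dih_ktype_conj P h j hj hr _ H₀ hg h₀P 0 hT hT₀
    exact ⟨s * g, by rw [hs, map_conj_map_conj]⟩
  · right
    obtain ⟨s, _, hs⟩ := dih_ktype_conj P h j hj hr _ H₂ hg h₂P 2 hT hT₂
    exact ⟨s * g, by rw [hs, map_conj_map_conj]⟩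

end Dih

end Cfsg.Agent.Lib.Helper59
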