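import Mathlib
import Cfsg.Prelude.Def_Solvable
import Cfsg.Agent.Lib.Helper96.FC91Defs
import Cfsg.Agent.Lib.Helper19.Recog

/-!
# K-S4291-REC12 : a group of order 12 with a normal subgroup of order 4 on which the elements of order 3 act freely is `A₄`
-/

set_option autoImplicit false

namespace Cfsg.Agent.Lib.Helper59.FC91

open Cfsg

universe u

/-- K-REC12. -/
theorem rec_twelve {Y : Type u} [Group Y] [Finite Y] (V : Subgroup Y) [V.Normal] (hV4 : Nat.card V = 4)
    (hfree : ∀ g : Y, orderOf g = 3 → ∀ v ∈ V, g * v = v * g → v = 1) (h12 : Nat.card Y = 12) :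
    Nonempty (Y ≃* alternatingGroup (Fin 4)) := by
  have : Fact (Nat.Prime 3) := ⟨by norm_num⟩
  obtain ⟨g, hg⟩ := exists_prime_orderOf_dvd_card' (G := Y) 3 (by rw [h12]; norm_num)
  have hP3 : Nat.card (Subgroup.zpowers g) = 3 := by rw [Nat.card_zpowers, hg]
  -- `P ⊓ V = ⊥`
  have hPV : ∀ x ∈ Subgroup.zpowers g, x ∈ V → x = 1 := by
    intro x hxP hxV
    have h3 : orderOf x ∣ 3 := by
      have := Subgroup.orderOf_dvd_natCard _ hxP
      rwa [hP3] at this
    have h4 : orderOf x ∣ 4 := by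
      have := Subgroup.orderOf_dvd_natCard _ hxV
      rwa [hV4] at this
    have h1 : orderOf x ∣ Nat.gcd 3 4 := Nat.dvd_gcd h3 h4
    have : orderOf x = 1 := by simpa using h1
    exact orderOf_eq_one_iff.1 this
  -- `N ⊓ V = ⊥`
  have hNV : Disjoint (Subgroup.normalizer ((Subgroup.zpowers g : Subgroup Y) : Set Y)) V := by
    rw [Subgroup.disjoint_def]
    intro v hvN hvV
    have h1 : v * g * v⁻¹ ∈ Subgroup.zpowers g :=
      (Subgroup.mem_normalizer_iff.1 hvN g).1 (Subgroup.mem_zpowers g)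
    have hcP : v * g * v⁻¹ * g⁻¹ ∈ Subgroup.zpowers g :=
      Subgroup.mul_mem _ h1 (Subgroup.inv_mem _ (Subgroup.mem_zpowers g))
    have hcV : v * g * v⁻¹ * g⁻¹ ∈ V := by
      have h2 : g * v⁻¹ * g⁻¹ ∈ V := Subgroup.Normal.conj_mem inferInstance _ (V.inv_mem hvV) g
      have : v * g * v⁻¹ * g⁻¹ = v * (g * v⁻¹ * g⁻¹) := by group
      rw [this]
      exact V.mul_mem hvV h2
    have hc1 := hPV _ hcP hcV
    apply hfree g hg v hvV
    have : v * g * v⁻¹ * g⁻¹ * g * v = 1 * g * v := by rw [hc1]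
    have h3 : v * g = g * v := by simpa [mul_assoc] using this
    exact h3.symm
  have hinj := Subgroup.mul_injective_of_disjoint hNV
  have hle := Nat.card_le_card_of_injective _ hinj
  rw [Nat.card_prod, hV4, h12] at hle
  have hN3 : Nat.card (Subgroup.normalizer ((Subgroup.zpowers g : Subgroup Y) : Set Y)) ≤ 3 := by omega
  have hPN : Subgroup.zpowers g ≤ Subgroup.normalizer ((Subgroup.zpowers g : Subgroup Y) : Set Y) :=
    Subgroup.le_normalizer
  have hN : Subgroup.normalizer ((Subgroup.zpowers g : Subgroup Y) : Set Y) = Subgroup.zpowers g :=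
    (Subgroup.eq_of_le_of_card_ge hPN (by rw [hP3]; exact hN3)).symm
  exact Cfsg.Agent.Lib.Helper19.Recog.a4_of_card h12 (Subgroup.zpowers g) hP3 hN

end Cfsg.Agent.Lib.Helper59.FC91
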