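import Cfsg.Agent.Lib.Helper06.Hall4.Defs

/-!
# K-H4 LEAF CJ2 (422109): `nfix_conj`, `card_Cent_conj` (parallel hand, helper59)
-/

set_option autoImplicit false
set_option linter.unusedSectionVars false
open Equiv

namespace Cfsg.Agent.Lib.Helper59.Hall4
open Cfsg.Agent.Lib.Helper06.Hall4

variable {α : Type*} [Fintype α] [DecidableEq α]

/-- LEAF CJ2 (422109), first statement, exact spec signature. -/
theorem nfix_conj (g t : Perm α) : nfix (g * t * g⁻¹) = nfix t := by
  unfold nfix
  have h : Function.fixedPoints (g * t * g⁻¹) = g '' Function.fixedPoints t := by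
    ext p
    simp only [Function.mem_fixedPoints, Function.IsFixedPt, Set.mem_image, Perm.mul_apply]
    constructor
    · intro hp
      refine ⟨g⁻¹ p, ?_, by simp⟩
      apply g.injective
      rw [hp]; simp
    · rintro ⟨q, hq, rfl⟩
      simp [hq]
  rw [h, Set.ncard_image_of_injective _ g.injective]

/-- LEAF CJ2 (422109), second statement, exact spec signature. -/
theorem card_Cent_conj (G : Subgroup (Perm α)) {g : Perm α} (hg : g ∈ G) (t : Perm α) :
    Nat.card (Cent G (g * t * g⁻¹)) = Nat.card (Cent G t) := by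
  have h : Cent G (g * t * g⁻¹) = (Cent G t).map (MulAut.conj g).toMonoidHom := by
    ext k
    rw [Subgroup.mem_map, mem_Cent]
    constructor
    · rintro ⟨hk, hc⟩
      refine ⟨g⁻¹ * k * g, mem_Cent.2 ⟨G.mul_mem (G.mul_mem (G.inv_mem hg) hk) hg, ?_⟩, ?_⟩
      · calc t * (g⁻¹ * k * g) = g⁻¹ * ((g * t * g⁻¹) * k) * g := by group
          _ = g⁻¹ * (k * (g * t * g⁻¹)) * g := by rw [hc]
          _ = g⁻¹ * k * g * t := by group
      · simp only [MulEquiv.coe_toMonoidHom, MulAut.conj_apply]; group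
    · rintro ⟨k', hk', rfl⟩
      obtain ⟨hk'G, hk'c⟩ := mem_Cent.1 hk'
      simp only [MulEquiv.coe_toMonoidHom, MulAut.conj_apply]
      refine ⟨G.mul_mem (G.mul_mem hg hk'G) (G.inv_mem hg), ?_⟩
      calc g * t * g⁻¹ * (g * k' * g⁻¹) = g * (t * k') * g⁻¹ := by group
        _ = g * (k' * t) * g⁻¹ := by rw [hk'c]
        _ = g * k' * g⁻¹ * (g * t * g⁻¹) := by group
  rw [h]
  exact Subgroup.card_map_of_injective (MulAut.conj g).injective

end Cfsg.Agent.Lib.Helper59.Hall4
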