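import Cfsg.Agent.Lib.Helper68.H4P2
import Cfsg.Agent.Lib.Helper59.H4TR2

/-!
# K-H4 LEAF D2a (422115): `D_trans_reg` (parallel hand, helper59)

`D = G ⊓ centralizer {x, y}` is transitive on the regular points `Preg x y`.
-/

set_option autoImplicit false
set_option linter.unusedSectionVars false
open Equiv

namespace Cfsg.Agent.Lib.Helper59.Hall4
open Cfsg.Agent.Lib.Helper06.Hall4

variable {α : Type*} [Fintype α] [DecidableEq α]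

/-- LEAF D2a (422115), exact spec signature. -/
theorem D_trans_reg (G : Subgroup (Perm α)) (hG : Trans4 G) (hodd : Odd4 G) {x y : Perm α}
    (hx : x ∈ G) (hy : y ∈ G) (x2 : x * x = 1) (y2 : y * y = 1) (comm : x * y = y * x) {i j : α}
    (hi : i ∈ Preg x y) (hj : j ∈ Preg x y) :
    ∃ g ∈ (G ⊓ Subgroup.centralizer {x, y} : Subgroup (Perm α)), g i = j := by
  have hxx : ∀ p, x (x p) = p := fun p => by
    have := congrArg (fun q : Perm α => q p) x2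
    simpa [Perm.mul_apply] using this
  have hyy : ∀ p, y (y p) = p := fun p => by
    have := congrArg (fun q : Perm α => q p) y2
    simpa [Perm.mul_apply] using this
  have hxy : ∀ p, x (y p) = y (x p) := fun p => by
    have := congrArg (fun q : Perm α => q p) comm
    simpa [Perm.mul_apply] using this
  obtain ⟨⟨i1, i2, i3, i4, i5, i6⟩, -, -, -⟩ := preg_orbit_facts x2 y2 comm hi
  obtain ⟨⟨j1, j2, j3, j4, j5, j6⟩, -, -, -⟩ := preg_orbit_facts x2 y2 comm hj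
  -- step 1: `g₀` between the quadruples
  obtain ⟨g₀, hg₀, e1, e2, e3, e4⟩ := hG i (x i) (y i) (x (y i)) j (x j) (y j) (x (y j))
    (Ne.symm i1) (Ne.symm i2) (Ne.symm i3) i4 i5 i6 (Ne.symm j1) (Ne.symm j2) (Ne.symm j3) j4 j5 j6
  have inv1 : g₀⁻¹ j = i := by rw [Perm.inv_eq_iff_eq]; exact e1.symm
  have inv2 : g₀⁻¹ (x j) = x i := by rw [Perm.inv_eq_iff_eq]; exact e2.symm
  have inv3 : g₀⁻¹ (y j) = y i := by rw [Perm.inv_eq_iff_eq]; exact e3.symm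
  have inv4 : g₀⁻¹ (x (y j)) = x (y i) := by rw [Perm.inv_eq_iff_eq]; exact e4.symm
  -- step 2: `x' = g₀ x g₀⁻¹`
  have hx'G : g₀ * x * g₀⁻¹ ∈ G := G.mul_mem (G.mul_mem hg₀ hx) (G.inv_mem hg₀)
  have hx'2 : (g₀ * x * g₀⁻¹) * (g₀ * x * g₀⁻¹) = 1 := by
    calc (g₀ * x * g₀⁻¹) * (g₀ * x * g₀⁻¹) = g₀ * (x * x) * g₀⁻¹ := by group
      _ = 1 := by rw [x2]; group
  obtain ⟨u₁, hu₁, hu₁c, -⟩ := Cfsg.Agent.Lib.Helper68.Hall4.conj_of_agree G hodd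
    (a := j) (b := x j) (c := y j) (d := x (y j))
    (Ne.symm j1) (Ne.symm j2) (Ne.symm j3) j4 j5 j6 (t := g₀ * x * g₀⁻¹) (t' := x) hx'G hx hx'2 x2
    (by simp only [Perm.mul_apply]; rw [inv1, e2])
    (by simp only [Perm.mul_apply]; rw [inv2, hxx, hxx, e1])
    (by simp only [Perm.mul_apply]; rw [inv3, e4])
    (by simp only [Perm.mul_apply]; rw [inv4, hxx, hxx, e3])
  obtain ⟨hu₁G, hu₁f⟩ := mem_FS.1 hu₁
  have u1j : u₁ j = j := hu₁f j (by simp)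
  have u1xj : u₁ (x j) = x j := hu₁f (x j) (by simp)
  have u1yj : u₁ (y j) = y j := hu₁f (y j) (by simp)
  have u1xyj : u₁ (x (y j)) = x (y j) := hu₁f (x (y j)) (by simp)
  -- step 3: `g₁ = u₁ g₀` commutes with `x`
  have hg₁G : u₁ * g₀ ∈ G := G.mul_mem hu₁G hg₀
  have hg₁x : (u₁ * g₀) * x * (u₁ * g₀)⁻¹ = x := by
    calc (u₁ * g₀) * x * (u₁ * g₀)⁻¹ = u₁ * (g₀ * x * g₀⁻¹) * u₁⁻¹ := by group
      _ = x := hu₁c
  have hg₁x' : (u₁ * g₀) * x = x * (u₁ * g₀) := by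
    calc (u₁ * g₀) * x = ((u₁ * g₀) * x * (u₁ * g₀)⁻¹) * (u₁ * g₀) := by group
      _ = x * (u₁ * g₀) := by rw [hg₁x]
  have f1 : (u₁ * g₀) i = j := by rw [Perm.mul_apply, e1, u1j]
  have f2 : (u₁ * g₀) (x i) = x j := by rw [Perm.mul_apply, e2, u1xj]
  have f3 : (u₁ * g₀) (y i) = y j := by rw [Perm.mul_apply, e3, u1yj]
  have f4 : (u₁ * g₀) (x (y i)) = x (y j) := by rw [Perm.mul_apply, e4, u1xyj]
  have finv1 : (u₁ * g₀)⁻¹ j = i := by rw [Perm.inv_eq_iff_eq]; exact f1.symm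
  have finv2 : (u₁ * g₀)⁻¹ (x j) = x i := by rw [Perm.inv_eq_iff_eq]; exact f2.symm
  have finv3 : (u₁ * g₀)⁻¹ (y j) = y i := by rw [Perm.inv_eq_iff_eq]; exact f3.symm
  have finv4 : (u₁ * g₀)⁻¹ (x (y j)) = x (y i) := by rw [Perm.inv_eq_iff_eq]; exact f4.symm
  -- step 4: `y' = g₁ y g₁⁻¹`
  have hy'G : (u₁ * g₀) * y * (u₁ * g₀)⁻¹ ∈ G := G.mul_mem (G.mul_mem hg₁G hy) (G.inv_mem hg₁G)
  have hy'2 : ((u₁ * g₀) * y * (u₁ * g₀)⁻¹) * ((u₁ * g₀) * y * (u₁ * g₀)⁻¹) = 1 := by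
    calc ((u₁ * g₀) * y * (u₁ * g₀)⁻¹) * ((u₁ * g₀) * y * (u₁ * g₀)⁻¹)
        = (u₁ * g₀) * (y * y) * (u₁ * g₀)⁻¹ := by group
      _ = 1 := by rw [y2]; group
  have hxy' : x * ((u₁ * g₀) * y * (u₁ * g₀)⁻¹) = ((u₁ * g₀) * y * (u₁ * g₀)⁻¹) * x := by
    have hinv : (u₁ * g₀)⁻¹ * x = x * (u₁ * g₀)⁻¹ := by
      calc (u₁ * g₀)⁻¹ * x = (u₁ * g₀)⁻¹ * (x * (u₁ * g₀)) * (u₁ * g₀)⁻¹ := by group
        _ = (u₁ * g₀)⁻¹ * ((u₁ * g₀) * x) * (u₁ * g₀)⁻¹ := by rw [hg₁x']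
        _ = x * (u₁ * g₀)⁻¹ := by group
    calc x * ((u₁ * g₀) * y * (u₁ * g₀)⁻¹) = (x * (u₁ * g₀)) * y * (u₁ * g₀)⁻¹ := by group
      _ = ((u₁ * g₀) * x) * y * (u₁ * g₀)⁻¹ := by rw [hg₁x']
      _ = (u₁ * g₀) * (x * y) * (u₁ * g₀)⁻¹ := by group
      _ = (u₁ * g₀) * (y * x) * (u₁ * g₀)⁻¹ := by rw [comm]
      _ = (u₁ * g₀) * y * (x * (u₁ * g₀)⁻¹) := by group
      _ = (u₁ * g₀) * y * ((u₁ * g₀)⁻¹ * x) := by rw [hinv]
      _ = ((u₁ * g₀) * y * (u₁ * g₀)⁻¹) * x := by group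
  obtain ⟨u₂, hu₂, hu₂c, hu₂v⟩ := Cfsg.Agent.Lib.Helper68.Hall4.conj_of_agree G hodd
    (a := j) (b := x j) (c := y j) (d := x (y j))
    (Ne.symm j1) (Ne.symm j2) (Ne.symm j3) j4 j5 j6
    (t := (u₁ * g₀) * y * (u₁ * g₀)⁻¹) (t' := y) hy'G hy hy'2 y2
    (by
      show y j = ((u₁ * g₀) * y * (u₁ * g₀)⁻¹) j
      rw [Perm.mul_apply, Perm.mul_apply, finv1, f3])
    (by
      show y (x j) = ((u₁ * g₀) * y * (u₁ * g₀)⁻¹) (x j)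
      rw [Perm.mul_apply, Perm.mul_apply, finv2, ← hxy j, ← hxy i, f4])
    (by
      show y (y j) = ((u₁ * g₀) * y * (u₁ * g₀)⁻¹) (y j)
      rw [Perm.mul_apply, Perm.mul_apply, finv3, hyy, hyy, f1])
    (by
      show y (x (y j)) = ((u₁ * g₀) * y * (u₁ * g₀)⁻¹) (x (y j))
      rw [Perm.mul_apply, Perm.mul_apply, finv4, ← hxy (y j), ← hxy (y i), hyy, hyy, f2])
  obtain ⟨hu₂G, hu₂f⟩ := mem_FS.1 hu₂
  have u2j : u₂ j = j := hu₂f j (by simp)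
  have hxu₂ : x * u₂ = u₂ * x := hu₂v x hxy' comm
  -- step 5: `g = u₂ g₁`
  refine ⟨u₂ * (u₁ * g₀), ?_, ?_⟩
  · rw [Subgroup.mem_inf, mem_centralizer_pair]
    refine ⟨G.mul_mem hu₂G hg₁G, ?_, ?_⟩
    · calc x * (u₂ * (u₁ * g₀)) = (x * u₂) * (u₁ * g₀) := by group
        _ = (u₂ * x) * (u₁ * g₀) := by rw [hxu₂]
        _ = u₂ * (x * (u₁ * g₀)) := by group
        _ = u₂ * ((u₁ * g₀) * x) := by rw [hg₁x']
        _ = u₂ * (u₁ * g₀) * x := by group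
    · calc y * (u₂ * (u₁ * g₀))
          = (u₂ * ((u₁ * g₀) * y * (u₁ * g₀)⁻¹) * u₂⁻¹) * (u₂ * (u₁ * g₀)) := by rw [hu₂c]
        _ = u₂ * (u₁ * g₀) * y := by group
  · rw [Perm.mul_apply, f1, u2j]

end Cfsg.Agent.Lib.Helper59.Hall4
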