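import Mathlib
import Cfsg.Prelude.Def_HallClasses

set_option autoImplicit false

namespace Cfsg.Agent.Lib.Helper59

open Cfsg Subgroup MulAction Equiv

section general
variable {G : Type*} [Group G] [Finite G]

/-- A Hall `π`-subgroup contains a conjugate of every `p`-element, for a prime `p ∈ π`. -/
theorem hall_conj_mem {π : Set ℕ} {H : Subgroup G} (hH : IsPiHall π H) {p : ℕ}
    (hp : p.Prime) (hpπ : p ∈ π) (x : G) (k : ℕ) (hx : x ^ (p ^ k) = 1) :
    ∃ g : G, g * x * g⁻¹ ∈ H := by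
  have : Fact p.Prime := ⟨hp⟩
  obtain ⟨P⟩ : Nonempty (Sylow p H) := inferInstance
  have hcardP : Nat.card P = p ^ (Nat.card H).factorization p := P.card_eq_multiplicity
  have hfac : (Nat.card H).factorization p = (Nat.card G).factorization p := by
    have h1 : Nat.card G = Nat.card H * H.index := (H.card_mul_index).symm
    rw [h1, Nat.factorization_mul Nat.card_pos.ne' index_ne_zero_of_finite, Finsupp.add_apply,
      Nat.factorization_eq_zero_of_not_dvd (hH.2 p hp hpπ), add_zero]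
  let Q : Sylow p G := Sylow.ofCard ((P : Subgroup H).map H.subtype)
    (by rw [card_map_of_injective (subtype_injective _), hcardP, hfac])
  have hQ : (Q : Subgroup G) ≤ H := by
    intro y hy
    rw [Sylow.coe_ofCard] at hy
    obtain ⟨z, -, rfl⟩ := hy
    exact z.2
  have hz : IsPGroup p (zpowers x) := by
    rw [IsPGroup.iff_card]
    have : Nat.card (zpowers x) ∣ p ^ k := by
      rw [Nat.card_zpowers]
      exact orderOf_dvd_of_pow_eq_one hx
    obtain ⟨j, -, hj⟩ := (Nat.dvd_prime_pow hp).1 this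
    exact ⟨j, hj⟩
  obtain ⟨R, hR⟩ := hz.exists_le_sylow
  obtain ⟨g, hg⟩ := MulAction.exists_smul_eq G R Q
  refine ⟨g, hQ ?_⟩
  rw [← hg, Sylow.smul_def, Sylow.pointwise_smul_def]
  exact ⟨x, hR (mem_zpowers x), rfl⟩

/-- A finite simple group with a proper subgroup of index `k` has order dividing `k!`. -/
theorem card_dvd_factorial_index_of_simple [IsSimpleGroup G] (H : Subgroup G) (hH : H ≠ ⊤) :
    Nat.card G ∣ (H.index).factorial := by
  have hker : (MulAction.toPermHom G (G ⧸ H)).ker = ⊥ := by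
    rcases IsSimpleGroup.eq_bot_or_eq_top_of_normal (MulAction.toPermHom G (G ⧸ H)).ker
      inferInstance with h | h
    · exact h
    · exfalso
      apply hH
      rw [eq_top_iff, ← h, ← Subgroup.normalCore_eq_ker]
      exact Subgroup.normalCore_le H
  have hinj : Function.Injective (MulAction.toPermHom G (G ⧸ H)) :=
    (MonoidHom.ker_eq_bot_iff _).1 hker
  have := Subgroup.card_dvd_of_injective _ hinj
  rwa [Nat.card_perm, ← Subgroup.index_eq_card] at this

end general

section alt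

/-- `r ^ 2` does not divide `(r + 1)!` for a prime `r`. -/
theorem sq_not_dvd_factorial_succ {r : ℕ} (hr : r.Prime) : ¬ r ^ 2 ∣ (r + 1).factorial := by
  intro h
  obtain ⟨m, hm⟩ : ∃ m, r = m + 1 := ⟨r - 1, by have := hr.two_le; omega⟩
  have h1 : (r + 1).factorial = r * ((r + 1) * m.factorial) := by
    rw [Nat.factorial_succ, hm, Nat.factorial_succ]; ring
  rw [h1, pow_two] at h
  have h2 : r ∣ (r + 1) * m.factorial := Nat.dvd_of_mul_dvd_mul_left hr.pos h
  rcases (Nat.Prime.dvd_mul hr).1 h2 with h3 | h3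
  · have : r ∣ 1 := (Nat.dvd_add_right (dvd_refl r)).1 h3
    exact hr.one_lt.ne' (Nat.dvd_one.1 this)
  · have := (hr.dvd_factorial).1 h3
    omega

/-- Case 1: `π` consists exactly of the primes below the prime `r ≥ 5`; then the alternating group
of degree `r + 1` has no Hall `π`-subgroup. -/
theorem no_hall_alt (π : Set ℕ) (r : ℕ) (hr : r.Prime) (hr5 : 5 ≤ r) (hrπ : r ∉ π)
    (hlt : ∀ p : ℕ, p.Prime → p < r → p ∈ π) :
    ¬ IsEPiGroup π (alternatingGroup (Fin (r + 1))) := by
  rintro ⟨H, hH1, hH2⟩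
  have hsimple : IsSimpleGroup (alternatingGroup (Fin (r + 1))) :=
    alternatingGroup.isSimpleGroup (by simp; omega)
  have : Nontrivial (Fin (r + 1)) := Fin.nontrivial_iff_two_le.2 (by omega)
  have hcard : 2 * Nat.card (alternatingGroup (Fin (r + 1))) = (r + 1).factorial := by
    rw [two_mul_nat_card_alternatingGroup, Nat.card_perm]; simp
  have hmul := H.card_mul_index
  have hodd : ¬ 2 ∣ r := by
    intro h
    have := (Nat.prime_dvd_prime_iff_eq Nat.prime_two hr).1 h
    omega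
  -- every prime divisor of the index is `r`
  have hidx : ∀ {q : ℕ}, q.Prime → q ∣ H.index → q = r := by
    intro q hq hqi
    have h1 : q ∣ (r + 1).factorial := by
      rw [← hcard, ← hmul]
      exact Dvd.dvd.mul_left (Dvd.dvd.mul_left hqi _) _
    have h2 : q ≤ r + 1 := (hq.dvd_factorial).1 h1
    by_contra hne
    have h3 : q ≠ r + 1 := by
      rintro rfl
      have : 2 ∣ r + 1 := by
        have := hr.eq_one_or_self_of_dvd 2
        omega
      have := (Nat.prime_dvd_prime_iff_eq Nat.prime_two hq).1 this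
      omega
    have h4 : q < r := by omega
    exact hH2 q hq (hlt q hq h4) hqi
  have hpow : H.index = r ^ H.index.primeFactorsList.length :=
    Nat.eq_prime_pow_of_unique_prime_dvd Subgroup.index_ne_zero_of_finite hidx
  have hk : H.index.primeFactorsList.length ≤ 1 := by
    by_contra hk
    apply sq_not_dvd_factorial_succ hr
    rw [← hcard, ← hmul]
    apply Dvd.dvd.mul_left
    apply Dvd.dvd.mul_left
    rw [hpow]
    exact pow_dvd_pow r (by omega)
  have hrdvd : r ∣ Nat.card (alternatingGroup (Fin (r + 1))) := by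
    have : r ∣ 2 * Nat.card (alternatingGroup (Fin (r + 1))) := by
      rw [hcard]; exact (hr.dvd_factorial).2 (by omega)
    rcases (Nat.Prime.dvd_mul hr).1 this with h | h
    · exact absurd ((Nat.prime_dvd_prime_iff_eq hr Nat.prime_two).1 h) (by omega)
    · exact h
  rcases Nat.le_one_iff_eq_zero_or_eq_one.1 hk with h0 | h1
  · -- index one
    rw [h0, pow_zero] at hpow
    rw [hpow, mul_one] at hmul
    exact hrπ (hH1 r hr (hmul ▸ hrdvd))
  · -- index `r`
    rw [h1, pow_one] at hpow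
    have hne : H ≠ ⊤ := by
      intro h
      rw [h, Subgroup.index_top] at hpow
      exact hr.one_lt.ne hpow
    have hdvd := card_dvd_factorial_index_of_simple H hne
    rw [hpow] at hdvd
    have hle := Nat.le_of_dvd (Nat.factorial_pos r) hdvd
    have h6 : (r + 1).factorial = (r + 1) * r.factorial := Nat.factorial_succ r
    have hpos := Nat.factorial_pos r
    nlinarith

end alt

section sym

variable {q : ℕ}

/-- A Hall `π`-subgroup of the symmetric group of prime degree `q ∈ π` is primitive. -/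
theorem hall_sym_preprimitive {π : Set ℕ} (hq : q.Prime) (hqπ : q ∈ π)
    {H : Subgroup (Perm (Fin q))} (hH : IsPiHall π H) : IsPreprimitive H (Fin q) := by
  have h2 : 2 ≤ q := hq.two_le
  have hc : (finRotate q).IsCycle := isCycle_finRotate_of_le h2
  have hs : (finRotate q).support = Finset.univ := support_finRotate_of_le h2
  have ho : (finRotate q) ^ (q ^ 1) = 1 := by
    rw [pow_one]
    have := hc.orderOf
    rw [hs, Finset.card_univ, Fintype.card_fin] at this
    have h3 := pow_orderOf_eq_one (finRotate q)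
    rwa [this] at h3
  obtain ⟨g, hg⟩ := hall_conj_mem hH hq hqπ (finRotate q) 1 ho
  have hc' : (g * finRotate q * g⁻¹).IsCycle := hc.conj
  have hs' : (g * finRotate q * g⁻¹).support = Finset.univ := by
    apply Finset.eq_univ_of_card
    rw [Perm.card_support_conj, hs, Finset.card_univ]
  have htrans : IsPretransitive H (Fin q) := by
    constructor
    intro x y
    have hx : (g * finRotate q * g⁻¹) x ≠ x := by
      rw [← Perm.mem_support, hs']; exact Finset.mem_univ _
    have hy : (g * finRotate q * g⁻¹) y ≠ y := by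
      rw [← Perm.mem_support, hs']; exact Finset.mem_univ _
    obtain ⟨i, hi⟩ := hc'.exists_zpow_eq hx hy
    exact ⟨⟨_, H.zpow_mem hg i⟩, hi⟩
  exact IsPreprimitive.of_prime_card (by simpa using hq)

/-- Case 2: `2 ∈ π`, a prime `r ∉ π` and a prime `p ∈ π` with `r < p`: the symmetric group of
degree `p` has no Hall `π`-subgroup. -/
theorem no_hall_sym_two (π : Set ℕ) (r p : ℕ) (hr : r.Prime) (hp : p.Prime) (hrp : r < p)
    (hrπ : r ∉ π) (h2 : 2 ∈ π) (hpπ : p ∈ π) : ¬ IsEPiGroup π (Perm (Fin p)) := by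
  rintro ⟨H, hH⟩
  have hprim := hall_sym_preprimitive hp hpπ hH
  have hp2 : 2 ≤ p := hp.two_le
  have hne : (⟨0, by omega⟩ : Fin p) ≠ ⟨1, by omega⟩ := by
    intro h; simp [Fin.ext_iff] at h
  have ho : (swap (⟨0, by omega⟩ : Fin p) ⟨1, by omega⟩) ^ (2 ^ 1) = 1 := by
    rw [pow_one, pow_two, swap_mul_self]
  obtain ⟨g, hg⟩ := hall_conj_mem hH Nat.prime_two h2 _ 1 ho
  have hsw : (g * swap (⟨0, by omega⟩ : Fin p) ⟨1, by omega⟩ * g⁻¹).IsSwap := by
    rw [← Perm.card_support_eq_two, Perm.card_support_conj, Perm.card_support_eq_two]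
    exact ⟨_, _, hne, rfl⟩
  have htop : H = ⊤ := Perm.subgroup_eq_top_of_isPreprimitive_of_isSwap_mem hprim _ hsw hg
  apply hrπ
  apply hH.1 r hr
  rw [htop, Subgroup.card_top, Nat.card_perm]
  simp only [Nat.card_eq_fintype_card, Fintype.card_fin]
  exact (hr.dvd_factorial).2 hrp.le

/-- Case 3: `2 ∉ π` and two primes `p < q` of `π`: the symmetric group of degree `q` has no Hall
`π`-subgroup. -/
theorem no_hall_sym_odd (π : Set ℕ) (p q : ℕ) (hp : p.Prime) (hq : q.Prime) (hpq : p < q)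
    (h2 : 2 ∉ π) (hpπ : p ∈ π) (hqπ : q ∈ π) : ¬ IsEPiGroup π (Perm (Fin q)) := by
  rintro ⟨H, hH⟩
  have hprim := hall_sym_preprimitive hq hqπ hH
  have hp2 := hp.two_le
  obtain ⟨c, hc⟩ := (Perm.exists_with_cycleType_iff (α := Fin q) (m := {p})).2
    ⟨by simp; omega, by simp; exact hp2⟩
  have hcc : c.IsCycle := by rw [← Perm.card_cycleType_eq_one, hc]; simp
  have hcs : c.support.card = p := by rw [← Perm.sum_cycleType, hc]; simp
  have ho : c ^ (p ^ 1) = 1 := by
    have h3 := pow_orderOf_eq_one c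
    rwa [hcc.orderOf, hcs, ← pow_one p] at h3
  obtain ⟨g, hg⟩ := hall_conj_mem hH hp hpπ c 1 ho
  have hσc : (g * c * g⁻¹).IsCycle := hcc.conj
  have hσs : (g * c * g⁻¹).support.card = p := by rw [Perm.card_support_conj, hcs]
  have htr := Perm.isPretransitive_of_isCycle_mem hσc hg
  have h2t : IsMultiplyPretransitive H (Fin q) 2 := by
    refine hprim.is_two_pretransitive (s := (((g * c * g⁻¹).support : Set (Fin q))ᶜ))
      (n := q - p - 1) ?_ ?_ htr
    · have h := Set.ncard_add_ncard_compl ((g * c * g⁻¹).support : Set (Fin q))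
      rw [Set.ncard_coe_finset, hσs, Nat.card_eq_fintype_card, Fintype.card_fin] at h
      omega
    · rw [Nat.card_eq_fintype_card, Fintype.card_fin]; omega
  rw [is_two_pretransitive_iff] at h2t
  have hq2 := hq.two_le
  have hne : (⟨0, by omega⟩ : Fin q) ≠ ⟨1, by omega⟩ := by
    intro h; simp [Fin.ext_iff] at h
  obtain ⟨h, h01, h10⟩ := h2t hne hne.symm
  have h01' : (h : Perm (Fin q)) ⟨0, by omega⟩ = ⟨1, by omega⟩ := h01
  have h10' : (h : Perm (Fin q)) ⟨1, by omega⟩ = ⟨0, by omega⟩ := h10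
  have hdvd : 2 ∣ orderOf (h : Perm (Fin q)) := by
    by_contra hodd
    obtain ⟨m, hm⟩ : ∃ m, orderOf (h : Perm (Fin q)) = 2 * m + 1 :=
      ⟨orderOf (h : Perm (Fin q)) / 2, by omega⟩
    have h1 : ((h : Perm (Fin q)) ^ 2) ⟨0, by omega⟩ = ⟨0, by omega⟩ := by
      rw [pow_two, Perm.mul_apply, h01', h10']
    have h3 : (((h : Perm (Fin q)) ^ 2) ^ m) ⟨0, by omega⟩ = ⟨0, by omega⟩ :=
      Perm.pow_apply_eq_self_of_apply_eq_self h1 m
    have h4 := pow_orderOf_eq_one (h : Perm (Fin q))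
    rw [hm, pow_succ, pow_mul] at h4
    have h5 := congrArg (fun f : Perm (Fin q) => f ⟨1, by omega⟩) h4
    simp only [Perm.mul_apply, h10', h3, Perm.one_apply] at h5
    exact hne h5
  apply h2
  apply hH.1 2 Nat.prime_two
  refine hdvd.trans ?_
  rw [Subgroup.orderOf_coe]
  exact orderOf_dvd_natCard h

end sym

section converse

set_option linter.unusedSectionVars false

variable {G : Type*} [Group G] [Finite G]

theorem isPiSubgroup_iff_isPGroup {π : Set ℕ}
    (h : ∀ p q : ℕ, p.Prime → q.Prime → p ∈ π → q ∈ π → p = q) {p : ℕ} (hp : p.Prime)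
    (hpπ : p ∈ π) (L : Subgroup G) : IsPiSubgroup π L ↔ IsPGroup p L := by
  have : Fact p.Prime := ⟨hp⟩
  constructor
  · intro hL
    rw [IsPGroup.iff_card]
    refine ⟨_, Nat.eq_prime_pow_of_unique_prime_dvd Nat.card_pos.ne' ?_⟩
    intro d hd hdd
    exact h d p hd hp (hL d hd hdd) hpπ
  · intro hL q hq hqd
    obtain ⟨n, hn⟩ := IsPGroup.iff_card.1 hL
    rw [hn] at hqd
    have := (Nat.prime_dvd_prime_iff_eq hq hp).1 (hq.dvd_of_dvd_pow hqd)
    rw [this]; exact hpπ

theorem isPiSubgroup_eq_bot {π : Set ℕ} (hex : ¬ ∃ p : ℕ, p.Prime ∧ p ∈ π) (L : Subgroup G)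
    (hL : IsPiSubgroup π L) : L = ⊥ := by
  rw [← Subgroup.card_eq_one]
  by_contra hne
  obtain ⟨q, hq, hqd⟩ := Nat.exists_prime_and_dvd hne
  exact hex ⟨q, hq, hL q hq hqd⟩

theorem isEPiGroup_of_unique (π : Set ℕ)
    (h : ∀ p q : ℕ, p.Prime → q.Prime → p ∈ π → q ∈ π → p = q) : IsEPiGroup π G := by
  by_cases hex : ∃ p : ℕ, p.Prime ∧ p ∈ π
  · obtain ⟨p, hp, hpπ⟩ := hex
    have : Fact p.Prime := ⟨hp⟩
    obtain ⟨P⟩ : Nonempty (Sylow p G) := inferInstance
    refine ⟨P, ((isPiSubgroup_iff_isPGroup h hp hpπ _).2 P.isPGroup'), ?_⟩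
    intro q hq hqπ
    rw [h q p hq hp hqπ hpπ]
    exact P.not_dvd_index
  · refine ⟨⊥, ?_, ?_⟩
    · intro q hq hqd
      rw [Subgroup.card_bot] at hqd
      exact absurd (Nat.dvd_one.1 hqd) hq.one_lt.ne'
    · intro q hq hqπ
      exact absurd ⟨q, hq, hqπ⟩ hex

theorem isEPiGroup_of_all (π : Set ℕ) (h : ∀ p : ℕ, p.Prime → p ∈ π) : IsEPiGroup π G :=
  ⟨⊤, fun p hp _ => h p hp, fun p hp _ hd => by
    rw [Subgroup.index_top] at hd; exact hp.one_lt.ne' (Nat.dvd_one.1 hd)⟩

theorem isDPiGroup_of_unique (π : Set ℕ)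
    (h : ∀ p q : ℕ, p.Prime → q.Prime → p ∈ π → q ∈ π → p = q) : IsDPiGroup π G := by
  intro H K hH hK
  by_cases hex : ∃ p : ℕ, p.Prime ∧ p ∈ π
  · obtain ⟨p, hp, hpπ⟩ := hex
    have : Fact p.Prime := ⟨hp⟩
    have key := isPiSubgroup_iff_isPGroup (G := G) h hp hpπ
    let P : Sylow p G := ⟨H, (key H).1 hH.1, fun {Q} hQ hle =>
      le_antisymm (hH.2 ((key Q).2 hQ) hle) hle⟩
    let Q : Sylow p G := ⟨K, (key K).1 hK.1, fun {Q} hQ hle =>
      le_antisymm (hK.2 ((key Q).2 hQ) hle) hle⟩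
    obtain ⟨g, hg⟩ := MulAction.exists_smul_eq G P Q
    refine ⟨g, ?_⟩
    have h1 : ((g • P : Sylow p G) : Subgroup G) = K := by rw [hg]
    rw [Sylow.smul_def, Sylow.pointwise_smul_def, Subgroup.pointwise_smul_def] at h1
    exact h1.symm
  · refine ⟨1, ?_⟩
    rw [isPiSubgroup_eq_bot hex H hH.1, isPiSubgroup_eq_bot hex K hK.1, Subgroup.map_bot]

theorem isDPiGroup_of_all (π : Set ℕ) (h : ∀ p : ℕ, p.Prime → p ∈ π) : IsDPiGroup π G := by
  intro H K hH hK
  have htop : IsPiSubgroup π (⊤ : Subgroup G) := fun p hp _ => h p hp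
  have hH' : H = ⊤ := top_le_iff.1 (hH.2 htop le_top)
  have hK' : K = ⊤ := top_le_iff.1 (hK.2 htop le_top)
  refine ⟨1, ?_⟩
  rw [hH', hK']
  exact (Subgroup.map_top_of_surjective _ (MulAut.conj (1 : G)).surjective).symm

theorem isEPiGroup_of_isDPiGroup (π : Set ℕ) (hD : IsDPiGroup π G) : IsEPiGroup π G := by
  have hbot : IsPiSubgroup π (⊥ : Subgroup G) := by
    intro q hq hqd
    rw [Subgroup.card_bot] at hqd
    exact absurd (Nat.dvd_one.1 hqd) hq.one_lt.ne'
  obtain ⟨M, -, hM⟩ := Finite.exists_le_maximal hbot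
  refine ⟨M, hM.1, ?_⟩
  intro p hp hpπ hpd
  have : Fact p.Prime := ⟨hp⟩
  obtain ⟨P⟩ : Nonempty (Sylow p G) := inferInstance
  have hP : IsPiSubgroup π (P : Subgroup G) := by
    intro q hq hqd
    obtain ⟨n, hn⟩ := IsPGroup.iff_card.1 P.isPGroup'
    rw [hn] at hqd
    have := (Nat.prime_dvd_prime_iff_eq hq hp).1 (hq.dvd_of_dvd_pow hqd)
    rw [this]; exact hpπ
  obtain ⟨M', hPM', hM'⟩ := Finite.exists_le_maximal hP
  obtain ⟨g, hg⟩ := hD M M' hM hM'
  have hcard : Nat.card M' = Nat.card M := by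
    rw [hg]; exact Subgroup.card_map_of_injective (MulAut.conj g).injective
  have h1 : Nat.card (P : Subgroup G) ∣ Nat.card M := hcard ▸ Subgroup.card_dvd_of_le hPM'
  rw [P.card_eq_multiplicity] at h1
  have h2 : p ^ ((Nat.card G).factorization p + 1) ∣ Nat.card G := by
    have h3 := mul_dvd_mul h1 hpd
    rwa [M.card_mul_index, ← pow_succ] at h3
  exact Nat.pow_succ_factorization_not_dvd Nat.card_pos.ne' hp h2

end converse

section main

/-- If `π` contains two distinct primes and misses a prime, some finite group has no Hall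
`π`-subgroup. -/
theorem exists_not_isEPiGroup (π : Set ℕ) (p q r : ℕ) (hp : p.Prime) (hq : q.Prime)
    (hr : r.Prime) (hpq : p ≠ q) (hpπ : p ∈ π) (hqπ : q ∈ π) (hrπ : r ∉ π) :
    ∃ (G : Type) (_ : Group G) (_ : Finite G), ¬ IsEPiGroup π G := by
  classical
  have hex : ∃ r : ℕ, r.Prime ∧ r ∉ π := ⟨r, hr, hrπ⟩
  obtain ⟨hr₀, hr₀π⟩ := Nat.find_spec hex
  have hmin : ∀ m : ℕ, m.Prime → m < Nat.find hex → m ∈ π := by
    intro m hm hlt
    by_contra hmπ
    exact Nat.find_min hex hlt ⟨hm, hmπ⟩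
  generalize Nat.find hex = r₀ at hr₀ hr₀π hmin
  by_cases h2 : 2 ∈ π
  · by_cases hbig : ∃ p' : ℕ, p'.Prime ∧ p' ∈ π ∧ r₀ < p'
    · obtain ⟨p', hp', hp'π, hlt⟩ := hbig
      exact ⟨Perm (Fin p'), inferInstance, inferInstance,
        no_hall_sym_two π r₀ p' hr₀ hp' hlt hr₀π h2 hp'π⟩
    · have hsmall : ∀ p' : ℕ, p'.Prime → p' ∈ π → p' < r₀ := by
        intro p' hp' hp'π
        by_contra hge
        have hne : p' ≠ r₀ := by rintro rfl; exact hr₀π hp'π
        exact hbig ⟨p', hp', hp'π, by omega⟩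
      have h5 : 5 ≤ r₀ := by
        have h2' := hr₀.two_le
        have hne2 : r₀ ≠ 2 := by rintro rfl; exact hr₀π h2
        have hne4 : r₀ ≠ 4 := by rintro rfl; norm_num at hr₀
        have hne3 : r₀ ≠ 3 := by
          rintro rfl
          have h1 := hsmall p hp hpπ
          have h3 := hsmall q hq hqπ
          have h4 := hp.two_le
          have h6 := hq.two_le
          omega
        omega
      exact ⟨alternatingGroup (Fin (r₀ + 1)), inferInstance, inferInstance,
        no_hall_alt π r₀ hr₀ h5 hr₀π hmin⟩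
  · rcases lt_or_gt_of_ne hpq with hlt | hlt
    · exact ⟨Perm (Fin q), inferInstance, inferInstance,
        no_hall_sym_odd π p q hp hq hlt h2 hpπ hqπ⟩
    · exact ⟨Perm (Fin p), inferInstance, inferInstance,
        no_hall_sym_odd π q p hq hp hlt h2 hqπ hpπ⟩

/-- The universal Hall property `E_π` forces `π` to be trivial. -/
theorem trivial_of_forall_isEPiGroup (π : Set ℕ)
    (hE : ∀ (G : Type) [Group G] [Finite G], IsEPiGroup π G) :
    (∀ p q : ℕ, p.Prime → q.Prime → p ∈ π → q ∈ π → p = q) ∨ ∀ p : ℕ, p.Prime → p ∈ π := by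
  by_contra hcon
  push Not at hcon
  obtain ⟨⟨p, q, hp, hq, hpπ, hqπ, hpq⟩, ⟨r, hr, hrπ⟩⟩ := hcon
  obtain ⟨G, _, _, hG⟩ := exists_not_isEPiGroup π p q r hp hq hr hpq hpπ hqπ hrπ
  exact hG (hE G)

end main

end Cfsg.Agent.Lib.Helper59
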