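import Cfsg.Agent.Lib.Helper59.QDKlein
import Cfsg.Agent.Lib.Helper59.QDBridge
import Cfsg.Prelude.Def_Transfer

set_option autoImplicit false

namespace Cfsg.Agent.Lib.Helper59

/-- In a quasi-dihedral group, a four-subgroup of exponent two is self-centralizing. -/
theorem QD.klein_self_centralizing {S : Type*} [Group S] {k : ℕ} {x y : S} (h : QD S k x y) [Finite S]
    (T : Subgroup S) (h4 : Nat.card T = 4) (h2 : ∀ t ∈ T, t * t = 1) (g : S)
    (hg : ∀ t ∈ T, g * t = t * g) : g ∈ T := by
  obtain ⟨b, hb2, hx, hy⟩ := h.klein_desc T h4 h2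
  have hbT : x ^ b * y ∈ T := (hy b).mpr (by simp)
  have hc := hg _ hbT
  have hconj : g * (x ^ b * y) * g⁻¹ = x ^ b * y := by rw [hc]; group
  rcases h.cases g with ⟨c, rfl⟩ | ⟨c, rfl⟩
  · rw [h.conj_xy_by_x, h.xy_eq_xy] at hconj
    obtain ⟨e, he⟩ := hconj
    rw [hx]
    apply QD.dvd_of_dvd_odd_mul
    exact ⟨-e, by linarith⟩
  · rw [h.conj_xy_by_xy, h.xy_eq_xy] at hconj
    obtain ⟨e, he⟩ := hconj
    rw [hy]
    apply QD.dvd_of_dvd_odd_mul
    exact ⟨-e, by linarith⟩

theorem zmod_two_torsion_unique (m : ℕ) [NeZero m] (i j : ZMod m) (hi : i + i = 0) (hj : j + j = 0)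
    (hi0 : i ≠ 0) (hj0 : j ≠ 0) : i = j := by
  have key : ∀ a : ZMod m, a + a = 0 → a ≠ 0 → 2 * a.val = m := by
    intro a ha ha0
    have h1 := ZMod.val_add a a
    rw [ha, ZMod.val_zero] at h1
    have h2 : m ∣ a.val + a.val := Nat.dvd_of_mod_eq_zero h1.symm
    have h3 : a.val < m := ZMod.val_lt a
    have h4 : a.val ≠ 0 := fun h => ha0 ((ZMod.val_eq_zero a).mp h)
    obtain ⟨c, hc⟩ := h2
    have hc1 : c = 1 := by
      have hm : 0 < m := Nat.pos_of_ne_zero (NeZero.ne m)
      rcases Nat.lt_or_ge c 1 with h | h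
      · have : c = 0 := by omega
        subst this; omega
      · rcases Nat.lt_or_ge c 2 with h' | h'
        · omega
        · have : m * 2 ≤ m * c := Nat.mul_le_mul_left m h'
          omega
    subst hc1; omega
  apply ZMod.val_injective
  have := key i hi hi0
  have := key j hj hj0
  omega

open DihedralGroup in
theorem dihedral_klein_aux (m : ℕ) [NeZero m] (T : Subgroup (DihedralGroup m)) (i j : ZMod m)
    (hi0 : i ≠ 0) (hii : i + i = 0) (ha : r i ∈ T) (hb : sr j ∈ T) (g : DihedralGroup m)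
    (hg : g * sr j = sr j * g) : g ∈ T := by
  rcases g with l | l
  · rw [r_mul_sr, sr_mul_r] at hg
    have h1 : j - l = j + l := by simpa using hg
    have h2 : l + l = 0 := by
      have : l + l = (j + l) - (j - l) := by ring
      rw [this, h1]; ring
    by_cases hl : l = 0
    · subst hl; rw [← one_def]; exact T.one_mem
    · rw [← zmod_two_torsion_unique m i l hii h2 hi0 hl]; exact ha
  · rw [sr_mul_sr, sr_mul_sr] at hg
    have h1 : j - l = l - j := by simpa using hg
    have h2 : (l - j) + (l - j) = 0 := by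
      have : (l - j) + (l - j) = (l - j) - (j - l) := by ring
      rw [this, h1]; ring
    by_cases hl : l - j = 0
    · have : l = j := sub_eq_zero.mp hl
      rw [this]; exact hb
    · have h3 := zmod_two_torsion_unique m i (l - j) hii h2 hi0 hl
      have h4 : sr l = sr j * r i := by
        rw [sr_mul_r, h3]; congr 1; ring
      rw [h4]; exact T.mul_mem hb ha

open DihedralGroup in
/-- In a dihedral group, a four-subgroup of exponent two is self-centralizing. -/
theorem dihedral_klein_self_centralizing (m : ℕ) [NeZero m] (T : Subgroup (DihedralGroup m))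
    (h4 : Nat.card T = 4) (h2 : ∀ t ∈ T, t * t = 1) (g : DihedralGroup m)
    (hg : ∀ t ∈ T, g * t = t * g) : g ∈ T := by
  have : Finite T := Nat.finite_of_card_ne_zero (by omega)
  -- pick a ≠ 1 in T
  have hTbot : T ≠ ⊥ := by
    intro h; rw [h, Subgroup.card_bot] at h4; omega
  obtain ⟨a, haT, ha1⟩ := (Subgroup.bot_or_exists_ne_one T).resolve_left hTbot
  have hoa : orderOf a = 2 := orderOf_eq_prime (by rw [sq]; exact h2 a haT) ha1
  have hza : Subgroup.zpowers a ≤ T := by rwa [Subgroup.zpowers_le]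
  have hnot : ¬ T ≤ Subgroup.zpowers a := by
    intro hle
    have : T = Subgroup.zpowers a := le_antisymm hle hza
    rw [this, Nat.card_zpowers, hoa] at h4; omega
  obtain ⟨b, hbT, hbz⟩ := SetLike.not_le_iff_exists.mp hnot
  have hb1 : b ≠ 1 := fun h => hbz (h ▸ Subgroup.one_mem _)
  have hba : b ≠ a := fun h => hbz (h ▸ Subgroup.mem_zpowers a)
  -- case analysis
  have key : ∀ (i j : ZMod m), r i ∈ T → r i ≠ 1 → sr j ∈ T → g ∈ T := by
    intro i j hri hri1 hsj
    have hi0 : i ≠ 0 := by
      intro h; apply hri1; rw [h, one_def]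
    have hii : i + i = 0 := by
      have := h2 _ hri
      rw [r_mul_r, one_def] at this
      exact r.inj this
    exact dihedral_klein_aux m T i j hi0 hii hri hsj g (hg _ hsj)
  rcases a with i | i <;> rcases b with j | j
  · exfalso
    have hi0 : i ≠ 0 := by intro h; apply ha1; rw [h, one_def]
    have hj0 : j ≠ 0 := by intro h; apply hb1; rw [h, one_def]
    have hii : i + i = 0 := by
      have := h2 _ haT
      rw [r_mul_r, one_def] at this
      exact r.inj this
    have hjj : j + j = 0 := by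
      have := h2 _ hbT
      rw [r_mul_r, one_def] at this
      exact r.inj this
    exact hba (by rw [zmod_two_torsion_unique m i j hii hjj hi0 hj0])
  · exact key i j haT ha1 hbT
  · exact key j i hbT hb1 haT
  · have hab : sr i * sr j ∈ T := T.mul_mem haT hbT
    rw [sr_mul_sr] at hab
    refine key (j - i) j hab ?_ hbT
    intro h
    rw [one_def] at h
    have : j - i = 0 := r.inj h
    apply hba
    rw [sub_eq_zero.mp this]

end Cfsg.Agent.Lib.Helper59

namespace Cfsg.Agent.Lib.Helper59

/-- four-subgroups of exponent two are self-centralizing -/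
def KSC (Q : Type*) [Group Q] : Prop :=
  ∀ T : Subgroup Q, Nat.card T = 4 → (∀ t ∈ T, t * t = 1) → ∀ g : Q, (∀ t ∈ T, g * t = t * g) → g ∈ T

theorem ksc_of_mulEquiv {Q Q' : Type*} [Group Q] [Group Q'] (e : Q ≃* Q') (h : KSC Q') : KSC Q := by
  intro T h4 h2 g hg
  have h4' : Nat.card (T.map e.toMonoidHom) = 4 := by
    rw [← h4]; exact (Nat.card_congr (e.subgroupMap T).toEquiv).symm
  have h2' : ∀ t ∈ T.map e.toMonoidHom, t * t = 1 := by
    rintro _ ⟨t, ht, rfl⟩
    rw [← map_mul, h2 t ht, map_one]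
  have hg' : ∀ t ∈ T.map e.toMonoidHom, e g * t = t * e g := by
    rintro _ ⟨t, ht, rfl⟩
    change e g * e t = e t * e g
    rw [← map_mul, ← map_mul, hg t ht]
  obtain ⟨t, ht, hte⟩ := h _ h4' h2' (e g) hg'
  have : t = g := e.injective hte
  rwa [← this]

theorem ksc_dihedral (m : ℕ) [NeZero m] : KSC (DihedralGroup m) :=
  fun T h4 h2 g hg => dihedral_klein_self_centralizing m T h4 h2 g hg

theorem ksc_of_isQuasiDihedral {Q : Type*} [Group Q] [Finite Q] (h : Cfsg.IsQuasiDihedral Q) : KSC Q := by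
  obtain ⟨k, x, y, hQD⟩ := exists_QD_of_isQuasiDihedral h
  exact fun T h4 h2 g hg => hQD.klein_self_centralizing T h4 h2 g hg

/-- main lemma for S1236 -/
theorem centralizer_eq_of_ksc_quotient {R : Type*} [Group R] [Finite R] (t : R) (ht : orderOf t = 2)
    [(Subgroup.zpowers t).Normal] (hq : KSC (R ⧸ Subgroup.zpowers t)) (A : Subgroup R)
    (hA : Cfsg.IsElementaryAbelian 2 A) (hA8 : Nat.card A = 8) (htA : t ∈ A) :
    Subgroup.centralizer (A : Set R) = A := by
  obtain ⟨hAc, hA2⟩ := hA
  set N := Subgroup.zpowers t with hN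
  have hNA : N ≤ A := by rw [hN, Subgroup.zpowers_le]; exact htA
  set Ab := A.map (QuotientGroup.mk' N) with hAb
  have hcard : Nat.card Ab = 4 := by
    have h1 : (Ab.comap (QuotientGroup.mk' N)) = A := by
      rw [hAb, QuotientGroup.comap_map_mk', sup_eq_right.mpr hNA]
    have h2 : Ab.index = A.index := by
      rw [← h1, Subgroup.index_comap_of_surjective _ (QuotientGroup.mk'_surjective N)]
    have h3 : Nat.card R = Nat.card (R ⧸ N) * Nat.card N := Subgroup.card_eq_card_quotient_mul_card_subgroup N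
    have h4 : Nat.card N = 2 := by rw [hN, Nat.card_zpowers, ht]
    have h5 := Subgroup.card_mul_index Ab
    have h6 := Subgroup.card_mul_index A
    rw [h2] at h5
    rw [hA8] at h6
    rw [h4, ← h5, ← h6] at h3
    have hidx : A.index ≠ 0 := Subgroup.index_ne_zero_of_finite
    have h7 : 8 * A.index = (Nat.card Ab * 2) * A.index := by rw [h3]; ring
    have h8 := Nat.eq_of_mul_eq_mul_right (Nat.pos_of_ne_zero hidx) h7
    omega
  have hexp : ∀ s ∈ Ab, s * s = 1 := by
    rintro _ ⟨a, ha, rfl⟩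
    rw [← map_mul, ← sq, hA2 a ha, map_one]
  apply le_antisymm
  · intro c hc
    rw [Subgroup.mem_centralizer_iff] at hc
    have hcb : ∀ s ∈ Ab, (QuotientGroup.mk' N c) * s = s * (QuotientGroup.mk' N c) := by
      rintro _ ⟨a, ha, rfl⟩
      rw [← map_mul, ← map_mul, hc a ha]
    obtain ⟨a, ha, hac⟩ := hq Ab hcard hexp _ hcb
    have h1 : a⁻¹ * c ∈ N := by
      rw [← QuotientGroup.eq]
      exact hac
    have h2 : a * (a⁻¹ * c) ∈ A := A.mul_mem ha (hNA h1)
    simpa using h2
  · intro a ha
    rw [Subgroup.mem_centralizer_iff]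
    intro b hb
    have := hAc.is_comm.comm ⟨b, hb⟩ ⟨a, ha⟩
    exact congrArg Subtype.val this

end Cfsg.Agent.Lib.Helper59
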