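import Mathlib
import Cfsg.Prelude.Def_GeometricClasses
import Cfsg.Agent.Lib.Helper19.OEvenType

/-!
# K-OEvenX-X8b: two commuting isometric involutions with anticommuting similarities force plus type in dimension 8
-/

set_option autoImplicit false
set_option linter.unusedSectionVars false

namespace Cfsg.Agent.Lib.Helper59.OEvenX

open Cfsg Cfsg.Geo Matrix QuadraticMap
open scoped MatrixGroups

variable {F : Type*} [Field F] [Fintype F]

/-- polar form of a similarity -/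
theorem polar_sim (Q : (Fin 8 → F) → F) (g : Matrix (Fin 8) (Fin 8) F) (μ : F)
    (hg : ∀ v, Q (g *ᵥ v) = μ * Q v) (u v : Fin 8 → F) :
    polar Q (g *ᵥ u) (g *ᵥ v) = μ * polar Q u v := by
  unfold polar
  rw [← Matrix.mulVec_add, hg, hg, hg]
  ring

/-- the data of X8b in matrix form -/
structure Dat (Q : (Fin 8 → F) → F) where
  /-- involution -/
  X : Matrix (Fin 8) (Fin 8) F
  /-- involution -/
  Y : Matrix (Fin 8) (Fin 8) F
  /-- the four coset representatives -/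
  g : Fin 4 → Matrix (Fin 8) (Fin 8) F
  /-- their inverses -/
  gi : Fin 4 → Matrix (Fin 8) (Fin 8) F
  /-- multipliers -/
  μ : Fin 4 → F
  hXX : X * X = 1
  hYY : Y * Y = 1
  hXY : X * Y = Y * X
  hXQ : ∀ v, Q (X *ᵥ v) = Q v
  hYQ : ∀ v, Q (Y *ᵥ v) = Q v
  hgi : ∀ j, gi j * g j = 1
  hgi' : ∀ j, g j * gi j = 1
  hgQ : ∀ j v, Q (g j *ᵥ v) = μ j * Q v
  hgX : ∀ j, X * g j = (![1, -1, 1, -1] : Fin 4 → F) j • (g j * X)
  hgY : ∀ j, Y * g j = (![1, 1, -1, -1] : Fin 4 → F) j • (g j * Y)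
  hμ : ∏ j, μ j = (μ 1 * μ 2) ^ 2

/-- signs for `X` -/
def ε : Fin 4 → F := ![1, -1, 1, -1]
/-- signs for `Y` -/
def δ : Fin 4 → F := ![1, 1, -1, -1]

theorem ε_sq (j : Fin 4) : (ε j : F) * ε j = 1 := by fin_cases j <;> simp [ε]
theorem δ_sq (j : Fin 4) : (δ j : F) * δ j = 1 := by fin_cases j <;> simp [δ]

theorem orth_char (j l : Fin 4) (h : j ≠ l) : (1 + (ε j : F) * ε l) * (1 + δ j * δ l) = 0 := by
  fin_cases j <;> fin_cases l <;> first | (exfalso; exact h rfl) | simp [ε, δ]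

theorem orth_char_self (j : Fin 4) : (1 + (ε j : F) * ε j) * (1 + δ j * δ j) = 4 := by
  rw [ε_sq, δ_sq]; norm_num

theorem sum_ε : ∑ j : Fin 4, (ε j : F) = 0 := by simp [Fin.sum_univ_four, ε]
theorem sum_δ : ∑ j : Fin 4, (δ j : F) = 0 := by simp [Fin.sum_univ_four, δ]
theorem sum_εδ : ∑ j : Fin 4, (ε j : F) * δ j = 0 := by simp [Fin.sum_univ_four, ε, δ]

section main

variable {Q : (Fin 8 → F) → F} (d : Dat Q)

/-- the common `+1`-eigenspace -/
def Dat.W : Submodule F (Fin 8 → F) where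
  carrier := {v | d.X *ᵥ v = v ∧ d.Y *ᵥ v = v}
  add_mem' := by
    rintro u v ⟨hu1, hu2⟩ ⟨hv1, hv2⟩
    exact ⟨by rw [Matrix.mulVec_add, hu1, hv1], by rw [Matrix.mulVec_add, hu2, hv2]⟩
  zero_mem' := ⟨by simp, by simp⟩
  smul_mem' := by
    rintro c v ⟨hv1, hv2⟩
    exact ⟨by rw [Matrix.mulVec_smul, hv1], by rw [Matrix.mulVec_smul, hv2]⟩

theorem Dat.X_g (j : Fin 4) {w : Fin 8 → F} (hw : w ∈ d.W) :
    d.X *ᵥ (d.g j *ᵥ w) = (ε j : F) • (d.g j *ᵥ w) := by
  rw [Matrix.mulVec_mulVec, d.hgX j, Matrix.smul_mulVec, ← Matrix.mulVec_mulVec, hw.1]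
  rfl

theorem Dat.Y_g (j : Fin 4) {w : Fin 8 → F} (hw : w ∈ d.W) :
    d.Y *ᵥ (d.g j *ᵥ w) = (δ j : F) • (d.g j *ᵥ w) := by
  rw [Matrix.mulVec_mulVec, d.hgY j, Matrix.smul_mulVec, ← Matrix.mulVec_mulVec, hw.2]
  rfl

/-- the projection onto the `(ε j, δ j)`-eigenspace, times 4 -/
def Dat.P (j : Fin 4) (v : Fin 8 → F) : Fin 8 → F :=
  v + (ε j : F) • (d.X *ᵥ v) + (δ j : F) • (d.Y *ᵥ v) + ((ε j : F) * δ j) • (d.X *ᵥ (d.Y *ᵥ v))

theorem Dat.P_add (j : Fin 4) (u v : Fin 8 → F) : d.P j (u + v) = d.P j u + d.P j v := by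
  unfold Dat.P
  simp only [Matrix.mulVec_add, smul_add]
  abel

theorem Dat.P_zero (j : Fin 4) : d.P j 0 = 0 := by
  unfold Dat.P
  simp

theorem Dat.P_sum (j : Fin 4) {ι : Type*} (s : Finset ι) (f : ι → Fin 8 → F) :
    d.P j (∑ i ∈ s, f i) = ∑ i ∈ s, d.P j (f i) := by
  classical
  induction s using Finset.induction_on with
  | empty => simp [d.P_zero]
  | insert a s ha ih => rw [Finset.sum_insert ha, Finset.sum_insert ha, d.P_add, ih]

theorem Dat.P_g (j l : Fin 4) {w : Fin 8 → F} (hw : w ∈ d.W) :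
    d.P j (d.g l *ᵥ w) = ((1 + (ε j : F) * ε l) * (1 + δ j * δ l)) • (d.g l *ᵥ w) := by
  unfold Dat.P
  rw [d.Y_g l hw, Matrix.mulVec_smul, d.X_g l hw]
  simp only [smul_smul]
  have key : ∀ (a b c : F) (z : Fin 8 → F), z + a • z + b • z + c • z = (1 + a + b + c) • z := by
    intro a b c z
    simp only [add_smul, one_smul]
  rw [key]
  congr 1
  ring

theorem Dat.sum_P (v : Fin 8 → F) : ∑ j, d.P j v = (4 : F) • v := by
  unfold Dat.P
  simp only [Finset.sum_add_distrib, ← Finset.sum_smul, sum_ε, sum_δ, sum_εδ, zero_smul, add_zero,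
    Finset.sum_const, Finset.card_univ, Fintype.card_fin]
  rw [← Nat.cast_smul_eq_nsmul F]
  norm_num

theorem Dat.X_P (j : Fin 4) (v : Fin 8 → F) : d.X *ᵥ d.P j v = (ε j : F) • d.P j v := by
  unfold Dat.P
  have h1 : d.X *ᵥ (d.X *ᵥ v) = v := by rw [Matrix.mulVec_mulVec, d.hXX, Matrix.one_mulVec]
  have h2 : d.X *ᵥ (d.X *ᵥ (d.Y *ᵥ v)) = d.Y *ᵥ v := by
    rw [Matrix.mulVec_mulVec, d.hXX, Matrix.one_mulVec]
  simp only [Matrix.mulVec_add, Matrix.mulVec_smul, h1, h2]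
  fin_cases j <;> simp [ε, δ] <;> abel

theorem Dat.Y_P (j : Fin 4) (v : Fin 8 → F) : d.Y *ᵥ d.P j v = (δ j : F) • d.P j v := by
  unfold Dat.P
  have h1 : d.Y *ᵥ (d.Y *ᵥ v) = v := by rw [Matrix.mulVec_mulVec, d.hYY, Matrix.one_mulVec]
  have h3 : ∀ u : Fin 8 → F, d.Y *ᵥ (d.X *ᵥ u) = d.X *ᵥ (d.Y *ᵥ u) := by
    intro u
    rw [Matrix.mulVec_mulVec, Matrix.mulVec_mulVec, d.hXY]
  have h2 : d.Y *ᵥ (d.X *ᵥ (d.Y *ᵥ v)) = d.X *ᵥ v := by
    rw [h3, h1]
  simp only [Matrix.mulVec_add, Matrix.mulVec_smul, h1, h2, h3 v]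
  fin_cases j <;> simp [ε, δ] <;> abel


theorem Dat.X_gi (j : Fin 4) : d.X * d.gi j = (ε j : F) • (d.gi j * d.X) := by
  have h : d.X * d.g j = (ε j : F) • (d.g j * d.X) := d.hgX j
  have h3 : d.gi j * d.X = (ε j : F) • (d.X * d.gi j) := by
    calc d.gi j * d.X = d.gi j * (d.X * d.g j) * d.gi j := by
          rw [Matrix.mul_assoc, Matrix.mul_assoc, d.hgi', Matrix.mul_one]
      _ = d.gi j * ((ε j : F) • (d.g j * d.X)) * d.gi j := by rw [h]
      _ = (ε j : F) • (d.X * d.gi j) := by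
          rw [Matrix.mul_smul, Matrix.smul_mul, ← Matrix.mul_assoc, d.hgi, Matrix.one_mul]
  rw [h3, smul_smul, ε_sq, one_smul]

theorem Dat.Y_gi (j : Fin 4) : d.Y * d.gi j = (δ j : F) • (d.gi j * d.Y) := by
  have h : d.Y * d.g j = (δ j : F) • (d.g j * d.Y) := d.hgY j
  have h3 : d.gi j * d.Y = (δ j : F) • (d.Y * d.gi j) := by
    calc d.gi j * d.Y = d.gi j * (d.Y * d.g j) * d.gi j := by
          rw [Matrix.mul_assoc, Matrix.mul_assoc, d.hgi', Matrix.mul_one]
      _ = d.gi j * ((δ j : F) • (d.g j * d.Y)) * d.gi j := by rw [h]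
      _ = (δ j : F) • (d.Y * d.gi j) := by
          rw [Matrix.mul_smul, Matrix.smul_mul, ← Matrix.mul_assoc, d.hgi, Matrix.one_mul]
  rw [h3, smul_smul, δ_sq, one_smul]

theorem Dat.gi_P_mem (j : Fin 4) (v : Fin 8 → F) : d.gi j *ᵥ d.P j v ∈ d.W := by
  constructor
  · rw [Matrix.mulVec_mulVec, d.X_gi, Matrix.smul_mulVec, ← Matrix.mulVec_mulVec, d.X_P,
      Matrix.mulVec_smul, smul_smul, ε_sq, one_smul]
  · rw [Matrix.mulVec_mulVec, d.Y_gi, Matrix.smul_mulVec, ← Matrix.mulVec_mulVec, d.Y_P,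
      Matrix.mulVec_smul, smul_smul, δ_sq, one_smul]

/-- the assembling map `W^4 → F^8` -/
noncomputable def Dat.Φ : (Fin 4 → d.W) →ₗ[F] (Fin 8 → F) where
  toFun w := ∑ j, d.g j *ᵥ (w j : Fin 8 → F)
  map_add' := by
    intro u v
    simp [Matrix.mulVec_add, Finset.sum_add_distrib]
  map_smul' := by
    intro c u
    simp [Matrix.mulVec_smul, Finset.smul_sum]

theorem Dat.Φ_apply (w : Fin 4 → d.W) : d.Φ w = ∑ j, d.g j *ᵥ (w j : Fin 8 → F) := rfl

theorem Dat.P_Φ (j : Fin 4) (w : Fin 4 → d.W) :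
    d.P j (d.Φ w) = (4 : F) • (d.g j *ᵥ (w j : Fin 8 → F)) := by
  rw [d.Φ_apply, d.P_sum, Finset.sum_eq_single j]
  · rw [d.P_g j j (w j).2, orth_char_self]
  · intro l _ hl
    rw [d.P_g j l (w l).2, orth_char j l (Ne.symm hl), zero_smul]
  · intro h
    exact absurd (Finset.mem_univ j) h

theorem four_ne_zero' (h2 : (2 : F) ≠ 0) : (4 : F) ≠ 0 := by
  have : (4 : F) = 2 * 2 := by norm_num
  rw [this]
  exact mul_ne_zero h2 h2

theorem Dat.Φ_injective (h2 : (2 : F) ≠ 0) : Function.Injective d.Φ := by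
  rw [← LinearMap.ker_eq_bot, LinearMap.ker_eq_bot']
  intro w hw
  funext j
  have h1 := d.P_Φ j w
  rw [hw, d.P_zero] at h1
  have h3 : d.g j *ᵥ (w j : Fin 8 → F) = 0 := by
    rcases smul_eq_zero.mp h1.symm with h | h
    · exact absurd h (four_ne_zero' h2)
    · exact h
  have h4 : (w j : Fin 8 → F) = 0 := by
    calc (w j : Fin 8 → F) = (d.gi j * d.g j) *ᵥ (w j : Fin 8 → F) := by
          rw [d.hgi, Matrix.one_mulVec]
      _ = 0 := by rw [← Matrix.mulVec_mulVec, h3, Matrix.mulVec_zero]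
  exact Subtype.ext h4

theorem Dat.Φ_surjective (h2 : (2 : F) ≠ 0) : Function.Surjective d.Φ := by
  intro v
  refine ⟨fun j => ⟨(4 : F)⁻¹ • (d.gi j *ᵥ d.P j v), d.W.smul_mem _ (d.gi_P_mem j v)⟩, ?_⟩
  rw [d.Φ_apply]
  have h : ∀ j, d.g j *ᵥ ((4 : F)⁻¹ • (d.gi j *ᵥ d.P j v)) = (4 : F)⁻¹ • d.P j v := by
    intro j
    rw [Matrix.mulVec_smul, Matrix.mulVec_mulVec, d.hgi', Matrix.one_mulVec]
  simp only [h]
  rw [← Finset.smul_sum, d.sum_P, smul_smul, inv_mul_cancel₀ (four_ne_zero' h2), one_smul]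

/-- the linear equivalence `W^4 ≃ F^8` -/
noncomputable def Dat.Ψ (h2 : (2 : F) ≠ 0) : (Fin 4 → d.W) ≃ₗ[F] (Fin 8 → F) :=
  LinearEquiv.ofBijective d.Φ ⟨d.Φ_injective h2, d.Φ_surjective h2⟩

/-- different eigenspaces are orthogonal -/
theorem Dat.polar_orth (hQ : IsNondegenerateQuadraticForm Q) (h2 : (2 : F) ≠ 0) (j l : Fin 4)
    (hjl : j ≠ l) {w w' : Fin 8 → F} (hw : w ∈ d.W) (hw' : w' ∈ d.W) :
    polar Q (d.g j *ᵥ w) (d.g l *ᵥ w') = 0 := by
  set t := polar Q (d.g j *ᵥ w) (d.g l *ᵥ w') with ht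
  have h1 : t = (ε j * ε l) * t := by
    have := polar_sim Q d.X 1 (fun v => by rw [d.hXQ, one_mul]) (d.g j *ᵥ w) (d.g l *ᵥ w')
    rw [d.X_g j hw, d.X_g l hw', hQ.polar_bilinear.smul_left, hQ.polar_bilinear.smul_right,
      one_mul] at this
    rw [ht]
    linear_combination -this
  have h3 : t = (δ j * δ l) * t := by
    have := polar_sim Q d.Y 1 (fun v => by rw [d.hYQ, one_mul]) (d.g j *ᵥ w) (d.g l *ᵥ w')
    rw [d.Y_g j hw, d.Y_g l hw', hQ.polar_bilinear.smul_left, hQ.polar_bilinear.smul_right,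
      one_mul] at this
    rw [ht]
    linear_combination -this
  have h4 : (4 : F) * t = ((1 + ε j * ε l) * (1 + δ j * δ l)) * t := by
    linear_combination 2 * h1 + (1 + ε j * ε l) * h3
  rw [orth_char j l hjl, zero_mul] at h4
  rcases mul_eq_zero.mp h4 with h | h
  · exact absurd h (four_ne_zero' h2)
  · exact h

include d in
/-- there is a basis whose Gram determinant is a square -/
theorem Dat.exists_basis_isSquare (hQ : IsNondegenerateQuadraticForm Q) (h2 : (2 : F) ≠ 0) :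
    ∃ (k : ℕ) (b : Module.Basis (Fin k × Fin 4) F (Fin 8 → F)),
      IsSquare (Matrix.of fun p q => polar Q (b p) (b q)).det := by
  classical
  set k := Module.finrank F d.W with hk
  let u : Module.Basis (Fin k) F d.W := Module.finBasis F d.W
  let B : Module.Basis (Σ _ : Fin 4, Fin k) F (Fin 8 → F) := (Pi.basis fun _ : Fin 4 => u).map (d.Ψ h2)
  let eq : (Σ _ : Fin 4, Fin k) ≃ Fin k × Fin 4 :=
    (Equiv.sigmaEquivProd (Fin 4) (Fin k)).trans (Equiv.prodComm _ _)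
  let b : Module.Basis (Fin k × Fin 4) F (Fin 8 → F) := B.reindex eq
  have hb : ∀ (i : Fin k) (j : Fin 4), b (i, j) = d.g j *ᵥ ((u i : d.W) : Fin 8 → F) := by
    intro i j
    show (B.reindex eq) (i, j) = _
    rw [Module.Basis.reindex_apply]
    show B ⟨j, i⟩ = _
    show d.Ψ h2 ((Pi.basis fun _ : Fin 4 => u) ⟨j, i⟩) = _
    rw [Pi.basis_apply]
    show d.Φ _ = _
    rw [d.Φ_apply, Finset.sum_eq_single j]
    · simp
    · intro l _ hl
      simp [hl]
    · intro h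
      exact absurd (Finset.mem_univ j) h
  let G₀ : Matrix (Fin k) (Fin k) F :=
    Matrix.of fun i i' => polar Q ((u i : d.W) : Fin 8 → F) ((u i' : d.W) : Fin 8 → F)
  refine ⟨k, b, ?_⟩
  have hG : (Matrix.of fun p q => polar Q (b p) (b q)) =
      Matrix.blockDiagonal (fun j : Fin 4 => d.μ j • G₀) := by
    ext ⟨i, j⟩ ⟨i', l⟩
    rw [Matrix.of_apply, hb, hb, Matrix.blockDiagonal_apply]
    by_cases hjl : j = l
    · subst hjl
      rw [if_pos rfl, polar_sim Q (d.g j) (d.μ j) (d.hgQ j)]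
      rfl
    · rw [if_neg hjl]
      exact d.polar_orth hQ h2 j l hjl (u i).2 (u i').2
  rw [hG, Matrix.det_blockDiagonal]
  simp only [Matrix.det_smul, Fintype.card_fin]
  rw [Finset.prod_mul_distrib, Finset.prod_pow, d.hμ, Finset.prod_const, Finset.card_univ,
    Fintype.card_fin]
  exact ⟨(d.μ 1 * d.μ 2) ^ k * G₀.det ^ 2, by ring⟩

include d in
theorem Dat.plus (hQ : IsNondegenerateQuadraticForm Q) (h2 : (2 : F) ≠ 0) : IsPlusTypeOn Q ⊤ := by
  obtain ⟨k, b, hb⟩ := d.exists_basis_isSquare hQ h2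
  rw [Cfsg.Agent.Lib.Helper19.OEvenType.isPlusTypeOn_top_iff_gram Q hQ h2
    (show 8 = 2 * 4 by norm_num) b]
  exact ⟨fun _ => ⟨1, by norm_num⟩, fun _ => hb⟩

end main


/-- **K-OEvenX-X8b.**  Two commuting isometric involutions `x, y` together with similarities `a, b` such that `a` anticommutes
with `x` and commutes with `y`, and `b` commutes with `x` and anticommutes with `y`, force plus type in dimension 8
(odd characteristic). -/
theorem plus_of_involutions (Q : (Fin 8 → F) → F) (hQ : IsNondegenerateQuadraticForm Q) (h2 : (2 : F) ≠ 0)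
    (h : ∃ x y a b : GL (Fin 8) F, x ∈ isometryGroup F Q ∧ y ∈ isometryGroup F Q ∧
      a ∈ quadSimilarityGroup Q ∧ b ∈ quadSimilarityGroup Q ∧ x * x = 1 ∧ y * y = 1 ∧ x * y = y * x ∧
      a * y = y * a ∧ b * x = x * b ∧
      (a : Matrix (Fin 8) (Fin 8) F) * (x : Matrix (Fin 8) (Fin 8) F) =
        -((x : Matrix (Fin 8) (Fin 8) F) * (a : Matrix (Fin 8) (Fin 8) F)) ∧
      (b : Matrix (Fin 8) (Fin 8) F) * (y : Matrix (Fin 8) (Fin 8) F) =
        -((y : Matrix (Fin 8) (Fin 8) F) * (b : Matrix (Fin 8) (Fin 8) F))) :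
    IsPlusTypeOn Q ⊤ := by
  obtain ⟨x, y, a, b, hx, hy, ⟨μa, ha⟩, ⟨μb, hb⟩, hxx, hyy, hxy, hay, hbx, hax, hby⟩ := h
  set X : Matrix (Fin 8) (Fin 8) F := (x : Matrix (Fin 8) (Fin 8) F) with hX
  set Y : Matrix (Fin 8) (Fin 8) F := (y : Matrix (Fin 8) (Fin 8) F) with hY
  set A : Matrix (Fin 8) (Fin 8) F := (a : Matrix (Fin 8) (Fin 8) F) with hA
  set B : Matrix (Fin 8) (Fin 8) F := (b : Matrix (Fin 8) (Fin 8) F) with hB
  set Ai : Matrix (Fin 8) (Fin 8) F := ((a⁻¹ : GL (Fin 8) F) : Matrix (Fin 8) (Fin 8) F) with hAi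
  set Bi : Matrix (Fin 8) (Fin 8) F := ((b⁻¹ : GL (Fin 8) F) : Matrix (Fin 8) (Fin 8) F) with hBi
  have hAiA : Ai * A = 1 := by rw [hAi, hA, ← Units.val_mul, inv_mul_cancel, Units.val_one]
  have hAAi : A * Ai = 1 := by rw [hAi, hA, ← Units.val_mul, mul_inv_cancel, Units.val_one]
  have hBiB : Bi * B = 1 := by rw [hBi, hB, ← Units.val_mul, inv_mul_cancel, Units.val_one]
  have hBBi : B * Bi = 1 := by rw [hBi, hB, ← Units.val_mul, mul_inv_cancel, Units.val_one]
  have hXX : X * X = 1 := by rw [hX, ← Units.val_mul, hxx, Units.val_one]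
  have hYY : Y * Y = 1 := by rw [hY, ← Units.val_mul, hyy, Units.val_one]
  have hXY : X * Y = Y * X := by rw [hX, hY, ← Units.val_mul, hxy, Units.val_mul]
  have hAY : A * Y = Y * A := by rw [hA, hY, ← Units.val_mul, hay, Units.val_mul]
  have hBX : B * X = X * B := by rw [hB, hX, ← Units.val_mul, hbx, Units.val_mul]
  have hXA : X * A = -(A * X) := by rw [hax, neg_neg]
  have hYB : Y * B = -(B * Y) := by rw [hby, neg_neg]
  let d : Dat Q :=
    { X := X
      Y := Y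
      g := ![1, A, B, A * B]
      gi := ![1, Ai, Bi, Bi * Ai]
      μ := ![1, (μa : F), (μb : F), (μa : F) * (μb : F)]
      hXX := hXX
      hYY := hYY
      hXY := hXY
      hXQ := fun v => hx v v
      hYQ := fun v => hy v v
      hgi := by
        intro j
        fin_cases j
        · simp
        · simpa using hAiA
        · simpa using hBiB
        · show Bi * Ai * (A * B) = 1
          rw [Matrix.mul_assoc, ← Matrix.mul_assoc Ai, hAiA, Matrix.one_mul, hBiB]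
      hgi' := by
        intro j
        fin_cases j
        · simp
        · simpa using hAAi
        · simpa using hBBi
        · show A * B * (Bi * Ai) = 1
          rw [Matrix.mul_assoc, ← Matrix.mul_assoc B, hBBi, Matrix.one_mul, hAAi]
      hgQ := by
        intro j v
        fin_cases j
        · simp
        · simpa using ha v
        · simpa using hb v
        · show Q ((A * B) *ᵥ v) = (μa : F) * (μb : F) * Q v
          rw [← Matrix.mulVec_mulVec, ha, hb, mul_assoc]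
      hgX := by
        intro j
        fin_cases j
        · simp
        · show X * A = (-1 : F) • (A * X)
          rw [hXA, neg_one_smul]
        · show X * B = (1 : F) • (B * X)
          rw [one_smul, hBX]
        · show X * (A * B) = (-1 : F) • (A * B * X)
          rw [← Matrix.mul_assoc, hXA, neg_one_smul, Matrix.neg_mul, Matrix.mul_assoc A X B, ← hBX,
            Matrix.mul_assoc]
      hgY := by
        intro j
        fin_cases j
        · simp
        · show Y * A = (1 : F) • (A * Y)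
          rw [one_smul, hAY]
        · show Y * B = (-1 : F) • (B * Y)
          rw [hYB, neg_one_smul]
        · show Y * (A * B) = (-1 : F) • (A * B * Y)
          rw [← Matrix.mul_assoc, ← hAY, neg_one_smul, Matrix.mul_assoc A Y B, hYB, Matrix.mul_neg,
            Matrix.mul_assoc]
      hμ := by
        simp [Fin.prod_univ_four]
        ring }
  exact d.plus hQ h2

end Cfsg.Agent.Lib.Helper59.OEvenX
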