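import Mathlib
import Cfsg.Prelude.Def_GeometricClasses
import Cfsg.Agent.Lib.Helper19.OEvenType
import Cfsg.Agent.Lib.Helper59.OEvenXX8b

/-!
# K-OEvenX-X8c: one isometric involution with an anticommuting similarity forces plus type in dimension 8
-/

set_option autoImplicit false
set_option linter.unusedSectionVars false

namespace Cfsg.Agent.Lib.Helper59.OEvenX

open Cfsg Cfsg.Geo Matrix QuadraticMap
open scoped MatrixGroups

variable {F : Type*} [Field F] [Fintype F]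

/-- the data of X8c in matrix form -/
structure Dat2 (Q : (Fin 8 → F) → F) where
  /-- involution -/
  X : Matrix (Fin 8) (Fin 8) F
  /-- the two coset representatives -/
  g : Fin 2 → Matrix (Fin 8) (Fin 8) F
  /-- their inverses -/
  gi : Fin 2 → Matrix (Fin 8) (Fin 8) F
  /-- multipliers -/
  μ : Fin 2 → F
  hXX : X * X = 1
  hXQ : ∀ v, Q (X *ᵥ v) = Q v
  hgi : ∀ j, gi j * g j = 1
  hgi' : ∀ j, g j * gi j = 1
  hgQ : ∀ j v, Q (g j *ᵥ v) = μ j * Q v
  hgX : ∀ j, X * g j = (![1, -1] : Fin 2 → F) j • (g j * X)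
  hμ : μ 0 = 1

/-- signs for `X` -/
def ε2 : Fin 2 → F := ![1, -1]

theorem ε2_sq (j : Fin 2) : (ε2 j : F) * ε2 j = 1 := by fin_cases j <;> simp [ε2]

theorem orth_char2 (j l : Fin 2) (h : j ≠ l) : (1 + (ε2 j : F) * ε2 l) = 0 := by
  fin_cases j <;> fin_cases l <;> first | (exfalso; exact h rfl) | simp [ε2]

theorem orth_char2_self (j : Fin 2) : (1 + (ε2 j : F) * ε2 j) = 2 := by
  rw [ε2_sq]; norm_num

theorem sum_ε2 : ∑ j : Fin 2, (ε2 j : F) = 0 := by simp [Fin.sum_univ_two, ε2]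

section main

variable {Q : (Fin 8 → F) → F} (d : Dat2 Q)

/-- the `+1`-eigenspace -/
def Dat2.W : Submodule F (Fin 8 → F) where
  carrier := {v | d.X *ᵥ v = v}
  add_mem' := by
    intro u v hu hv
    show d.X *ᵥ (u + v) = u + v
    rw [Matrix.mulVec_add, hu, hv]
  zero_mem' := by
    show d.X *ᵥ 0 = 0
    simp
  smul_mem' := by
    intro c v hv
    show d.X *ᵥ (c • v) = c • v
    rw [Matrix.mulVec_smul, hv]

theorem Dat2.X_g (j : Fin 2) {w : Fin 8 → F} (hw : w ∈ d.W) :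
    d.X *ᵥ (d.g j *ᵥ w) = (ε2 j : F) • (d.g j *ᵥ w) := by
  have hw' : d.X *ᵥ w = w := hw
  rw [Matrix.mulVec_mulVec, d.hgX j, Matrix.smul_mulVec, ← Matrix.mulVec_mulVec, hw']
  rfl

/-- the projection onto the `ε j`-eigenspace, times 2 -/
def Dat2.P (j : Fin 2) (v : Fin 8 → F) : Fin 8 → F := v + (ε2 j : F) • (d.X *ᵥ v)

theorem Dat2.P_add (j : Fin 2) (u v : Fin 8 → F) : d.P j (u + v) = d.P j u + d.P j v := by
  unfold Dat2.P
  simp only [Matrix.mulVec_add, smul_add]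
  abel

theorem Dat2.P_zero (j : Fin 2) : d.P j 0 = 0 := by
  unfold Dat2.P
  simp

theorem Dat2.P_sum (j : Fin 2) {ι : Type*} (s : Finset ι) (f : ι → Fin 8 → F) :
    d.P j (∑ i ∈ s, f i) = ∑ i ∈ s, d.P j (f i) := by
  classical
  induction s using Finset.induction_on with
  | empty => simp [d.P_zero]
  | insert a s ha ih => rw [Finset.sum_insert ha, Finset.sum_insert ha, d.P_add, ih]

theorem Dat2.P_g (j l : Fin 2) {w : Fin 8 → F} (hw : w ∈ d.W) :
    d.P j (d.g l *ᵥ w) = (1 + (ε2 j : F) * ε2 l) • (d.g l *ᵥ w) := by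
  unfold Dat2.P
  rw [d.X_g l hw, smul_smul, add_smul, one_smul]

theorem Dat2.sum_P (v : Fin 8 → F) : ∑ j, d.P j v = (2 : F) • v := by
  unfold Dat2.P
  simp only [Finset.sum_add_distrib, ← Finset.sum_smul, sum_ε2, zero_smul, add_zero,
    Finset.sum_const, Finset.card_univ, Fintype.card_fin]
  rw [← Nat.cast_smul_eq_nsmul F]
  norm_num

theorem Dat2.X_P (j : Fin 2) (v : Fin 8 → F) : d.X *ᵥ d.P j v = (ε2 j : F) • d.P j v := by
  unfold Dat2.P
  have h1 : d.X *ᵥ (d.X *ᵥ v) = v := by rw [Matrix.mulVec_mulVec, d.hXX, Matrix.one_mulVec]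
  simp only [Matrix.mulVec_add, Matrix.mulVec_smul, h1]
  fin_cases j <;> simp [ε2] <;> abel

theorem Dat2.X_gi (j : Fin 2) : d.X * d.gi j = (ε2 j : F) • (d.gi j * d.X) := by
  have h : d.X * d.g j = (ε2 j : F) • (d.g j * d.X) := d.hgX j
  have h3 : d.gi j * d.X = (ε2 j : F) • (d.X * d.gi j) := by
    calc d.gi j * d.X = d.gi j * (d.X * d.g j) * d.gi j := by
          rw [Matrix.mul_assoc, Matrix.mul_assoc, d.hgi', Matrix.mul_one]
      _ = d.gi j * ((ε2 j : F) • (d.g j * d.X)) * d.gi j := by rw [h]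
      _ = (ε2 j : F) • (d.X * d.gi j) := by
          rw [Matrix.mul_smul, Matrix.smul_mul, ← Matrix.mul_assoc, d.hgi, Matrix.one_mul]
  rw [h3, smul_smul, ε2_sq, one_smul]

theorem Dat2.gi_P_mem (j : Fin 2) (v : Fin 8 → F) : d.gi j *ᵥ d.P j v ∈ d.W := by
  show d.X *ᵥ (d.gi j *ᵥ d.P j v) = d.gi j *ᵥ d.P j v
  rw [Matrix.mulVec_mulVec, d.X_gi, Matrix.smul_mulVec, ← Matrix.mulVec_mulVec, d.X_P,
    Matrix.mulVec_smul, smul_smul, ε2_sq, one_smul]

/-- the assembling map `W^2 → F^8` -/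
noncomputable def Dat2.Φ : (Fin 2 → d.W) →ₗ[F] (Fin 8 → F) where
  toFun w := ∑ j, d.g j *ᵥ (w j : Fin 8 → F)
  map_add' := by
    intro u v
    simp [Matrix.mulVec_add, Finset.sum_add_distrib]
  map_smul' := by
    intro c u
    simp [Matrix.mulVec_smul, Finset.smul_sum]

theorem Dat2.Φ_apply (w : Fin 2 → d.W) : d.Φ w = ∑ j, d.g j *ᵥ (w j : Fin 8 → F) := rfl

theorem Dat2.P_Φ (j : Fin 2) (w : Fin 2 → d.W) :
    d.P j (d.Φ w) = (2 : F) • (d.g j *ᵥ (w j : Fin 8 → F)) := by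
  rw [d.Φ_apply, d.P_sum, Finset.sum_eq_single j]
  · rw [d.P_g j j (w j).2, orth_char2_self]
  · intro l _ hl
    rw [d.P_g j l (w l).2, orth_char2 j l (Ne.symm hl), zero_smul]
  · intro h
    exact absurd (Finset.mem_univ j) h

theorem Dat2.Φ_injective (h2 : (2 : F) ≠ 0) : Function.Injective d.Φ := by
  rw [← LinearMap.ker_eq_bot, LinearMap.ker_eq_bot']
  intro w hw
  funext j
  have h1 := d.P_Φ j w
  rw [hw, d.P_zero] at h1
  have h3 : d.g j *ᵥ (w j : Fin 8 → F) = 0 := by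
    rcases smul_eq_zero.mp h1.symm with h | h
    · exact absurd h h2
    · exact h
  have h4 : (w j : Fin 8 → F) = 0 := by
    calc (w j : Fin 8 → F) = (d.gi j * d.g j) *ᵥ (w j : Fin 8 → F) := by
          rw [d.hgi, Matrix.one_mulVec]
      _ = 0 := by rw [← Matrix.mulVec_mulVec, h3, Matrix.mulVec_zero]
  exact Subtype.ext h4

theorem Dat2.Φ_surjective (h2 : (2 : F) ≠ 0) : Function.Surjective d.Φ := by
  intro v
  refine ⟨fun j => ⟨(2 : F)⁻¹ • (d.gi j *ᵥ d.P j v), d.W.smul_mem _ (d.gi_P_mem j v)⟩, ?_⟩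
  rw [d.Φ_apply]
  have h : ∀ j, d.g j *ᵥ ((2 : F)⁻¹ • (d.gi j *ᵥ d.P j v)) = (2 : F)⁻¹ • d.P j v := by
    intro j
    rw [Matrix.mulVec_smul, Matrix.mulVec_mulVec, d.hgi', Matrix.one_mulVec]
  simp only [h]
  rw [← Finset.smul_sum, d.sum_P, smul_smul, inv_mul_cancel₀ h2, one_smul]

/-- the linear equivalence `W^2 ≃ F^8` -/
noncomputable def Dat2.Ψ (h2 : (2 : F) ≠ 0) : (Fin 2 → d.W) ≃ₗ[F] (Fin 8 → F) :=
  LinearEquiv.ofBijective d.Φ ⟨d.Φ_injective h2, d.Φ_surjective h2⟩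

/-- the two eigenspaces are orthogonal -/
theorem Dat2.polar_orth (hQ : IsNondegenerateQuadraticForm Q) (h2 : (2 : F) ≠ 0) (j l : Fin 2)
    (hjl : j ≠ l) {w w' : Fin 8 → F} (hw : w ∈ d.W) (hw' : w' ∈ d.W) :
    polar Q (d.g j *ᵥ w) (d.g l *ᵥ w') = 0 := by
  set t := polar Q (d.g j *ᵥ w) (d.g l *ᵥ w') with ht
  have h1 : t = (ε2 j * ε2 l) * t := by
    have := polar_sim Q d.X 1 (fun v => by rw [d.hXQ, one_mul]) (d.g j *ᵥ w) (d.g l *ᵥ w')
    rw [d.X_g j hw, d.X_g l hw', hQ.polar_bilinear.smul_left, hQ.polar_bilinear.smul_right,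
      one_mul] at this
    rw [ht]
    linear_combination -this
  have h4 : (2 : F) * t = (1 + ε2 j * ε2 l) * t := by
    linear_combination h1
  rw [orth_char2 j l hjl, zero_mul] at h4
  rcases mul_eq_zero.mp h4 with h | h
  · exact absurd h h2
  · exact h

include d in
/-- there is a basis whose Gram determinant is a square -/
theorem Dat2.exists_basis_isSquare (hQ : IsNondegenerateQuadraticForm Q) (h2 : (2 : F) ≠ 0) :
    ∃ b : Module.Basis (Fin 4 × Fin 2) F (Fin 8 → F),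
      IsSquare (Matrix.of fun p q => polar Q (b p) (b q)).det := by
  classical
  set k := Module.finrank F d.W with hk
  let u₀ : Module.Basis (Fin k) F d.W := Module.finBasis F d.W
  have hk4 : k = 4 := by
    have h1 := (d.Ψ h2).finrank_eq
    rw [Module.finrank_fin_fun, Module.finrank_pi_fintype] at h1
    simp only [Finset.sum_const, Finset.card_univ, Fintype.card_fin, smul_eq_mul] at h1
    omega
  let u : Module.Basis (Fin 4) F d.W := u₀.reindex (finCongr hk4)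
  let B : Module.Basis (Σ _ : Fin 2, Fin 4) F (Fin 8 → F) := (Pi.basis fun _ : Fin 2 => u).map (d.Ψ h2)
  let eq : (Σ _ : Fin 2, Fin 4) ≃ Fin 4 × Fin 2 :=
    (Equiv.sigmaEquivProd (Fin 2) (Fin 4)).trans (Equiv.prodComm _ _)
  let b : Module.Basis (Fin 4 × Fin 2) F (Fin 8 → F) := B.reindex eq
  have hb : ∀ (i : Fin 4) (j : Fin 2), b (i, j) = d.g j *ᵥ ((u i : d.W) : Fin 8 → F) := by
    intro i j
    show (B.reindex eq) (i, j) = _
    rw [Module.Basis.reindex_apply]
    show B ⟨j, i⟩ = _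
    show d.Ψ h2 ((Pi.basis fun _ : Fin 2 => u) ⟨j, i⟩) = _
    rw [Pi.basis_apply]
    show d.Φ _ = _
    rw [d.Φ_apply, Finset.sum_eq_single j]
    · simp
    · intro l _ hl
      simp [hl]
    · intro h
      exact absurd (Finset.mem_univ j) h
  let G₀ : Matrix (Fin 4) (Fin 4) F :=
    Matrix.of fun i i' => polar Q ((u i : d.W) : Fin 8 → F) ((u i' : d.W) : Fin 8 → F)
  refine ⟨b, ?_⟩
  have hG : (Matrix.of fun p q => polar Q (b p) (b q)) =
      Matrix.blockDiagonal (fun j : Fin 2 => d.μ j • G₀) := by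
    ext ⟨i, j⟩ ⟨i', l⟩
    rw [Matrix.of_apply, hb, hb, Matrix.blockDiagonal_apply]
    by_cases hjl : j = l
    · subst hjl
      rw [if_pos rfl, polar_sim Q (d.g j) (d.μ j) (d.hgQ j)]
      rfl
    · rw [if_neg hjl]
      exact d.polar_orth hQ h2 j l hjl (u i).2 (u i').2
  rw [hG, Matrix.det_blockDiagonal]
  simp only [Matrix.det_smul, Fintype.card_fin, Fin.prod_univ_two, d.hμ]
  exact ⟨(d.μ 1) ^ 2 * G₀.det, by ring⟩

include d in
theorem Dat2.plus (hQ : IsNondegenerateQuadraticForm Q) (h2 : (2 : F) ≠ 0) : IsPlusTypeOn Q ⊤ := by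
  obtain ⟨b, hb⟩ := d.exists_basis_isSquare hQ h2
  rw [Cfsg.Agent.Lib.Helper19.OEvenType.isPlusTypeOn_top_iff_gram Q hQ h2
    (show 8 = 2 * 4 by norm_num) b]
  exact ⟨fun _ => ⟨1, by norm_num⟩, fun _ => hb⟩

end main

/-- **K-OEvenX-X8c.**  An isometric involution `w` together with a similarity `z` anticommuting with it forces plus type
in dimension 8 (odd characteristic). -/
theorem plus_of_involution (Q : (Fin 8 → F) → F) (hQ : IsNondegenerateQuadraticForm Q) (h2 : (2 : F) ≠ 0)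
    (h : ∃ w z : GL (Fin 8) F, w ∈ isometryGroup F Q ∧ z ∈ quadSimilarityGroup Q ∧ w * w = 1 ∧
      (z : Matrix (Fin 8) (Fin 8) F) * (w : Matrix (Fin 8) (Fin 8) F) =
        -((w : Matrix (Fin 8) (Fin 8) F) * (z : Matrix (Fin 8) (Fin 8) F))) :
    IsPlusTypeOn Q ⊤ := by
  obtain ⟨w, z, hw, ⟨μz, hz⟩, hww, hzw⟩ := h
  set X : Matrix (Fin 8) (Fin 8) F := (w : Matrix (Fin 8) (Fin 8) F) with hX
  set Z : Matrix (Fin 8) (Fin 8) F := (z : Matrix (Fin 8) (Fin 8) F) with hZ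
  set Zi : Matrix (Fin 8) (Fin 8) F := ((z⁻¹ : GL (Fin 8) F) : Matrix (Fin 8) (Fin 8) F) with hZi
  have hZiZ : Zi * Z = 1 := by rw [hZi, hZ, ← Units.val_mul, inv_mul_cancel, Units.val_one]
  have hZZi : Z * Zi = 1 := by rw [hZi, hZ, ← Units.val_mul, mul_inv_cancel, Units.val_one]
  have hXX : X * X = 1 := by rw [hX, ← Units.val_mul, hww, Units.val_one]
  have hXZ : X * Z = -(Z * X) := by rw [hzw, neg_neg]
  let d : Dat2 Q :=
    { X := X
      g := ![1, Z]
      gi := ![1, Zi]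
      μ := ![1, (μz : F)]
      hXX := hXX
      hXQ := fun v => hw v v
      hgi := by
        intro j
        fin_cases j
        · simp
        · simpa using hZiZ
      hgi' := by
        intro j
        fin_cases j
        · simp
        · simpa using hZZi
      hgQ := by
        intro j v
        fin_cases j
        · simp
        · simpa using hz v
      hgX := by
        intro j
        fin_cases j
        · simp
        · show X * Z = (-1 : F) • (Z * X)
          rw [hXZ, neg_one_smul]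
      hμ := rfl }
  exact d.plus hQ h2

end Cfsg.Agent.Lib.Helper59.OEvenX
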