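/-
K-OQF-A0 (keystone 597715) of the S5977 pack (architect helper72):
`|Ω : N(K0) ∩ Ω| · |GO_d(q², dot)|` divides `4 |GO⁺_{2d}(q)|`, by embedding `GO_d(L, dot)` into
`C_GO(θ₀)`; twin of helper14's `SpUA0`.
-/
import Mathlib
import Cfsg.Prelude.Def_GeometricClasses
import Cfsg.Prelude.Def_ClassicalGeometry
import Cfsg.Agent.Lib.Helper72.OQFDefs
import Cfsg.Agent.Lib.Helper79.SpUDefs
import Cfsg.Agent.Lib.Helper14.SpUA0
import Cfsg.Agent.Lib.Helper50.DotForm
import Cfsg.Agent.Lib.Helper50.SpinorIndex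
import Cfsg.Agent.Lib.Helper50.PlusForm
import Cfsg.Agent.Lib.Helper50.GeoBridge

set_option autoImplicit false
set_option linter.unusedSectionVars false
set_option linter.unusedVariables false

namespace Cfsg.Agent.Lib.Helper59.OQF

open Cfsg Cfsg.Geo Cfsg.Agent.Lib.Helper72.OQF
open Cfsg.Agent.Lib.Helper79.SpU (theta K0)
open Cfsg.Agent.Lib.Helper14.SpU
open scoped Matrix MatrixGroups

section bookkeeping

variable {G : Type*} [Group G]

/-- index bookkeeping: `Ω ≤ GO` normal of index `j`, `c ∣ |N ∩ GO|`: `|Ω : N ∩ Ω| · c ∣ j · |GO|` -/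
theorem relIndex_mul_dvd_of (GO Om N : Subgroup G) (hle : Om ≤ GO)
    (hn : (Om.subgroupOf GO).Normal) (j : ℕ) (hj : (Om.subgroupOf GO).index = j) (c : ℕ)
    (hc : c ∣ Nat.card ↥(N ⊓ GO)) :
    N.relIndex Om * c ∣ j * Nat.card GO := by
  have h1 : Nat.card ↥(Om ⊓ (N ⊓ GO)) * Om.relIndex (N ⊓ GO) = Nat.card ↥(N ⊓ GO) := by
    have := Subgroup.relIndex_inf_mul_relIndex (⊥ : Subgroup G) Om (N ⊓ GO)
    rwa [bot_inf_eq, Subgroup.relIndex_bot_left, Subgroup.relIndex_bot_left] at this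
  have h2 : Nat.card ↥(N ⊓ Om) * N.relIndex Om = Nat.card Om := by
    have := Subgroup.relIndex_inf_mul_relIndex (⊥ : Subgroup G) N Om
    rwa [bot_inf_eq, Subgroup.relIndex_bot_left, Subgroup.relIndex_bot_left] at this
  have h3 : Om ⊓ (N ⊓ GO) = N ⊓ Om := by
    rw [inf_comm N GO, ← inf_assoc, inf_eq_left.2 hle, inf_comm]
  have h4 : Nat.card Om ∣ Nat.card GO := Subgroup.card_dvd_of_le hle
  have h5 : Om.relIndex (N ⊓ GO) ∣ j := by
    rw [← hj, ← Subgroup.relIndex_subgroupOf (H := Om) (K := N ⊓ GO) (L := GO) inf_le_right]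
    exact Subgroup.relIndex_dvd_index_of_normal _ _
  rw [h3] at h1
  calc N.relIndex Om * c ∣ N.relIndex Om * Nat.card ↥(N ⊓ GO) := Nat.mul_dvd_mul_left _ hc
    _ = (Nat.card ↥(N ⊓ Om) * N.relIndex Om) * Om.relIndex (N ⊓ GO) := by rw [← h1]; ring
    _ = Nat.card Om * Om.relIndex (N ⊓ GO) := by rw [h2]
    _ ∣ Nat.card GO * j := Nat.mul_dvd_mul h4 h5
    _ = j * Nat.card GO := mul_comm _ _

end bookkeeping

section Finite

variable {F : Type*} [Field F] [Fintype F]

/-- the plus form is half the `ω`-coordinate of the sum of squares over `L` -/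
theorem two_mul_quadFormPlus_Phi (d : ℕ) (δ : F) [Fact (∀ r : F, r ^ 2 ≠ δ + 0 * r)]
    (u : Fin d → LL δ) :
    2 * quadFormPlus d F (Phi d δ u) = (Cfsg.Agent.Lib.Helper50.dotQF d (LL δ) u).im := by
  rw [Cfsg.Agent.Lib.Helper50.dotQF_apply, dotProduct, im_sum]
  unfold quadFormPlus
  rw [Finset.mul_sum]
  apply Finset.sum_congr rfl
  intro i _
  rw [Phi_inl, Phi_inr]
  simp
  try ring

set_option maxHeartbeats 2000000 in
theorem Psi_mem_GO (h2 : (2 : F) ≠ 0) (d : ℕ) (δ : F) [Fact (∀ r : F, r ^ 2 ≠ δ + 0 * r)]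
    (g : GL (Fin d) (LL δ))
    (hg : g ∈ Cfsg.isometryGroup (LL δ) (⇑(Cfsg.Agent.Lib.Helper50.dotQF d (LL δ)))) :
    Psi d δ g ∈ subalgebraNormalizer (K0 d δ) ⊓ Cfsg.isometryGroup F (quadFormPlus d F) := by
  refine ⟨mem_normalizer_of_comm d δ _ ?_, ?_⟩
  · rw [Psi_val]
    exact psi_comm_theta d δ _
  · intro w _
    obtain ⟨u, rfl⟩ := (Phi d δ).surjective w
    change quadFormPlus d F (((Psi d δ g : GL (Fin d ⊕ Fin d) F) :
      Matrix (Fin d ⊕ Fin d) (Fin d ⊕ Fin d) F) *ᵥ Phi d δ u) = quadFormPlus d F (Phi d δ u)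
    rw [Psi_val, psi_mulVec]
    apply mul_left_cancel₀ h2
    rw [two_mul_quadFormPlus_Phi, two_mul_quadFormPlus_Phi]
    have := hg u 0
    exact congrArg QuadraticAlgebra.im this

set_option maxHeartbeats 2000000 in
/-- **K-OQF-A0 (597715)** -/
theorem relIndex_mul_dvd (hodd : Odd (Fintype.card F)) (d : ℕ) (hd : 1 ≤ d) (δ : F)
    [Fact (∀ r : F, r ^ 2 ≠ δ + 0 * r)] :
    (subalgebraNormalizer (K0 d δ)).relIndex (omegaGL (quadFormPlus d F)) *
        Nat.card (Cfsg.isometryGroup (LL δ) (⇑(Cfsg.Agent.Lib.Helper50.dotQF d (LL δ)))) ∣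
      4 * Nat.card (Cfsg.isometryGroup F (quadFormPlus d F)) := by
  classical
  have h2 : (2 : F) ≠ 0 := by
    intro h
    have hdv : ringChar F ∣ 2 := (ringChar.spec F 2).1 (by push_cast; exact h)
    have hp := CharP.char_is_prime F (ringChar F)
    have hch : ringChar F = 2 := (Nat.prime_dvd_prime_iff_eq hp Nat.prime_two).1 hdv
    have := FiniteField.even_card_iff_char_two.mp hch
    rcases hodd with ⟨k, hk⟩
    omega
  -- the restricted embedding
  let φ : Cfsg.isometryGroup (LL δ) (⇑(Cfsg.Agent.Lib.Helper50.dotQF d (LL δ))) →*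
      ↥(subalgebraNormalizer (K0 d δ) ⊓ Cfsg.isometryGroup F (quadFormPlus d F)) :=
    ((Psi d δ).comp (Cfsg.isometryGroup (LL δ)
      (⇑(Cfsg.Agent.Lib.Helper50.dotQF d (LL δ)))).subtype).codRestrict _
      (fun g => Psi_mem_GO h2 d δ g.1 g.2)
  have hφ : Function.Injective φ := by
    intro a b hab
    apply Subtype.ext
    apply Psi_injective d δ
    exact congrArg Subtype.val hab
  have hdvd := Subgroup.card_dvd_of_injective φ hφ
  have hle : omegaGL (quadFormPlus d F) ≤ Cfsg.isometryGroup F (quadFormPlus d F) := by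
    intro g hg
    obtain ⟨h, -⟩ := (Cfsg.Agent.Lib.Helper50.mem_omegaGL_iff _ g).1 hg
    exact h
  have hsub : (omegaGL (quadFormPlus d F)).subgroupOf (Cfsg.isometryGroup F (quadFormPlus d F)) =
      Cfsg.Omega F (quadFormPlus d F) := by
    unfold omegaGL
    exact Subgroup.comap_map_eq_self_of_injective (Subgroup.subtype_injective _) _
  have hidx : ((omegaGL (quadFormPlus d F)).subgroupOf
      (Cfsg.isometryGroup F (quadFormPlus d F))).index = 4 := by
    rw [hsub]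
    have := Cfsg.Agent.Lib.Helper50.index_commutator h2 (Cfsg.Agent.Lib.Helper50.QPlus d F)
      Cfsg.Agent.Lib.Helper50.QPlus_nondegenerate
      (by rw [Fintype.card_sum, Fintype.card_fin]; omega)
    exact this
  have hn : ((omegaGL (quadFormPlus d F)).subgroupOf
      (Cfsg.isometryGroup F (quadFormPlus d F))).Normal := by
    rw [hsub]
    infer_instance
  exact relIndex_mul_dvd_of _ _ _ hle hn 4 hidx _ hdvd

end Finite

end Cfsg.Agent.Lib.Helper59.OQF
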