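/-
K-OQF-A0m (keystone 597721) of the S5978 pack (architect helper72): from a normal frame of a
self-adjoint square root `θ` of `δ`, the group `GO(L^d, ⟨1,…,1,c⟩)` embeds in `C_GO(θ)`;
`|Ω : N(K) ∩ Ω| · |GO(L^d, ⟨1,…,1,c⟩)|` divides `4 |GO(Q)|`.  Frame version of `OQFA0`.
-/
import Mathlib
import Cfsg.Prelude.Def_GeometricClasses
import Cfsg.Prelude.Def_ClassicalGeometry
import Cfsg.Agent.Lib.Helper72.OQFDefs
import Cfsg.Agent.Lib.Helper72.OQFDefs2
import Cfsg.Agent.Lib.Helper14.SpUA0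
import Cfsg.Agent.Lib.Helper91.OQFT3
import Cfsg.Agent.Lib.Helper59.OQFA0
import Cfsg.Agent.Lib.Helper50.SpinorIndex
import Cfsg.Agent.Lib.Helper50.GeoBridge

set_option autoImplicit false
set_option linter.unusedSectionVars false
set_option linter.unusedVariables false

namespace Cfsg.Agent.Lib.Helper59.OQF

open Cfsg Cfsg.Geo Cfsg.Agent.Lib.Helper72.OQF
open Cfsg.Agent.Lib.Helper14.SpU (LL om om_mul)
open scoped Matrix MatrixGroups

variable {F : Type*} [Field F] {ι : Type} [Fintype ι] [DecidableEq ι]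

section quad

/-- additivity of a quadratic form on mutually orthogonal vectors -/
theorem map_sum_of_orth {V : Type*} [AddCommGroup V] [Module F V] (Q : QuadraticForm F V)
    {κ : Type*} [DecidableEq κ] (s : Finset κ) (x : κ → V)
    (h : ∀ k ∈ s, ∀ l ∈ s, k ≠ l → QuadraticMap.polar (⇑Q) (x k) (x l) = 0) :
    Q (∑ k ∈ s, x k) = ∑ k ∈ s, Q (x k) := by
  induction s using Finset.induction_on with
  | empty => simp
  | insert a s ha ih =>
    rw [Finset.sum_insert ha, Finset.sum_insert ha, QuadraticMap.map_add Q (x a) (∑ l ∈ s, x l), ih]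
    · have h0 : QuadraticMap.polar (⇑Q) (x a) (∑ l ∈ s, x l) = 0 := by
        rw [← QuadraticMap.polarBilin_apply_apply, map_sum]
        apply Finset.sum_eq_zero
        intro l hl
        rw [QuadraticMap.polarBilin_apply_apply]
        exact h a (Finset.mem_insert_self a s) l (Finset.mem_insert_of_mem hl)
          (fun hal => ha (hal ▸ hl))
      rw [h0, add_zero]
    · intro k hk l hl hkl
      exact h k (Finset.mem_insert_of_mem hk) l (Finset.mem_insert_of_mem hl) hkl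

end quad

section coords

variable (δ : F) (d : ℕ)

/-- coordinates `L^d ≃ F^(d × 2)` -/
def coordE : (Fin d → LL δ) ≃ₗ[F] (Fin d × Fin 2 → F) where
  toFun z := fun p => if p.2 = 0 then (z p.1).re else (z p.1).im
  invFun w := fun k => ⟨w (k, 0), w (k, 1)⟩
  map_add' u v := by
    funext p
    by_cases hp : p.2 = 0 <;> simp [hp]
  map_smul' c u := by
    funext p
    by_cases hp : p.2 = 0 <;> simp [hp]
  left_inv u := by
    funext k
    ext <;> simp
  right_inv w := by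
    funext p
    obtain ⟨k, i⟩ := p
    fin_cases i <;> simp

end coords

section frame

variable (Q : QuadraticForm F (ι → F)) (δ : F) (θ : Matrix ι ι F) (d : ℕ) (b : Fin d → ι → F)
  (a β : F)

/-- the basis of a normal frame -/
noncomputable def frameBasis (hd : 1 ≤ d) (hfr : IsNFrame (⇑Q) θ d b a β) :
    Module.Basis (Fin d × Fin 2) F (ι → F) :=
  haveI : Nonempty (Fin d × Fin 2) := ⟨(⟨0, hd⟩, 0)⟩
  basisOfLinearIndependentOfCardEqFinrank hfr.li (by
    rw [Fintype.card_prod, Fintype.card_fin, Fintype.card_fin, Module.finrank_fintype_fun_eq_card,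
      hfr.card, mul_comm])

/-- the coordinate isomorphism of a normal frame -/
noncomputable def PhiF (hd : 1 ≤ d) (hfr : IsNFrame (⇑Q) θ d b a β) :
    (Fin d → LL δ) ≃ₗ[F] (ι → F) :=
  (coordE δ d).trans (frameBasis Q θ d b a β hd hfr).equivFun.symm

theorem PhiF_apply (hd : 1 ≤ d) (hfr : IsNFrame (⇑Q) θ d b a β) (z : Fin d → LL δ) :
    PhiF Q δ θ d b a β hd hfr z = ∑ k, ((z k).re • b k + (z k).im • θ *ᵥ b k) := by
  unfold PhiF
  rw [LinearEquiv.trans_apply, Module.Basis.equivFun_symm_apply, Fintype.sum_prod_type]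
  apply Finset.sum_congr rfl
  intro k _
  rw [Fin.sum_univ_two]
  simp [frameBasis, coordE]

end frame

section norm

variable (Q : QuadraticForm F (ι → F)) (δ : F) (θ : Matrix ι ι F)

theorem theta_theta (hθ : θ * θ = δ • (1 : Matrix ι ι F)) (u : ι → F) :
    θ *ᵥ (θ *ᵥ u) = δ • u := by
  rw [Matrix.mulVec_mulVec, hθ, Matrix.smul_mulVec, Matrix.one_mulVec]

theorem Q_theta (h2 : (2 : F) ≠ 0) (hθ : θ * θ = δ • (1 : Matrix ι ι F)) (hsa : IsSAMat (⇑Q) θ)
    (u : ι → F) : Q (θ *ᵥ u) = δ * Q u := by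
  have h1 := hsa u (θ *ᵥ u)
  rw [theta_theta δ θ hθ, QuadraticMap.polar_self, QuadraticMap.polar_smul_right,
    QuadraticMap.polar_self, smul_eq_mul] at h1
  rw [two_smul, two_smul] at h1
  apply mul_left_cancel₀ h2
  linear_combination h1

theorem polar_theta_theta (hθ : θ * θ = δ • (1 : Matrix ι ι F)) (hsa : IsSAMat (⇑Q) θ)
    (u v : ι → F) :
    QuadraticMap.polar (⇑Q) (θ *ᵥ u) (θ *ᵥ v) = δ * QuadraticMap.polar (⇑Q) u v := by
  rw [hsa u (θ *ᵥ v), theta_theta δ θ hθ, QuadraticMap.polar_smul_right, smul_eq_mul]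

/-- the norm on a `θ`-plane -/
theorem Q_plane (h2 : (2 : F) ≠ 0) (hθ : θ * θ = δ • (1 : Matrix ι ι F)) (hsa : IsSAMat (⇑Q) θ)
    (u : ι → F) (s t : F) :
    Q (s • u + t • θ *ᵥ u) =
      s * s * Q u + s * t * QuadraticMap.polar (⇑Q) u (θ *ᵥ u) + δ * (t * t) * Q u := by
  rw [QuadraticMap.map_add Q, QuadraticMap.map_smul, QuadraticMap.map_smul,
    QuadraticMap.polar_smul_left, QuadraticMap.polar_smul_right, Q_theta Q δ θ h2 hθ hsa,
    smul_eq_mul, smul_eq_mul, smul_eq_mul, smul_eq_mul]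
  ring

end norm

section main

variable [Fintype F] (Q : QuadraticForm F (ι → F)) (δ : F) [Fact (∀ r : F, r ^ 2 ≠ δ + 0 * r)]
  (θ : Matrix ι ι F) (d : ℕ) (b : Fin d → ι → F) (a β : F)

/-- `Q (Φ z) = im (wss z) / 2` -/
theorem two_mul_Q_PhiF (h2 : (2 : F) ≠ 0) (hθ : θ * θ = δ • (1 : Matrix ι ι F))
    (hsa : IsSAMat (⇑Q) θ) (hd : 1 ≤ d) (hfr : IsNFrame (⇑Q) θ d b a β) (z : Fin d → LL δ) :
    2 * Q (PhiF Q δ θ d b a β hd hfr z) =
      (QuadraticMap.weightedSumSquares (LL δ) (nfW d (⟨β, 2 * a⟩ : LL δ)) z).im := by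
  classical
  rw [PhiF_apply, map_sum_of_orth Q Finset.univ
    (fun k => (z k).re • b k + (z k).im • θ *ᵥ b k)]
  · rw [QuadraticMap.weightedSumSquares_apply, Cfsg.Agent.Lib.Helper14.SpU.im_sum, Finset.mul_sum]
    apply Finset.sum_congr rfl
    intro k _
    rw [Q_plane Q δ θ h2 hθ hsa]
    by_cases hk : (k : ℕ) + 1 < d
    · obtain ⟨e1, e2⟩ := hfr.norm k hk
      rw [e1, e2]
      simp [nfW, hk]
      ring
    · have hk' : (k : ℕ) + 1 = d := by have := k.2; omega
      obtain ⟨e1, e2⟩ := hfr.last k hk'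
      rw [e1, e2]
      simp [nfW, hk]
      ring
  · intro k _ l _ hkl
    obtain ⟨o1, o2⟩ := hfr.orth k l hkl
    obtain ⟨o3, o4⟩ := hfr.orth l k (Ne.symm hkl)
    have o4' : QuadraticMap.polar (⇑Q) (θ *ᵥ b k) (b l) = 0 := by
      rw [QuadraticMap.polar_comm]
      exact o4
    rw [QuadraticMap.polar_add_left, QuadraticMap.polar_add_right, QuadraticMap.polar_add_right,
      QuadraticMap.polar_smul_left, QuadraticMap.polar_smul_left, QuadraticMap.polar_smul_left,
      QuadraticMap.polar_smul_left, QuadraticMap.polar_smul_right, QuadraticMap.polar_smul_right,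
      QuadraticMap.polar_smul_right, QuadraticMap.polar_smul_right,
      polar_theta_theta Q δ θ hθ hsa, o1, o2, o4']
    simp

/-- `Φ (ω z) = θ (Φ z)` -/
theorem PhiF_om (hθ : θ * θ = δ • (1 : Matrix ι ι F)) (hd : 1 ≤ d)
    (hfr : IsNFrame (⇑Q) θ d b a β) (z : Fin d → LL δ) :
    PhiF Q δ θ d b a β hd hfr (fun k => om δ * z k) = θ *ᵥ PhiF Q δ θ d b a β hd hfr z := by
  rw [PhiF_apply, PhiF_apply, ← Matrix.toLin'_apply, map_sum]
  apply Finset.sum_congr rfl
  intro k _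
  rw [map_add, map_smul, map_smul, Matrix.toLin'_apply, Matrix.toLin'_apply,
    theta_theta δ θ hθ, om_mul]
  simp only [smul_smul]
  rw [add_comm, mul_comm]

end main

section transport

variable (δ : F) (d : ℕ) (Φ : (Fin d → LL δ) ≃ₗ[F] (ι → F))

/-- the `F`-linear map on `F^ι` induced by a matrix over `L` -/
noncomputable def TTg (M : Matrix (Fin d) (Fin d) (LL δ)) : (ι → F) →ₗ[F] (ι → F) :=
  Φ.toLinearMap ∘ₗ ((Matrix.toLin' M).restrictScalars F) ∘ₗ Φ.symm.toLinearMap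

theorem TTg_apply (M : Matrix (Fin d) (Fin d) (LL δ)) (u : Fin d → LL δ) :
    TTg δ d Φ M (Φ u) = Φ (M *ᵥ u) := by
  unfold TTg
  rw [LinearMap.comp_apply, LinearMap.comp_apply, LinearEquiv.coe_coe, LinearEquiv.coe_coe,
    LinearEquiv.symm_apply_apply, LinearMap.restrictScalars_apply, Matrix.toLin'_apply]

theorem TTg_one : TTg δ d Φ 1 = LinearMap.id := by
  apply LinearMap.ext
  intro w
  obtain ⟨u, rfl⟩ := Φ.surjective w
  rw [TTg_apply, Matrix.one_mulVec, LinearMap.id_apply]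

theorem TTg_mul (M N : Matrix (Fin d) (Fin d) (LL δ)) :
    TTg δ d Φ (M * N) = TTg δ d Φ M ∘ₗ TTg δ d Φ N := by
  apply LinearMap.ext
  intro w
  obtain ⟨u, rfl⟩ := Φ.surjective w
  rw [LinearMap.comp_apply, TTg_apply, TTg_apply, TTg_apply, Matrix.mulVec_mulVec]

/-- the ring embedding `M_d(L) → M_ι(F)` as a monoid homomorphism -/
noncomputable def psig : Matrix (Fin d) (Fin d) (LL δ) →* Matrix ι ι F where
  toFun M := LinearMap.toMatrix' (TTg δ d Φ M)
  map_one' := by rw [TTg_one, LinearMap.toMatrix'_id]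
  map_mul' M N := by rw [TTg_mul, LinearMap.toMatrix'_comp]

theorem psig_mulVec (M : Matrix (Fin d) (Fin d) (LL δ)) (u : Fin d → LL δ) :
    psig δ d Φ M *ᵥ Φ u = Φ (M *ᵥ u) := by
  change LinearMap.toMatrix' (TTg δ d Φ M) *ᵥ Φ u = _
  rw [LinearMap.toMatrix'_mulVec, TTg_apply]

theorem psig_injective : Function.Injective (psig δ d Φ) := by
  intro M N h
  apply Matrix.toLin'.injective
  apply LinearMap.ext
  intro u
  rw [Matrix.toLin'_apply, Matrix.toLin'_apply]
  apply Φ.injective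
  rw [← psig_mulVec, ← psig_mulVec, h]

/-- the embedding `GL_d(L) → GL_ι(F)` -/
noncomputable def Psig : GL (Fin d) (LL δ) →* GL ι F := Units.map (psig δ d Φ)

theorem Psig_val (g : GL (Fin d) (LL δ)) :
    ((Psig δ d Φ g : GL ι F) : Matrix ι ι F) = psig δ d Φ (g : Matrix (Fin d) (Fin d) (LL δ)) :=
  rfl

theorem Psig_injective : Function.Injective (Psig δ d Φ) :=
  Units.map_injective (psig_injective δ d Φ)

/-- if `Φ` intertwines `ω` and `θ` then the transported matrices commute with `θ` -/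
theorem psig_comm (θ : Matrix ι ι F)
    (hΦ : ∀ z : Fin d → LL δ, Φ (fun k => om δ * z k) = θ *ᵥ Φ z)
    (M : Matrix (Fin d) (Fin d) (LL δ)) : psig δ d Φ M * θ = θ * psig δ d Φ M := by
  apply Matrix.toLin'.injective
  apply LinearMap.ext
  intro w
  obtain ⟨u, rfl⟩ := Φ.surjective w
  rw [Matrix.toLin'_apply, Matrix.toLin'_apply, ← Matrix.mulVec_mulVec, ← Matrix.mulVec_mulVec,
    ← hΦ, psig_mulVec, psig_mulVec, ← hΦ]
  congr 1
  funext i
  rw [Matrix.mulVec, Matrix.mulVec, dotProduct, dotProduct, Finset.mul_sum]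
  apply Finset.sum_congr rfl
  intro j _
  ring

end transport

section final

variable [Fintype F]

set_option maxHeartbeats 2000000 in
theorem Psig_mem (h2 : (2 : F) ≠ 0) (Q : QuadraticForm F (ι → F)) (δ : F)
    [Fact (∀ r : F, r ^ 2 ≠ δ + 0 * r)] (K : Subalgebra F (Matrix ι ι F)) (θ : Matrix ι ι F)
    (hθ : θ * θ = δ • (1 : Matrix ι ι F)) (hsa : IsSAMat (⇑Q) θ) (hK : GenBy K θ) (d : ℕ)
    (hd : 1 ≤ d) (b : Fin d → ι → F) (a β : F) (hfr : IsNFrame (⇑Q) θ d b a β)
    (g : GL (Fin d) (LL δ))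
    (hg : g ∈ Cfsg.isometryGroup (LL δ)
      (⇑(QuadraticMap.weightedSumSquares (LL δ) (nfW d (⟨β, 2 * a⟩ : LL δ))))) :
    Psig δ d (PhiF Q δ θ d b a β hd hfr) g ∈
      subalgebraNormalizer K ⊓ Cfsg.isometryGroup F (⇑Q) := by
  refine ⟨Cfsg.Agent.Lib.Helper91.OQF.mem_normalizer_of_normTh K θ hK _ (Or.inl ?_), ?_⟩
  · rw [Psig_val]
    exact psig_comm δ d _ θ (PhiF_om Q δ θ d b a β hθ hd hfr) _
  · intro w _
    obtain ⟨u, rfl⟩ := (PhiF Q δ θ d b a β hd hfr).surjective w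
    change Q (((Psig δ d (PhiF Q δ θ d b a β hd hfr) g : GL ι F) : Matrix ι ι F) *ᵥ
      PhiF Q δ θ d b a β hd hfr u) = Q (PhiF Q δ θ d b a β hd hfr u)
    rw [Psig_val, psig_mulVec]
    apply mul_left_cancel₀ h2
    rw [two_mul_Q_PhiF Q δ θ d b a β h2 hθ hsa hd hfr, two_mul_Q_PhiF Q δ θ d b a β h2 hθ hsa hd hfr]
    have := hg u 0
    exact congrArg QuadraticAlgebra.im this

set_option maxHeartbeats 2000000 in
/-- **K-OQF-A0m (597721)** -/
theorem relIndex_mul_dvd_of_nframe (hodd : Odd (Fintype.card F)) (Q : QuadraticForm F (ι → F))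
    (hQ : (QuadraticMap.polarBilin Q).Nondegenerate) (δ : F) [Fact (∀ r : F, r ^ 2 ≠ δ + 0 * r)]
    (K : Subalgebra F (Matrix ι ι F)) (θ : Matrix ι ι F) (hθ : θ * θ = δ • (1 : Matrix ι ι F))
    (hsa : IsSAMat (⇑Q) θ) (hK : GenBy K θ) (d : ℕ) (hd : 1 ≤ d) (b : Fin d → ι → F) (a β : F)
    (hfr : IsNFrame (⇑Q) θ d b a β) :
    (subalgebraNormalizer K).relIndex (omegaGL (⇑Q)) *
        Nat.card (Cfsg.isometryGroup (LL δ)
          (⇑(QuadraticMap.weightedSumSquares (LL δ) (nfW d (⟨β, 2 * a⟩ : LL δ))))) ∣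
      4 * Nat.card (Cfsg.isometryGroup F (⇑Q)) := by
  classical
  have h2 : (2 : F) ≠ 0 := by
    intro h
    have hdv : ringChar F ∣ 2 := (ringChar.spec F 2).1 (by push_cast; exact h)
    have hp := CharP.char_is_prime F (ringChar F)
    have hch : ringChar F = 2 := (Nat.prime_dvd_prime_iff_eq hp Nat.prime_two).1 hdv
    have := FiniteField.even_card_iff_char_two.mp hch
    rcases hodd with ⟨k, hk⟩
    omega
  let φ : Cfsg.isometryGroup (LL δ)
      (⇑(QuadraticMap.weightedSumSquares (LL δ) (nfW d (⟨β, 2 * a⟩ : LL δ)))) →*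
      ↥(subalgebraNormalizer K ⊓ Cfsg.isometryGroup F (⇑Q)) :=
    ((Psig δ d (PhiF Q δ θ d b a β hd hfr)).comp (Cfsg.isometryGroup (LL δ)
      (⇑(QuadraticMap.weightedSumSquares (LL δ) (nfW d (⟨β, 2 * a⟩ : LL δ))))).subtype).codRestrict _
      (fun g => Psig_mem h2 Q δ K θ hθ hsa hK d hd b a β hfr g.1 g.2)
  have hφ : Function.Injective φ := by
    intro x y hxy
    apply Subtype.ext
    apply Psig_injective δ d (PhiF Q δ θ d b a β hd hfr)
    exact congrArg Subtype.val hxy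
  have hdvd := Subgroup.card_dvd_of_injective φ hφ
  have hle : omegaGL (⇑Q) ≤ Cfsg.isometryGroup F (⇑Q) := by
    intro g hg
    obtain ⟨h, -⟩ := (Cfsg.Agent.Lib.Helper50.mem_omegaGL_iff _ g).1 hg
    exact h
  have hsub : (omegaGL (⇑Q)).subgroupOf (Cfsg.isometryGroup F (⇑Q)) = Cfsg.Omega F (⇑Q) := by
    unfold omegaGL
    exact Subgroup.comap_map_eq_self_of_injective (Subgroup.subtype_injective _) _
  have hidx : ((omegaGL (⇑Q)).subgroupOf (Cfsg.isometryGroup F (⇑Q))).index = 4 := by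
    rw [hsub]
    exact Cfsg.Agent.Lib.Helper50.index_commutator h2 Q hQ (by rw [hfr.card]; omega)
  have hn : ((omegaGL (⇑Q)).subgroupOf (Cfsg.isometryGroup F (⇑Q))).Normal := by
    rw [hsub]
    infer_instance
  exact relIndex_mul_dvd_of _ _ _ hle hn 4 hidx _ hdvd

end final

end Cfsg.Agent.Lib.Helper59.OQF
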