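/-
K-OQF-M (keystone 597706) of the S5977/S5978 pack (architect helper72): all O-type quadratic field
subalgebras are conjugate under the isometry group (matrix wrapper of M0 + M2).
-/
import Mathlib
import Cfsg.Prelude.Def_GeometricClasses
import Cfsg.Prelude.Def_ClassicalGeometry
import Cfsg.Agent.Lib.Helper72.OQFDefs
import Cfsg.Agent.Lib.Helper63.OQFM0
import Cfsg.Agent.Lib.Helper19.OQFM2x

set_option autoImplicit false
set_option linter.unusedSectionVars false
set_option linter.unusedVariables false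

namespace Cfsg.Agent.Lib.Helper59.OQF

open Cfsg Cfsg.Geo Cfsg.Agent.Lib.Helper72.OQF
open scoped Matrix MatrixGroups

variable {F : Type*} [Field F] {ι : Type} [Fintype ι] [DecidableEq ι]

/-- a linear automorphism of `F^ι` as an element of `GL ι F` -/
noncomputable def glOfEquiv (g : (ι → F) ≃ₗ[F] (ι → F)) : GL ι F where
  val := LinearMap.toMatrix' g.toLinearMap
  inv := LinearMap.toMatrix' g.symm.toLinearMap
  val_inv := by
    rw [← LinearMap.toMatrix'_comp]
    simp
  inv_val := by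
    rw [← LinearMap.toMatrix'_comp]
    simp

theorem glOfEquiv_mulVec (g : (ι → F) ≃ₗ[F] (ι → F)) (v : ι → F) :
    (glOfEquiv g : Matrix ι ι F) *ᵥ v = g v := by
  change LinearMap.toMatrix' g.toLinearMap *ᵥ v = g v
  rw [LinearMap.toMatrix'_mulVec]
  rfl

/-- conjugating `s + tθ` by `g` with `g θ = θ' g` -/
theorem conj_lin (g : GL ι F) (θ θ' : Matrix ι ι F)
    (h : (g : Matrix ι ι F) * θ = θ' * (g : Matrix ι ι F)) (s t : F) :
    (g : Matrix ι ι F) * (s • (1 : Matrix ι ι F) + t • θ) * ((g⁻¹ : GL ι F) : Matrix ι ι F) =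
      s • (1 : Matrix ι ι F) + t • θ' := by
  have hgi : (g : Matrix ι ι F) * ((g⁻¹ : GL ι F) : Matrix ι ι F) = 1 := by
    rw [← Units.val_mul, mul_inv_cancel, Units.val_one]
  rw [mul_add, add_mul, Matrix.mul_smul, Matrix.mul_smul, Matrix.smul_mul, Matrix.smul_mul,
    mul_one, hgi, h, mul_assoc, hgi, mul_one]

/-- **K-OQF-M (597706)** -/
theorem exists_conj [Fintype F] (hodd : Odd (Fintype.card F)) (Q : QuadraticForm F (ι → F))
    (hQ : (QuadraticMap.polarBilin Q).Nondegenerate) (K K' : Subalgebra F (Matrix ι ι F))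
    (hK : IsOType (⇑Q) K) (hK' : IsOType (⇑Q) K') :
    ∃ g ∈ Cfsg.isometryGroup F (⇑Q), ∀ a : Matrix ι ι F,
      a ∈ K ↔ (g : Matrix ι ι F) * a * ((g⁻¹ : GL ι F) : Matrix ι ι F) ∈ K' := by
  classical
  have hchar : ringChar F ≠ 2 := by
    intro h
    have := FiniteField.even_card_of_char_two h
    rcases hodd with ⟨k, hk⟩
    omega
  obtain ⟨δ, hδ⟩ := FiniteField.exists_nonsquare hchar
  obtain ⟨θ, hθK, hθ2, hgen⟩ := Cfsg.Agent.Lib.Helper63.OQF.exists_theta hodd K hK.field δ hδ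
  obtain ⟨θ', hθK', hθ2', hgen'⟩ :=
    Cfsg.Agent.Lib.Helper63.OQF.exists_theta hodd K' hK'.field δ hδ
  have hsq : ∀ (θ : Matrix ι ι F), θ * θ = δ • (1 : Matrix ι ι F) →
      ∀ v, Matrix.toLin' θ (Matrix.toLin' θ v) = δ • v := by
    intro θ h v
    rw [Matrix.toLin'_apply, Matrix.toLin'_apply, Matrix.mulVec_mulVec, h, Matrix.smul_mulVec,
      Matrix.one_mulVec]
  obtain ⟨g, hgQ, hgθ⟩ := Cfsg.Agent.Lib.Helper19.OQF.exists_isometry_intertwining hodd Q hQ δ hδ
    (Matrix.toLin' θ) (Matrix.toLin' θ') (hsq θ hθ2) (hsq θ' hθ2')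
    (fun u v => by
      rw [Matrix.toLin'_apply, Matrix.toLin'_apply]
      exact hK.sa θ hθK u v)
    (fun u v => by
      rw [Matrix.toLin'_apply, Matrix.toLin'_apply]
      exact hK'.sa θ' hθK' u v)
  have hcomm : (glOfEquiv g : Matrix ι ι F) * θ = θ' * (glOfEquiv g : Matrix ι ι F) := by
    apply Matrix.toLin'.injective
    apply LinearMap.ext
    intro v
    rw [Matrix.toLin'_apply, Matrix.toLin'_apply, ← Matrix.mulVec_mulVec, ← Matrix.mulVec_mulVec,
      glOfEquiv_mulVec, glOfEquiv_mulVec]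
    have := hgθ v
    rwa [Matrix.toLin'_apply, Matrix.toLin'_apply] at this
  refine ⟨glOfEquiv g, ?_, ?_⟩
  · intro u _
    change Q ((glOfEquiv g : Matrix ι ι F) *ᵥ u) = Q u
    rw [glOfEquiv_mulVec]
    exact hgQ u
  · intro a
    have hgi : (glOfEquiv g : Matrix ι ι F) * (((glOfEquiv g)⁻¹ : GL ι F) : Matrix ι ι F) = 1 := by
      rw [← Units.val_mul, mul_inv_cancel, Units.val_one]
    have hig : (((glOfEquiv g)⁻¹ : GL ι F) : Matrix ι ι F) * (glOfEquiv g : Matrix ι ι F) = 1 := by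
      rw [← Units.val_mul, inv_mul_cancel, Units.val_one]
    constructor
    · intro ha
      obtain ⟨s, t, rfl⟩ := (hgen a).1 ha
      rw [conj_lin (glOfEquiv g) θ θ' hcomm s t]
      exact (hgen' _).2 ⟨s, t, rfl⟩
    · intro ha
      obtain ⟨s, t, hst⟩ := (hgen' _).1 ha
      have hcomm' : (((glOfEquiv g)⁻¹ : GL ι F) : Matrix ι ι F) * θ' =
          θ * (((glOfEquiv g)⁻¹ : GL ι F) : Matrix ι ι F) := by
        calc (((glOfEquiv g)⁻¹ : GL ι F) : Matrix ι ι F) * θ'
            = (((glOfEquiv g)⁻¹ : GL ι F) : Matrix ι ι F) * (θ' * (glOfEquiv g : Matrix ι ι F)) *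
                (((glOfEquiv g)⁻¹ : GL ι F) : Matrix ι ι F) := by
              rw [mul_assoc, mul_assoc, hgi, mul_one]
          _ = θ * (((glOfEquiv g)⁻¹ : GL ι F) : Matrix ι ι F) := by
              rw [← hcomm, ← mul_assoc, hig, one_mul]
      have h1 := conj_lin ((glOfEquiv g)⁻¹) θ' θ hcomm' s t
      rw [inv_inv, ← hst] at h1
      have h2 : a = s • (1 : Matrix ι ι F) + t • θ := by
        rw [← h1]
        simp only [mul_assoc]
        rw [hig, mul_one, ← mul_assoc, hig, one_mul]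
      exact (hgen a).2 ⟨s, t, h2⟩

end Cfsg.Agent.Lib.Helper59.OQF
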