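import Mathlib

set_option autoImplicit false

/-!
# Commutator homomorphisms into a centralized abelian subgroup
-/

namespace Cfsg.Agent.Lib.Helper59

variable {P : Type*} [Group P]

/-- `x ↦ x t x⁻¹ t⁻¹` as a homomorphism `X → M`, when the values lie in the abelian subgroup `M`
centralized by `X`. -/
def commHom (X M : Subgroup P) (t : P) (hM : ∀ a ∈ M, ∀ b ∈ M, a * b = b * a)
    (hXM : ∀ x ∈ X, ∀ m ∈ M, x * m = m * x) (hf : ∀ x ∈ X, x * t * x⁻¹ * t⁻¹ ∈ M) : ↥X →* ↥M :=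
  MonoidHom.mk' (fun x => ⟨(x : P) * t * (x : P)⁻¹ * t⁻¹, hf x x.2⟩) (fun x y => by
    apply Subtype.ext
    simp only [Subgroup.coe_mul]
    have h1 := hXM x x.2 _ (hf y y.2)
    have h2 := hM _ (hf y y.2) _ (hf x x.2)
    calc (x : P) * y * t * ((x : P) * y)⁻¹ * t⁻¹
        = ((x : P) * ((y : P) * t * (y : P)⁻¹ * t⁻¹)) * (t * (x : P)⁻¹ * t⁻¹) := by group
      _ = (((y : P) * t * (y : P)⁻¹ * t⁻¹) * (x : P)) * (t * (x : P)⁻¹ * t⁻¹) := by rw [h1]
      _ = ((y : P) * t * (y : P)⁻¹ * t⁻¹) * ((x : P) * t * (x : P)⁻¹ * t⁻¹) := by group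
      _ = ((x : P) * t * (x : P)⁻¹ * t⁻¹) * ((y : P) * t * (y : P)⁻¹ * t⁻¹) := h2)

@[simp] theorem commHom_apply (X M : Subgroup P) (t : P) (hM : ∀ a ∈ M, ∀ b ∈ M, a * b = b * a)
    (hXM : ∀ x ∈ X, ∀ m ∈ M, x * m = m * x) (hf : ∀ x ∈ X, x * t * x⁻¹ * t⁻¹ ∈ M) (x : ↥X) :
    ((commHom X M t hM hXM hf x : ↥M) : P) = (x : P) * t * (x : P)⁻¹ * t⁻¹ := rfl

theorem commHom_mem_ker (X M : Subgroup P) (t : P) (hM : ∀ a ∈ M, ∀ b ∈ M, a * b = b * a)
    (hXM : ∀ x ∈ X, ∀ m ∈ M, x * m = m * x) (hf : ∀ x ∈ X, x * t * x⁻¹ * t⁻¹ ∈ M) (x : ↥X) :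
    x ∈ (commHom X M t hM hXM hf).ker ↔ (x : P) * t = t * (x : P) := by
  rw [MonoidHom.mem_ker]
  constructor
  · intro h
    have h1 : (x : P) * t * (x : P)⁻¹ * t⁻¹ = 1 := by
      have := congrArg Subtype.val h
      simpa using this
    calc (x : P) * t = ((x : P) * t * (x : P)⁻¹ * t⁻¹) * (t * (x : P)) := by group
      _ = t * (x : P) := by rw [h1, one_mul]
  · intro h
    apply Subtype.ext
    rw [commHom_apply, h]
    simp

/-- order count: `|X| = |ker| * |range|`. -/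
theorem card_eq_ker_mul_range {K M : Type*} [Group K] [Group M] (f : K →* M) :
    Nat.card K = Nat.card f.ker * Nat.card f.range := by
  rw [← Subgroup.index_ker, Subgroup.card_mul_index]

/-- the kernel of the commutator map is no larger than `H ⊓ X` when it lies in `H`. -/
theorem card_ker_commHom_le [Finite P] (X M H : Subgroup P) (t : P)
    (hM : ∀ a ∈ M, ∀ b ∈ M, a * b = b * a)
    (hXM : ∀ x ∈ X, ∀ m ∈ M, x * m = m * x) (hf : ∀ x ∈ X, x * t * x⁻¹ * t⁻¹ ∈ M)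
    (hker : ∀ x ∈ X, x * t = t * x → x ∈ H) :
    Nat.card (commHom X M t hM hXM hf).ker ≤ Nat.card (H ⊓ X : Subgroup P) := by
  have hinj : Function.Injective (fun k : ↥(commHom X M t hM hXM hf).ker =>
      (⟨((k : ↥X) : P), Subgroup.mem_inf.mpr
        ⟨hker _ (k : ↥X).2 ((commHom_mem_ker X M t hM hXM hf _).mp k.2), (k : ↥X).2⟩⟩ :
        ↥(H ⊓ X : Subgroup P))) := by
    intro a b hab
    have := congrArg Subtype.val hab
    exact Subtype.ext (Subtype.ext this)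
  exact Nat.card_le_card_of_injective _ hinj

/-- bound: if the kernel of the commutator map lies in `H`, then `|X| ≤ |H ⊓ X| * |M|`. -/
theorem card_le_of_commHom [Finite P] (X M H : Subgroup P) (t : P)
    (hM : ∀ a ∈ M, ∀ b ∈ M, a * b = b * a)
    (hXM : ∀ x ∈ X, ∀ m ∈ M, x * m = m * x) (hf : ∀ x ∈ X, x * t * x⁻¹ * t⁻¹ ∈ M)
    (hker : ∀ x ∈ X, x * t = t * x → x ∈ H) :
    Nat.card X ≤ Nat.card (H ⊓ X : Subgroup P) * Nat.card M := by
  rw [card_eq_ker_mul_range (commHom X M t hM hXM hf)]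
  apply Nat.mul_le_mul
  · have hinj : Function.Injective (fun k : ↥(commHom X M t hM hXM hf).ker =>
        (⟨((k : ↥X) : P), Subgroup.mem_inf.mpr
          ⟨hker _ (k : ↥X).2 ((commHom_mem_ker X M t hM hXM hf _).mp k.2), (k : ↥X).2⟩⟩ :
          ↥(H ⊓ X : Subgroup P))) := by
      intro a b hab
      have := congrArg Subtype.val hab
      exact Subtype.ext (Subtype.ext this)
    exact Nat.card_le_card_of_injective _ hinj
  · exact Subgroup.card_le_card_group _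

end Cfsg.Agent.Lib.Helper59
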