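import Mathlib
import Cfsg.Agent.Lib.Helper59.P4Hom
import Cfsg.Agent.Lib.Helper26.NormalP3

set_option autoImplicit false
set_option linter.unusedSectionVars false

/-!
# Elementary abelian subgroups of order `p^4` against a maximal normal one of order `p^3`
-/

namespace Cfsg.Agent.Lib.Helper59

open Cfsg.Agent.Lib.Helper26

/-- The setting: a `P`-chief chain `V₁ < V₂ < V` in a normal elementary abelian subgroup `V`
of order `p^3` with `Ω₁(C_P(V)) = V`. -/
structure P4Setup (p : ℕ) {P : Type*} [Group P] (V₁ V₂ V : Subgroup P) : Prop where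
  hP : IsPGroup p P
  hp2 : p ≠ 2
  hV₁V₂ : V₁ ≤ V₂
  hV₂V : V₂ ≤ V
  hc1 : Nat.card V₁ = p
  hc2 : Nat.card V₂ = p ^ 2
  hc3 : Nat.card V = p ^ 3
  hVcomm : ∀ a ∈ V, ∀ b ∈ V, a * b = b * a
  hVexp : ∀ a ∈ V, a ^ p = 1
  hV₁c : ∀ u ∈ V₁, ∀ g : P, g * u = u * g
  hV₂c : ∀ t ∈ V₂, ∀ g : P, g * t * g⁻¹ * t⁻¹ ∈ V₁
  hVc : ∀ v ∈ V, ∀ g : P, g * v * g⁻¹ * v⁻¹ ∈ V₂
  hH1 : ∀ x : P, (∀ v ∈ V, x * v = v * x) → x ^ p = 1 → x ∈ V

namespace P4Setup

variable {p : ℕ} [hp : Fact p.Prime] {P : Type*} [Group P] [Finite P] {V₁ V₂ V : Subgroup P}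

theorem exists_t (h : P4Setup p V₁ V₂ V) : ∃ t ∈ V₂, t ∉ V₁ := by
  by_contra hcon
  push Not at hcon
  have hle : V₂ ≤ V₁ := hcon
  have := Subgroup.card_le_of_le hle
  rw [h.hc1, h.hc2] at this
  have h2 := hp.out.one_lt
  nlinarith

theorem exists_v (h : P4Setup p V₁ V₂ V) : ∃ v ∈ V, v ∉ V₂ := by
  by_contra hcon
  push Not at hcon
  have hle : V ≤ V₂ := hcon
  have := Subgroup.card_le_of_le hle
  rw [h.hc2, h.hc3] at this
  have h2 := hp.out.one_lt
  have : p ^ 2 < p ^ 3 := Nat.pow_lt_pow_right h2 (by norm_num)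
  omega

theorem sup_t (h : P4Setup p V₁ V₂ V) {t : P} (ht : t ∈ V₂) (ht1 : t ∉ V₁) :
    V₁ ⊔ Subgroup.zpowers t = V₂ :=
  sup_zpowers_eq_of_card V₁ V₂ h.hV₁V₂ (by rw [h.hc1, h.hc2, sq]) t ht ht1

theorem sup_v (h : P4Setup p V₁ V₂ V) {v : P} (hv : v ∈ V) (hv2 : v ∉ V₂) :
    V₂ ⊔ Subgroup.zpowers v = V :=
  sup_zpowers_eq_of_card V₂ V h.hV₂V (by rw [h.hc2, h.hc3]; ring) v hv hv2

/-- commuting with `t ∈ V₂ ∖ V₁` means centralizing `V₂`. -/
theorem cent_V₂ (h : P4Setup p V₁ V₂ V) {t : P} (ht : t ∈ V₂) (ht1 : t ∉ V₁) {x : P}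
    (hx : x * t = t * x) : ∀ u ∈ V₂, x * u = u * x := by
  intro u hu
  have hle : V₁ ⊔ Subgroup.zpowers t ≤ Subgroup.centralizer {x} := by
    refine sup_le ?_ ?_
    · intro c hc
      rw [Subgroup.mem_centralizer_singleton_iff]
      exact (h.hV₁c c hc x).symm
    · rw [Subgroup.zpowers_le, Subgroup.mem_centralizer_singleton_iff]
      exact hx.symm
  rw [h.sup_t ht ht1] at hle
  have := hle hu
  rw [Subgroup.mem_centralizer_singleton_iff] at this
  exact this.symm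

/-- centralizing `V₂` and `v ∈ V ∖ V₂` means centralizing `V`. -/
theorem cent_V (h : P4Setup p V₁ V₂ V) {v : P} (hv : v ∈ V) (hv2 : v ∉ V₂) {x : P}
    (hx2 : ∀ u ∈ V₂, x * u = u * x) (hx : x * v = v * x) : ∀ w ∈ V, x * w = w * x := by
  intro w hw
  have hle : V₂ ⊔ Subgroup.zpowers v ≤ Subgroup.centralizer {x} := by
    refine sup_le ?_ ?_
    · intro c hc
      rw [Subgroup.mem_centralizer_singleton_iff]
      exact (hx2 c hc).symm
    · rw [Subgroup.zpowers_le, Subgroup.mem_centralizer_singleton_iff]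
      exact hx.symm
  rw [h.sup_v hv hv2] at hle
  have := hle hw
  rw [Subgroup.mem_centralizer_singleton_iff] at this
  exact this.symm

/-- centralizing two subgroups means centralizing their join. -/
theorem cent_sup {A C : Subgroup P} {x : P} (hA : ∀ a ∈ A, x * a = a * x)
    (hC : ∀ a ∈ C, x * a = a * x) : ∀ a ∈ A ⊔ C, x * a = a * x := by
  intro a ha
  have hle : A ⊔ C ≤ Subgroup.centralizer {x} := by
    refine sup_le ?_ ?_
    · intro c hc
      rw [Subgroup.mem_centralizer_singleton_iff]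
      exact (hA c hc).symm
    · intro c hc
      rw [Subgroup.mem_centralizer_singleton_iff]
      exact (hC c hc).symm
  have := hle ha
  rw [Subgroup.mem_centralizer_singleton_iff] at this
  exact this.symm

theorem V₁_comm (h : P4Setup p V₁ V₂ V) : ∀ a ∈ V₁, ∀ b ∈ V₁, a * b = b * a :=
  fun a _ b hb => h.hV₁c b hb a

theorem V₂_comm (h : P4Setup p V₁ V₂ V) : ∀ a ∈ V₂, ∀ b ∈ V₂, a * b = b * a :=
  fun a ha b hb => h.hVcomm a (h.hV₂V ha) b (h.hV₂V hb)

/-- a subgroup of `V` of order at least `p^2` other than ... : subgroups between. -/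
theorem card_of_le_V (h : P4Setup p V₁ V₂ V) {H : Subgroup P} (hH : H ≤ V)
    (h2 : p ^ 2 ≤ Nat.card H) : Nat.card H = p ^ 2 ∨ H = V := by
  have hdvd : Nat.card H ∣ p ^ 3 := by rw [← h.hc3]; exact Subgroup.card_dvd_of_le hH
  obtain ⟨k, hk, hk2⟩ := (Nat.dvd_prime_pow hp.out).mp hdvd
  have h1 := hp.out.one_lt
  have hk2' : 2 ≤ k := by
    rw [hk2] at h2
    exact (Nat.pow_le_pow_iff_right h1).mp h2
  have : k = 2 ∨ k = 3 := by omega
  rcases this with rfl | rfl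
  · left; exact hk2
  · right
    exact Subgroup.eq_of_le_of_card_ge hH (by rw [hk2, h.hc3])

/-- two distinct subgroups of order `p^2` of `V` generate `V`. -/
theorem sup_eq_V (h : P4Setup p V₁ V₂ V) {H : Subgroup P} (hH : H ≤ V)
    (hHc : Nat.card H = p ^ 2) (hne : H ≠ V₂) : H ⊔ V₂ = V := by
  have hle : H ⊔ V₂ ≤ V := sup_le hH h.hV₂V
  have h2 : p ^ 2 ≤ Nat.card (H ⊔ V₂ : Subgroup P) := by
    rw [← hHc]; exact Subgroup.card_le_of_le le_sup_left
  rcases h.card_of_le_V hle h2 with h3 | h3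
  · exfalso
    have e1 : H = H ⊔ V₂ :=
      Subgroup.eq_of_le_of_card_ge le_sup_left (by rw [h3, hHc])
    have e2 : V₂ = H ⊔ V₂ :=
      Subgroup.eq_of_le_of_card_ge le_sup_right (by rw [h3, h.hc2])
    exact hne (e1.trans e2.symm)
  · exact h3

end P4Setup

end Cfsg.Agent.Lib.Helper59
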