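import Mathlib
import Cfsg.Agent.Lib.Helper59.P4Setup

set_option autoImplicit false
set_option linter.unusedSectionVars false

/-!
# How an elementary abelian subgroup of order `p^4` sits against `V`
-/

namespace Cfsg.Agent.Lib.Helper59

namespace P4Setup

variable {p : ℕ} [hp : Fact p.Prime] {P : Type*} [Group P] [Finite P] {V₁ V₂ V : Subgroup P}

/-- Step A: the centralizer of `V₂` in `B` has index at most `p`. -/
theorem stepA (h : P4Setup p V₁ V₂ V) (B : Subgroup P) :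
    Nat.card B ≤ Nat.card (Subgroup.centralizer (V₂ : Set P) ⊓ B : Subgroup P) * p := by
  obtain ⟨t, ht, ht1⟩ := h.exists_t
  have := card_le_of_commHom B V₁ (Subgroup.centralizer (V₂ : Set P)) t h.V₁_comm
    (fun x _ m hm => h.hV₁c m hm x) (fun x _ => h.hV₂c t ht x)
    (fun x _ hx => by
      rw [Subgroup.mem_centralizer_iff]
      intro u hu
      exact (h.cent_V₂ ht ht1 hx u hu).symm)
  rwa [h.hc1] at this

/-- Step B: inside `C_B(V₂)` the subgroup `V ⊓ B` has index at most `p^2`. -/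
theorem stepB (h : P4Setup p V₁ V₂ V) (B : Subgroup P) (hBexp : ∀ b ∈ B, b ^ p = 1) :
    Nat.card (Subgroup.centralizer (V₂ : Set P) ⊓ B : Subgroup P) ≤
      Nat.card (V ⊓ B : Subgroup P) * p ^ 2 := by
  obtain ⟨v, hv, hv2⟩ := h.exists_v
  have hK : ∀ x ∈ (Subgroup.centralizer (V₂ : Set P) ⊓ B : Subgroup P),
      ∀ u ∈ V₂, x * u = u * x := by
    intro x hx u hu
    have := (Subgroup.mem_inf.mp hx).1
    rw [Subgroup.mem_centralizer_iff] at this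
    exact (this u hu).symm
  have := card_le_of_commHom (Subgroup.centralizer (V₂ : Set P) ⊓ B) V₂ V v h.V₂_comm
    hK (fun x _ => h.hVc v hv x)
    (fun x hx hxv => h.hH1 x (h.cent_V hv hv2 (hK x hx) hxv) (hBexp x (Subgroup.mem_inf.mp hx).2))
  rw [h.hc2] at this
  refine this.trans (Nat.mul_le_mul_right _ (Subgroup.card_le_of_le ?_))
  exact inf_le_inf_left _ inf_le_right

/-- Step B': if some element of `B` moves `V₂`, the index is at most `p`. -/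
theorem stepB' (h : P4Setup p V₁ V₂ V) (B : Subgroup P)
    (hBcomm : ∀ a ∈ B, ∀ b ∈ B, a * b = b * a) (hBexp : ∀ b ∈ B, b ^ p = 1)
    {b₁ : P} (hb₁ : b₁ ∈ B) (hb₁c : b₁ ∉ Subgroup.centralizer (V₂ : Set P)) :
    Nat.card (Subgroup.centralizer (V₂ : Set P) ⊓ B : Subgroup P) ≤
      Nat.card (V ⊓ B : Subgroup P) * p := by
  obtain ⟨v, hv, hv2⟩ := h.exists_v
  have hK : ∀ x ∈ (Subgroup.centralizer (V₂ : Set P) ⊓ B : Subgroup P),
      ∀ u ∈ V₂, x * u = u * x := by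
    intro x hx u hu
    have := (Subgroup.mem_inf.mp hx).1
    rw [Subgroup.mem_centralizer_iff] at this
    exact (this u hu).symm
  -- the fixed points of `b₁` on `V₂`
  have hfix : ∀ w ∈ V₂, b₁ * w = w * b₁ → w ∈ V₁ := by
    intro w hw hbw
    by_contra hw1
    apply hb₁c
    rw [Subgroup.mem_centralizer_iff]
    intro u hu
    exact (h.cent_V₂ hw hw1 hbw u hu).symm
  have hf : ∀ x ∈ (Subgroup.centralizer (V₂ : Set P) ⊓ B : Subgroup P),
      x * v * x⁻¹ * v⁻¹ ∈ V₁ := by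
    intro c hc
    have hcB : c ∈ B := (Subgroup.mem_inf.mp hc).2
    have hθ : c * v * c⁻¹ * v⁻¹ ∈ V₂ := h.hVc v hv c
    apply hfix _ hθ
    have hu : b₁ * v * b₁⁻¹ * v⁻¹ ∈ V₂ := h.hVc v hv b₁
    have e1 : b₁ * c = c * b₁ := hBcomm b₁ hb₁ c hcB
    have e2 : c * (b₁ * v * b₁⁻¹ * v⁻¹) = (b₁ * v * b₁⁻¹ * v⁻¹) * c := hK c hc _ hu
    have e3 : (b₁ * v * b₁⁻¹ * v⁻¹) * (c * v * c⁻¹ * v⁻¹) =
        (c * v * c⁻¹ * v⁻¹) * (b₁ * v * b₁⁻¹ * v⁻¹) := h.V₂_comm _ hu _ hθ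
    have e4 : b₁ * c * b₁⁻¹ = c := by rw [e1]; group
    have e5 : c * (b₁ * v * b₁⁻¹ * v⁻¹) * c⁻¹ = b₁ * v * b₁⁻¹ * v⁻¹ := by rw [e2]; group
    have key : b₁ * (c * v * c⁻¹ * v⁻¹) * b₁⁻¹ = c * v * c⁻¹ * v⁻¹ := by
      calc b₁ * (c * v * c⁻¹ * v⁻¹) * b₁⁻¹
          = (b₁ * c * b₁⁻¹) * ((b₁ * v * b₁⁻¹ * v⁻¹) * v) * (b₁ * c * b₁⁻¹)⁻¹ *
              ((b₁ * v * b₁⁻¹ * v⁻¹) * v)⁻¹ := by group
        _ = c * ((b₁ * v * b₁⁻¹ * v⁻¹) * v) * c⁻¹ * ((b₁ * v * b₁⁻¹ * v⁻¹) * v)⁻¹ := by rw [e4]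
        _ = (c * (b₁ * v * b₁⁻¹ * v⁻¹) * c⁻¹) * (c * v * c⁻¹ * v⁻¹) *
              (b₁ * v * b₁⁻¹ * v⁻¹)⁻¹ := by group
        _ = (b₁ * v * b₁⁻¹ * v⁻¹) * (c * v * c⁻¹ * v⁻¹) * (b₁ * v * b₁⁻¹ * v⁻¹)⁻¹ := by rw [e5]
        _ = c * v * c⁻¹ * v⁻¹ := by rw [e3]; group
    calc b₁ * (c * v * c⁻¹ * v⁻¹) = (b₁ * (c * v * c⁻¹ * v⁻¹) * b₁⁻¹) * b₁ := by group
      _ = (c * v * c⁻¹ * v⁻¹) * b₁ := by rw [key]
  have := card_le_of_commHom (Subgroup.centralizer (V₂ : Set P) ⊓ B) V₁ V v h.V₁_comm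
    (fun x _ m hm => h.hV₁c m hm x) hf
    (fun x hx hxv => h.hH1 x (h.cent_V hv hv2 (hK x hx) hxv) (hBexp x (Subgroup.mem_inf.mp hx).2))
  rw [h.hc1] at this
  refine this.trans (Nat.mul_le_mul_right _ (Subgroup.card_le_of_le ?_))
  exact inf_le_inf_left _ inf_le_right

/-- `V ⊓ B` has order at least `p^2`. -/
theorem card_inf_ge (h : P4Setup p V₁ V₂ V) (B : Subgroup P)
    (hBcomm : ∀ a ∈ B, ∀ b ∈ B, a * b = b * a) (hBexp : ∀ b ∈ B, b ^ p = 1)
    (hBcard : Nat.card B = p ^ 4) : p ^ 2 ≤ Nat.card (V ⊓ B : Subgroup P) := by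
  have hppos : 0 < p := hp.out.pos
  have hA := h.stepA B
  rw [hBcard] at hA
  by_cases hall : ∀ b ∈ B, b ∈ Subgroup.centralizer (V₂ : Set P)
  · have hKB : (Subgroup.centralizer (V₂ : Set P) ⊓ B : Subgroup P) = B :=
      inf_eq_right.mpr hall
    have hB := h.stepB B hBexp
    rw [hKB, hBcard] at hB
    have : p ^ 2 * p ^ 2 ≤ Nat.card (V ⊓ B : Subgroup P) * p ^ 2 := by
      calc p ^ 2 * p ^ 2 = p ^ 4 := by ring
        _ ≤ _ := hB
    exact Nat.le_of_mul_le_mul_right this (by positivity)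
  · push Not at hall
    obtain ⟨b₁, hb₁, hb₁c⟩ := hall
    have hB := h.stepB' B hBcomm hBexp hb₁ hb₁c
    have h1 : p ^ 4 ≤ Nat.card (V ⊓ B : Subgroup P) * p * p :=
      hA.trans (Nat.mul_le_mul_right _ hB)
    have : p ^ 2 * p ^ 2 ≤ Nat.card (V ⊓ B : Subgroup P) * p ^ 2 := by
      calc p ^ 2 * p ^ 2 = p ^ 4 := by ring
        _ ≤ Nat.card (V ⊓ B : Subgroup P) * p * p := h1
        _ = _ := by ring
    exact Nat.le_of_mul_le_mul_right this (by positivity)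

/-- **Position of `B`**: `V ⊓ B = V₂`. -/
theorem inf_eq (h : P4Setup p V₁ V₂ V) (B : Subgroup P)
    (hBcomm : ∀ a ∈ B, ∀ b ∈ B, a * b = b * a) (hBexp : ∀ b ∈ B, b ^ p = 1)
    (hBcard : Nat.card B = p ^ 4) : V ⊓ B = V₂ := by
  have h1lt := hp.out.one_lt
  have hge := h.card_inf_ge B hBcomm hBexp hBcard
  have hcentH : ∀ b ∈ B, ∀ a ∈ (V ⊓ B : Subgroup P), b * a = a * b :=
    fun b hb a ha => hBcomm b hb a (Subgroup.mem_inf.mp ha).2
  have hHc : Nat.card (V ⊓ B : Subgroup P) = p ^ 2 := by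
    rcases h.card_of_le_V inf_le_left hge with h2 | h2
    · exact h2
    · exfalso
      -- `V ≤ B`, so `B ≤ C(V)`, so `B ≤ V`
      have hVB : V ≤ B := by rw [← h2]; exact inf_le_right
      have hBV : B ≤ V := fun b hb =>
        h.hH1 b (fun v hv => hBcomm b hb v (hVB hv)) (hBexp b hb)
      have := Subgroup.card_le_of_le hBV
      rw [hBcard, h.hc3] at this
      have : p ^ 3 < p ^ 4 := Nat.pow_lt_pow_right h1lt (by norm_num)
      omega
  by_contra hne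
  have hsup := h.sup_eq_V inf_le_left hHc hne
  -- every element of `C_B(V₂)` lies in `V ⊓ B`
  have hKH : (Subgroup.centralizer (V₂ : Set P) ⊓ B : Subgroup P) ≤ V ⊓ B := by
    intro c hc
    obtain ⟨hc1, hc2⟩ := Subgroup.mem_inf.mp hc
    rw [Subgroup.mem_centralizer_iff] at hc1
    refine Subgroup.mem_inf.mpr ⟨?_, hc2⟩
    apply h.hH1 c _ (hBexp c hc2)
    rw [← hsup]
    exact cent_sup (hcentH c hc2) (fun u hu => (hc1 u hu).symm)
  have hA := h.stepA B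
  rw [hBcard] at hA
  have := Subgroup.card_le_of_le hKH
  rw [hHc] at this
  have h3 : p ^ 4 ≤ p ^ 2 * p := hA.trans (Nat.mul_le_mul_right _ this)
  have h4 : p ^ 2 * p < p ^ 4 := by
    calc p ^ 2 * p = p ^ 3 := by ring
      _ < p ^ 4 := Nat.pow_lt_pow_right h1lt (by norm_num)
  omega

/-- `B` centralizes `V₂`. -/
theorem cent_of_EA (h : P4Setup p V₁ V₂ V) (B : Subgroup P)
    (hBcomm : ∀ a ∈ B, ∀ b ∈ B, a * b = b * a) (hBexp : ∀ b ∈ B, b ^ p = 1)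
    (hBcard : Nat.card B = p ^ 4) : ∀ b ∈ B, ∀ u ∈ V₂, b * u = u * b := by
  intro b hb u hu
  have : u ∈ (V ⊓ B : Subgroup P) := by rw [h.inf_eq B hBcomm hBexp hBcard]; exact hu
  exact hBcomm b hb u (Subgroup.mem_inf.mp this).2

theorem V₂_le_of_EA (h : P4Setup p V₁ V₂ V) (B : Subgroup P)
    (hBcomm : ∀ a ∈ B, ∀ b ∈ B, a * b = b * a) (hBexp : ∀ b ∈ B, b ^ p = 1)
    (hBcard : Nat.card B = p ^ 4) : V₂ ≤ B := by
  rw [← h.inf_eq B hBcomm hBexp hBcard]; exact inf_le_right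

/-- `B` induces every transvection: the commutator map `B → V₂` is onto. -/
theorem surj_of_EA (h : P4Setup p V₁ V₂ V) (B : Subgroup P)
    (hBcomm : ∀ a ∈ B, ∀ b ∈ B, a * b = b * a) (hBexp : ∀ b ∈ B, b ^ p = 1)
    (hBcard : Nat.card B = p ^ 4) {v : P} (hv : v ∈ V) (hv2 : v ∉ V₂) :
    ∀ u ∈ V₂, ∃ b ∈ B, b * v * b⁻¹ * v⁻¹ = u := by
  have h1lt := hp.out.one_lt
  have hcent := h.cent_of_EA B hBcomm hBexp hBcard
  have hker := card_ker_commHom_le B V₂ V v h.V₂_comm hcent (fun x _ => h.hVc v hv x)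
    (fun x hx hxv => h.hH1 x (h.cent_V hv hv2 (hcent x hx) hxv) (hBexp x hx))
  rw [h.inf_eq B hBcomm hBexp hBcard, h.hc2] at hker
  have hcard := card_eq_ker_mul_range (commHom B V₂ v h.V₂_comm hcent (fun x _ => h.hVc v hv x))
  rw [hBcard] at hcard
  have hrange_le : Nat.card (commHom B V₂ v h.V₂_comm hcent (fun x _ => h.hVc v hv x)).range ≤
      p ^ 2 := by
    have := Subgroup.card_le_card_group
      (commHom B V₂ v h.V₂_comm hcent (fun x _ => h.hVc v hv x)).range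
    rwa [h.hc2] at this
  have hrange : Nat.card (commHom B V₂ v h.V₂_comm hcent (fun x _ => h.hVc v hv x)).range =
      p ^ 2 := by
    apply le_antisymm hrange_le
    by_contra hlt
    push Not at hlt
    have hpos : 0 < p ^ 2 := by positivity
    have : Nat.card (commHom B V₂ v h.V₂_comm hcent (fun x _ => h.hVc v hv x)).ker *
        Nat.card (commHom B V₂ v h.V₂_comm hcent (fun x _ => h.hVc v hv x)).range <
        p ^ 2 * p ^ 2 := by
      calc _ ≤ p ^ 2 * Nat.card (commHom B V₂ v h.V₂_comm hcent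
              (fun x _ => h.hVc v hv x)).range := Nat.mul_le_mul_right _ hker
        _ < p ^ 2 * p ^ 2 := Nat.mul_lt_mul_of_pos_left hlt hpos
    have e : p ^ 2 * p ^ 2 = p ^ 4 := by ring
    omega
  have htop : (commHom B V₂ v h.V₂_comm hcent (fun x _ => h.hVc v hv x)).range = ⊤ :=
    Subgroup.eq_top_of_card_eq _ (by rw [hrange, h.hc2])
  intro u hu
  have : (⟨u, hu⟩ : ↥V₂) ∈ (commHom B V₂ v h.V₂_comm hcent (fun x _ => h.hVc v hv x)).range := by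
    rw [htop]; exact Subgroup.mem_top _
  obtain ⟨b, hb⟩ := this
  refine ⟨b.1, b.2, ?_⟩
  have := congrArg Subtype.val hb
  simpa using this

end P4Setup

end Cfsg.Agent.Lib.Helper59
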