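import Mathlib
import Cfsg.Agent.Lib.Helper59.P4Props
import Cfsg.Agent.Lib.Helper59.CSCBasic
import Cfsg.Agent.Lib.Helper04.Alperin

set_option autoImplicit false
set_option linter.unusedSectionVars false

/-!
# A `p`-group (`p` odd) with an elementary abelian subgroup of order `p^4` has a normal one
-/

namespace Cfsg.Agent.Lib.Helper59

open Cfsg.Agent.Lib.Helper26

namespace P4Setup

variable {p : ℕ} [hp : Fact p.Prime] {P : Type*} [Group P] [Finite P] {V₁ V₂ V : Subgroup P}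

theorem V₂_normal (h : P4Setup p V₁ V₂ V) : V₂.Normal := by
  refine ⟨fun t ht g => ?_⟩
  have h1 : g * t * g⁻¹ = (g * t * g⁻¹ * t⁻¹) * t := by group
  rw [h1]
  exact V₂.mul_mem (h.hV₁V₂ (h.hV₂c t ht g)) ht

/-- elements of `B'` are products of elements of `B` and `V`, when `B, B'` normalize each other. -/
theorem exists_mul_of_normalize (h : P4Setup p V₁ V₂ V) (B B' : Subgroup P)
    (hBcomm : ∀ a ∈ B, ∀ b ∈ B, a * b = b * a) (hBexp : ∀ b ∈ B, b ^ p = 1)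
    (hBcard : Nat.card B = p ^ 4)
    (hB'comm : ∀ a ∈ B', ∀ b ∈ B', a * b = b * a) (hB'exp : ∀ b ∈ B', b ^ p = 1)
    (hB'card : Nat.card B' = p ^ 4)
    (hn1 : ∀ b' ∈ B', ∀ b ∈ B, b' * b * b'⁻¹ ∈ B) (hn2 : ∀ b ∈ B, ∀ b' ∈ B', b * b' * b⁻¹ ∈ B')
    {b' : P} (hb' : b' ∈ B') : ∃ b ∈ B, ∃ w ∈ V, b' = b * w := by
  obtain ⟨v, hv, hv2⟩ := h.exists_v
  obtain ⟨b, hb, hbu⟩ := h.surj_of_EA B hBcomm hBexp hBcard hv hv2 _ (h.hVc v hv b')
  refine ⟨b, hb, b⁻¹ * b', ?_, by group⟩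
  apply h.hH1
  · apply h.cent_V hv hv2
    · intro u hu
      have e1 := h.cent_of_EA B hBcomm hBexp hBcard b hb u hu
      have e2 := h.cent_of_EA B' hB'comm hB'exp hB'card b' hb' u hu
      calc b⁻¹ * b' * u = b⁻¹ * (b' * u) := by group
        _ = b⁻¹ * (u * b') := by rw [e2]
        _ = b⁻¹ * (u * b) * b⁻¹ * b' := by group
        _ = b⁻¹ * (b * u) * b⁻¹ * b' := by rw [e1]
        _ = u * (b⁻¹ * b') := by group
    · have e : b * v * b⁻¹ = b' * v * b'⁻¹ := by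
        calc b * v * b⁻¹ = (b * v * b⁻¹ * v⁻¹) * v := by group
          _ = (b' * v * b'⁻¹ * v⁻¹) * v := by rw [hbu]
          _ = b' * v * b'⁻¹ := by group
      calc b⁻¹ * b' * v = b⁻¹ * (b' * v * b'⁻¹) * b' := by group
        _ = b⁻¹ * (b * v * b⁻¹) * b' := by rw [e]
        _ = v * (b⁻¹ * b') := by group
  · -- exponent `p` by the class two formula
    have hcB : b' * b⁻¹ * b'⁻¹ * b ∈ B := B.mul_mem (hn1 b' hb' b⁻¹ (B.inv_mem hb)) hb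
    have hcB' : b' * b⁻¹ * b'⁻¹ * b ∈ B' := by
      have h1 : b⁻¹ * b'⁻¹ * b⁻¹⁻¹ ∈ B' := hn2 b⁻¹ (B.inv_mem hb) b'⁻¹ (B'.inv_mem hb')
      have h2 : b' * b⁻¹ * b'⁻¹ * b = b' * (b⁻¹ * b'⁻¹ * b⁻¹⁻¹) := by group
      rw [h2]; exact B'.mul_mem hb' h1
    have hc : b' * b⁻¹ = (b' * b⁻¹ * b'⁻¹ * b) * b⁻¹ * b' := by group
    have hcx : Commute (b' * b⁻¹ * b'⁻¹ * b) b⁻¹ := hBcomm _ hcB _ (B.inv_mem hb)
    have hcy : Commute (b' * b⁻¹ * b'⁻¹ * b) b' := hB'comm _ hcB' _ hb'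
    rw [mul_pow_of_commutator_central hc hcx hcy p, inv_pow, hBexp b hb, hB'exp b' hb', inv_one,
      one_mul, one_mul]
    have hodd : 2 ∣ p - 1 := by
      rcases hp.out.eq_two_or_odd with h2 | h2
      · exact absurd h2 h.hp2
      · omega
    rw [Nat.mul_div_assoc p hodd, pow_mul, hBexp _ hcB, one_pow]

/-- two elementary abelian subgroups of order `p^4` normalizing each other coincide. -/
theorem le_of_normalize (h : P4Setup p V₁ V₂ V) (B B' : Subgroup P)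
    (hBcomm : ∀ a ∈ B, ∀ b ∈ B, a * b = b * a) (hBexp : ∀ b ∈ B, b ^ p = 1)
    (hBcard : Nat.card B = p ^ 4)
    (hB'comm : ∀ a ∈ B', ∀ b ∈ B', a * b = b * a) (hB'exp : ∀ b ∈ B', b ^ p = 1)
    (hB'card : Nat.card B' = p ^ 4)
    (hn1 : ∀ b' ∈ B', ∀ b ∈ B, b' * b * b'⁻¹ ∈ B) (hn2 : ∀ b ∈ B, ∀ b' ∈ B', b * b' * b⁻¹ ∈ B') :
    B' ≤ B := by
  have h1lt := hp.out.one_lt
  intro b₀' hb₀'
  by_contra hb₀'B
  obtain ⟨b₀, hb₀, v₁, hv₁, hb₀'eq⟩ := h.exists_mul_of_normalize B B' hBcomm hBexp hBcard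
    hB'comm hB'exp hB'card hn1 hn2 hb₀'
  have hV₂B := h.V₂_le_of_EA B hBcomm hBexp hBcard
  have hv₁2 : v₁ ∉ V₂ := by
    intro hv
    apply hb₀'B
    rw [hb₀'eq]
    exact B.mul_mem hb₀ (hV₂B hv)
  have hcentB := h.cent_of_EA B hBcomm hBexp hBcard
  have hV₂n : V₂.Normal := h.V₂_normal
  -- the homomorphism `λ : V → V₂`, `w ↦ w b₀⁻¹ w⁻¹ b₀`
  have hlam : ∀ w ∈ V, w * b₀⁻¹ * w⁻¹ * b₀⁻¹⁻¹ ∈ V₂ := by
    intro w hw
    have h1 : b₀⁻¹ * w⁻¹ * b₀⁻¹⁻¹ * w⁻¹⁻¹ ∈ V₂ := h.hVc w⁻¹ (V.inv_mem hw) b₀⁻¹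
    have h2 : w * b₀⁻¹ * w⁻¹ * b₀⁻¹⁻¹ = w * (b₀⁻¹ * w⁻¹ * b₀⁻¹⁻¹ * w⁻¹⁻¹) * w⁻¹ := by group
    rw [h2]
    exact hV₂n.conj_mem _ h1 w
  let lam : ↥V →* ↥V₂ := commHom V V₂ b₀⁻¹ h.V₂_comm
    (fun x hx m hm => h.hVcomm x hx m (h.hV₂V hm)) hlam
  have hlam2 : ∀ u (hu : u ∈ V₂), lam ⟨u, h.hV₂V hu⟩ = 1 := by
    intro u hu
    apply Subtype.ext
    rw [commHom_apply]
    have e := hcentB b₀⁻¹ (B.inv_mem hb₀) u hu
    simp only [Subgroup.coe_one]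
    rw [← e]; group
  have hlamrange : ∀ w (hw : w ∈ V), ((lam ⟨w, hw⟩ : ↥V₂) : P) ∈
      Subgroup.zpowers ((lam ⟨v₁, hv₁⟩ : ↥V₂) : P) := by
    intro w hw
    have hw' : w ∈ V₂ ⊔ Subgroup.zpowers v₁ := by rw [h.sup_v hv₁ hv₁2]; exact hw
    obtain ⟨a, ha, j, rfl⟩ := (Helper04.mem_sup_zpowers_iff V₂ v₁ w).mp hw'
    have e : (⟨a * v₁ ^ j, hw⟩ : ↥V) = ⟨a, h.hV₂V ha⟩ * (⟨v₁, hv₁⟩ : ↥V) ^ j := by
      apply Subtype.ext; simp
    rw [e, map_mul, map_zpow, hlam2 a ha, one_mul]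
    rw [Subgroup.mem_zpowers_iff]
    exact ⟨j, by simp⟩
  -- every commutator `c' v₁ c'⁻¹ v₁⁻¹`, `c' ∈ B'`, lies in this cyclic group
  have hθ : ∀ c' ∈ B', c' * v₁ * c'⁻¹ * v₁⁻¹ ∈
      Subgroup.zpowers ((lam ⟨v₁, hv₁⟩ : ↥V₂) : P) := by
    intro c' hc'
    obtain ⟨c'', hc'', w, hw, rfl⟩ := h.exists_mul_of_normalize B B' hBcomm hBexp hBcard
      hB'comm hB'exp hB'card hn1 hn2 hc'
    have hv₁eq : v₁ = b₀⁻¹ * b₀' := by rw [hb₀'eq]; group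
    have hcomm : b₀' * (c'' * w)⁻¹ = (c'' * w)⁻¹ * b₀' := by
      have := hB'comm b₀' hb₀' _ (B'.inv_mem hc')
      exact this
    have e1 : c'' * w * v₁ * (c'' * w)⁻¹ * v₁⁻¹ = c'' * w * b₀⁻¹ * (c'' * w)⁻¹ * b₀ := by
      calc c'' * w * v₁ * (c'' * w)⁻¹ * v₁⁻¹
          = c'' * w * b₀⁻¹ * (b₀' * (c'' * w)⁻¹) * (b₀⁻¹ * b₀')⁻¹ := by rw [hv₁eq]; group
        _ = c'' * w * b₀⁻¹ * ((c'' * w)⁻¹ * b₀') * (b₀⁻¹ * b₀')⁻¹ := by rw [hcomm]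
        _ = c'' * w * b₀⁻¹ * (c'' * w)⁻¹ * b₀ := by group
    have hcb : b₀⁻¹ * c''⁻¹ = c''⁻¹ * b₀⁻¹ := hBcomm _ (B.inv_mem hb₀) _ (B.inv_mem hc'')
    have e2 : c'' * w * b₀⁻¹ * (c'' * w)⁻¹ * b₀ = c'' * (w * b₀⁻¹ * w⁻¹ * b₀⁻¹⁻¹) * c''⁻¹ := by
      calc c'' * w * b₀⁻¹ * (c'' * w)⁻¹ * b₀
          = c'' * (w * b₀⁻¹ * w⁻¹ * b₀⁻¹⁻¹) * (b₀⁻¹ * c''⁻¹) * b₀ := by group
        _ = c'' * (w * b₀⁻¹ * w⁻¹ * b₀⁻¹⁻¹) * (c''⁻¹ * b₀⁻¹) * b₀ := by rw [hcb]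
        _ = c'' * (w * b₀⁻¹ * w⁻¹ * b₀⁻¹⁻¹) * c''⁻¹ := by group
    have e3 : c'' * (w * b₀⁻¹ * w⁻¹ * b₀⁻¹⁻¹) * c''⁻¹ = w * b₀⁻¹ * w⁻¹ * b₀⁻¹⁻¹ := by
      rw [hcentB c'' hc'' _ (hlam w hw)]; group
    rw [e1, e2, e3]
    exact hlamrange w hw
  -- but these commutators fill `V₂`
  have hle : V₂ ≤ Subgroup.zpowers ((lam ⟨v₁, hv₁⟩ : ↥V₂) : P) := by
    intro u hu
    obtain ⟨c', hc', rfl⟩ := h.surj_of_EA B' hB'comm hB'exp hB'card hv₁ hv₁2 u hu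
    exact hθ c' hc'
  have hcard := Subgroup.card_le_of_le hle
  rw [h.hc2, Nat.card_zpowers] at hcard
  have hord : orderOf ((lam ⟨v₁, hv₁⟩ : ↥V₂) : P) ∣ p :=
    orderOf_dvd_of_pow_eq_one (h.hVexp _ (h.hV₂V (lam ⟨v₁, hv₁⟩).2))
  have := Nat.le_of_dvd hp.out.pos hord
  nlinarith

end P4Setup

/-- **Normal elementary abelian subgroups of order `p^4`** (`p` odd). -/
theorem exists_normal_elemAb_four {G : Type*} [Group G] [Finite G] {p : ℕ} [hp : Fact p.Prime]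
    (hp2 : p ≠ 2) (hG : IsPGroup p G) (E : Subgroup G)
    (hEcomm : ∀ a ∈ E, ∀ b ∈ E, a * b = b * a) (hEexp : ∀ a ∈ E, a ^ p = 1)
    (hE4 : Nat.card E = p ^ 4) :
    ∃ A : Subgroup G, A.Normal ∧ (∀ a ∈ A, ∀ b ∈ A, a * b = b * a) ∧ (∀ a ∈ A, a ^ p = 1) ∧
      Nat.card A = p ^ 4 := by
  have h1lt := hp.out.one_lt
  have hppos := hp.out.pos
  by_contra hno
  have hnil : Group.IsNilpotent G := hG.isNilpotent
  -- `G` is not cyclic
  have hncyc : ¬ IsCyclic (⊤ : Subgroup G) := by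
    intro hc
    have hGc : IsCyclic G := isCyclic_of_surjective (Subgroup.topEquiv : ↥(⊤ : Subgroup G) ≃* G)
      (Subgroup.topEquiv : ↥(⊤ : Subgroup G) ≃* G).surjective
    have hEc : IsCyclic E := inferInstance
    obtain ⟨g, hg⟩ := hEc.exists_generator
    have h1 : orderOf g = Nat.card E := orderOf_eq_card_of_forall_mem_zpowers hg
    have h2 : orderOf g ∣ p := by
      apply orderOf_dvd_of_pow_eq_one
      apply Subtype.ext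
      simpa using hEexp g.1 g.2
    rw [h1, hE4] at h2
    have h3 := Nat.le_of_dvd hppos h2
    have h4 : p < p ^ 4 := by
      calc p = p ^ 1 := (pow_one p).symm
        _ < p ^ 4 := Nat.pow_lt_pow_right h1lt (by norm_num)
    omega
  obtain ⟨E₂, -, hE₂n, hE₂exp, hE₂card⟩ := exists_normal_exp_p_sq hp2 hG ⊤ hncyc
  have hE₂comm : ∀ a ∈ E₂, ∀ b ∈ E₂, a * b = b * a := by
    intro a ha b hb
    have := (IsPGroup.isMulCommutative_of_card_eq_prime_sq hE₂card).is_comm.comm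
      (⟨a, ha⟩ : ↥E₂) ⟨b, hb⟩
    exact congrArg Subtype.val this
  obtain ⟨x, hxE, hxc, hxp⟩ := exists_centralizing_of_rank hG E₂ hE₂exp hE₂card E hEcomm hEexp
    (by rw [hE4]; exact Nat.pow_lt_pow_right h1lt (by norm_num))
  obtain ⟨V, hVn, hE₂V, hVcard, hVcomm, hVexp⟩ :=
    exists_normal_elemAb_step hp2 hG E₂ hE₂comm hE₂exp x hxE hxc hxp
  have hVc3 : Nat.card V = p ^ 3 := by rw [hVcard, hE₂card]; ring
  have hH1 : ∀ x : G, (∀ v ∈ V, x * v = v * x) → x ^ p = 1 → x ∈ V := by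
    intro y hyc hyp
    by_contra hyV
    obtain ⟨A, hAn, -, hAcard, hAcomm, hAexp⟩ :=
      exists_normal_elemAb_step hp2 hG V hVcomm hVexp y hyV hyc hyp
    exact hno ⟨A, hAn, hAcomm, hAexp, by rw [hAcard, hVc3]; ring⟩
  -- the chief chain
  have hVne : (⊥ : Subgroup G) ≠ V := by
    intro hb
    rw [← hb, Subgroup.card_bot] at hVc3
    have : 1 < p ^ 3 := Nat.one_lt_pow (by norm_num) h1lt
    omega
  obtain ⟨V₁, hV₁n, -, hV₁V, hV₁card, hV₁c⟩ :=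
    exists_normal_step_central V ⊥ (hG.to_subgroup V) bot_le hVne
  rw [Subgroup.card_bot, mul_one] at hV₁card
  have hV₁ne : V₁ ≠ V := by
    intro hb
    rw [hb, hVc3] at hV₁card
    have h4 : p < p ^ 3 := by
      calc p = p ^ 1 := (pow_one p).symm
        _ < p ^ 3 := Nat.pow_lt_pow_right h1lt (by norm_num)
    omega
  obtain ⟨V₂, hV₂n, hV₁V₂, hV₂V, hV₂card, hV₂c⟩ :=
    exists_normal_step_central V V₁ (hG.to_subgroup V) hV₁V hV₁ne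
  have hV₂c2 : Nat.card V₂ = p ^ 2 := by rw [hV₂card, hV₁card]; ring
  have hV₂ne : V₂ ≠ V := by
    intro hb
    rw [hb, hVc3] at hV₂c2
    have : p ^ 2 < p ^ 3 := Nat.pow_lt_pow_right h1lt (by norm_num)
    omega
  obtain ⟨V₃, hV₃n, hV₂V₃, hV₃V, hV₃card, hV₃c⟩ :=
    exists_normal_step_central V V₂ (hG.to_subgroup V) hV₂V hV₂ne
  have hV₃eq : V₃ = V :=
    Subgroup.eq_of_le_of_card_ge hV₃V (by rw [hV₃card, hV₂c2, hVc3]; ring_nf; rfl)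
  rw [hV₃eq] at hV₃c
  have hS : P4Setup p V₁ V₂ V :=
    { hP := hG
      hp2 := hp2
      hV₁V₂ := hV₁V₂
      hV₂V := hV₂V
      hc1 := hV₁card
      hc2 := hV₂c2
      hc3 := hVc3
      hVcomm := hVcomm
      hVexp := hVexp
      hV₁c := by
        intro u hu g
        have := hV₁c u hu g
        rw [Subgroup.mem_bot] at this
        calc g * u = (g * u * g⁻¹ * u⁻¹) * (u * g) := by group
          _ = u * g := by rw [this, one_mul]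
      hV₂c := hV₂c
      hVc := hV₃c
      hH1 := hH1 }
  -- the normalizer tower
  have hEnn : ¬ E.Normal := fun hn => hno ⟨E, hn, hEcomm, hEexp, hE4⟩
  have hNtop : Subgroup.normalizer (E : Set G) < ⊤ := by
    rw [lt_top_iff_ne_top]
    intro htop
    exact hEnn (Subgroup.normalizer_eq_top_iff.mp htop)
  have hNC : NormalizerCondition G := Group.normalizerCondition_of_isNilpotent
  have hlt := hNC _ hNtop
  obtain ⟨g, hgN, hgE⟩ := SetLike.exists_of_lt hlt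
  rw [Subgroup.mem_normalizer_iff] at hgN
  have hgN' : ∀ n, n ∈ Subgroup.normalizer (E : Set G) → g⁻¹ * n * g ∈
      Subgroup.normalizer (E : Set G) := by
    intro n hn
    rw [hgN]
    have : g * (g⁻¹ * n * g) * g⁻¹ = n := by group
    rw [this]; exact hn
  have hEN : E ≤ Subgroup.normalizer (E : Set G) := Subgroup.le_normalizer
  apply hgE
  apply Helper04.mem_normalizer_of_conj_le
  -- the conjugate subgroup
  have hB'comm : ∀ a ∈ E.map (MulAut.conj g).toMonoidHom, ∀ b ∈ E.map (MulAut.conj g).toMonoidHom,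
      a * b = b * a := by
    rintro _ ⟨a, ha, rfl⟩ _ ⟨b, hb, rfl⟩
    rw [← map_mul, ← map_mul, hEcomm a ha b hb]
  have hB'exp : ∀ a ∈ E.map (MulAut.conj g).toMonoidHom, a ^ p = 1 := by
    rintro _ ⟨a, ha, rfl⟩
    rw [← map_pow, hEexp a ha, map_one]
  have hB'card : Nat.card (E.map (MulAut.conj g).toMonoidHom) = p ^ 4 := by
    rw [Subgroup.card_map_of_injective (MulAut.conj g).injective, hE4]
  have hn1 : ∀ b' ∈ E.map (MulAut.conj g).toMonoidHom, ∀ b ∈ E, b' * b * b'⁻¹ ∈ E := by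
    rintro _ ⟨a, ha, rfl⟩ b hb
    have haN : g * a * g⁻¹ ∈ Subgroup.normalizer (E : Set G) := (hgN a).mp (hEN ha)
    rw [Subgroup.mem_normalizer_iff] at haN
    exact (haN b).mp hb
  have hn2 : ∀ b ∈ E, ∀ b' ∈ E.map (MulAut.conj g).toMonoidHom,
      b * b' * b⁻¹ ∈ E.map (MulAut.conj g).toMonoidHom := by
    rintro b hb _ ⟨a, ha, rfl⟩
    have hbN := hgN' b (hEN hb)
    rw [Subgroup.mem_normalizer_iff] at hbN
    refine ⟨(g⁻¹ * b * g) * a * (g⁻¹ * b * g)⁻¹, (hbN a).mp ha, ?_⟩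
    simp only [MulEquiv.coe_toMonoidHom, MulAut.conj_apply]
    group
  have hle := hS.le_of_normalize E (E.map (MulAut.conj g).toMonoidHom) hEcomm hEexp hE4
    hB'comm hB'exp hB'card hn1 hn2
  intro r hr
  exact hle ⟨r, hr, rfl⟩

end Cfsg.Agent.Lib.Helper59
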