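import Mathlib
import Cfsg.Agent.Lib.Helper21.PG2UNIP
import Cfsg.Agent.Lib.Helper14.PG2TAN
import Cfsg.Agent.Lib.Helper53.PG2T0
import Cfsg.Agent.S2475

/-!
# K-PG2 (S3452): the group `V ⋊ PSL₂(p)` isospectral to `PGL₂(p)`, `p ≥ 5` (module, witnesses, spectrum)
-/

set_option autoImplicit false
set_option linter.unusedSectionVars false
set_option linter.unusedVariables false

namespace Cfsg.Agent.Lib.Helper59.PG2


open Matrix

variable {p : ℕ} [Fact p.Prime]

abbrev SLp (p : ℕ) : Type := Matrix.SpecialLinearGroup (Fin 2) (ZMod p)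
abbrev PSLp (p : ℕ) : Type := Matrix.ProjectiveSpecialLinearGroup (Fin 2) (ZMod p)

/-- 2×2 Cayley–Hamilton for determinant one -/
theorem sq_eq' {R : Type*} [CommRing R] (G : Matrix (Fin 2) (Fin 2) R) (hd : G.det = 1) :
    G * G = G.trace • G - 1 := by
  rw [Matrix.det_fin_two] at hd
  ext i j
  fin_cases i <;> fin_cases j <;>
    simp [Matrix.mul_apply, Fin.sum_univ_two, Matrix.trace_fin_two] <;>
    first | linear_combination (-1 : R) * hd | linear_combination hd | ring1

theorem scalar_eq_smul_one (r : ZMod p) :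
    (Matrix.scalar (Fin 2) r : Matrix (Fin 2) (Fin 2) (ZMod p)) = r • 1 := by
  ext i j
  fin_cases i <;> fin_cases j <;> simp [Matrix.scalar_apply, Matrix.diagonal_apply]

theorem mem_center_iff' (g : SLp p) :
    g ∈ Subgroup.center (SLp p) ↔ g.1 = 1 ∨ g.1 = -1 := by
  rw [Matrix.SpecialLinearGroup.mem_center_iff]
  constructor
  · rintro ⟨r, hr, hrg⟩
    have hr2 : r ^ 2 = 1 := by simpa using hr
    rw [scalar_eq_smul_one] at hrg
    rcases sq_eq_one_iff.1 hr2 with h | h
    · left; rw [← hrg, h, one_smul]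
    · right; rw [← hrg, h, neg_smul, one_smul]
  · rintro (h | h)
    · exact ⟨1, by simp, by rw [scalar_eq_smul_one, one_smul, h]⟩
    · exact ⟨-1, by simp, by rw [scalar_eq_smul_one, neg_smul, one_smul, h]⟩

theorem mk_eq_one_iff (g : SLp p) :
    (QuotientGroup.mk g : PSLp p) = 1 ↔ g.1 = 1 ∨ g.1 = -1 := by
  rw [QuotientGroup.eq_one_iff, mem_center_iff']

theorem trace_sq_eq_of_mk_eq (g1 g2 : SLp p) (h : (QuotientGroup.mk g1 : PSLp p) = QuotientGroup.mk g2) :
    g1.1.trace ^ 2 = g2.1.trace ^ 2 := by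
  rw [QuotientGroup.eq] at h
  rcases (mem_center_iff' _).1 h with h1 | h1
  · have : g2 = g1 := by
      have h2 : g1⁻¹ * g2 = 1 := Subtype.ext h1
      have := congrArg (g1 * ·) h2
      simpa using this
    rw [this]
  · have h2 : g2.1 = -g1.1 := by
      have h3 : g1.1 * (g1⁻¹ * g2).1 = g1.1 * (-1) := by rw [h1]
      rw [← Matrix.SpecialLinearGroup.coe_mul, mul_inv_cancel_left] at h3
      rw [h3, Matrix.mul_neg, Matrix.mul_one]
    rw [h2, Matrix.trace_neg, neg_sq]

/-- powers of `K` lie in `span {1, K}` on the norm-one conic -/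
theorem pow_eq_lin (K : SLp p) (i : ℕ) :
    ∃ x y : ZMod p, (K ^ i).1 = x • (1 : Matrix (Fin 2) (Fin 2) (ZMod p)) + y • K.1 ∧
      x ^ 2 + K.1.trace * x * y + y ^ 2 = 1 := by
  induction i with
  | zero => exact ⟨1, 0, by simp, by ring⟩
  | succ i ih =>
    obtain ⟨x, y, h1, h2⟩ := ih
    refine ⟨-y, x + K.1.trace * y, ?_, by linear_combination h2⟩
    rw [pow_succ, Matrix.SpecialLinearGroup.coe_mul, h1, Matrix.add_mul, Matrix.smul_mul,
      Matrix.smul_mul, Matrix.one_mul, sq_eq' K.1 K.2, smul_sub, smul_smul, add_smul, neg_smul]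
    rw [mul_comm y]; abel_nf

/-- the tangent line meets the conic only in `± (1, 0)` -/
theorem conic_unique (s t0 x y : ZMod p) (hp : p ≠ 2) (hs : s ^ 2 ≠ 4) (ht0 : t0 ≠ 0)
    (hc : x ^ 2 + s * x * y + y ^ 2 = 1)
    (hl : (2 * x * t0 + y * (s * t0)) ^ 2 = (2 * t0) ^ 2) : y = 0 ∧ (x = 1 ∨ x = -1) := by
  have h2 : (2 : ZMod p) ≠ 0 := by
    intro h
    have h2' : ((2 : ℕ) : ZMod p) = 0 := by exact_mod_cast h
    rw [ZMod.natCast_eq_zero_iff] at h2'
    have := (Nat.prime_dvd_prime_iff_eq (Fact.out : p.Prime) Nat.prime_two).1 h2'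
    exact hp this
  have h3 : (2 * x + s * y) ^ 2 = 2 ^ 2 := by
    have : t0 ^ 2 * ((2 * x + s * y) ^ 2 - 2 ^ 2) = 0 := by linear_combination hl
    rcases mul_eq_zero.1 this with h | h
    · exact absurd (pow_eq_zero_iff (two_ne_zero) |>.1 h) ht0
    · exact sub_eq_zero.1 h
  have h4 : y ^ 2 * (4 - s ^ 2) = 0 := by linear_combination 4 * hc - h3
  have hy : y = 0 := by
    rcases mul_eq_zero.1 h4 with h | h
    · exact pow_eq_zero_iff (two_ne_zero) |>.1 h
    · exact absurd (sub_eq_zero.1 h).symm hs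
  refine ⟨hy, ?_⟩
  rw [hy] at hc
  have : x ^ 2 = 1 := by linear_combination hc
  exact sq_eq_one_iff.1 this



section SDP
variable {N G : Type*} [CommGroup N] [Group G] (φ : G →* MulAut N)

theorem sdp_pow (v : N) (k : G) (m : ℕ) :
    (SemidirectProduct.inl v * SemidirectProduct.inr k : N ⋊[φ] G) ^ m =
      SemidirectProduct.inl (∏ i ∈ Finset.range m, φ (k ^ i) v) * SemidirectProduct.inr (k ^ m) := by
  induction m with
  | zero => simp
  | succ m ih =>
    rw [pow_succ, ih, Finset.prod_range_succ]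
    ext
    · simp only [SemidirectProduct.mul_left, SemidirectProduct.mul_right, SemidirectProduct.left_inl,
        SemidirectProduct.right_inl, SemidirectProduct.left_inr, SemidirectProduct.right_inr, map_one,
        mul_one, one_mul]
    · simp only [SemidirectProduct.mul_right, SemidirectProduct.right_inl,
        SemidirectProduct.right_inr, one_mul, pow_succ]

end SDP

section Gamma

variable (X : Type) [Group X]

/-- left translation of functions -/
def transl (x : X) : (X → ZMod 2) ≃+ (X → ZMod 2) where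
  toFun f := fun h => f (x⁻¹ * h)
  invFun f := fun h => f (x * h)
  left_inv f := by funext h; simp
  right_inv f := by funext h; simp
  map_add' f g := by funext h; simp

/-- the action on the multiplicative copy -/
def phiX : X →* MulAut (Multiplicative (X → ZMod 2)) where
  toFun x := AddEquiv.toMultiplicative (transl X x)
  map_one' := by
    refine MulEquiv.ext (fun f => ?_)
    show Multiplicative.ofAdd (fun h => (Multiplicative.toAdd f) ((1 : X)⁻¹ * h)) = f
    simp
  map_mul' x y := by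
    refine MulEquiv.ext (fun f => ?_)
    show Multiplicative.ofAdd (fun h => (Multiplicative.toAdd f) ((x * y)⁻¹ * h)) =
      Multiplicative.ofAdd (fun h => (Multiplicative.toAdd f) (y⁻¹ * (x⁻¹ * h)))
    simp [mul_assoc]

theorem phiX_apply (x : X) (f : X → ZMod 2) :
    phiX X x (Multiplicative.ofAdd f) = Multiplicative.ofAdd (fun h => f (x⁻¹ * h)) := rfl

/-- the big group -/
abbrev Gam : Type := Multiplicative (X → ZMod 2) ⋊[phiX X] X

/-- functions summing to zero over the cosets of the subgroups of order `p` -/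
def VV (p : ℕ) : AddSubgroup (X → ZMod 2) where
  carrier := {f | ∀ k : X, k ≠ 1 → k ^ p = 1 → ∀ g : X, ∑ i ∈ Finset.range p, f (k ^ i * g) = 0}
  zero_mem' := by intro k _ _ g; simp
  add_mem' := by
    intro f1 f2 h1 h2 k hk1 hkp g
    simp only [Pi.add_apply, Finset.sum_add_distrib, h1 k hk1 hkp g, h2 k hk1 hkp g, add_zero]
  neg_mem' := by
    intro f h1 k hk1 hkp g
    simp only [Pi.neg_apply, Finset.sum_neg_distrib, h1 k hk1 hkp g, neg_zero]

theorem transl_mem_VV (p : ℕ) (x : X) (f : X → ZMod 2) (hf : f ∈ VV X p) :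
    transl X x f ∈ VV X p := by
  intro k hk1 hkp g
  have h1 : x⁻¹ * k * x ≠ 1 := by
    intro h
    apply hk1
    have : k = x * (x⁻¹ * k * x) * x⁻¹ := by group
    rw [this, h]; group
  have h2 : (x⁻¹ * k * x) ^ p = 1 := by
    have : x⁻¹ * k * x = x⁻¹ * k * x⁻¹⁻¹ := by rw [inv_inv]
    rw [this, conj_pow, hkp]; group
  have h3 := hf (x⁻¹ * k * x) h1 h2 (x⁻¹ * g)
  rw [← h3]
  apply Finset.sum_congr rfl
  intro i _
  show f (x⁻¹ * (k ^ i * g)) = f ((x⁻¹ * k * x) ^ i * (x⁻¹ * g))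
  have : x⁻¹ * k * x = x⁻¹ * k * x⁻¹⁻¹ := by rw [inv_inv]
  rw [this, conj_pow]
  congr 1
  group

/-- the subgroup `V ⋊ X` -/
def G0 (p : ℕ) : Subgroup (Gam X) where
  carrier := {h | Multiplicative.toAdd h.left ∈ VV X p}
  one_mem' := (VV X p).zero_mem
  mul_mem' := by
    intro a b ha hb
    show Multiplicative.toAdd (a * b).left ∈ VV X p
    rw [SemidirectProduct.mul_left]
    show Multiplicative.toAdd a.left + transl X a.right (Multiplicative.toAdd b.left) ∈ VV X p
    exact (VV X p).add_mem ha (transl_mem_VV X p _ _ hb)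
  inv_mem' := by
    intro a ha
    show Multiplicative.toAdd (a⁻¹).left ∈ VV X p
    rw [SemidirectProduct.inv_left]
    show transl X a.right⁻¹ (-(Multiplicative.toAdd a.left)) ∈ VV X p
    exact transl_mem_VV X p _ _ ((VV X p).neg_mem ha)

theorem mem_G0 (p : ℕ) (h : Gam X) : h ∈ G0 X p ↔ Multiplicative.toAdd h.left ∈ VV X p := Iff.rfl

theorem inl_sq (w : Multiplicative (X → ZMod 2)) : (SemidirectProduct.inl w : Gam X) ^ 2 = 1 := by
  rw [← map_pow]
  have : w ^ 2 = 1 := by
    show Multiplicative.ofAdd ((2 : ℕ) • Multiplicative.toAdd w) = 1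
    have h0 : (2 : ℕ) • Multiplicative.toAdd w = 0 := by
      funext h
      simp only [Pi.smul_apply, Pi.zero_apply, nsmul_eq_mul]
      have : ((2 : ℕ) : ZMod 2) = 0 := by decide
      rw [this, zero_mul]
    rw [h0]; rfl
  rw [this, map_one]

/-- the norm formula -/
theorem pow_eq_inl (f : X → ZMod 2) (k : X) (m : ℕ) (hk : k ^ m = 1) :
    (SemidirectProduct.inl (Multiplicative.ofAdd f) * SemidirectProduct.inr k : Gam X) ^ m =
      SemidirectProduct.inl
        (Multiplicative.ofAdd (fun g => ∑ i ∈ Finset.range m, f ((k⁻¹) ^ i * g))) := by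
  rw [sdp_pow, hk, map_one, mul_one]
  congr 1
  have : ∀ n : ℕ, (∏ i ∈ Finset.range n, phiX X (k ^ i) (Multiplicative.ofAdd f)) =
      Multiplicative.ofAdd (fun g => ∑ i ∈ Finset.range n, f ((k⁻¹) ^ i * g)) := by
    intro n
    induction n with
    | zero => rfl
    | succ n ih =>
      rw [Finset.prod_range_succ, ih, phiX_apply]
      show Multiplicative.ofAdd ((fun g => ∑ i ∈ Finset.range n, f ((k⁻¹) ^ i * g)) +
        (fun h => f ((k ^ n)⁻¹ * h))) = _
      congr 1
      funext g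
      simp only [Pi.add_apply, Finset.sum_range_succ, inv_pow]
  exact this m

end Gamma

section Spec

variable (X : Type) [Group X]

theorem orderOf_inr' (k : X) : orderOf (SemidirectProduct.inr k : Gam X) = orderOf k :=
  orderOf_injective (SemidirectProduct.inr : X →* Gam X) SemidirectProduct.inr_injective k

theorem orderOf_right_dvd' (h : Gam X) : orderOf h.right ∣ orderOf h :=
  orderOf_map_dvd (SemidirectProduct.rightHom : Gam X →* X) h

theorem eq_inl_mul_inr (h : Gam X) :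
    h = SemidirectProduct.inl (Multiplicative.ofAdd (Multiplicative.toAdd h.left)) *
      SemidirectProduct.inr h.right :=
  (SemidirectProduct.inl_left_mul_inr_right h).symm

/-- upper bound for the orders -/
theorem orderOf_dvd_G0 (p : ℕ) (hodd : Odd p)
    (hX : ∀ k : X, orderOf k ∣ p ∨ orderOf k ∣ (p - 1) / 2 ∨ orderOf k ∣ (p + 1) / 2)
    (h : Gam X) (hh : h ∈ G0 X p) :
    orderOf h ∣ p ∨ orderOf h ∣ p - 1 ∨ orderOf h ∣ p + 1 := by
  have hpm : 2 * ((p - 1) / 2) = p - 1 := by obtain ⟨c, rfl⟩ := hodd; omega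
  have hpp : 2 * ((p + 1) / 2) = p + 1 := by obtain ⟨c, rfl⟩ := hodd; omega
  have key : ∀ m : ℕ, h.right ^ m = 1 → orderOf h ∣ 2 * m := by
    intro m hm
    apply orderOf_dvd_of_pow_eq_one
    rw [mul_comm, pow_mul, eq_inl_mul_inr X h, pow_eq_inl X _ _ m hm, inl_sq]
  rcases hX h.right with hk | hk | hk
  · by_cases hk1 : h.right = 1
    · right; left
      have := key 1 (by rw [hk1, pow_one])
      rw [← hpm]
      exact this.trans (by rw [mul_one]; exact dvd_mul_right 2 _)
    · left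
      have hkp : h.right ^ p = 1 := orderOf_dvd_iff_pow_eq_one.1 hk
      apply orderOf_dvd_of_pow_eq_one
      rw [eq_inl_mul_inr X h, pow_eq_inl X _ _ p hkp]
      have hz : (fun g => ∑ i ∈ Finset.range p, (Multiplicative.toAdd h.left) ((h.right⁻¹) ^ i * g)) = 0 := by
        funext g
        exact hh (h.right⁻¹) (by simpa using hk1) (by rw [inv_pow, hkp, inv_one]) g
      rw [hz]
      rfl
  · right; left
    rw [← hpm]
    exact (key _ (pow_orderOf_eq_one _)).trans (Nat.mul_dvd_mul_left 2 hk)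
  · right; right
    rw [← hpp]
    exact (key _ (pow_orderOf_eq_one _)).trans (Nat.mul_dvd_mul_left 2 hk)

/-- a witness gives an element of twice the order -/
theorem exists_orderOf_two_mul (p : ℕ) (k : X) (f : X → ZMod 2) (g : X) (m : ℕ) (hm : 0 < m)
    (hk : orderOf k = m) (hf : f ∈ VV X p)
    (hne : ∑ i ∈ Finset.range m, f ((k⁻¹) ^ i * g) ≠ 0) :
    ∃ h : Gam X, h ∈ G0 X p ∧ orderOf h = 2 * m := by
  refine ⟨SemidirectProduct.inl (Multiplicative.ofAdd f) * SemidirectProduct.inr k, ?_, ?_⟩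
  · show Multiplicative.toAdd (SemidirectProduct.inl (Multiplicative.ofAdd f) *
      SemidirectProduct.inr k : Gam X).left ∈ VV X p
    simpa using hf
  · set h : Gam X := SemidirectProduct.inl (Multiplicative.ofAdd f) * SemidirectProduct.inr k with hdef
    have hkm : k ^ m = 1 := by rw [← hk]; exact pow_orderOf_eq_one k
    have h1 : h ^ m = SemidirectProduct.inl
        (Multiplicative.ofAdd (fun g => ∑ i ∈ Finset.range m, f ((k⁻¹) ^ i * g))) :=
      pow_eq_inl X f k m hkm
    have h2 : h ^ m ≠ 1 := by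
      rw [h1]
      intro h3
      have h4 := congrArg SemidirectProduct.left h3
      simp only [SemidirectProduct.left_inl, SemidirectProduct.one_left] at h4
      have h5 := congrFun (congrArg Multiplicative.toAdd h4) g
      exact hne h5
    have h3 : orderOf h ∣ 2 * m := by
      apply orderOf_dvd_of_pow_eq_one
      rw [mul_comm, pow_mul, h1, inl_sq]
    have h4 : m ∣ orderOf h := by
      have := orderOf_right_dvd' X h
      have hr : h.right = k := by simp [hdef]
      rwa [hr, hk] at this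
    obtain ⟨c, hc⟩ := h4
    have hc2 : c ∣ 2 := by
      rw [hc] at h3
      rw [mul_comm 2 m] at h3
      exact (Nat.mul_dvd_mul_iff_left hm).1 h3
    have hc' : c = 1 ∨ c = 2 := by
      have := Nat.le_of_dvd (by norm_num) hc2
      interval_cases c
      · simp at hc2
      · left; rfl
      · right; rfl
    rcases hc' with rfl | rfl
    · exfalso
      apply h2
      rw [mul_one] at hc
      rw [← hc]
      exact pow_orderOf_eq_one h
    · rw [hc, mul_comm]

/-- divisors of orders are orders -/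
theorem exists_orderOf_of_dvd (p : ℕ) (h : Gam X) (hh : h ∈ G0 X p) (n m : ℕ) (hn : orderOf h = n)
    (hn0 : 0 < n) (hm : m ∣ n) : ∃ h' : Gam X, h' ∈ G0 X p ∧ orderOf h' = m := by
  obtain ⟨c, hc⟩ := hm
  have hm0 : 0 < m := by
    rcases Nat.eq_zero_or_pos m with h0 | h0
    · rw [h0, zero_mul] at hc; omega
    · exact h0
  have hc0 : c ≠ 0 := by
    intro h0; rw [h0, mul_zero] at hc; omega
  refine ⟨h ^ c, (G0 X p).pow_mem hh c, ?_⟩
  rw [orderOf_pow_of_dvd hc0 (by rw [hn, hc]; exact dvd_mul_left c m), hn, hc]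
  exact Nat.mul_div_cancel m (Nat.pos_of_ne_zero hc0)

/-- the spectrum of `G0` -/
theorem spectrum_G0 (p : ℕ) (hodd : Odd p) (hp3 : 3 ≤ p)
    (hX : ∀ k : X, orderOf k ∣ p ∨ orderOf k ∣ (p - 1) / 2 ∨ orderOf k ∣ (p + 1) / 2)
    (hXp : ∃ k : X, orderOf k = p)
    (hw1 : ∃ (k : X) (f : X → ZMod 2) (g : X), orderOf k = (p - 1) / 2 ∧ f ∈ VV X p ∧
      ∑ i ∈ Finset.range ((p - 1) / 2), f ((k⁻¹) ^ i * g) ≠ 0)
    (hw2 : ∃ (k : X) (f : X → ZMod 2) (g : X), orderOf k = (p + 1) / 2 ∧ f ∈ VV X p ∧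
      ∑ i ∈ Finset.range ((p + 1) / 2), f ((k⁻¹) ^ i * g) ≠ 0) :
    Set.range (orderOf : ↥(G0 X p) → ℕ) = {m : ℕ | m ∣ p ∨ m ∣ p - 1 ∨ m ∣ p + 1} := by
  have hpm : 2 * ((p - 1) / 2) = p - 1 := by obtain ⟨c, rfl⟩ := hodd; omega
  have hpp : 2 * ((p + 1) / 2) = p + 1 := by obtain ⟨c, rfl⟩ := hodd; omega
  ext m
  simp only [Set.mem_range, Set.mem_ofPred_eq]
  constructor
  · rintro ⟨⟨h, hh⟩, rfl⟩
    rw [← Subgroup.orderOf_coe]
    exact orderOf_dvd_G0 X p hodd hX h hh
  · intro hm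
    have key : ∀ n : ℕ, 0 < n → (∃ h : Gam X, h ∈ G0 X p ∧ orderOf h = n) → m ∣ n →
        ∃ y : ↥(G0 X p), orderOf y = m := by
      rintro n hn0 ⟨h, hh, hn⟩ hmn
      obtain ⟨h', hh', ho⟩ := exists_orderOf_of_dvd X p h hh n m hn hn0 hmn
      exact ⟨⟨h', hh'⟩, by rw [← Subgroup.orderOf_coe]; exact ho⟩
    rcases hm with hm | hm | hm
    · obtain ⟨k, hk⟩ := hXp
      refine key p (by omega) ⟨SemidirectProduct.inr k, ?_, by rw [orderOf_inr', hk]⟩ hm
      show Multiplicative.toAdd (SemidirectProduct.inr k : Gam X).left ∈ VV X p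
      simp
    · obtain ⟨k, f, g, hk, hf, hne⟩ := hw1
      have := exists_orderOf_two_mul X p k f g ((p - 1) / 2) (by omega) hk hf hne
      rw [hpm] at this
      exact key (p - 1) (by omega) this hm
    · obtain ⟨k, f, g, hk, hf, hne⟩ := hw2
      have := exists_orderOf_two_mul X p k f g ((p + 1) / 2) (by omega) hk hf hne
      rw [hpp] at this
      exact key (p + 1) (by omega) this hm

/-- the normal abelian subgroup -/
theorem exists_normal_solvable (p : ℕ) (f : X → ZMod 2) (hf : f ∈ VV X p) (hf0 : f ≠ 0) :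
    ∃ K : Subgroup ↥(G0 X p), K.Normal ∧ K ≠ ⊥ ∧ Group.IsSolvable ↥K := by
  let ψ : ↥(G0 X p) →* X := (SemidirectProduct.rightHom : Gam X →* X).comp (G0 X p).subtype
  refine ⟨ψ.ker, inferInstance, ?_, ?_⟩
  · intro hbot
    have hmem : (⟨SemidirectProduct.inl (Multiplicative.ofAdd f), by
        show Multiplicative.toAdd (SemidirectProduct.inl (Multiplicative.ofAdd f) : Gam X).left ∈ VV X p
        simpa using hf⟩ : ↥(G0 X p)) ∈ ψ.ker := by
      rw [MonoidHom.mem_ker]
      simp [ψ]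
    rw [hbot, Subgroup.mem_bot] at hmem
    have h2 := congrArg (fun y : ↥(G0 X p) => (y : Gam X).left) hmem
    simp only [SemidirectProduct.left_inl, Subgroup.coe_one, SemidirectProduct.one_left] at h2
    exact hf0 (congrArg Multiplicative.toAdd h2)
  · have hcomm : ∀ a b : ↥ψ.ker, a * b = b * a := by
      rintro ⟨⟨a, ha⟩, hka⟩ ⟨⟨b, hb⟩, hkb⟩
      apply Subtype.ext
      apply Subtype.ext
      show a * b = b * a
      have hra : a.right = 1 := hka
      have hrb : b.right = 1 := hkb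
      refine SemidirectProduct.ext ?_ ?_
      · simp only [SemidirectProduct.mul_left, hra, hrb, map_one, MulAut.one_apply]
        exact mul_comm a.left b.left
      · simp only [SemidirectProduct.mul_right, hra, hrb]
    exact Group.isSolvable_of_comm hcomm

instance finite_G0 [Finite X] (p : ℕ) : Finite ↥(G0 X p) := by
  have : Finite (Gam X) := Finite.of_equiv _ (SemidirectProduct.equivProd (φ := phiX X)).symm
  exact Subtype.finite

end Spec


section Witness

open Matrix

variable {p : ℕ} [Fact p.Prime]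

/-- squared trace on `PSL₂(p)` -/
noncomputable def trsq (h : PSLp p) : ZMod p := (Quotient.out h : SLp p).1.trace ^ 2

theorem trsq_mk (g : SLp p) : trsq (QuotientGroup.mk g : PSLp p) = g.1.trace ^ 2 := by
  unfold trsq
  apply trace_sq_eq_of_mk_eq
  exact QuotientGroup.out_eq' _

/-- indicator of a trace class -/
noncomputable def aFun (t0 : ZMod p) (h : PSLp p) : ZMod 2 := if trsq h = t0 ^ 2 then 1 else 0

theorem sum_aFun (t0 : ZMod p) (K G : SLp p) (m : ℕ) :
    ∑ i ∈ Finset.range m, aFun t0 ((QuotientGroup.mk K : PSLp p) ^ i * QuotientGroup.mk G) =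
      ((Finset.card ((Finset.range m).filter (fun i => ((K ^ i * G).1.trace) ^ 2 = t0 ^ 2)) : ℕ) : ZMod 2) := by
  rw [← Finset.sum_boole]
  apply Finset.sum_congr rfl
  intro i _
  unfold aFun
  rw [← QuotientGroup.mk_pow, ← QuotientGroup.mk_mul, trsq_mk]

theorem aFun_mem_VV (hp2 : p ≠ 2) (t0 : ZMod p) (ht0 : t0 ≠ 0) (hns : ¬ IsSquare (t0 ^ 2 - 4)) :
    aFun t0 ∈ VV (PSLp p) p := by
  intro k hk1 hkp g
  obtain ⟨K, rfl⟩ := QuotientGroup.mk_surjective k
  obtain ⟨G, rfl⟩ := QuotientGroup.mk_surjective g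
  rw [sum_aFun]
  rw [ZMod.natCast_eq_zero_iff_even]
  apply Cfsg.Agent.Lib.Helper21.PG2.unip_even p hp2 t0 ht0 hns K G
  · rw [← QuotientGroup.mk_pow] at hkp
    exact (mk_eq_one_iff _).1 hkp
  · intro h
    exact hk1 ((mk_eq_one_iff K).2 (Or.inl h))
  · intro h
    exact hk1 ((mk_eq_one_iff K).2 (Or.inr h))

/-- a matrix with `M² = 2M - 1` has `M^p = 1` -/
theorem pow_p_eq_one_of_sq (M : Matrix (Fin 2) (Fin 2) (ZMod p)) (hM : M * M = (2 : ZMod p) • M - 1) :
    M ^ p = 1 := by
  have hp := (Fact.out : p.Prime)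
  set n := M - 1 with hn
  have hn2 : n * n = 0 := by
    rw [hn, Matrix.sub_mul, Matrix.mul_sub, Matrix.mul_sub, hM]
    simp only [Matrix.mul_one, Matrix.one_mul, two_smul]
    abel
  have hM1 : M = 1 + n := by rw [hn]; abel
  have hgen : ∀ c : ℕ, n ^ (2 + c) = 0 := by
    intro c
    rw [pow_add, pow_two, hn2, zero_mul]
  have hnp : n ^ p = 0 := by
    have h := hgen (p - 2)
    have e : 2 + (p - 2) = p := by have := hp.two_le; omega
    rwa [e] at h
  have : CharP (Matrix (Fin 2) (Fin 2) (ZMod p)) p := inferInstance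
  rw [hM1, add_pow_char_of_commute p (Commute.one_left n), one_pow, hnp, add_zero]

theorem trace_sq_ne_four (hp2 : p ≠ 2) (K : SLp p) (hk : (QuotientGroup.mk K : PSLp p) ^ p ≠ 1) :
    K.1.trace ^ 2 ≠ 4 := by
  intro h4
  apply hk
  rw [← QuotientGroup.mk_pow, mk_eq_one_iff]
  have h5 : (K.1.trace - 2) * (K.1.trace + 2) = 0 := by linear_combination h4
  have hsq := sq_eq' K.1 K.2
  rcases mul_eq_zero.1 h5 with h | h
  · left
    have ht : K.1.trace = 2 := sub_eq_zero.1 h
    rw [ht] at hsq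
    rw [Matrix.SpecialLinearGroup.coe_pow]
    exact pow_p_eq_one_of_sq K.1 hsq
  · right
    have ht : K.1.trace = -2 := eq_neg_of_add_eq_zero_left h
    rw [ht] at hsq
    have h6 : (-K.1) * (-K.1) = (2 : ZMod p) • (-K.1) - 1 := by
      rw [neg_mul_neg, hsq, neg_smul, smul_neg]
    have h7 := pow_p_eq_one_of_sq (-K.1) h6
    have hodd : Odd p := (Fact.out : p.Prime).odd_of_ne_two hp2
    rw [hodd.neg_pow] at h7
    rw [Matrix.SpecialLinearGroup.coe_pow]
    exact neg_eq_iff_eq_neg.1 h7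

/-- the witness -/
theorem exists_witness (hp2 : p ≠ 2) (t0 : ZMod p) (ht0 : t0 ≠ 0) (k : PSLp p) (m : ℕ)
    (hm : orderOf k = m) (hm0 : 0 < m) (hkp : k ^ p ≠ 1) :
    ∃ g : PSLp p, ∑ i ∈ Finset.range m, aFun t0 ((k⁻¹) ^ i * g) ≠ 0 := by
  obtain ⟨K, hK⟩ := QuotientGroup.mk_surjective (k⁻¹)
  have hkp' : (QuotientGroup.mk K : PSLp p) ^ p ≠ 1 := by
    rw [hK, inv_pow]
    intro h
    exact hkp (inv_eq_one.1 h)
  have hs := trace_sq_ne_four hp2 K hkp'
  obtain ⟨G, hG1, hG2⟩ := Cfsg.Agent.Lib.Helper14.PG2.exists_tangent p hp2 K hs t0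
  refine ⟨QuotientGroup.mk G, ?_⟩
  rw [← hK, sum_aFun]
  have hfil : (Finset.range m).filter (fun i => ((K ^ i * G).1.trace) ^ 2 = t0 ^ 2) = {0} := by
    ext i
    simp only [Finset.mem_filter, Finset.mem_range, Finset.mem_singleton]
    constructor
    · rintro ⟨him, htr⟩
      obtain ⟨x, y, hxy, hc⟩ := pow_eq_lin K i
      have h1 : (K ^ i * G).1.trace = x * t0 + y * (K.1 * G.1).trace := by
        rw [Matrix.SpecialLinearGroup.coe_mul, hxy, Matrix.add_mul, Matrix.smul_mul, Matrix.smul_mul,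
          Matrix.one_mul, Matrix.trace_add, Matrix.trace_smul, Matrix.trace_smul, hG1]
        rfl
      have h2 : (2 * x * t0 + y * (K.1.trace * t0)) ^ 2 = (2 * t0) ^ 2 := by
        have : 2 * x * t0 + y * (K.1.trace * t0) = 2 * (K ^ i * G).1.trace := by
          rw [h1, ← hG2]; ring
        rw [this, mul_pow, htr, mul_pow]
      obtain ⟨hy, hx⟩ := conic_unique K.1.trace t0 x y hp2 hs ht0 hc h2
      have h3 : (QuotientGroup.mk K : PSLp p) ^ i = 1 := by
        rw [← QuotientGroup.mk_pow, mk_eq_one_iff, hxy, hy, zero_smul, add_zero]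
        rcases hx with hx | hx
        · left; rw [hx, one_smul]
        · right; rw [hx, neg_smul, one_smul]
      rw [hK, inv_pow, inv_eq_one] at h3
      have h4 : m ∣ i := by rw [← hm]; exact orderOf_dvd_of_pow_eq_one h3
      exact Nat.eq_zero_of_dvd_of_lt h4 him
    · rintro rfl
      refine ⟨hm0, ?_⟩
      rw [pow_zero, one_mul, hG1]
  rw [hfil, Finset.card_singleton]
  decide

end Witness

section Final

variable (p : ℕ) [Fact p.Prime]

/-- the case `q = p ≥ 5` of S3452: a finite group with a non-trivial solvable normal subgroup and the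
spectrum of `PGL₂(p)` -/
theorem exists_group_prime (hp : 5 ≤ p) :
    ∃ (G : Type) (_ : Group G) (_ : Finite G) (K : Subgroup G), K.Normal ∧ K ≠ ⊥ ∧ Group.IsSolvable ↥K ∧
      Set.range (orderOf : G → ℕ) = {m | m ∣ p ∨ m ∣ p - 1 ∨ m ∣ p + 1} := by
  have hpp := (Fact.out : p.Prime)
  have hp2 : p ≠ 2 := by omega
  have hodd : Odd p := hpp.odd_of_ne_two hp2
  have hcard : Fintype.card (ZMod p) = p := ZMod.card p
  have hgcd : Nat.gcd 2 (p - 1) = 2 := by
    obtain ⟨c, hc⟩ := hodd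
    have : p - 1 = 2 * c := by omega
    rw [this]
    exact Nat.gcd_eq_left (dvd_mul_right 2 c)
  have hspec := Cfsg.Agent.S2475.result (F := ZMod p) p (by rw [hcard]; omega)
  rw [hcard, hgcd] at hspec
  have hX : ∀ k : PSLp p, orderOf k ∣ p ∨ orderOf k ∣ (p - 1) / 2 ∨ orderOf k ∣ (p + 1) / 2 := by
    intro k
    have h : orderOf k ∈ Set.range (orderOf : PSLp p → ℕ) := ⟨k, rfl⟩
    rw [hspec] at h
    exact h
  have hex : ∀ m, (m ∣ p ∨ m ∣ (p - 1) / 2 ∨ m ∣ (p + 1) / 2) → ∃ k : PSLp p, orderOf k = m := by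
    intro m hm
    have h : m ∈ Set.range (orderOf : PSLp p → ℕ) := by rw [hspec]; exact hm
    exact h
  obtain ⟨t0, ht0, hns⟩ := Cfsg.Agent.Lib.Helper53.PG2.exists_t0 p hp
  have hfV := aFun_mem_VV hp2 t0 ht0 hns
  have hkey : ∀ m, 1 < m → m < p → (∃ k : PSLp p, orderOf k = m) →
      ∃ (k : PSLp p) (g : PSLp p), orderOf k = m ∧
        ∑ i ∈ Finset.range m, aFun t0 (k⁻¹ ^ i * g) ≠ 0 := by
    rintro m hm1 hmp ⟨k, hk⟩
    have hkp : k ^ p ≠ 1 := by
      intro h
      have h1 : orderOf k ∣ p := orderOf_dvd_of_pow_eq_one h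
      rw [hk] at h1
      rcases (Nat.dvd_prime hpp).1 h1 with h2 | h2 <;> omega
    obtain ⟨g, hg⟩ := exists_witness hp2 t0 ht0 k m hk (by omega) hkp
    exact ⟨k, g, hk, hg⟩
  obtain ⟨k1, g1, hk1, hs1⟩ := hkey ((p - 1) / 2) (by omega) (by omega) (hex _ (Or.inr (Or.inl dvd_rfl)))
  obtain ⟨k2, g2, hk2, hs2⟩ := hkey ((p + 1) / 2) (by omega) (by omega) (hex _ (Or.inr (Or.inr dvd_rfl)))
  have hspecG := spectrum_G0 (PSLp p) p hodd (by omega) hX (hex p (Or.inl dvd_rfl))
    ⟨k1, aFun t0, g1, hk1, hfV, hs1⟩ ⟨k2, aFun t0, g2, hk2, hfV, hs2⟩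
  have hf0 : aFun t0 ≠ 0 := by
    intro h0
    apply hs1
    rw [h0]
    simp
  obtain ⟨K, hKn, hKb, hKs⟩ := exists_normal_solvable (PSLp p) p (aFun t0) hfV hf0
  have : Finite (PSLp p) := by
    have : Finite (SLp p) := Subtype.finite
    exact Quotient.finite _
  exact ⟨↥(G0 (PSLp p) p), inferInstance, finite_G0 (X := PSLp p) p, K, hKn, hKb, hKs, hspecG⟩

end Final

end Cfsg.Agent.Lib.Helper59.PG2
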