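import Mathlib
import Cfsg.Agent.Lib.Helper59.PG2Main
import Cfsg.Agent.Lib.Helper79.PG2PGLa
import Cfsg.Agent.Lib.Helper61.PG2PGLb1
import Cfsg.Agent.Lib.Helper65.PG2PGLb2
import Cfsg.Agent.Lib.Helper86.PG2PGLb3
import Cfsg.Agent.Lib.Helper82.PG2PGL22
import Cfsg.Agent.Lib.Helper81.PG2F6
import Cfsg.Agent.Lib.Helper93.PG2F36
import Cfsg.Agent.Lib.Helper26.PG2F3240
import Cfsg.Agent.S3444

/-!
# K-PG2 (S3452): glue -- `PGL₂(q)`, `q` prime or `9`, is isospectral to groups of unbounded order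
-/

set_option autoImplicit false
set_option linter.unusedSectionVars false
set_option linter.unusedVariables false

namespace Cfsg.Agent.Lib.Helper59.PG2

/-- `PGL₂(F)` as in the statement S3452 -/
abbrev PGL2' (F : Type*) [Field F] : Type _ :=
  Matrix.GeneralLinearGroup (Fin 2) F ⧸ Subgroup.center (Matrix.GeneralLinearGroup (Fin 2) F)

/-- the spectrum of `PGL₂(F)` in odd characteristic -/
theorem spectrum_pgl2_odd {F : Type*} [Field F] [Fintype F] (p : ℕ) [Fact p.Prime] [CharP F p] (hp : p ≠ 2) :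
    Set.range (orderOf : PGL2' F → ℕ) =
      {m | m ∣ p ∨ m ∣ Fintype.card F - 1 ∨ m ∣ Fintype.card F + 1} := by
  have hq : 1 < Fintype.card F := Fintype.one_lt_card
  have hdiv : ∀ (x : PGL2' F) (n m : ℕ), orderOf x = n → 0 < n → m ∣ n → ∃ y : PGL2' F, orderOf y = m := by
    intro x n m hx hn hmn
    obtain ⟨c, hc⟩ := hmn
    have hc0 : c ≠ 0 := by
      rintro rfl
      rw [mul_zero] at hc
      omega
    refine ⟨x ^ c, ?_⟩
    rw [orderOf_pow_of_dvd hc0 (by rw [hx, hc]; exact dvd_mul_left c m), hx, hc]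
    exact Nat.mul_div_cancel m (Nat.pos_of_ne_zero hc0)
  ext m
  constructor
  · rintro ⟨x, rfl⟩
    exact Cfsg.Agent.Lib.Helper79.PG2.pgl2_orderOf_dvd p hp x
  · intro hm
    have hm' : m ∣ p ∨ m ∣ Fintype.card F - 1 ∨ m ∣ Fintype.card F + 1 := hm
    rcases hm' with h | h | h
    · obtain ⟨x, hx⟩ := Cfsg.Agent.Lib.Helper61.PG2.pgl2_exists_orderOf_eq_char (F := F) p
      exact hdiv x p m hx (Fact.out : p.Prime).pos h
    · obtain ⟨x, hx⟩ := Cfsg.Agent.Lib.Helper65.PG2.pgl2_exists_orderOf_eq_split (F := F)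
      exact hdiv x _ m hx (by omega) h
    · obtain ⟨x, hx⟩ := Cfsg.Agent.Lib.Helper86.PG2.pgl2_exists_orderOf_eq_nonsplit (F := F) p hp
      exact hdiv x _ m hx (by omega) h

theorem dvd_set_three : {m : ℕ | m ∣ 3 ∨ m ∣ 3 - 1 ∨ m ∣ 3 + 1} = {1, 2, 3, 4} := by
  have key : ∀ m : ℕ, m ≤ 4 →
      ((m ∣ 3 ∨ m ∣ 3 - 1 ∨ m ∣ 3 + 1) ↔ (m = 1 ∨ m = 2 ∨ m = 3 ∨ m = 4)) := by decide
  ext m
  constructor
  · intro h
    have h' : m ∣ 3 ∨ m ∣ 3 - 1 ∨ m ∣ 3 + 1 := h
    have hle : m ≤ 4 := by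
      rcases h' with h1 | h1 | h1
      · exact le_trans (Nat.le_of_dvd (by norm_num) h1) (by norm_num)
      · exact le_trans (Nat.le_of_dvd (by norm_num) h1) (by norm_num)
      · exact le_trans (Nat.le_of_dvd (by norm_num) h1) (by norm_num)
    have h2 := (key m hle).1 h'
    simpa [Set.mem_insert_iff] using h2
  · intro h
    have h' : m = 1 ∨ m = 2 ∨ m = 3 ∨ m = 4 := by simpa [Set.mem_insert_iff] using h
    have hle : m ≤ 4 := by omega
    exact (key m hle).2 h'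

theorem dvd_set_nine : {m : ℕ | m ∣ 3 ∨ m ∣ 9 - 1 ∨ m ∣ 9 + 1} = {1, 2, 3, 4, 5, 8, 10} := by
  have key : ∀ m : ℕ, m ≤ 10 →
      ((m ∣ 3 ∨ m ∣ 9 - 1 ∨ m ∣ 9 + 1) ↔
        (m = 1 ∨ m = 2 ∨ m = 3 ∨ m = 4 ∨ m = 5 ∨ m = 8 ∨ m = 10)) := by decide
  ext m
  constructor
  · intro h
    have h' : m ∣ 3 ∨ m ∣ 9 - 1 ∨ m ∣ 9 + 1 := h
    have hle : m ≤ 10 := by
      rcases h' with h1 | h1 | h1
      · exact le_trans (Nat.le_of_dvd (by norm_num) h1) (by norm_num)
      · exact le_trans (Nat.le_of_dvd (by norm_num) h1) (by norm_num)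
      · exact le_trans (Nat.le_of_dvd (by norm_num) h1) (by norm_num)
    have h2 := (key m hle).1 h'
    simpa [Set.mem_insert_iff] using h2
  · intro h
    have h' : m = 1 ∨ m = 2 ∨ m = 3 ∨ m = 4 ∨ m = 5 ∨ m = 8 ∨ m = 10 := by
      simpa [Set.mem_insert_iff] using h
    have hle : m ≤ 10 := by omega
    exact (key m hle).2 h'

/-- one finite group with a non-trivial solvable normal subgroup and the spectrum of `PGL₂(F)` -/
theorem exists_group {F : Type*} [Field F] [Fintype F]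
    (hF : (Fintype.card F).Prime ∨ Fintype.card F = 9) :
    ∃ (G : Type) (_ : Group G) (_ : Finite G) (K : Subgroup G), K.Normal ∧ K ≠ ⊥ ∧ Group.IsSolvable ↥K ∧
      Set.range (orderOf : G → ℕ) = Set.range (orderOf : PGL2' F → ℕ) := by
  obtain ⟨p, hchar⟩ := CharP.exists F
  have := hchar
  obtain ⟨n, hpp, hcard⟩ := FiniteField.card F p
  have : Fact p.Prime := ⟨hpp⟩
  rcases hF with hF | hF
  · -- `|F| = p`
    have hqp : Fintype.card F = p := by
      have h1 : p ∣ Fintype.card F := by rw [hcard]; exact dvd_pow_self p n.ne_zero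
      exact ((Nat.prime_dvd_prime_iff_eq hpp hF).1 h1).symm
    by_cases hp2 : p = 2
    · have h2 : Fintype.card F = 2 := by rw [hqp, hp2]
      have hsp := Cfsg.Agent.Lib.Helper82.PG2.spectrum_pgl2_two (F := F) h2
      obtain ⟨G, iG, iF, K, hKn, hKb, hKs, hG⟩ := Cfsg.Agent.Lib.Helper81.PG2.exists_spec_pgl22
      exact ⟨G, iG, iF, K, hKn, hKb, hKs, hG.trans hsp.symm⟩
    · have hsp := spectrum_pgl2_odd (F := F) p hp2
      rw [hqp] at hsp
      by_cases hp3 : p = 3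
      · rw [hp3, dvd_set_three] at hsp
        obtain ⟨G, iG, iF, K, hKn, hKb, hKs, hG⟩ := Cfsg.Agent.Lib.Helper93.PG2.exists_spec_pgl23
        exact ⟨G, iG, iF, K, hKn, hKb, hKs, hG.trans hsp.symm⟩
      · have hp5 : 5 ≤ p := by
          have h2 := hpp.two_le
          by_contra hlt
          have h4 : p = 4 := by omega
          rw [h4] at hpp
          exact absurd hpp (by decide)
        obtain ⟨G, iG, iF, K, hKn, hKb, hKs, hG⟩ := exists_group_prime p hp5
        exact ⟨G, iG, iF, K, hKn, hKb, hKs, hG.trans hsp.symm⟩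
  · -- `|F| = 9`
    have hp3 : p = 3 := by
      have h1 : p ∣ 9 := by rw [← hF, hcard]; exact dvd_pow_self p n.ne_zero
      have h2 : p ∣ 3 ^ 2 := by norm_num; exact h1
      exact (Nat.prime_dvd_prime_iff_eq hpp Nat.prime_three).1 (hpp.dvd_of_dvd_pow h2)
    have hp2 : p ≠ 2 := by omega
    have hsp := spectrum_pgl2_odd (F := F) p hp2
    rw [hF, hp3, dvd_set_nine] at hsp
    obtain ⟨G, iG, iF, K, hKn, hKb, hKs, hG⟩ := Cfsg.Agent.Lib.Helper26.PG2.exists_spec_pgl29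
    exact ⟨G, iG, iF, K, hKn, hKb, hKs, hG.trans hsp.symm⟩

/-- S3452 -/
theorem s3452_main {F : Type*} [Field F] [Fintype F]
    (hF : (Fintype.card F).Prime ∨ Fintype.card F = 9) (N : ℕ) :
    ∃ (H : Type) (_ : Group H) (_ : Fintype H), N < Fintype.card H ∧
      Set.range (orderOf : H → ℕ) =
        Set.range (orderOf : Matrix.GeneralLinearGroup (Fin 2) F ⧸
          Subgroup.center (Matrix.GeneralLinearGroup (Fin 2) F) → ℕ) := by
  obtain ⟨G, iG, iF, K, hKn, hKb, hKs, hsp⟩ := exists_group hF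
  obtain ⟨H, iH, iHF, hN, hH⟩ := Cfsg.Agent.S3444.result K hKb hKs N
  exact ⟨H, iH, iHF, hN, hH.trans hsp⟩

end Cfsg.Agent.Lib.Helper59.PG2
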