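import Cfsg.Agent.Lib.Helper59.QDKlein

set_option autoImplicit false

namespace Cfsg.Agent.Lib.Helper59

open scoped commutatorElement

namespace QD

variable {S : Type*} [Group S] {k : ℕ} {x y : S}

theorem eq_top_of_mem (h : QD S k x y) [Finite S] (K : Subgroup S) (hx : x ∈ K) (hy : y ∈ K) : K = ⊤ := by
  rw [eq_top_iff]
  intro g _
  rcases h.cases g with ⟨a, rfl⟩ | ⟨a, rfl⟩
  · exact K.zpow_mem hx a
  · exact K.mul_mem (K.zpow_mem hx a) hy

/-- `x^2` is a commutator power -/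
theorem x_sq_mem_commutator (h : QD S k x y) : x ^ (2 : ℤ) ∈ commutator S := by
  have h1 : ⁅y, x⁆ ∈ commutator S := by
    rw [commutator_def]
    exact Subgroup.commutator_mem_commutator (Subgroup.mem_top y) (Subgroup.mem_top x)
  have h2 : ⁅y, x⁆ = x ^ (4 * 2 ^ k - 2 : ℤ) := by
    rw [commutatorElement_def, h.conj_x]
    have : x⁻¹ = x ^ (-1 : ℤ) := by simp
    rw [this, ← zpow_add]; congr 1; ring
  have h3 : x ^ (2 : ℤ) = (⁅y, x⁆) ^ (-(2 * 2 ^ k + 1) : ℤ) := by
    rw [h2, ← zpow_mul, h.zpow_eq_zpow]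
    exact ⟨2 ^ k, by ring⟩
  rw [h3]
  exact Subgroup.zpow_mem _ h1 _

theorem even_zpow_mem_commutator (h : QD S k x y) (c : ℤ) : x ^ (2 * c) ∈ commutator S := by
  rw [zpow_mul]; exact Subgroup.zpow_mem _ h.x_sq_mem_commutator c

/-- A subgroup containing `x^2` and some `x^b y` (or `x`) is a coatom unless it is everything. -/
theorem isCoatom_of_x_sq_mem (h : QD S k x y) [Finite S] (N : Subgroup S) (hN : N ≠ ⊤)
    (hx2 : x ^ (2 : ℤ) ∈ N) (hb : x ∈ N ∨ ∃ b : ℤ, x ^ b * y ∈ N) : IsCoatom N := by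
  refine ⟨hN, ?_⟩
  intro K hlt
  obtain ⟨g, hgK, hgN⟩ := SetLike.exists_of_lt hlt
  have hle : N ≤ K := le_of_lt hlt
  have hx2K : x ^ (2 : ℤ) ∈ K := hle hx2
  have evenK : ∀ c : ℤ, x ^ (2 * c) ∈ K := by
    intro c; rw [zpow_mul]; exact K.zpow_mem hx2K c
  have evenN : ∀ c : ℤ, x ^ (2 * c) ∈ N := by
    intro c; rw [zpow_mul]; exact N.zpow_mem hx2 c
  have oddK : ∀ c : ℤ, x ^ (2 * c + 1) ∈ K → x ∈ K := by
    intro c hc
    have : x = x ^ (2 * c + 1) * x ^ (2 * (-c)) := by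
      rw [← zpow_add]
      have : 2 * c + 1 + 2 * -c = 1 := by ring
      rw [this, zpow_one]
    rw [this]; exact K.mul_mem hc (evenK _)
  rcases hb with hxN | ⟨b, hbN⟩
  · -- N ⊇ ⟨x⟩
    rcases h.cases g with ⟨a, rfl⟩ | ⟨a, rfl⟩
    · exact absurd (N.zpow_mem hxN a) hgN
    · apply h.eq_top_of_mem K (hle hxN)
      have : y = x ^ (-a) * (x ^ a * y) := by group
      rw [this]; exact K.mul_mem (K.zpow_mem (hle hxN) _) hgK
  · have hbK : x ^ b * y ∈ K := hle hbN
    have hxK : x ∈ K := by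
      rcases h.cases g with ⟨a, rfl⟩ | ⟨a, rfl⟩
      · rcases Int.even_or_odd' a with ⟨c, rfl | rfl⟩
        · exact absurd (evenN c) hgN
        · exact oddK c hgK
      · have h1 : x ^ (a - b) ∈ K := by
          have : x ^ (a - b) = (x ^ a * y) * (x ^ b * y)⁻¹ := by rw [zpow_sub]; group
          rw [this]; exact K.mul_mem hgK (K.inv_mem hbK)
        rcases Int.even_or_odd' (a - b) with ⟨c, hc | hc⟩
        · exfalso; apply hgN
          have : x ^ a * y = x ^ (2 * c) * (x ^ b * y) := by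
            rw [← hc, zpow_sub]; group
          rw [this]; exact N.mul_mem (evenN c) hbN
        · rw [hc] at h1; exact oddK c h1
    apply h.eq_top_of_mem K hxK
    have : y = x ^ (-b) * (x ^ b * y) := by group
    rw [this]; exact K.mul_mem (K.zpow_mem hxK _) hbK

end QD

end Cfsg.Agent.Lib.Helper59
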