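import Mathlib

/-!
# S2515: a group with a normal 3-subgroup and maximal element orders `6, 9, q - 1, (q + 1) / 2`

`H = M₂(F) ⋊ (ℤˣ × PSL₂(F))`, `F` a finite field of characteristic 3, `g • W = g W Frob(g)ᵀ`,
`-1 ∈ ℤˣ` acting as `-1`.
-/

set_option autoImplicit false
set_option linter.unusedSectionVars false
set_option linter.unusedVariables false

namespace Cfsg.Agent.Lib.Helper59.R2515

open Matrix



section Mat
variable {F : Type*} [Field F]

/-- 2×2 Cayley–Hamilton for determinant one -/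
theorem sq_eq (G : Matrix (Fin 2) (Fin 2) F) (hd : G.det = 1) : G * G = G.trace • G - 1 := by
  rw [Matrix.det_fin_two] at hd
  ext i j
  fin_cases i <;> fin_cases j <;>
    simp [Matrix.mul_apply, Fin.sum_univ_two, Matrix.trace_fin_two] <;>
    first | linear_combination (-1 : F) * hd | linear_combination hd | ring1

/-- the key fixed-vector computation -/
theorem eq_of_fixed (G Hm W : Matrix (Fin 2) (Fin 2) F) (t s ε : F)
    (hG : G * G = t • G - 1) (hH : Hm * Hm = s • Hm - 1) (hε : ε * ε = 1) (hW : W ≠ 0)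
    (hfix : G * W * Hm = ε • W) : s = t * ε := by
  have hX : G * (G * W) = t • (G * W) - W := by
    rw [← Matrix.mul_assoc, hG, Matrix.sub_mul, Matrix.smul_mul, Matrix.one_mul]
  have hY : W * Hm * Hm = s • (W * Hm) - W := by
    rw [Matrix.mul_assoc, hH, Matrix.mul_sub, Matrix.mul_smul, Matrix.mul_one]
  have h1 : G * (G * W) * Hm = ε • (G * W) := by
    calc G * (G * W) * Hm = G * (G * W * Hm) := by rw [Matrix.mul_assoc]
      _ = G * (ε • W) := by rw [hfix]
      _ = ε • (G * W) := by rw [Matrix.mul_smul]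
  have h2 : G * (G * W) * Hm = t • (ε • W) - W * Hm := by
    rw [hX, Matrix.sub_mul, Matrix.smul_mul, hfix]
  have hYi : W * Hm = (t * ε) • W - ε • (G * W) := by
    have h3 : ε • (G * W) = t • (ε • W) - W * Hm := h1.symm.trans h2
    rw [smul_smul] at h3
    rw [h3]; abel
  have hY2 : W * Hm * Hm = (t * ε) • (W * Hm) - W := by
    conv_lhs => rw [hYi]
    rw [Matrix.sub_mul, Matrix.smul_mul, Matrix.smul_mul, hfix, smul_smul, hε, one_smul]
  have h4 : (s - t * ε) • (W * Hm) = 0 := by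
    have h5 : s • (W * Hm) - W = (t * ε) • (W * Hm) - W := hY.symm.trans hY2
    rw [sub_smul]
    have h6 : s • (W * Hm) = (t * ε) • (W * Hm) := by
      have := congrArg (· + W) h5
      simpa using this
    rw [h6, sub_self]
  rcases smul_eq_zero.1 h4 with h | h
  · exact sub_eq_zero.1 h
  · exfalso
    apply hW
    have hinv : Hm * (s • 1 - Hm) = 1 := by
      rw [Matrix.mul_sub, Matrix.mul_smul, Matrix.mul_one, hH]; abel
    calc W = W * (Hm * (s • 1 - Hm)) := by rw [hinv, Matrix.mul_one]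
      _ = (W * Hm) * (s • 1 - Hm) := by rw [Matrix.mul_assoc]
      _ = 0 := by rw [h, Matrix.zero_mul]


end Mat


section SDP
variable {N G : Type*} [CommGroup N] [Group G] (φ : G →* MulAut N)

theorem sdp_pow_right (h : N ⋊[φ] G) (m : ℕ) : (h ^ m).right = h.right ^ m :=
  map_pow (SemidirectProduct.rightHom : N ⋊[φ] G →* G) h m

theorem sdp_exists_fixed (h : N ⋊[φ] G) (m : ℕ) (hm : h.right ^ m = 1) :
    ∃ w : N, h ^ m = SemidirectProduct.inl w ∧ φ h.right w = w := by
  have hr : (h ^ m).right = 1 := by rw [sdp_pow_right, hm]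
  refine ⟨(h ^ m).left, ?_, ?_⟩
  · ext
    · simp
    · simp [hr]
  · have hc : h * h ^ m = h ^ m * h := (Commute.refl h).pow_right m
    have h1 := congrArg SemidirectProduct.left hc
    simp only [SemidirectProduct.mul_left, hr, map_one, MulAut.one_apply] at h1
    have h2 : h.left * φ h.right (h ^ m).left = h.left * (h ^ m).left := by
      rw [h1, mul_comm]
    exact mul_left_cancel h2

theorem sdp_orderOf_right_dvd (h : N ⋊[φ] G) : orderOf h.right ∣ orderOf h :=
  orderOf_map_dvd (SemidirectProduct.rightHom : N ⋊[φ] G →* G) h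

theorem sdp_orderOf_inr (g : G) : orderOf (SemidirectProduct.inr g : N ⋊[φ] G) = orderOf g :=
  orderOf_injective (SemidirectProduct.inr : G →* N ⋊[φ] G) SemidirectProduct.inr_injective g

/-- cube of `inl v * inr k` -/
theorem sdp_cube (v : N) (k : G) :
    (SemidirectProduct.inl v * SemidirectProduct.inr k : N ⋊[φ] G) ^ 3 =
      SemidirectProduct.inl (v * φ k v * φ k (φ k v)) * SemidirectProduct.inr (k ^ 3) := by
  ext
  · simp [pow_succ, mul_assoc]
  · simp [pow_succ]

end SDP




variable (F : Type*) [Field F] [CharP F 3]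

local instance fact3 : Fact (Nat.Prime 3) := ⟨Nat.prime_three⟩

abbrev SL2 : Type _ := Matrix.SpecialLinearGroup (Fin 2) F
abbrev PSL2 : Type _ := Matrix.ProjectiveSpecialLinearGroup (Fin 2) F
abbrev VV : Type _ := Matrix (Fin 2) (Fin 2) F

variable {F}

/-- Frobenius on `SL₂` -/
noncomputable def fr : SL2 F →* SL2 F := Matrix.SpecialLinearGroup.map (frobenius F 3)

/-- the action `g • W = g W Frob(g)ᵀ` -/
noncomputable def act (g : SL2 F) (W : VV F) : VV F := g.1 * W * ((fr g).1)ᵀ

theorem act_one (W : VV F) : act 1 W = W := by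
  simp [act]

theorem act_mul (g h : SL2 F) (W : VV F) : act (g * h) W = act g (act h W) := by
  simp only [act, map_mul, Matrix.SpecialLinearGroup.coe_mul, Matrix.transpose_mul, Matrix.mul_assoc]

theorem act_add (g : SL2 F) (W W' : VV F) : act g (W + W') = act g W + act g W' := by
  simp only [act, Matrix.mul_add, Matrix.add_mul]

theorem act_smul_int (g : SL2 F) (n : ℤ) (W : VV F) : act g (n • W) = n • act g W := by
  simp only [act, Matrix.mul_smul, Matrix.smul_mul]

/-- the action as an additive equivalence -/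
noncomputable def actEquiv (g : SL2 F) : VV F ≃+ VV F where
  toFun := act g
  invFun := act g⁻¹
  left_inv W := by rw [← act_mul, inv_mul_cancel, act_one]
  right_inv W := by rw [← act_mul, mul_inv_cancel, act_one]
  map_add' := act_add g

/-- the action on the multiplicative copy -/
noncomputable def rhoSL : SL2 F →* MulAut (Multiplicative (VV F)) where
  toFun g := AddEquiv.toMultiplicative (actEquiv g)
  map_one' := by
    refine MulEquiv.ext (fun W => ?_)
    show Multiplicative.ofAdd (act 1 (Multiplicative.toAdd W)) = W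
    rw [act_one]; rfl
  map_mul' g h := by
    refine MulEquiv.ext (fun W => ?_)
    show Multiplicative.ofAdd (act (g * h) (Multiplicative.toAdd W)) =
      Multiplicative.ofAdd (act g (act h (Multiplicative.toAdd W)))
    rw [act_mul]

theorem rhoSL_apply (g : SL2 F) (W : VV F) :
    rhoSL g (Multiplicative.ofAdd W) = Multiplicative.ofAdd (act g W) := rfl

theorem act_of_mem_center (g : SL2 F) (hg : g ∈ Subgroup.center (SL2 F)) (W : VV F) :
    act g W = W := by
  obtain ⟨r, hr, hrg⟩ := Matrix.SpecialLinearGroup.mem_center_iff.1 hg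
  have hr2 : r ^ 2 = 1 := by simpa using hr
  have h1 : g.1 = Matrix.scalar (Fin 2) r := hrg.symm
  have h2 : (fr g).1 = Matrix.scalar (Fin 2) (r ^ 3) := by
    show (frobenius F 3).mapMatrix g.1 = _
    rw [h1]
    ext i j
    fin_cases i <;> fin_cases j <;> simp [frobenius_def]
  unfold act
  rw [h2, h1]
  ext i j
  have : r * r ^ 3 = 1 := by
    have : r * r ^ 3 = (r ^ 2) ^ 2 := by ring
    rw [this, hr2, one_pow]
  fin_cases i <;> fin_cases j <;>
    simp [Matrix.mul_apply, Matrix.scalar_apply, Matrix.diagonal_apply] <;>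
    linear_combination (W _ _) * this

/-- the action of `PSL₂` -/
noncomputable def rhoPSL : PSL2 F →* MulAut (Multiplicative (VV F)) :=
  QuotientGroup.lift (Subgroup.center (SL2 F)) rhoSL (by
    intro g hg
    refine MulEquiv.ext (fun W => ?_)
    show Multiplicative.ofAdd (act g (Multiplicative.toAdd W)) = W
    rw [act_of_mem_center g hg]; rfl)

theorem rhoPSL_mk (g : SL2 F) (W : VV F) :
    rhoPSL (QuotientGroup.mk g : PSL2 F) (Multiplicative.ofAdd W) = Multiplicative.ofAdd (act g W) := rfl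

/-- the sign action -/
noncomputable def sgn : ℤˣ →* MulAut (Multiplicative (VV F)) where
  toFun u := AddEquiv.toMultiplicative (DistribMulAction.toAddEquiv (VV F) u)
  map_one' := by
    refine MulEquiv.ext (fun W => ?_)
    show Multiplicative.ofAdd ((1 : ℤˣ) • (Multiplicative.toAdd W)) = W
    rw [one_smul]; rfl
  map_mul' u v := by
    refine MulEquiv.ext (fun W => ?_)
    show Multiplicative.ofAdd ((u * v) • (Multiplicative.toAdd W)) =
      Multiplicative.ofAdd (u • (v • (Multiplicative.toAdd W)))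
    rw [mul_smul]

theorem sgn_apply (u : ℤˣ) (W : VV F) :
    sgn u (Multiplicative.ofAdd W) = Multiplicative.ofAdd (u • W) := rfl

theorem sgn_comm (u : ℤˣ) (k : PSL2 F) : Commute (sgn (F := F) u) (rhoPSL k) := by
  obtain ⟨g, rfl⟩ := QuotientGroup.mk_surjective k
  refine MulEquiv.ext (fun W => ?_)
  show Multiplicative.ofAdd (u • act g (Multiplicative.toAdd W)) =
    Multiplicative.ofAdd (act g (u • Multiplicative.toAdd W))
  rw [Units.smul_def, Units.smul_def, act_smul_int]

/-- the acting group -/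
abbrev KK (F : Type*) [Field F] : Type _ := ℤˣ × Matrix.ProjectiveSpecialLinearGroup (Fin 2) F

/-- the full action -/
noncomputable def phi : KK F →* MulAut (Multiplicative (VV F)) :=
  MonoidHom.noncommCoprod sgn rhoPSL sgn_comm

theorem phi_apply (u : ℤˣ) (g : SL2 F) (W : VV F) :
    phi (u, (QuotientGroup.mk g : PSL2 F)) (Multiplicative.ofAdd W) =
      Multiplicative.ofAdd (u • act g W) := rfl

/-- the group `H = M₂(F) ⋊ (ℤˣ × PSL₂(F))` -/
abbrev HH (F : Type*) [Field F] [CharP F 3] : Type _ := Multiplicative (VV F) ⋊[phi (F := F)] KK F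


section Main

variable {F : Type*} [Field F] [CharP F 3]

local instance fact3' : Fact (Nat.Prime 3) := ⟨Nat.prime_three⟩

theorem trace_fr (g : SL2 F) : ((fr g).1)ᵀ.trace = g.1.trace ^ 3 := by
  rw [Matrix.trace_transpose]
  show ((frobenius F 3).mapMatrix g.1).trace = _
  rw [Matrix.trace_fin_two, Matrix.trace_fin_two]
  simp only [RingHom.mapMatrix_apply, Matrix.map_apply, frobenius_def]
  rw [add_pow_char]

theorem det_fr (g : SL2 F) : ((fr g).1)ᵀ.det = 1 := by
  rw [Matrix.det_transpose]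
  exact (fr g).2

theorem three_smul_eq_zero (W : VV F) : (3 : ℕ) • W = 0 := by
  have h3 : ((3 : ℕ) : F) = 0 := (CharP.cast_eq_zero_iff F 3 3).2 (dvd_refl 3)
  rw [← Nat.cast_smul_eq_nsmul F, h3, zero_smul]

/-- in `PSL₂`: trace zero gives an involution -/
theorem mk_sq_eq_one (g : SL2 F) (ht : g.1.trace = 0) : (QuotientGroup.mk g : PSL2 F) ^ 2 = 1 := by
  rw [← QuotientGroup.mk_pow, QuotientGroup.eq_one_iff]
  rw [Matrix.SpecialLinearGroup.mem_center_iff]
  refine ⟨-1, by simp, ?_⟩
  have h := sq_eq g.1 g.2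
  rw [ht, zero_smul, zero_sub] at h
  rw [pow_two, Matrix.SpecialLinearGroup.coe_mul, h]
  ext i j
  fin_cases i <;> fin_cases j <;> simp

/-- in `PSL₂`: trace `± 1` gives an element of order dividing `3` -/
theorem mk_cube_eq_one (g : SL2 F) (ht : g.1.trace * g.1.trace = 1) :
    (QuotientGroup.mk g : PSL2 F) ^ 3 = 1 := by
  rw [← QuotientGroup.mk_pow, QuotientGroup.eq_one_iff]
  rw [Matrix.SpecialLinearGroup.mem_center_iff]
  set t := g.1.trace with htdef
  refine ⟨-t, by simp [ht, pow_two], ?_⟩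
  have h := sq_eq g.1 g.2
  rw [← htdef] at h
  have h3 : g.1 * (g.1 * g.1) = (-t) • (1 : Matrix (Fin 2) (Fin 2) F) := by
    rw [h, Matrix.mul_sub, Matrix.mul_smul, h, Matrix.mul_one, smul_sub, smul_smul, ht, one_smul]
    rw [neg_smul]; abel
  have h4 : ((g ^ 3 : SL2 F) : Matrix (Fin 2) (Fin 2) F) = g.1 * (g.1 * g.1) := by
    rw [pow_succ, pow_two]
    simp only [Matrix.SpecialLinearGroup.coe_mul, Matrix.mul_assoc]
  rw [h4, h3]
  ext i j
  fin_cases i <;> fin_cases j <;> simp

/-- a nonzero fixed vector forces small order -/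
theorem fixed_imp (hns : ¬ IsSquare (-1 : F)) (u : ℤˣ) (g : SL2 F) (W : VV F) (hW : W ≠ 0)
    (hfix : u • act g W = W) :
    (QuotientGroup.mk g : PSL2 F) ^ 2 = 1 ∨ ((QuotientGroup.mk g : PSL2 F) ^ 3 = 1 ∧ u = 1) := by
  set t := g.1.trace with htdef
  have hG := sq_eq g.1 g.2
  have hH := sq_eq ((fr g).1)ᵀ (det_fr g)
  rw [trace_fr] at hH
  rw [← htdef] at hG hH
  rcases Int.units_eq_one_or u with hu | hu
  · subst hu
    rw [one_smul] at hfix
    have h1 : g.1 * W * ((fr g).1)ᵀ = (1 : F) • W := by rw [one_smul]; exact hfix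
    have h2 := eq_of_fixed g.1 ((fr g).1)ᵀ W t (t ^ 3) 1 hG hH (by ring) hW h1
    have h3 : t * ((t * t - 1)) = 0 := by linear_combination h2
    rcases mul_eq_zero.1 h3 with h | h
    · exact Or.inl (mk_sq_eq_one g h)
    · exact Or.inr ⟨mk_cube_eq_one g (sub_eq_zero.1 h), rfl⟩
  · subst hu
    have h0 : act g W = -W := by
      have : (-1 : ℤˣ) • act g W = -(act g W) := by
        rw [Units.smul_def]; simp
      rw [this] at hfix
      exact neg_eq_iff_eq_neg.1 hfix
    have h1 : g.1 * W * ((fr g).1)ᵀ = (-1 : F) • W := by rw [neg_smul, one_smul]; exact h0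
    have h2 := eq_of_fixed g.1 ((fr g).1)ᵀ W t (t ^ 3) (-1) hG hH (by ring) hW h1
    have h3 : t * ((t * t + 1)) = 0 := by linear_combination h2
    rcases mul_eq_zero.1 h3 with h | h
    · exact Or.inl (mk_sq_eq_one g h)
    · exfalso
      apply hns
      exact ⟨t, by linear_combination (-1 : F) * h⟩

theorem inl_pow_three (w : Multiplicative (VV F)) :
    (SemidirectProduct.inl w : HH F) ^ 3 = 1 := by
  rw [← map_pow]
  have : w ^ 3 = 1 := by
    show Multiplicative.ofAdd ((3 : ℕ) • Multiplicative.toAdd w) = 1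
    rw [three_smul_eq_zero]; rfl
  rw [this, map_one]

theorem units_int_orderOf_dvd (u : ℤˣ) : orderOf u ∣ 2 :=
  orderOf_dvd_of_pow_eq_one (by rw [pow_two]; exact Int.units_mul_self u)

/-- every element order divides one of four numbers -/
theorem orderOf_dvd (hns : ¬ IsSquare (-1 : F)) (A B2 : ℕ)
    (hspec : ∀ k : PSL2 F, orderOf k ∣ 3 ∨ orderOf k ∣ A ∨ orderOf k ∣ B2) (h : HH F) :
    orderOf h ∣ 6 ∨ orderOf h ∣ 9 ∨ orderOf h ∣ 2 * A ∨ orderOf h ∣ Nat.lcm 2 B2 := by
  have hpow : h.right ^ orderOf h.right = 1 := pow_orderOf_eq_one h.right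
  obtain ⟨w, hw, hfix⟩ := sdp_exists_fixed (N := Multiplicative (VV F)) (G := KK F) (phi (F := F)) h
    (orderOf h.right) hpow
  have hm : orderOf h.right = Nat.lcm (orderOf h.right.1) (orderOf h.right.2) := Prod.orderOf _
  have hu2 := units_int_orderOf_dvd h.right.1
  by_cases hw1 : w = 1
  · have h1 : orderOf h ∣ orderOf h.right := by
      apply orderOf_dvd_of_pow_eq_one
      rw [hw, hw1, map_one]
    rw [hm] at h1
    rcases hspec h.right.2 with hk | hk | hk
    · exact Or.inl (h1.trans (Nat.lcm_dvd (hu2.trans (by norm_num)) (hk.trans (by norm_num))))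
    · exact Or.inr (Or.inr (Or.inl (h1.trans
        (Nat.lcm_dvd (hu2.trans (dvd_mul_right 2 A)) (hk.trans (dvd_mul_left A 2))))))
    · exact Or.inr (Or.inr (Or.inr (h1.trans (Nat.lcm_dvd (hu2.trans (Nat.dvd_lcm_left 2 B2)) (hk.trans (Nat.dvd_lcm_right 2 B2))))))
  · have h3 : orderOf h ∣ 3 * orderOf h.right := by
      apply orderOf_dvd_of_pow_eq_one
      rw [mul_comm, pow_mul, hw, inl_pow_three]
    obtain ⟨g, hg⟩ := QuotientGroup.mk_surjective h.right.2
    have hWne : Multiplicative.toAdd w ≠ 0 := fun h0 => hw1 (by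
      have : w = Multiplicative.ofAdd (Multiplicative.toAdd w) := rfl
      rw [this, h0]; rfl)
    have hfix' : h.right.1 • act g (Multiplicative.toAdd w) = Multiplicative.toAdd w := by
      have hk : h.right = (h.right.1, (QuotientGroup.mk g : PSL2 F)) := by rw [hg]
      rw [hk] at hfix
      have h5 := phi_apply h.right.1 g (Multiplicative.toAdd w)
      have h6 : Multiplicative.ofAdd (Multiplicative.toAdd w) = w := rfl
      rw [h6] at h5
      rw [h5] at hfix
      exact congrArg Multiplicative.toAdd hfix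
    rcases fixed_imp hns h.right.1 g _ hWne hfix' with hk | ⟨hk, hu⟩
    · rw [hg] at hk
      have h7 : orderOf h.right.2 ∣ 2 := orderOf_dvd_of_pow_eq_one hk
      have h8 : orderOf h.right ∣ 2 := by rw [hm]; exact Nat.lcm_dvd hu2 h7
      exact Or.inl (h3.trans (Nat.mul_dvd_mul_left 3 h8))
    · rw [hg] at hk
      have h7 : orderOf h.right.2 ∣ 3 := orderOf_dvd_of_pow_eq_one hk
      have h8 : orderOf h.right ∣ 3 := by
        rw [hm, hu, orderOf_one]
        exact Nat.lcm_dvd (one_dvd _) h7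
      exact Or.inr (Or.inl (h3.trans (Nat.mul_dvd_mul_left 3 h8)))

/-- orders of the complement -/
theorem exists_orderOf_lcm (u : ℤˣ) (k : PSL2 F) :
    ∃ h : HH F, orderOf h = Nat.lcm (orderOf u) (orderOf k) :=
  ⟨SemidirectProduct.inr (u, k), by rw [sdp_orderOf_inr, Prod.orderOf_mk]⟩

theorem orderOf_neg_one_units : orderOf (-1 : ℤˣ) = 2 := by
  have : Fact (Nat.Prime 2) := ⟨Nat.prime_two⟩
  refine orderOf_eq_prime (by simp) (by decide)

end Main

section Nine

variable {F : Type*} [Field F] [CharP F 3]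

local instance fact3'' : Fact (Nat.Prime 3) := ⟨Nat.prime_three⟩

/-- the standard unipotent element -/
noncomputable def u0 : SL2 F := ⟨!![1, 1; 0, 1], by simp [Matrix.det_fin_two]⟩

theorem three_eq_zero : (3 : F) = 0 := by
  have h3 : ((3 : ℕ) : F) = 0 := (CharP.cast_eq_zero_iff F 3 3).2 (dvd_refl 3)
  exact_mod_cast h3

theorem five_ne_zero : (5 : F) ≠ 0 := by
  intro h
  have h5 : ((5 : ℕ) : F) = 0 := by exact_mod_cast h
  have := (CharP.cast_eq_zero_iff F 3 5).1 h5
  omega

theorem fr_u0 : ((fr (u0 : SL2 F)).1) = !![1, 1; 0, 1] := by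
  show (frobenius F 3).mapMatrix !![1, 1; 0, 1] = _
  ext i j
  fin_cases i <;> fin_cases j <;> simp [frobenius_def]

theorem act_u0 (W : VV F) : act u0 W =
    !![W 0 0 + W 0 1 + W 1 0 + W 1 1, W 0 1 + W 1 1; W 1 0 + W 1 1, W 1 1] := by
  unfold act
  rw [fr_u0]
  show (!![1, 1; 0, 1] : Matrix (Fin 2) (Fin 2) F) * W * (!![1, 1; 0, 1] : Matrix (Fin 2) (Fin 2) F)ᵀ = _
  ext i j
  fin_cases i <;> fin_cases j <;>
    (simp [Matrix.mul_apply, Fin.sum_univ_two, Matrix.vecMul, dotProduct]; try ring)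

theorem u0_pow_three : (u0 : SL2 F) ^ 3 = 1 := by
  apply Subtype.ext
  have h3 := three_eq_zero (F := F)
  show ((u0 : SL2 F) ^ 3).1 = 1
  rw [pow_succ, pow_two]
  simp only [Matrix.SpecialLinearGroup.coe_mul]
  show (!![1, 1; 0, 1] : Matrix (Fin 2) (Fin 2) F) * !![1, 1; 0, 1] * !![1, 1; 0, 1] = 1
  ext i j
  fin_cases i <;> fin_cases j <;> simp [Matrix.mul_apply, Fin.sum_univ_two]
  linear_combination h3

/-- the test vector -/
def E0 : VV F := !![0, 0; 0, 1]

theorem E0_ne_zero : (E0 : VV F) ≠ 0 := by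
  intro h
  have := congrFun (congrFun h 1) 1
  simp [E0] at this

/-- the element of order nine -/
noncomputable def h9 : HH F :=
  SemidirectProduct.inl (Multiplicative.ofAdd (E0 : VV F)) *
    SemidirectProduct.inr ((1 : ℤˣ), (QuotientGroup.mk (u0 : SL2 F) : PSL2 F))

theorem h9_cube : (h9 : HH F) ^ 3 = SemidirectProduct.inl
    (Multiplicative.ofAdd ((E0 : VV F) + act u0 E0 + act u0 (act u0 E0))) := by
  unfold h9
  rw [sdp_cube]
  have hk : (((1 : ℤˣ), (QuotientGroup.mk (u0 : SL2 F) : PSL2 F)) : KK F) ^ 3 = 1 := by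
    rw [Prod.pow_mk, one_pow, ← QuotientGroup.mk_pow, u0_pow_three]
    rfl
  rw [hk, map_one, mul_one]
  rw [phi_apply, one_smul, phi_apply, one_smul]
  rfl

theorem orderOf_h9 : orderOf (h9 : HH F) = 9 := by
  have h1 : ¬ (h9 : HH F) ^ 3 ^ 1 = 1 := by
    rw [pow_one, h9_cube]
    intro h
    have h2 := congrArg SemidirectProduct.left h
    simp only [SemidirectProduct.left_inl, SemidirectProduct.one_left] at h2
    have h3 : (E0 : VV F) + act u0 E0 + act u0 (act u0 E0) = 0 := congrArg Multiplicative.toAdd h2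
    have h4 := congrFun (congrFun h3 0) 0
    rw [act_u0, act_u0] at h4
    simp [E0] at h4
    apply five_ne_zero (F := F)
    linear_combination h4
  have h2 : (h9 : HH F) ^ 3 ^ (1 + 1) = 1 := by
    show (h9 : HH F) ^ (3 * 3) = 1
    rw [pow_mul, h9_cube, inl_pow_three]
  exact orderOf_eq_prime_pow h1 h2

theorem exists_normal_three :
    ∃ P : Subgroup (HH F), P.Normal ∧ P ≠ ⊥ ∧ IsPGroup 3 ↥P := by
  refine ⟨(SemidirectProduct.rightHom : HH F →* KK F).ker, inferInstance, ?_, ?_⟩
  · intro hbot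
    have hmem : (SemidirectProduct.inl (Multiplicative.ofAdd (E0 : VV F)) : HH F) ∈
        (SemidirectProduct.rightHom : HH F →* KK F).ker := by
      rw [MonoidHom.mem_ker]; simp
    rw [hbot, Subgroup.mem_bot] at hmem
    have h2 := congrArg SemidirectProduct.left hmem
    simp only [SemidirectProduct.left_inl, SemidirectProduct.one_left] at h2
    exact E0_ne_zero (congrArg Multiplicative.toAdd h2)
  · rintro ⟨x, hx⟩
    refine ⟨1, ?_⟩
    rw [← SemidirectProduct.range_inl_eq_ker_rightHom] at hx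
    obtain ⟨w, rfl⟩ := hx
    apply Subtype.ext
    show (SemidirectProduct.inl w : HH F) ^ 3 ^ 1 = 1
    rw [pow_one, inl_pow_three]

instance finite_HH [Finite F] : Finite (HH F) :=
  Finite.of_equiv _ (SemidirectProduct.equivProd (φ := phi (F := F))).symm

end Nine

section Arith

theorem four_dvd_eq (q : ℕ) (hq8 : q % 8 = 3) (hq3 : q % 3 = 0) (hq27 : 27 ≤ q)
    (v v' : ℕ) (hv : v = 6 ∨ v = 9 ∨ v = q - 1 ∨ v = (q + 1) / 2)
    (hv' : v' = 6 ∨ v' = 9 ∨ v' = q - 1 ∨ v' = (q + 1) / 2) (h : v ∣ v') : v = v' := by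
  have hb2 : (q + 1) / 2 ∣ 2 * ((q + 1) / 2) := dvd_mul_left _ _
  rcases hv with rfl | rfl | rfl | rfl <;> rcases hv' with rfl | rfl | rfl | rfl
  · rfl
  · omega
  · omega
  · omega
  · omega
  · rfl
  · omega
  · omega
  · have := Nat.le_of_dvd (by norm_num) h; omega
  · have := Nat.le_of_dvd (by norm_num) h; omega
  · rfl
  · have := Nat.le_of_dvd (by omega) h; omega
  · have := Nat.le_of_dvd (by norm_num) h; omega
  · have := Nat.le_of_dvd (by norm_num) h; omega
  · exfalso
    have h2 : (q + 1) / 2 ∣ 2 * ((q + 1) / 2) - (q - 1) := Nat.dvd_sub hb2 h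
    have h3 : 2 * ((q + 1) / 2) - (q - 1) = 2 := by omega
    rw [h3] at h2
    have := Nat.le_of_dvd (by norm_num) h2
    omega
  · rfl

theorem maximal_set_eq (S : Set ℕ) (q : ℕ) (hq8 : q % 8 = 3) (hq3 : q % 3 = 0) (hq27 : 27 ≤ q)
    (hdvd : ∀ n ∈ S, n ∣ 6 ∨ n ∣ 9 ∨ n ∣ q - 1 ∨ n ∣ (q + 1) / 2)
    (h6 : 6 ∈ S) (h9 : 9 ∈ S) (hA : q - 1 ∈ S) (hB : (q + 1) / 2 ∈ S) :
    {n : ℕ | n ∈ S ∧ ∀ m ∈ S, n ∣ m → m = n} = ({6, 9, q - 1, (q + 1) / 2} : Set ℕ) := by
  have hmem : ∀ v : ℕ, (v = 6 ∨ v = 9 ∨ v = q - 1 ∨ v = (q + 1) / 2) → v ∈ S := by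
    rintro v (rfl | rfl | rfl | rfl) <;> assumption
  ext n
  simp only [Set.mem_ofPred_eq, Set.mem_insert_iff, Set.mem_singleton_iff]
  constructor
  · rintro ⟨hn, hmax⟩
    rcases hdvd n hn with h | h | h | h
    · exact Or.inl (hmax 6 h6 h).symm
    · exact Or.inr (Or.inl (hmax 9 h9 h).symm)
    · exact Or.inr (Or.inr (Or.inl (hmax _ hA h).symm))
    · exact Or.inr (Or.inr (Or.inr (hmax _ hB h).symm))
  · intro hn
    refine ⟨hmem n hn, ?_⟩
    intro m hm hnm
    have key : ∀ v' : ℕ, (v' = 6 ∨ v' = 9 ∨ v' = q - 1 ∨ v' = (q + 1) / 2) → m ∣ v' → m = n := by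
      intro v' hv' hmv
      have h1 := four_dvd_eq q hq8 hq3 hq27 n v' hn hv' (hnm.trans hmv)
      rw [← h1] at hmv
      exact Nat.dvd_antisymm hmv hnm
    rcases hdvd m hm with h | h | h | h
    · exact key 6 (Or.inl rfl) h
    · exact key 9 (Or.inr (Or.inl rfl)) h
    · exact key _ (Or.inr (Or.inr (Or.inl rfl))) h
    · exact key _ (Or.inr (Or.inr (Or.inr rfl))) h

theorem three_pow_mod_eight (α : ℕ) (hodd : Odd α) : 3 ^ α % 8 = 3 := by
  obtain ⟨k, rfl⟩ := hodd
  rw [pow_succ, pow_mul, Nat.mul_mod, Nat.pow_mod]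
  norm_num

theorem three_pow_mod_three (α : ℕ) (hα : 1 ≤ α) : 3 ^ α % 3 = 0 := by
  obtain ⟨k, rfl⟩ : ∃ k, α = k + 1 := ⟨α - 1, by omega⟩
  rw [pow_succ]; omega

theorem three_pow_ge (α : ℕ) (hα : 3 ≤ α) : 27 ≤ 3 ^ α := by
  calc 27 = 3 ^ 3 := by norm_num
    _ ≤ 3 ^ α := Nat.pow_le_pow_right (by norm_num) hα

end Arith

end Cfsg.Agent.Lib.Helper59.R2515
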