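import Mathlib

/-!
# Elementary facts on `SL(2, F)` for a field of characteristic `≠ 2`

Unique involution, elements of order four (`a * a = -1`): the elements inverting them have
square `-1`, their centralizer is commutative and inverted by every element inverting them,
and (over a finite field) they are inverted by some element.
-/

namespace Cfsg.Agent.Lib.Helper59.SL2Facts

open Matrix

variable {F : Type*} [Field F]

local notation "SL2" => Matrix.SpecialLinearGroup (Fin 2) F

/-- entries of a product of two by two matrices -/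
theorem mul_entries (A B : Matrix (Fin 2) (Fin 2) F) :
    (A * B) 0 0 = A 0 0 * B 0 0 + A 0 1 * B 1 0 ∧ (A * B) 0 1 = A 0 0 * B 0 1 + A 0 1 * B 1 1 ∧
    (A * B) 1 0 = A 1 0 * B 0 0 + A 1 1 * B 1 0 ∧ (A * B) 1 1 = A 1 0 * B 0 1 + A 1 1 * B 1 1 := by
  simp [Matrix.mul_apply, Fin.sum_univ_two]

theorem mat_ext {A B : Matrix (Fin 2) (Fin 2) F} (h00 : A 0 0 = B 0 0) (h01 : A 0 1 = B 0 1)
    (h10 : A 1 0 = B 1 0) (h11 : A 1 1 = B 1 1) : A = B := by
  ext i j
  fin_cases i <;> fin_cases j <;> assumption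

theorem det_eq (x : SL2) : x.1 0 0 * x.1 1 1 - x.1 0 1 * x.1 1 0 = 1 := by
  have := x.2
  rwa [Matrix.det_fin_two] at this

/-- (M1) an element of `SL(2,F)` with square one is `1` or `-1` (as a matrix). -/
theorem eq_one_or_neg_one (h2 : (2 : F) ≠ 0) (x : SL2) (hx : x * x = 1) :
    x = 1 ∨ x.1 = -1 := by
  have hm : x.1 * x.1 = 1 := by
    have := congrArg Subtype.val hx
    simpa using this
  obtain ⟨e00, e01, e10, e11⟩ := mul_entries x.1 x.1
  rw [hm] at e00 e01 e10 e11
  simp only [Matrix.one_apply_eq, Matrix.one_apply_ne (show (0 : Fin 2) ≠ 1 by decide),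
    Matrix.one_apply_ne (show (1 : Fin 2) ≠ 0 by decide)] at e00 e01 e10 e11
  have hd := det_eq x
  set p := x.1 0 0
  set q := x.1 0 1
  set r := x.1 1 0
  set s := x.1 1 1
  have hps : p * (p + s) = 2 := by linear_combination -e00 + hd
  have hne : p + s ≠ 0 := by
    intro h0; rw [h0, mul_zero] at hps; exact h2 hps.symm
  have hq : q = 0 := by
    have : q * (p + s) = 0 := by linear_combination -e01
    rcases mul_eq_zero.1 this with h | h
    · exact h
    · exact absurd h hne
  have hr : r = 0 := by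
    have : r * (p + s) = 0 := by linear_combination -e10
    rcases mul_eq_zero.1 this with h | h
    · exact h
    · exact absurd h hne
  have hp2 : p * p = 1 := by rw [hq] at e00; linear_combination -e00
  have hsp : s = p := by
    have h1 : p * s = 1 := by rw [hq] at hd; linear_combination hd
    have : p * (s - p) = 0 := by linear_combination h1 - hp2
    rcases mul_eq_zero.1 this with h | h
    · rw [h, zero_mul] at hp2; exact absurd hp2 zero_ne_one
    · exact sub_eq_zero.1 h
  have hp : p = 1 ∨ p = -1 := by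
    have : (p - 1) * (p + 1) = 0 := by linear_combination hp2
    rcases mul_eq_zero.1 this with h | h
    · left; exact sub_eq_zero.1 h
    · right; exact eq_neg_of_add_eq_zero_left h
  rcases hp with hp | hp
  · left
    apply Subtype.ext
    apply mat_ext
    · simpa using hp
    · simpa using hq
    · simpa using hr
    · simpa using (hsp.trans hp)
  · right
    apply mat_ext
    · simpa using hp
    · simpa using hq
    · simpa using hr
    · simpa using (hsp.trans hp)


theorem val_mul (x y : SL2) : (x * y).1 = x.1 * y.1 := rfl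

/-- if `a * a = -1` then `a⁻¹ = -a` as matrices -/
theorem inv_val_of_sq (a : SL2) (ha : a.1 * a.1 = -1) : (a⁻¹).1 = -a.1 := by
  have h1 : a.1 * (-a.1) = 1 := by rw [mul_neg, ha, neg_neg]
  have h2 : (a⁻¹).1 * a.1 = 1 := by
    rw [← val_mul, inv_mul_cancel]; rfl
  calc (a⁻¹).1 = (a⁻¹).1 * (a.1 * (-a.1)) := by rw [h1, mul_one]
    _ = ((a⁻¹).1 * a.1) * (-a.1) := by rw [mul_assoc]
    _ = -a.1 := by rw [h2, one_mul]

/-- the relation `x a x⁻¹ = a⁻¹` in matrix form -/
theorem anticomm_of_inverts (a : SL2) (ha : a.1 * a.1 = -1) (x : SL2) (hx : x * a * x⁻¹ = a⁻¹) :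
    x.1 * a.1 = -(a.1 * x.1) := by
  have h : x * a = a⁻¹ * x := by
    rw [← hx]; group
  have := congrArg Subtype.val h
  rw [val_mul, val_mul, inv_val_of_sq a ha, neg_mul] at this
  exact this

theorem inverts_of_anticomm (a : SL2) (ha : a.1 * a.1 = -1) (x : SL2)
    (hx : x.1 * a.1 = -(a.1 * x.1)) : x * a * x⁻¹ = a⁻¹ := by
  have h : x * a = a⁻¹ * x := by
    apply Subtype.ext
    rw [val_mul, val_mul, inv_val_of_sq a ha, neg_mul]
    exact hx
  rw [h]; group

/-- an element with `a * a = -1` is traceless -/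
theorem trace_zero_of_sq (a : SL2) (ha : a.1 * a.1 = -1) : a.1 0 0 + a.1 1 1 = 0 := by
  obtain ⟨e00, e01, e10, e11⟩ := mul_entries a.1 a.1
  rw [ha] at e00 e01 e10 e11
  simp only [Matrix.neg_apply, Matrix.one_apply_eq,
    Matrix.one_apply_ne (show (0 : Fin 2) ≠ 1 by decide),
    Matrix.one_apply_ne (show (1 : Fin 2) ≠ 0 by decide), neg_zero] at e00 e01 e10 e11
  have hd := det_eq a
  have h1 : a.1 0 0 * (a.1 0 0 + a.1 1 1) = 0 := by linear_combination -e00 + hd
  have h2 : a.1 1 1 * (a.1 0 0 + a.1 1 1) = 0 := by linear_combination -e11 + hd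
  have h3 : (a.1 0 0 + a.1 1 1) ^ 2 = 0 := by linear_combination h1 + h2
  exact pow_eq_zero_iff (two_ne_zero) |>.1 h3

/-- (R0) `p² + q r = -1` -/
theorem sq_rel (a : SL2) (ha : a.1 * a.1 = -1) : a.1 0 0 * a.1 0 0 + a.1 0 1 * a.1 1 0 = -1 := by
  obtain ⟨e00, -, -, -⟩ := mul_entries a.1 a.1
  rw [ha] at e00
  simp only [Matrix.neg_apply, Matrix.one_apply_eq] at e00
  exact e00.symm

/-- (M2) an element inverting `a` (with `a * a = -1`) has square `-1`. -/
theorem sq_of_inverts (h2 : (2 : F) ≠ 0) (a : SL2) (ha : a.1 * a.1 = -1) (x : SL2)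
    (hx : x * a * x⁻¹ = a⁻¹) : x.1 * x.1 = -1 := by
  have hanti := anticomm_of_inverts a ha x hx
  have htr : Matrix.trace x.1 = - Matrix.trace x.1 := by
    have e1 : x.1 = a.1 * (x.1 * a.1) := by
      rw [hanti, mul_neg, ← mul_assoc, ha, neg_mul, one_mul, neg_neg]
    calc Matrix.trace x.1 = Matrix.trace (a.1 * (x.1 * a.1)) := by rw [← e1]
      _ = Matrix.trace ((x.1 * a.1) * a.1) := Matrix.trace_mul_comm _ _
      _ = Matrix.trace (x.1 * (a.1 * a.1)) := by rw [mul_assoc]
      _ = - Matrix.trace x.1 := by rw [ha, mul_neg, mul_one, Matrix.trace_neg]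
  have ht0 : x.1 0 0 + x.1 1 1 = 0 := by
    rw [Matrix.trace_fin_two] at htr
    have : (2 : F) * (x.1 0 0 + x.1 1 1) = 0 := by linear_combination htr
    rcases mul_eq_zero.1 this with h | h
    · exact absurd h h2
    · exact h
  have hd := det_eq x
  have hs : x.1 1 1 = - x.1 0 0 := eq_neg_of_add_eq_zero_right ht0
  obtain ⟨e00, e01, e10, e11⟩ := mul_entries x.1 x.1
  apply mat_ext
  · rw [e00]; simp only [Matrix.neg_apply, Matrix.one_apply_eq]
    rw [hs] at hd; linear_combination -hd
  · rw [e01, hs]; simp only [Matrix.neg_apply,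
      Matrix.one_apply_ne (show (0 : Fin 2) ≠ 1 by decide), neg_zero]; ring
  · rw [e10, hs]; simp only [Matrix.neg_apply,
      Matrix.one_apply_ne (show (1 : Fin 2) ≠ 0 by decide), neg_zero]; ring
  · rw [e11]; simp only [Matrix.neg_apply, Matrix.one_apply_eq]
    rw [hs] at hd ⊢; linear_combination -hd


/-- a matrix commuting with `a` (where `a * a = -1`) is of the form `α + β a`. -/
theorem exists_eq_smul_add (h2 : (2 : F) ≠ 0) (a : SL2) (ha : a.1 * a.1 = -1)
    (c : Matrix (Fin 2) (Fin 2) F) (hc : c * a.1 = a.1 * c) :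
    ∃ α β : F, c = α • (1 : Matrix (Fin 2) (Fin 2) F) + β • a.1 := by
  have ht := trace_zero_of_sq a ha
  have hs : a.1 1 1 = - a.1 0 0 := eq_neg_of_add_eq_zero_right ht
  have R0 := sq_rel a ha
  obtain ⟨l00, l01, l10, l11⟩ := mul_entries c a.1
  obtain ⟨r00, r01, r10, r11⟩ := mul_entries a.1 c
  rw [hc] at l00 l01 l10 l11
  rw [l00] at r00; rw [l01] at r01; rw [l10] at r10; rw [l11] at r11
  rw [hs] at r01 r10 r11
  set p := a.1 0 0
  set q := a.1 0 1
  set r := a.1 1 0
  set c0 := c 0 0
  set c1 := c 0 1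
  set c2 := c 1 0
  set c3 := c 1 1
  obtain ⟨t, ht2⟩ : ∃ t : F, 2 * t = 1 := ⟨2⁻¹, mul_inv_cancel₀ h2⟩
  have R1 : c1 * r = q * c2 := by linear_combination r00
  have R2 : q * (c0 - c3) = 2 * p * c1 := by linear_combination r01
  have R3 : r * (c0 - c3) = 2 * p * c2 := by linear_combination -r10
  refine ⟨t * (c0 + c3), -(p * (t * (c0 - c3)) + r * c1), ?_⟩
  apply mat_ext
  · simp only [Matrix.add_apply, Matrix.smul_apply, Matrix.one_apply_eq, smul_eq_mul, mul_one]
    show c0 = t * (c0 + c3) + -(p * (t * (c0 - c3)) + r * c1) * p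
    linear_combination (-(c0) - p * r * c1) * ht2 + t * (c0 - c3) * R0 - t * r * R2
  · simp only [Matrix.add_apply, Matrix.smul_apply,
      Matrix.one_apply_ne (show (0 : Fin 2) ≠ 1 by decide), smul_eq_mul, mul_zero, zero_add]
    show c1 = -(p * (t * (c0 - c3)) + r * c1) * q
    linear_combination t * p * R2 + p * p * c1 * ht2 + c1 * R0
  · simp only [Matrix.add_apply, Matrix.smul_apply,
      Matrix.one_apply_ne (show (1 : Fin 2) ≠ 0 by decide), smul_eq_mul, mul_zero, zero_add]
    show c2 = -(p * (t * (c0 - c3)) + r * c1) * r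
    linear_combination t * p * R3 + r * R1 + p * p * c2 * ht2 + c2 * R0
  · simp only [Matrix.add_apply, Matrix.smul_apply, Matrix.one_apply_eq, smul_eq_mul, mul_one]
    rw [hs]
    show c3 = t * (c0 + c3) + -(p * (t * (c0 - c3)) + r * c1) * (-p)
    linear_combination (-(c3) + p * r * c1) * ht2 - t * (c0 - c3) * R0 + t * r * R2


/-- (M3a) the centralizer of `a` (with `a * a = -1`) is commutative. -/
theorem comm_of_comm (h2 : (2 : F) ≠ 0) (a : SL2) (ha : a.1 * a.1 = -1) (c c' : SL2)
    (hc : c * a = a * c) (hc' : c' * a = a * c') : c * c' = c' * c := by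
  have hcm : c.1 * a.1 = a.1 * c.1 := congrArg Subtype.val hc
  have hcm' : c'.1 * a.1 = a.1 * c'.1 := congrArg Subtype.val hc'
  obtain ⟨α, β, h⟩ := exists_eq_smul_add h2 a ha c.1 hcm
  obtain ⟨α', β', h'⟩ := exists_eq_smul_add h2 a ha c'.1 hcm'
  apply Subtype.ext
  rw [val_mul, val_mul, h, h']
  have hcomm : Commute (α • (1 : Matrix (Fin 2) (Fin 2) F) + β • a.1)
      (α' • (1 : Matrix (Fin 2) (Fin 2) F) + β' • a.1) := by
    apply Commute.add_left <;> apply Commute.add_right
    · exact ((Commute.one_left _).smul_left α).smul_right α'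
    · exact ((Commute.one_left _).smul_left α).smul_right β'
    · exact ((Commute.one_right _).smul_left β).smul_right α'
    · exact ((Commute.refl _).smul_left β).smul_right β'
  exact hcomm.eq

/-- (M3b) every element inverting `a` (with `a * a = -1`) inverts the centralizer of `a`. -/
theorem inverts_centralizer (h2 : (2 : F) ≠ 0) (a : SL2) (ha : a.1 * a.1 = -1) (x : SL2)
    (hx : x * a * x⁻¹ = a⁻¹) (c : SL2) (hc : c * a = a * c) : x * c * x⁻¹ = c⁻¹ := by
  have hanti := anticomm_of_inverts a ha x hx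
  have hcm : c.1 * a.1 = a.1 * c.1 := congrArg Subtype.val hc
  obtain ⟨α, β, h⟩ := exists_eq_smul_add h2 a ha c.1 hcm
  -- determinant relation
  have hdet : α * α + β * β = 1 := by
    have hd := det_eq c
    have hs : a.1 1 1 = - a.1 0 0 := eq_neg_of_add_eq_zero_right (trace_zero_of_sq a ha)
    have R0 := sq_rel a ha
    rw [h] at hd
    simp only [Matrix.add_apply, Matrix.smul_apply, Matrix.one_apply_eq, smul_eq_mul, mul_one,
      Matrix.one_apply_ne (show (0 : Fin 2) ≠ 1 by decide),
      Matrix.one_apply_ne (show (1 : Fin 2) ≠ 0 by decide), mul_zero, zero_add] at hd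
    rw [hs] at hd
    linear_combination hd + β * β * R0
  -- the inverse of c
  have hinv : (c⁻¹).1 = α • (1 : Matrix (Fin 2) (Fin 2) F) - β • a.1 := by
    have hcomm : Commute (α • (1 : Matrix (Fin 2) (Fin 2) F)) (β • a.1) :=
      ((Commute.one_left _).smul_left α).smul_right β
    have h1 : c.1 * (α • (1 : Matrix (Fin 2) (Fin 2) F) - β • a.1) = 1 := by
      rw [h, ← hcomm.mul_self_sub_mul_self_eq, smul_mul_smul_comm, smul_mul_smul_comm, ha,
        mul_one, smul_neg, sub_neg_eq_add, ← add_smul, hdet, one_smul]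
    have h2' : (c⁻¹).1 * c.1 = 1 := by
      rw [← val_mul, inv_mul_cancel]; rfl
    calc (c⁻¹).1 = (c⁻¹).1 * (c.1 * (α • (1 : Matrix (Fin 2) (Fin 2) F) - β • a.1)) := by
          rw [h1, mul_one]
      _ = ((c⁻¹).1 * c.1) * (α • (1 : Matrix (Fin 2) (Fin 2) F) - β • a.1) := by rw [mul_assoc]
      _ = _ := by rw [h2', one_mul]
  have key : x * c = c⁻¹ * x := by
    apply Subtype.ext
    rw [val_mul, val_mul, hinv, h]
    rw [Matrix.mul_add, Matrix.sub_mul, Matrix.mul_smul, Matrix.mul_smul, Matrix.smul_mul,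
      Matrix.smul_mul, Matrix.mul_one, Matrix.one_mul, hanti, smul_neg, sub_eq_add_neg]
  rw [key]; group

/-- the upper unitriangular matrix -/
def uMat (F : Type*) [Field F] : Matrix (Fin 2) (Fin 2) F := !![1, 1; 0, 1]

/-- (M6) `SL(2,F)` contains an element whose square is not one. -/
theorem exists_sq_ne_one (h2 : (2 : F) ≠ 0) : ∃ x : SL2, x * x ≠ 1 := by
  refine ⟨⟨uMat F, by simp [uMat, Matrix.det_fin_two]⟩, ?_⟩
  intro h
  have h' := congrArg (fun m : SL2 => m.1 0 1) h
  have e := (mul_entries (uMat F) (uMat F)).2.1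
  have h'' : (uMat F * uMat F) 0 1 = 0 := h'
  rw [e] at h''
  simp [uMat] at h''
  exact h2 (by linear_combination h'')


/-- in a finite field `-1` is a sum of two squares -/
theorem exists_sq_add_sq_eq_neg_one [Finite F] : ∃ A B : F, A * A + B * B = -1 := by
  have hp : NeZero (ringChar F) := ⟨CharP.char_ne_zero_of_finite F (ringChar F)⟩
  obtain ⟨a, b, hab⟩ := CharP.sq_add_sq F (ringChar F) (-1)
  refine ⟨a, b, ?_⟩
  have : ((-1 : ℤ) : F) = -1 := by simp
  rw [this] at hab
  linear_combination hab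

/-- traceless matrix with given entries -/
def tlMat (u v w : F) : Matrix (Fin 2) (Fin 2) F := !![u, v; w, -u]

theorem tlMat_entries (u v w : F) : tlMat u v w 0 0 = u ∧ tlMat u v w 0 1 = v ∧
    tlMat u v w 1 0 = w ∧ tlMat u v w 1 1 = -u := by
  simp [tlMat]

/-- a traceless matrix with `tr (X a) = 0` anticommutes with `a`. -/
theorem tlMat_anticomm (a : SL2) (ha : a.1 * a.1 = -1) (u v w : F)
    (hE : 2 * u * a.1 0 0 + v * a.1 1 0 + a.1 0 1 * w = 0) :
    tlMat u v w * a.1 = -(a.1 * tlMat u v w) := by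
  have hs : a.1 1 1 = - a.1 0 0 := eq_neg_of_add_eq_zero_right (trace_zero_of_sq a ha)
  obtain ⟨l00, l01, l10, l11⟩ := mul_entries (tlMat u v w) a.1
  obtain ⟨r00, r01, r10, r11⟩ := mul_entries a.1 (tlMat u v w)
  obtain ⟨t00, t01, t10, t11⟩ := tlMat_entries u v w
  apply mat_ext
  · rw [Matrix.neg_apply, l00, r00, t00, t01, t10]; linear_combination hE
  · rw [Matrix.neg_apply, l01, r01, t00, t01, t11, hs]; ring
  · rw [Matrix.neg_apply, l10, r10, t00, t10, t11, hs]; ring
  · rw [Matrix.neg_apply, l11, r11, t01, t10, t11, hs]; linear_combination hE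

/-- (M4) over a finite field every `a` with `a * a = -1` is inverted by some element. -/
theorem exists_inverts [Finite F] (a : SL2) (ha : a.1 * a.1 = -1) :
    ∃ x : SL2, x * a * x⁻¹ = a⁻¹ := by
  obtain ⟨A, B, hAB⟩ := exists_sq_add_sq_eq_neg_one (F := F)
  have R0 := sq_rel a ha
  set p := a.1 0 0 with hp
  set q := a.1 0 1 with hq
  set r := a.1 1 0 with hr
  -- it suffices to find `u v w` with the two relations
  suffices h : ∃ u v w : F, 2 * u * p + v * r + q * w = 0 ∧ u * (-u) - v * w = 1 by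
    obtain ⟨u, v, w, hE, hD⟩ := h
    have hdet : (tlMat u v w).det = 1 := by
      rw [Matrix.det_fin_two]
      obtain ⟨t00, t01, t10, t11⟩ := tlMat_entries u v w
      rw [t00, t01, t10, t11]; exact hD
    exact ⟨⟨tlMat u v w, hdet⟩, inverts_of_anticomm a ha _ (tlMat_anticomm a ha u v w hE)⟩
  by_cases hq0 : q = 0
  · by_cases hr0 : r = 0
    · refine ⟨0, 1, -1, ?_, ?_⟩
      · rw [hq0, hr0]; ring
      · ring
    · refine ⟨A + p * B, -(2 * p * (A + p * B) + q * (r * B)) / r, r * B, ?_, ?_⟩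
      · field_simp; ring
      · field_simp
        linear_combination (-1) * hAB + (B * B) * R0
  · refine ⟨A + p * B, q * B, -(2 * p * (A + p * B) + r * (q * B)) / q, ?_, ?_⟩
    · field_simp; ring
    · field_simp
      linear_combination (-1) * hAB + (B * B) * R0

end Cfsg.Agent.Lib.Helper59.SL2Facts
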