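import Mathlib
import Cfsg.Agent.Lib.Helper59.SL2Facts

/-!
# Subgroups isomorphic to `SL(2, F)`, `F` a finite field of odd order

The group theoretic properties of such a subgroup `L` (with central involution `j`) used in the
analysis of centralizers of involutions of the shape `SL(2,q₁) ∘ SL(2,q₂)`.
-/

namespace Cfsg.Agent.Lib.Helper59

open SL2Facts

/-- The properties of a subgroup `L ≅ SL(2,F)` with its unique involution `j`. -/
structure SL2Like {G : Type*} [Group G] (L : Subgroup G) (j : G) : Prop where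
  mem : j ∈ L
  invol : ∀ x ∈ L, x * x = 1 → x = 1 ∨ x = j
  sq_of_inv : ∀ a ∈ L, a * a = j → ∀ x ∈ L, x * a * x⁻¹ = a⁻¹ → x * x = j
  comm : ∀ a ∈ L, a * a = j → ∀ c ∈ L, ∀ c' ∈ L, c * a = a * c → c' * a = a * c' →
    c * c' = c' * c
  inv_cent : ∀ a ∈ L, a * a = j → ∀ x ∈ L, x * a * x⁻¹ = a⁻¹ → ∀ c ∈ L, c * a = a * c →
    x * c * x⁻¹ = c⁻¹
  ex_inv : ∀ a ∈ L, a * a = j → ∃ x ∈ L, x * a * x⁻¹ = a⁻¹
  ex_big : ∃ x ∈ L, x * x ≠ 1

theorem two_ne_zero_of_odd_card {F : Type*} [Field F] [Fintype F] (hF : Odd (Fintype.card F)) :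
    (2 : F) ≠ 0 := by
  intro h
  have h2 : ringChar F = 2 := by
    have hdvd : ringChar F ∣ 2 := by
      apply ringChar.dvd
      exact_mod_cast h
    rcases (Nat.dvd_prime Nat.prime_two).1 hdvd with h1 | h1
    · exact absurd h1 (CharP.ringChar_ne_one)
    · exact h1
  have := FiniteField.even_card_of_char_two h2
  rcases hF with ⟨k, hk⟩
  omega

theorem sl2Like_of_equiv {G : Type*} [Group G] {F : Type*} [Field F] [Fintype F]
    (hF : Odd (Fintype.card F)) (L : Subgroup G)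
    (e : ↥L ≃* Matrix.SpecialLinearGroup (Fin 2) F) (j : G) (hj : orderOf j = 2) (hjL : j ∈ L) :
    SL2Like L j := by
  have h2 := two_ne_zero_of_odd_card hF
  have hj1 : j ≠ 1 := by
    intro h; rw [h, orderOf_one] at hj; omega
  have hjj : j * j = 1 := by
    have := pow_orderOf_eq_one j
    rw [hj, pow_two] at this; exact this
  -- the image of `j` is `-1`
  have hz : (e ⟨j, hjL⟩).1 = -1 := by
    have hzz : e ⟨j, hjL⟩ * e ⟨j, hjL⟩ = 1 := by
      rw [← map_mul]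
      have : (⟨j, hjL⟩ : ↥L) * ⟨j, hjL⟩ = 1 := Subtype.ext hjj
      rw [this, map_one]
    rcases eq_one_or_neg_one h2 _ hzz with h | h
    · exfalso
      have : (⟨j, hjL⟩ : ↥L) = 1 := e.injective (by rw [h, map_one])
      exact hj1 (congrArg Subtype.val this)
    · exact h
  -- squares
  have hsq : ∀ a (ha : a ∈ L), a * a = j → (e ⟨a, ha⟩).1 * (e ⟨a, ha⟩).1 = -1 := by
    intro a ha haj
    rw [← val_mul, ← map_mul]
    have : (⟨a, ha⟩ : ↥L) * ⟨a, ha⟩ = ⟨j, hjL⟩ := Subtype.ext haj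
    rw [this, hz]
  -- transport of equations
  have hinvl : ∀ a (ha : a ∈ L) x (hx : x ∈ L), x * a * x⁻¹ = a⁻¹ →
      e ⟨x, hx⟩ * e ⟨a, ha⟩ * (e ⟨x, hx⟩)⁻¹ = (e ⟨a, ha⟩)⁻¹ := by
    intro a ha x hx h
    rw [← map_inv, ← map_inv, ← map_mul, ← map_mul]
    congr 1
    exact Subtype.ext h
  have hcomml : ∀ a (ha : a ∈ L) c (hc : c ∈ L), c * a = a * c →
      e ⟨c, hc⟩ * e ⟨a, ha⟩ = e ⟨a, ha⟩ * e ⟨c, hc⟩ := by
    intro a ha c hc h
    rw [← map_mul, ← map_mul]
    congr 1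
    exact Subtype.ext h
  refine ⟨hjL, ?_, ?_, ?_, ?_, ?_, ?_⟩
  · intro x hx hxx
    have hxx' : e ⟨x, hx⟩ * e ⟨x, hx⟩ = 1 := by
      rw [← map_mul]
      have : (⟨x, hx⟩ : ↥L) * ⟨x, hx⟩ = 1 := Subtype.ext hxx
      rw [this, map_one]
    rcases eq_one_or_neg_one h2 _ hxx' with h | h
    · left
      have : (⟨x, hx⟩ : ↥L) = 1 := e.injective (by rw [h, map_one])
      exact congrArg Subtype.val this
    · right
      have : (⟨x, hx⟩ : ↥L) = ⟨j, hjL⟩ := e.injective (Subtype.ext (by rw [h, hz]))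
      exact congrArg Subtype.val this
  · intro a ha haj x hx hxa
    have h := sq_of_inverts h2 _ (hsq a ha haj) _ (hinvl a ha x hx hxa)
    have : (⟨x, hx⟩ : ↥L) * ⟨x, hx⟩ = ⟨j, hjL⟩ := by
      apply e.injective
      apply Subtype.ext
      rw [map_mul, val_mul, h, hz]
    exact congrArg Subtype.val this
  · intro a ha haj c hc c' hc' hca hca'
    have h := comm_of_comm h2 _ (hsq a ha haj) _ _ (hcomml a ha c hc hca) (hcomml a ha c' hc' hca')
    have : (⟨c, hc⟩ : ↥L) * ⟨c', hc'⟩ = ⟨c', hc'⟩ * ⟨c, hc⟩ := by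
      apply e.injective
      rw [map_mul, map_mul, h]
    exact congrArg Subtype.val this
  · intro a ha haj x hx hxa c hc hca
    have h := inverts_centralizer h2 _ (hsq a ha haj) _ (hinvl a ha x hx hxa) _
      (hcomml a ha c hc hca)
    have : (⟨x, hx⟩ : ↥L) * ⟨c, hc⟩ * (⟨x, hx⟩ : ↥L)⁻¹ = (⟨c, hc⟩ : ↥L)⁻¹ := by
      apply e.injective
      rw [map_mul, map_mul, map_inv, map_inv, h]
    exact congrArg Subtype.val this
  · intro a ha haj
    obtain ⟨y, hy⟩ := exists_inverts (e ⟨a, ha⟩) (hsq a ha haj)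
    refine ⟨(e.symm y : G), (e.symm y).2, ?_⟩
    have : (e.symm y) * ⟨a, ha⟩ * (e.symm y)⁻¹ = (⟨a, ha⟩ : ↥L)⁻¹ := by
      apply e.injective
      rw [map_mul, map_mul, map_inv, map_inv, MulEquiv.apply_symm_apply, hy]
    exact congrArg Subtype.val this
  · obtain ⟨y, hy⟩ := exists_sq_ne_one (F := F) h2
    refine ⟨(e.symm y : G), (e.symm y).2, ?_⟩
    intro h
    apply hy
    have : (e.symm y) * (e.symm y) = (1 : ↥L) := Subtype.ext h
    have h' := congrArg e this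
    rwa [map_mul, MulEquiv.apply_symm_apply, map_one] at h'

end Cfsg.Agent.Lib.Helper59
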