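import Mathlib
import Cfsg.Prelude.Def_GeometricClasses

/-!
# K-SLMax-D6a : the prime of a class-6 datum divides the dimension

`R` is a nonabelian `r`-group acting absolutely irreducibly, its centre consists of scalar matrices; a nontrivial central
commutator `h g h⁻¹ g⁻¹ = ζ • 1` has determinant `1 = ζ ^ n`, and the order of `ζ` is a nontrivial power of `r`.
-/

set_option autoImplicit false

namespace Cfsg.Agent.Lib.Helper59.SLMax

open Cfsg Cfsg.Geo
open scoped Matrix Kronecker MatrixGroups

/-- In a finite nonabelian `p`-group there is a nontrivial central commutator. -/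
theorem exists_central_commutator_ne_one {G : Type*} [Group G] [Finite G] {p : ℕ} [Fact p.Prime]
    (hG : IsPGroup p G) (hne : ∃ a b : G, a * b ≠ b * a) :
    ∃ g h : G, h * g * h⁻¹ * g⁻¹ ∈ Subgroup.center G ∧ h * g * h⁻¹ * g⁻¹ ≠ 1 := by
  have hZ : Subgroup.center G ≠ ⊤ := by
    intro htop
    obtain ⟨a, b, hab⟩ := hne
    have ha : a ∈ Subgroup.center G := by rw [htop]; trivial
    exact hab ((Subgroup.mem_center_iff.1 ha b).symm)
  have hnt : Nontrivial (G ⧸ Subgroup.center G) := QuotientGroup.nontrivial_iff.2 hZ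
  have hQ : IsPGroup p (G ⧸ Subgroup.center G) := hG.to_quotient _
  have hcn : Nontrivial (Subgroup.center (G ⧸ Subgroup.center G)) := hQ.center_nontrivial
  obtain ⟨⟨z, hz⟩, hz1⟩ := exists_ne (1 : Subgroup.center (G ⧸ Subgroup.center G))
  have hz1' : z ≠ 1 := fun h => hz1 (Subtype.ext h)
  obtain ⟨g, rfl⟩ := QuotientGroup.mk_surjective z
  have hgZ : g ∉ Subgroup.center G := fun h => hz1' ((QuotientGroup.eq_one_iff g).2 h)
  have : ∃ h : G, h * g ≠ g * h := by
    by_contra hcon
    push Not at hcon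
    exact hgZ (Subgroup.mem_center_iff.2 hcon)
  obtain ⟨h, hh⟩ := this
  refine ⟨g, h, ?_, ?_⟩
  · rw [← QuotientGroup.eq_one_iff]
    have hc := Subgroup.mem_center_iff.1 hz (h : G ⧸ Subgroup.center G)
    simp only [QuotientGroup.mk_mul, QuotientGroup.mk_inv]
    rw [hc]
    group
  · intro h1
    apply hh
    have : h * g * h⁻¹ * g⁻¹ * g * h = 1 * g * h := by rw [h1]
    simpa [mul_assoc] using this

variable {F : Type*} [Field F] [Fintype F] {n : ℕ}

/-- K-SLMax-D6a. -/
theorem dvd_of_isLinearSymplecticTypeData (hn : 2 ≤ n) {r : ℕ} (R : Subgroup (GL (Fin n) F))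
    (hR : IsLinearSymplecticTypeData r R) : r ∣ n := by
  classical
  have hr : r.Prime := hR.symplecticType.prime
  have hp : IsPGroup r R := hR.symplecticType.pGroup
  obtain ⟨hirr, habs⟩ := hR.absIrred
  have : Fact r.Prime := ⟨hr⟩
  have : NeZero n := ⟨by omega⟩
  -- central elements are scalar
  have hcentral : ∀ z : R, z ∈ Subgroup.center R →
      ∃ c : F, ((z : GL (Fin n) F) : Matrix (Fin n) (Fin n) F) = c • 1 := by
    intro z hz
    apply habs
    rintro s ⟨g, hg, rfl⟩
    have := Subgroup.mem_center_iff.1 hz ⟨g, hg⟩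
    have h2 : (g : GL (Fin n) F) * (z : GL (Fin n) F) = (z : GL (Fin n) F) * g := by
      have := congrArg (fun x : R => (x : GL (Fin n) F)) this
      simpa using this
    have h3 := congrArg (fun x : GL (Fin n) F => (x : Matrix (Fin n) (Fin n) F)) h2
    simpa using h3.symm
  -- `R` is nonabelian
  have hnonab : ∃ a b : R, a * b ≠ b * a := by
    by_contra hcon
    push Not at hcon
    have hall : ∀ z : R, z ∈ Subgroup.center R := fun z =>
      Subgroup.mem_center_iff.2 (fun g => hcon g z)
    let e0 : Fin n → F := Pi.single 0 1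
    have he0 : e0 ≠ 0 := by
      intro h
      have := congrFun h 0
      simp [e0] at this
    have hW := hirr (Submodule.span F {e0}) (by
      rintro s ⟨g, hg, rfl⟩
      obtain ⟨c, hc⟩ := hcentral ⟨g, hg⟩ (hall _)
      simp only at hc
      rw [Submodule.map_le_iff_le_comap]
      rw [Submodule.span_le]
      intro x hx
      rw [Set.mem_singleton_iff] at hx
      subst hx
      rw [SetLike.mem_coe, Submodule.mem_comap]
      show Matrix.toLin' (g : Matrix (Fin n) (Fin n) F) e0 ∈ _
      rw [hc]
      simp only [Matrix.toLin'_apply, Matrix.smul_mulVec, Matrix.one_mulVec]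
      exact Submodule.smul_mem _ _ (Submodule.subset_span rfl))
    rcases hW with hW | hW
    · exact he0 ((Submodule.span_singleton_eq_bot).1 hW)
    · have h1 : Module.finrank F (Submodule.span F {e0}) ≤ 1 := by
        refine (finrank_span_le_card ({e0} : Set (Fin n → F))).trans ?_
        simp
      rw [hW, finrank_top, Module.finrank_fin_fun] at h1
      omega
  obtain ⟨g, h, hzc, hz1⟩ := exists_central_commutator_ne_one hp hnonab
  obtain ⟨ζ, hζ⟩ := hcentral _ hzc
  -- ζ ≠ 1
  have hζ1 : ζ ≠ 1 := by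
    intro h1
    apply hz1
    apply Subtype.ext
    apply Units.ext
    rw [hζ, h1, one_smul]
    rfl
  -- ζ ^ n = 1 by determinants
  have hdet : ζ ^ n = 1 := by
    have hd : Matrix.GeneralLinearGroup.det ((h * g * h⁻¹ * g⁻¹ : R) : GL (Fin n) F) = 1 := by
      simp only [Subgroup.coe_mul, Subgroup.coe_inv, map_mul, map_inv]
      rw [mul_comm (Matrix.GeneralLinearGroup.det (h : GL (Fin n) F))]
      simp
    have hd' := congrArg (fun u : Fˣ => (u : F)) hd
    simp only [Matrix.GeneralLinearGroup.val_det_apply, Units.val_one] at hd'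
    rw [hζ] at hd'
    simpa [Matrix.det_smul] using hd'
  -- ζ ^ (r ^ k) = 1
  obtain ⟨k, hk⟩ := hp (h * g * h⁻¹ * g⁻¹)
  have hpow : ζ ^ (r ^ k) = 1 := by
    have h1 := congrArg (fun x : R => ((x : GL (Fin n) F) : Matrix (Fin n) (Fin n) F)) hk
    simp only [Subgroup.coe_pow, Units.val_pow_eq_pow_val, OneMemClass.coe_one, Units.val_one] at h1
    rw [hζ] at h1
    rw [smul_pow, one_pow] at h1
    have := congrFun (congrFun h1 0) 0
    simpa using this
  have ho1 : orderOf ζ ∣ r ^ k := orderOf_dvd_of_pow_eq_one hpow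
  have ho2 : orderOf ζ ∣ n := orderOf_dvd_of_pow_eq_one hdet
  obtain ⟨j, -, hj⟩ := (Nat.dvd_prime_pow hr).1 ho1
  have hj0 : j ≠ 0 := by
    rintro rfl
    rw [pow_zero, orderOf_eq_one_iff] at hj
    exact hζ1 hj
  have : r ∣ orderOf ζ := by
    rw [hj]
    exact dvd_pow_self r hj0
  exact this.trans ho2

end Cfsg.Agent.Lib.Helper59.SLMax
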