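import Mathlib
import Cfsg.Agent.Lib.Helper36.F4

/-!
# Explicit `L₂(11) < SU₅(2)` data over the computable field `Helper36.F4`

`X0` (order 11), `Y0` (order 5, `Y0 X0 Y0⁻¹ = X0^4`), `W0` (involution) generate `L₂(11)` inside `SU₅(2)`
(standard hermitian form `Σ uᵢ vᵢ²`); `XS` is an orbit of 55 vectors.  All facts by `decide`.
-/

set_option autoImplicit false

namespace Cfsg.Agent.Lib.Helper59.SU5Data

open Cfsg.Agent.Lib.Helper36 Cfsg.Agent.Lib.Helper36.F4 Matrix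

/-- squaring (the Frobenius of `F4`) -/
def sq (a : F4) : F4 := a * a

/-- element of order 11 -/
def X0 : Matrix (Fin 5) (Fin 5) F4 := !![v, w, w, z, z; o, o, w, v, w; o, o, w, w, v; w, v, w, z, z; v, v, o, v, v]

/-- element of order 5 normalising `X0` -/
def Y0 : Matrix (Fin 5) (Fin 5) F4 := !![v, v, w, z, z; o, w, w, o, w; o, v, o, w, v; w, z, o, z, w; v, z, w, w, z]

/-- an involution -/
def W0 : Matrix (Fin 5) (Fin 5) F4 := !![o, o, z, z, o; o, z, o, z, o; z, o, o, z, o; z, z, z, o, z; o, o, o, z, z]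

/-- a coordinate transposition -/
def T0 : Matrix (Fin 5) (Fin 5) F4 := !![z, z, o, z, z; z, o, z, z, z; o, z, z, z, z; z, z, z, o, z; z, z, z, z, o]

/-- the Krylov matrix of `X0` at `e₀` -/
def C0 : Matrix (Fin 5) (Fin 5) F4 := !![o, v, w, v, v; z, o, z, o, o; z, o, o, w, w; z, w, z, o, o; z, v, v, w, o]

/-- its inverse -/
def C0i : Matrix (Fin 5) (Fin 5) F4 := !![o, w, w, w, z; z, w, z, w, z; z, v, o, o, z; z, z, o, z, w; z, v, o, w, w]

/-- an orbit of 55 vectors -/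
def XS : List (Fin 5 → F4) := [
  ![z, z, o, z, z],
  ![z, o, z, o, o],
  ![z, o, o, z, o],
  ![z, o, v, z, v],
  ![z, w, z, o, w],
  ![z, w, o, z, v],
  ![z, w, o, v, z],
  ![z, v, z, w, w],
  ![z, v, o, w, z],
  ![z, v, w, v, z],
  ![o, z, z, w, v],
  ![o, z, o, w, z],
  ![o, z, v, o, z],
  ![o, o, o, w, w],
  ![o, o, o, v, o],
  ![o, o, w, v, w],
  ![o, o, v, v, w],
  ![o, w, z, z, v],
  ![o, w, o, w, v],
  ![o, w, o, v, w],
  ![o, w, v, o, w],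
  ![o, v, z, z, o],
  ![o, v, o, w, o],
  ![o, v, w, v, o],
  ![o, v, v, o, o],
  ![w, z, z, v, v],
  ![w, z, o, z, w],
  ![w, z, o, o, z],
  ![w, o, z, o, z],
  ![w, o, o, o, o],
  ![w, o, o, v, w],
  ![w, o, v, v, v],
  ![w, w, o, o, w],
  ![w, w, o, v, v],
  ![w, w, w, w, o],
  ![w, w, v, w, o],
  ![w, v, z, z, w],
  ![w, v, o, o, v],
  ![w, v, o, w, w],
  ![w, v, w, v, v],
  ![v, z, z, v, o],
  ![v, z, o, z, o],
  ![v, z, w, z, w],
  ![v, o, z, w, z],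
  ![v, o, o, w, o],
  ![v, o, w, w, w],
  ![v, o, v, w, v],
  ![v, w, z, v, z],
  ![v, w, o, o, v],
  ![v, w, o, v, o],
  ![v, w, w, o, w],
  ![v, v, o, o, o],
  ![v, v, o, w, v],
  ![v, v, w, o, v],
  ![v, v, v, o, v]]

theorem X0_unitary : X0ᵀ * X0.map sq = 1 := by decide
theorem Y0_unitary : Y0ᵀ * Y0.map sq = 1 := by decide
theorem W0_unitary : W0ᵀ * W0.map sq = 1 := by decide
theorem T0_unitary : T0ᵀ * T0.map sq = 1 := by decide

theorem X0_pow : X0 ^ 11 = 1 := by decide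
theorem X0_ne_one : X0 ≠ 1 := by decide
theorem Y0_pow : Y0 ^ 5 = 1 := by decide
theorem W0_sq : W0 * W0 = 1 := by decide
theorem T0_sq : T0 * T0 = 1 := by decide
theorem Y0_X0 : Y0 * X0 = X0 ^ 4 * Y0 := by decide

theorem trace_X0_pow : ∀ j : Fin 11, (X0 ^ (j : ℕ)).trace = X0.trace →
    (j : ℕ) = 1 ∨ (j : ℕ) = 3 ∨ (j : ℕ) = 4 ∨ (j : ℕ) = 5 ∨ (j : ℕ) = 9 := by decide

theorem C0_eq : C0 = Matrix.of fun r (i : Fin 5) => ((X0 ^ (i : ℕ)) *ᵥ (Pi.single 0 1 : Fin 5 → F4)) r := by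
  decide
theorem C0i_mul : C0i * C0 = 1 := by decide

theorem XS_X0 : ∀ u ∈ XS, X0 *ᵥ u ∈ XS := by decide +kernel
theorem XS_Y0 : ∀ u ∈ XS, Y0 *ᵥ u ∈ XS := by decide +kernel
theorem XS_W0 : ∀ u ∈ XS, W0 *ᵥ u ∈ XS := by decide +kernel
theorem XS_mem : (![z, z, o, z, z] : Fin 5 → F4) ∈ XS := by decide
theorem XS_T0 : T0 *ᵥ (![z, z, o, z, z] : Fin 5 → F4) ∉ XS := by decide

theorem W0_X0 : W0 * X0 * W0 * X0 ≠ X0 * W0 * X0 * W0 := by decide

theorem w_root : (w : F4) ^ 2 + w + 1 = 0 := by decide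
theorem sq_eq (a : F4) : sq a = a ^ 2 := by rw [sq, pow_two]

end Cfsg.Agent.Lib.Helper59.SU5Data
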