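import Mathlib
import Cfsg.Prelude.Def_GeometricClasses

/-!
# Helpers for the row S5796 (`SU_5(q)` maximal subgroup cases)
-/

set_option autoImplicit false

namespace Cfsg.Agent.Lib.Helper59.SU5Row

open Cfsg Cfsg.Geo

/-- maximality step: a maximal `H ≤ X ⊓ I` of `S ≤ I` equals `X ⊓ S` unless `S ≤ X` -/
theorem eq_inf_of_max {G : Type*} [Group G] {S H X I : Subgroup G} (hH : IsMaximalIn S H)
    (hHM : H ≤ X ⊓ I) (hne : ¬ S ≤ X) : H = X ⊓ S := by
  have h1 : H ≤ X ⊓ S := le_inf (hHM.trans inf_le_left) hH.1.le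
  rcases hH.2 (X ⊓ S) h1 inf_le_right with h | h
  · exact h.symm
  · exact absurd (h ▸ inf_le_left) hne

theorem pow_mod_five (p e : ℕ) : p ^ e % 5 = (p % 5) ^ e % 5 := Nat.pow_mod p e 5

/-- the arithmetic of the minimal field for a centre of order 5 when `|F| = q²` -/
theorem c6_arith (q p e : ℕ) (hq : 2 ≤ q) (hp : p.Prime) (hp5 : p ≠ 5) (hcard : q ^ 2 = p ^ e)
    (h5 : 5 ∣ p ^ e - 1) (hmin : ∀ d, 0 < d → d < e → ¬ 5 ∣ p ^ d - 1) :
    (q = p ∧ p % 5 = 4) ∨ (q = p ^ 2 ∧ (p % 5 = 2 ∨ p % 5 = 3)) := by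
  have hp0 : p % 5 ≠ 0 := by
    intro h
    have h1 : 5 ∣ p := Nat.dvd_of_mod_eq_zero h
    exact hp5 ((Nat.prime_dvd_prime_iff_eq (by norm_num) hp).mp h1).symm
  have hpos : ∀ d, 1 ≤ p ^ d := fun d => Nat.one_le_pow _ _ hp.pos
  have hlt : p % 5 < 5 := Nat.mod_lt _ (by norm_num)
  have hmod : ∀ d, p ^ d % 5 = (p % 5) ^ d % 5 := fun d => Nat.pow_mod p d 5
  have hd : ∀ d, 5 ∣ p ^ d - 1 ↔ p ^ d % 5 = 1 := by
    intro d
    have := hpos d
    constructor
    · intro h; omega
    · intro h; omega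
  have he4 : e ≤ 4 := by
    by_contra hcon
    push Not at hcon
    apply hmin 4 (by norm_num) hcon
    rw [hd, hmod]
    generalize p % 5 = c at *
    interval_cases c <;> simp_all
  have he1 : 1 ≤ e := by
    by_contra hcon
    have : e = 0 := by omega
    subst this
    have : q ^ 2 = 1 := by simpa using hcard
    nlinarith
  have h5' := (hd e).mp h5
  have hm1 : ∀ d, 0 < d → d < e → p ^ d % 5 ≠ 1 := fun d h0 hde h => hmin d h0 hde ((hd d).mpr h)
  interval_cases e
  · -- e = 1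
    exfalso
    rw [pow_one] at hcard
    have hqp : q ∣ p := ⟨q, by rw [← hcard]; ring⟩
    rcases (Nat.dvd_prime hp).mp hqp with h | h
    · omega
    · subst h
      have : q = 1 := by nlinarith
      omega
  · -- e = 2
    left
    have hqp : q = p := Nat.pow_left_injective (by norm_num : 2 ≠ 0) hcard
    refine ⟨hqp, ?_⟩
    have h1 := hm1 1 (by norm_num) (by norm_num)
    rw [hmod] at h5' h1
    generalize p % 5 = c at *
    interval_cases c <;> simp_all
  · -- e = 3
    exfalso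
    have h1 := hm1 1 (by norm_num) (by norm_num)
    rw [hmod] at h5' h1
    generalize p % 5 = c at *
    interval_cases c <;> simp_all
  · -- e = 4
    right
    have hqp : q = p ^ 2 := by
      apply Nat.pow_left_injective (by norm_num : 2 ≠ 0)
      show q ^ 2 = (p ^ 2) ^ 2
      rw [hcard, ← pow_mul]
    refine ⟨hqp, ?_⟩
    have h1 := hm1 1 (by norm_num) (by norm_num)
    have h2 := hm1 2 (by norm_num) (by norm_num)
    rw [hmod] at h5' h1 h2
    generalize p % 5 = c at *
    interval_cases c <;> simp_all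

end Cfsg.Agent.Lib.Helper59.SU5Row
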