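import Mathlib
import Cfsg.Prelude.Def_GeometricClasses
import Cfsg.Agent.Lib.Helper59.SU5Data
import Cfsg.Agent.Lib.Helper51.FieldAutU1
import Cfsg.Agent.Lib.Helper19.Unitary
import Cfsg.Agent.Lib.Helper99.FieldSub

set_option autoImplicit false
set_option linter.unusedSectionVars false

namespace Cfsg.Agent.Lib.Helper59.SU5X

open Cfsg Cfsg.Geo Matrix
open Cfsg.Agent.Lib.Helper36 (F4)
open Cfsg.Agent.Lib.Helper59.SU5Data
open scoped MatrixGroups

variable {F : Type*} [Field F] [Fintype F]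

/-! ## Transport of concrete matrices along a ring homomorphism `φ : F4 →+* F` -/

section transport

variable (φ : F4 →+* F)

/-- transported matrix -/
def mp (M : Matrix (Fin 5) (Fin 5) F4) : Matrix (Fin 5) (Fin 5) F := φ.mapMatrix M

omit [Fintype F] in
theorem mp_apply (M : Matrix (Fin 5) (Fin 5) F4) (i j : Fin 5) : mp φ M i j = φ (M i j) := rfl

omit [Fintype F] in
theorem mp_mul (A B : Matrix (Fin 5) (Fin 5) F4) : mp φ (A * B) = mp φ A * mp φ B :=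
  map_mul φ.mapMatrix A B

omit [Fintype F] in
theorem mp_one : mp φ 1 = 1 := map_one φ.mapMatrix

omit [Fintype F] in
theorem mp_pow (A : Matrix (Fin 5) (Fin 5) F4) (n : ℕ) : mp φ (A ^ n) = mp φ A ^ n :=
  map_pow φ.mapMatrix A n

omit [Fintype F] in
theorem mp_inj {A B : Matrix (Fin 5) (Fin 5) F4} (h : mp φ A = mp φ B) : A = B := by
  ext i j
  have := congrFun (congrFun h i) j
  rw [mp_apply, mp_apply] at this
  exact φ.injective this

omit [Fintype F] in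
theorem mp_trace (A : Matrix (Fin 5) (Fin 5) F4) : (mp φ A).trace = φ A.trace := by
  simp only [Matrix.trace, Matrix.diag_apply, mp_apply, map_sum]

omit [Fintype F] in
theorem mp_mulVec (A : Matrix (Fin 5) (Fin 5) F4) (u : Fin 5 → F4) :
    mp φ A *ᵥ (fun i => φ (u i)) = fun i => φ ((A *ᵥ u) i) := by
  funext i
  rw [RingHom.map_mulVec]
  rfl

variable (hF : Fintype.card F = 2 ^ 2)

include hF in
theorem mp_unitary {M : Matrix (Fin 5) (Fin 5) F4} (hM : Mᵀ * M.map sq = 1) :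
    (mp φ M)ᵀ * (mp φ M).map (Cfsg.Agent.Lib.Helper19.frobQ hF) = 1 := by
  have h1 : (mp φ M).map (Cfsg.Agent.Lib.Helper19.frobQ hF) = mp φ (M.map sq) := by
    ext i j
    rw [Matrix.map_apply, mp_apply, mp_apply, Matrix.map_apply,
      Cfsg.Agent.Lib.Helper19.frobQ_apply]
    show φ (M i j) ^ 2 = φ (M i j * M i j)
    rw [map_mul, pow_two]
  have h2 : (mp φ M)ᵀ = mp φ Mᵀ := by
    ext i j
    rfl
  rw [h1, h2, ← mp_mul, hM, mp_one]

include hF in
theorem mp_isUnit {M : Matrix (Fin 5) (Fin 5) F4} (hM : Mᵀ * M.map sq = 1) : IsUnit (mp φ M) := by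
  have h := mp_unitary φ hF hM
  have h2 := congrArg Matrix.transpose h
  rw [Matrix.transpose_mul, Matrix.transpose_transpose, Matrix.transpose_one] at h2
  exact (Matrix.isUnit_iff_isUnit_det _).mpr (Matrix.isUnit_det_of_left_inverse h2)

/-- the `GL` element of a concrete unitary matrix -/
noncomputable def U (M : Matrix (Fin 5) (Fin 5) F4) (hM : Mᵀ * M.map sq = 1) : GL (Fin 5) F :=
  (mp_isUnit φ hF hM).unit

theorem U_val (M : Matrix (Fin 5) (Fin 5) F4) (hM : Mᵀ * M.map sq = 1) :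
    ((U φ hF M hM : GL (Fin 5) F) : Matrix (Fin 5) (Fin 5) F) = mp φ M := rfl

theorem U_mem_GU (M : Matrix (Fin 5) (Fin 5) F4) (hM : Mᵀ * M.map sq = 1) :
    U φ hF M hM ∈ GU 5 F 2 := by
  rw [Cfsg.Agent.Lib.Helper51.mem_GU_iff_mul (Cfsg.Agent.Lib.Helper19.frobQ hF)
    (fun x => Cfsg.Agent.Lib.Helper19.frobQ_apply hF x)]
  rw [U_val]
  exact mp_unitary φ hF hM

theorem U_pow (M : Matrix (Fin 5) (Fin 5) F4) (hM : Mᵀ * M.map sq = 1) (n : ℕ) (h : M ^ n = 1) :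
    U φ hF M hM ^ n = 1 := by
  apply Units.ext
  rw [Units.val_pow_eq_pow_val, U_val, ← mp_pow, h, mp_one]
  rfl

end transport

/-! ## Determinants -/

/-- an element of `GL_5(F)`, `|F| = 4`, of order prime to 3 has determinant one -/
theorem det_eq_one_of_pow (hF : Fintype.card F = 2 ^ 2) (g : GL (Fin 5) F) (m : ℕ) (hm : g ^ m = 1)
    (hcop : Nat.Coprime m 3) : g ∈ specialLinear (Fin 5) F := by
  show Matrix.GeneralLinearGroup.det g = 1
  set d := Matrix.GeneralLinearGroup.det g with hd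
  have h1 : d ^ m = 1 := by rw [hd, ← map_pow, hm, map_one]
  have h2 : d ^ 3 = 1 := by
    classical
    have hc : Fintype.card Fˣ = 3 := by rw [Fintype.card_units, hF]; norm_num
    rw [← hc]
    exact pow_card_eq_one
  have h3 : orderOf d ∣ Nat.gcd m 3 := Nat.dvd_gcd (orderOf_dvd_of_pow_eq_one h1) (orderOf_dvd_of_pow_eq_one h2)
  rw [hcop] at h3
  exact orderOf_eq_one_iff.mp (Nat.dvd_one.mp h3)


/-! ## The data over `F` -/

section data

variable (φ : F4 →+* F) (hF : Fintype.card F = 2 ^ 2)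

/-- `SU_5(2)` inside `GL_5(F)` -/
abbrev SUg (F : Type*) [Field F] : Subgroup (GL (Fin 5) F) := GU 5 F 2 ⊓ specialLinear (Fin 5) F

/-- the element of order 11 -/
noncomputable def gx : GL (Fin 5) F := U φ hF X0 X0_unitary
/-- the element of order 5 -/
noncomputable def gy : GL (Fin 5) F := U φ hF Y0 Y0_unitary
/-- the involution -/
noncomputable def gw : GL (Fin 5) F := U φ hF W0 W0_unitary
/-- the transposition -/
noncomputable def gt : GL (Fin 5) F := U φ hF T0 T0_unitary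

theorem gx_pow : gx φ hF ^ 11 = 1 := U_pow φ hF X0 X0_unitary 11 X0_pow
theorem gy_pow : gy φ hF ^ 5 = 1 := U_pow φ hF Y0 Y0_unitary 5 Y0_pow
theorem gw_pow : gw φ hF ^ 2 = 1 := U_pow φ hF W0 W0_unitary 2 (by rw [pow_two]; exact W0_sq)
theorem gt_pow : gt φ hF ^ 2 = 1 := U_pow φ hF T0 T0_unitary 2 (by rw [pow_two]; exact T0_sq)

theorem gx_mem : gx φ hF ∈ SUg F :=
  ⟨U_mem_GU φ hF _ _, det_eq_one_of_pow hF _ 11 (gx_pow φ hF) (by decide)⟩
theorem gy_mem : gy φ hF ∈ SUg F :=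
  ⟨U_mem_GU φ hF _ _, det_eq_one_of_pow hF _ 5 (gy_pow φ hF) (by decide)⟩
theorem gw_mem : gw φ hF ∈ SUg F :=
  ⟨U_mem_GU φ hF _ _, det_eq_one_of_pow hF _ 2 (gw_pow φ hF) (by decide)⟩
theorem gt_mem : gt φ hF ∈ SUg F :=
  ⟨U_mem_GU φ hF _ _, det_eq_one_of_pow hF _ 2 (gt_pow φ hF) (by decide)⟩

theorem gx_ne_one : gx φ hF ≠ 1 := by
  intro h
  have h1 := congrArg (fun g : GL (Fin 5) F => (g : Matrix (Fin 5) (Fin 5) F)) h
  simp only [gx, U_val, Units.val_one] at h1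
  rw [← mp_one φ] at h1
  exact X0_ne_one (mp_inj φ h1)

theorem gy_gx : gy φ hF * gx φ hF * (gy φ hF)⁻¹ = gx φ hF ^ 4 := by
  rw [mul_inv_eq_iff_eq_mul]
  apply Units.ext
  rw [Units.val_mul, Units.val_mul, Units.val_pow_eq_pow_val]
  simp only [gx, gy, U_val]
  rw [← mp_mul, ← mp_pow, ← mp_mul, Y0_X0]

theorem gx_trace (j : ℕ) (hj : j < 11)
    (h : (((gx φ hF) ^ j : GL (Fin 5) F) : Matrix (Fin 5) (Fin 5) F).trace =
      ((gx φ hF : GL (Fin 5) F) : Matrix (Fin 5) (Fin 5) F).trace) :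
    j = 1 ∨ j = 3 ∨ j = 4 ∨ j = 5 ∨ j = 9 := by
  rw [Units.val_pow_eq_pow_val] at h
  simp only [gx, U_val] at h
  rw [← mp_pow, mp_trace, mp_trace] at h
  exact trace_X0_pow ⟨j, hj⟩ (φ.injective h)

theorem gw_gx : gw φ hF * gx φ hF * (gw φ hF)⁻¹ * gx φ hF ≠
    gx φ hF * (gw φ hF * gx φ hF * (gw φ hF)⁻¹) := by
  have hinv : (gw φ hF)⁻¹ = gw φ hF := by
    rw [inv_eq_iff_mul_eq_one, ← pow_two]
    exact gw_pow φ hF
  rw [hinv]
  intro h
  have h1 := congrArg (fun g : GL (Fin 5) F => (g : Matrix (Fin 5) (Fin 5) F)) h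
  simp only [Units.val_mul, gx, gw, U_val] at h1
  simp only [← mp_mul] at h1
  have h2 := mp_inj φ h1
  exact W0_X0 (by rw [h2]; simp only [Matrix.mul_assoc])

/-- the invariant set of 55 vectors -/
def Xset : Set (Fin 5 → F) := {u | ∃ v ∈ XS, u = fun i => φ (v i)}

omit [Fintype F] in
theorem Xset_maps (M : Matrix (Fin 5) (Fin 5) F4) (hM : ∀ u ∈ XS, M *ᵥ u ∈ XS) (u : Fin 5 → F)
    (hu : u ∈ Xset φ) : mp φ M *ᵥ u ∈ Xset φ := by
  obtain ⟨v, hv, rfl⟩ := hu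
  exact ⟨M *ᵥ v, hM v hv, mp_mulVec φ M v⟩

/-- an element of finite order mapping a set into itself stabilises it -/
theorem iff_of_maps (S : Set (Fin 5 → F)) (g : GL (Fin 5) F) (m : ℕ) (hm : 0 < m) (hg : g ^ m = 1)
    (h : ∀ u ∈ S, (g : Matrix (Fin 5) (Fin 5) F) *ᵥ u ∈ S) (u : Fin 5 → F) :
    u ∈ S ↔ (g : Matrix (Fin 5) (Fin 5) F) *ᵥ u ∈ S := by
  refine ⟨h u, fun hu => ?_⟩
  have hpow : ∀ k : ℕ, ∀ v ∈ S, ((g ^ k : GL (Fin 5) F) : Matrix (Fin 5) (Fin 5) F) *ᵥ v ∈ S := by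
    intro k
    induction k with
    | zero => intro v hv; simpa using hv
    | succ k ih =>
      intro v hv
      rw [pow_succ, Units.val_mul, ← Matrix.mulVec_mulVec]
      exact ih _ (h v hv)
  have h2 := hpow (m - 1) _ hu
  rw [Matrix.mulVec_mulVec, ← Units.val_mul, ← pow_succ, Nat.sub_add_cancel hm, hg] at h2
  simpa using h2

/-- the stabiliser of `Xset` in `SU_5(2)` -/
def L0 : Subgroup (GL (Fin 5) F) where
  carrier := {g | g ∈ SUg F ∧ ∀ u, u ∈ Xset φ ↔ (g : Matrix (Fin 5) (Fin 5) F) *ᵥ u ∈ Xset φ}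
  mul_mem' := by
    rintro a b ⟨ha, ha'⟩ ⟨hb, hb'⟩
    refine ⟨(SUg F).mul_mem ha hb, fun u => ?_⟩
    rw [Units.val_mul, ← Matrix.mulVec_mulVec, ← ha', ← hb']
  one_mem' := ⟨(SUg F).one_mem, fun u => by simp⟩
  inv_mem' := by
    rintro a ⟨ha, ha'⟩
    refine ⟨(SUg F).inv_mem ha, fun u => ?_⟩
    rw [ha' ((a⁻¹ : GL (Fin 5) F) *ᵥ u), Matrix.mulVec_mulVec, ← Units.val_mul, mul_inv_cancel]
    simp

theorem L0_le : L0 φ ≤ SUg F := fun _ hg => hg.1

theorem gx_mem_L0 : gx φ hF ∈ L0 φ :=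
  ⟨gx_mem φ hF, iff_of_maps _ _ 11 (by norm_num) (gx_pow φ hF) (Xset_maps φ X0 XS_X0)⟩
theorem gy_mem_L0 : gy φ hF ∈ L0 φ :=
  ⟨gy_mem φ hF, iff_of_maps _ _ 5 (by norm_num) (gy_pow φ hF) (Xset_maps φ Y0 XS_Y0)⟩
theorem gw_mem_L0 : gw φ hF ∈ L0 φ :=
  ⟨gw_mem φ hF, iff_of_maps _ _ 2 (by norm_num) (gw_pow φ hF) (Xset_maps φ W0 XS_W0)⟩

theorem gt_notMem_L0 : gt φ hF ∉ L0 φ := by
  rintro ⟨_, h⟩
  have h1 := (h (fun i => φ ((![F4.z, F4.z, F4.o, F4.z, F4.z] : Fin 5 → F4) i))).mp ⟨_, XS_mem, rfl⟩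
  simp only [gt, U_val] at h1
  rw [mp_mulVec] at h1
  obtain ⟨v, hv, hv'⟩ := h1
  have : T0 *ᵥ (![F4.z, F4.z, F4.o, F4.z, F4.z] : Fin 5 → F4) = v := by
    funext i
    exact φ.injective (congrFun hv' i)
  rw [← this] at hv
  exact XS_T0 hv


/-- matrices agreeing on the standard basis are equal -/
theorem mat_ext_single {A B : Matrix (Fin 5) (Fin 5) F}
    (h : ∀ j, A *ᵥ Pi.single j 1 = B *ᵥ Pi.single j 1) : A = B := by
  ext i j
  have := congrFun (h j) i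
  rwa [Matrix.mulVec_single_one, Matrix.mulVec_single_one] at this

/-- the Krylov columns -/
theorem mpC0_single (j : Fin 5) :
    mp φ C0 *ᵥ Pi.single j 1 = (mp φ X0) ^ (j : ℕ) *ᵥ Pi.single 0 1 := by
  have he : (Pi.single 0 1 : Fin 5 → F) = fun i => φ ((Pi.single 0 1 : Fin 5 → F4) i) := by
    funext i
    by_cases hi : i = 0
    · subst hi; simp
    · simp [hi]
  rw [Matrix.mulVec_single_one, he, ← mp_pow, mp_mulVec]
  funext r
  rw [Matrix.col_apply, mp_apply]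
  conv_lhs => rw [C0_eq]
  rfl

/-- `F^5` is a cyclic module for `gx`: the centraliser of `gx` consists of polynomials in `gx` -/
theorem gx_cyclic (c : Matrix (Fin 5) (Fin 5) F)
    (hc : c * ((gx φ hF : GL (Fin 5) F) : Matrix (Fin 5) (Fin 5) F) =
      ((gx φ hF : GL (Fin 5) F) : Matrix (Fin 5) (Fin 5) F) * c) :
    ∃ a : Fin 5 → F, c = ∑ i : Fin 5,
      a i • ((gx φ hF : GL (Fin 5) F) : Matrix (Fin 5) (Fin 5) F) ^ (i : ℕ) := by
  simp only [gx, U_val] at hc ⊢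
  set x := mp φ X0 with hx
  have hCi : mp φ C0i * mp φ C0 = 1 := by rw [← mp_mul, C0i_mul, mp_one]
  have hCi' : mp φ C0 * mp φ C0i = 1 := mul_eq_one_comm.mp hCi
  set e0 : Fin 5 → F := Pi.single 0 1 with he0
  set a : Fin 5 → F := mp φ C0i *ᵥ (c *ᵥ e0) with ha
  refine ⟨a, ?_⟩
  set p : Matrix (Fin 5) (Fin 5) F := ∑ i : Fin 5, a i • x ^ (i : ℕ) with hp
  have hcomm : ∀ j : ℕ, c * x ^ j = x ^ j * c := by
    intro j
    induction j with
    | zero => simp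
    | succ j ih => rw [pow_succ, ← Matrix.mul_assoc, ih, Matrix.mul_assoc, hc, ← Matrix.mul_assoc]
  have hpcomm : ∀ j : ℕ, p * x ^ j = x ^ j * p := by
    intro j
    rw [hp, Finset.sum_mul, Finset.mul_sum]
    refine Finset.sum_congr rfl fun i _ => ?_
    rw [Matrix.smul_mul, Matrix.mul_smul, ← pow_add, ← pow_add, add_comm]
  have hce0 : c *ᵥ e0 = p *ᵥ e0 := by
    have h1 : c *ᵥ e0 = mp φ C0 *ᵥ a := by
      rw [ha, Matrix.mulVec_mulVec, hCi', Matrix.one_mulVec]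
    have h2 : a = ∑ i : Fin 5, a i • (Pi.single i 1 : Fin 5 → F) := by
      funext r
      simp [Finset.sum_apply, Pi.single_apply]
    rw [h1]
    conv_lhs => rw [h2]
    rw [Matrix.mulVec_sum, hp, Matrix.sum_mulVec]
    refine Finset.sum_congr rfl fun i _ => ?_
    rw [Matrix.mulVec_smul, mpC0_single, Matrix.smul_mulVec]
  have hkey : c * mp φ C0 = p * mp φ C0 := by
    apply mat_ext_single
    intro j
    rw [← Matrix.mulVec_mulVec, ← Matrix.mulVec_mulVec, mpC0_single, Matrix.mulVec_mulVec,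
      Matrix.mulVec_mulVec, hcomm, hpcomm, ← Matrix.mulVec_mulVec, ← Matrix.mulVec_mulVec, hce0]
  calc c = c * (mp φ C0 * mp φ C0i) := by rw [hCi', Matrix.mul_one]
    _ = p * (mp φ C0 * mp φ C0i) := by rw [← Matrix.mul_assoc, hkey, Matrix.mul_assoc]
    _ = p := by rw [hCi', Matrix.mul_one]

end data

end Cfsg.Agent.Lib.Helper59.SU5X
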