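import Mathlib
import Cfsg.Prelude.Def_GeometricClasses
import Cfsg.Agent.Lib.Helper59.SU5XBase

set_option autoImplicit false
set_option linter.unusedSectionVars false
set_option linter.style.haveILetI false

namespace Cfsg.Agent.Lib.Helper59.SU5X

open Cfsg Cfsg.Geo Matrix
open Cfsg.Agent.Lib.Helper36 (F4)
open Cfsg.Agent.Lib.Helper59.SU5Data
open scoped MatrixGroups

variable {F : Type*} [Field F] [Fintype F]

/-! ## Roots of unity in a commutative domain given by hypotheses -/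

theorem pow_eq_of_pow_prime_eq_one {R : Type*} [Ring R] [Nontrivial R] (hcomm : ∀ a b : R, a * b = b * a)
    (hdom : ∀ a b : R, a * b = 0 → a = 0 ∨ b = 0) (p : ℕ) (hp : p.Prime) (ζ ξ : R) (hζ : ζ ^ p = 1)
    (hζ1 : ζ ≠ 1) (hξ : ξ ^ p = 1) : ∃ i < p, ζ ^ i = ξ := by
  letI : CommRing R := { (inferInstance : Ring R) with mul_comm := hcomm }
  haveI : NoZeroDivisors R := ⟨fun {a b} h => hdom a b h⟩
  haveI : IsDomain R := NoZeroDivisors.to_isDomain R
  haveI : Fact p.Prime := ⟨hp⟩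
  haveI : NeZero p := ⟨hp.ne_zero⟩
  have ho : orderOf ζ = p := orderOf_eq_prime hζ hζ1
  have hprim : IsPrimitiveRoot ζ p := ho ▸ IsPrimitiveRoot.orderOf ζ
  exact hprim.eq_pow_of_pow_eq_one hξ

/-- roots of unity of prime order in a field subalgebra -/
theorem K_roots (K : Subalgebra F (Matrix (Fin 5) (Fin 5) F)) (hK : IsFieldSubalgebra 5 K) (p : ℕ)
    (hp : p.Prime) {ζ ξ : Matrix (Fin 5) (Fin 5) F} (hζK : ζ ∈ K) (hξK : ξ ∈ K) (hζ : ζ ^ p = 1)
    (hζ1 : ζ ≠ 1) (hξ : ξ ^ p = 1) : ∃ i < p, ζ ^ i = ξ := by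
  have h := pow_eq_of_pow_prime_eq_one (R := ↥K)
    (fun a b => Subtype.ext (hK.comm a.1 a.2 b.1 b.2))
    (fun a b hab => by
      have h1 : a.1 * b.1 = 0 := congrArg Subtype.val hab
      rcases Cfsg.Agent.Lib.Helper99.FieldSub.eq_zero_or_eq_zero_of_mul_eq_zero K hK a.2 h1 with h2 | h2
      · exact Or.inl (Subtype.ext h2)
      · exact Or.inr (Subtype.ext h2))
    p hp ⟨ζ, hζK⟩ ⟨ξ, hξK⟩ (Subtype.ext hζ) (fun h => hζ1 (congrArg Subtype.val h)) (Subtype.ext hξ)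
  obtain ⟨i, hi, h2⟩ := h
  exact ⟨i, hi, congrArg Subtype.val h2⟩

/-! ## Frobenius on commuting sums -/

theorem sum_pow_char_pow_of_commute {R : Type*} [Semiring R] (p : ℕ) [Fact p.Prime] [CharP R p] (n : ℕ)
    {ι : Type*} [DecidableEq ι] (s : Finset ι) (f : ι → R) (h : ∀ i ∈ s, ∀ j ∈ s, Commute (f i) (f j)) :
    (∑ i ∈ s, f i) ^ p ^ n = ∑ i ∈ s, f i ^ p ^ n := by
  induction s using Finset.induction_on with
  | empty =>
    simp only [Finset.sum_empty]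
    exact zero_pow (pow_ne_zero _ (Fact.out : p.Prime).ne_zero)
  | insert a s ha ih =>
    rw [Finset.sum_insert ha, Finset.sum_insert ha]
    rw [add_pow_char_pow_of_commute, ih]
    · intro i hi j hj
      exact h i (Finset.mem_insert_of_mem hi) j (Finset.mem_insert_of_mem hj)
    · exact Commute.sum_right _ _ _ fun j hj =>
        h a (Finset.mem_insert_self a s) j (Finset.mem_insert_of_mem hj)

/-! ## Conjugate transpose -/

section star

variable (hF : Fintype.card F = 2 ^ 2)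

/-- conjugate transpose for `x ↦ x^2` -/
noncomputable def st (M : Matrix (Fin 5) (Fin 5) F) : Matrix (Fin 5) (Fin 5) F :=
  (M.map (Cfsg.Agent.Lib.Helper19.frobQ hF))ᵀ

theorem st_mul (A B : Matrix (Fin 5) (Fin 5) F) : st hF (A * B) = st hF B * st hF A := by
  unfold st
  rw [Matrix.map_mul, Matrix.transpose_mul]

theorem st_one : st hF (1 : Matrix (Fin 5) (Fin 5) F) = 1 := by
  unfold st
  rw [Matrix.map_one _ (map_zero _) (map_one _), Matrix.transpose_one]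

theorem st_pow (A : Matrix (Fin 5) (Fin 5) F) (n : ℕ) : st hF (A ^ n) = st hF A ^ n := by
  induction n with
  | zero => rw [pow_zero, pow_zero, st_one]
  | succ n ih => rw [pow_succ, st_mul, ih, pow_succ']

theorem st_smul (a : F) (A : Matrix (Fin 5) (Fin 5) F) : st hF (a • A) = a ^ 2 • st hF A := by
  ext i j
  simp only [st, Matrix.transpose_apply, Matrix.map_apply, Matrix.smul_apply, smul_eq_mul, map_mul,
    Cfsg.Agent.Lib.Helper19.frobQ_apply]

theorem st_sum {ι : Type*} (s : Finset ι) (f : ι → Matrix (Fin 5) (Fin 5) F) :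
    st hF (∑ i ∈ s, f i) = ∑ i ∈ s, st hF (f i) := by
  ext i j
  simp only [st, Matrix.transpose_apply, Matrix.map_apply, Matrix.sum_apply, map_sum]

theorem mem_GU_iff_st (g : GL (Fin 5) F) :
    g ∈ GU 5 F 2 ↔ st hF (g : Matrix (Fin 5) (Fin 5) F) * (g : Matrix (Fin 5) (Fin 5) F) = 1 := by
  rw [Cfsg.Agent.Lib.Helper51.mem_GU_iff_mul (Cfsg.Agent.Lib.Helper19.frobQ hF)
    (fun x => Cfsg.Agent.Lib.Helper19.frobQ_apply hF x)]
  unfold st
  constructor
  · intro h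
    have h2 := congrArg Matrix.transpose h
    rwa [Matrix.transpose_mul, Matrix.transpose_transpose, Matrix.transpose_one] at h2
  · intro h
    have h2 := congrArg Matrix.transpose h
    rwa [Matrix.transpose_mul, Matrix.transpose_transpose, Matrix.transpose_one] at h2

end star


/-! ## Elements of `F[k] ∩ GU` have order dividing 33 -/

theorem two_eq_zero (hF : Fintype.card F = 2 ^ 2) : (2 : F) = 0 := by
  have h4 : ((4 : ℕ) : F) = 0 := by
    have := Nat.cast_card_eq_zero F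
    rwa [hF] at this
  have h5 : (2 : F) * 2 = 0 := by
    have : ((4 : ℕ) : F) = 2 * 2 := by norm_num
    rw [← this]; exact h4
  exact mul_self_eq_zero.mp h5

theorem pow_four (hF : Fintype.card F = 2 ^ 2) (a : F) : a ^ 4 = a := by
  have := FiniteField.pow_card a
  rwa [hF] at this

theorem pow33 (hF : Fintype.card F = 2 ^ 2) (k c : GL (Fin 5) F) (hkGU : k ∈ GU 5 F 2)
    (hk11 : k ^ 11 = 1) (hcGU : c ∈ GU 5 F 2) (a : Fin 5 → F)
    (hc : (c : Matrix (Fin 5) (Fin 5) F) =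
      ∑ i : Fin 5, a i • (k : Matrix (Fin 5) (Fin 5) F) ^ (i : ℕ)) : c ^ 33 = 1 := by
  haveI : CharP F 2 := CharTwo.of_one_ne_zero_of_two_eq_zero one_ne_zero (two_eq_zero hF)
  haveI : Fact (Nat.Prime 2) := ⟨Nat.prime_two⟩
  set km : Matrix (Fin 5) (Fin 5) F := (k : Matrix (Fin 5) (Fin 5) F) with hkm
  set cm : Matrix (Fin 5) (Fin 5) F := (c : Matrix (Fin 5) (Fin 5) F) with hcm
  have hk11m : km ^ 11 = 1 := by
    rw [hkm, ← Units.val_pow_eq_pow_val, hk11, Units.val_one]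
  have hstk : st hF km = km ^ 10 := by
    have h1 : st hF km * km = 1 := (mem_GU_iff_st hF k).mp hkGU
    calc st hF km = st hF km * (km * km ^ 10) := by rw [← pow_succ', hk11m, Matrix.mul_one]
      _ = (st hF km * km) * km ^ 10 := by rw [Matrix.mul_assoc]
      _ = km ^ 10 := by rw [h1, Matrix.one_mul]
  have hst : st hF cm = ∑ i : Fin 5, (a i) ^ 2 • (km ^ 10) ^ (i : ℕ) := by
    rw [hc, st_sum]
    refine Finset.sum_congr rfl fun i _ => ?_
    rw [st_smul, st_pow, hstk]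
  have h32 : cm ^ 32 = ∑ i : Fin 5, (a i) ^ 2 • (km ^ 10) ^ (i : ℕ) := by
    have h25 : (32 : ℕ) = 2 ^ 5 := by norm_num
    rw [hc, h25, sum_pow_char_pow_of_commute 2 5]
    · refine Finset.sum_congr rfl fun i _ => ?_
      rw [smul_pow, ← pow_mul, ← pow_mul]
      congr 1
      · have : (a i) ^ 2 ^ 5 = (((a i) ^ 4) ^ 4) ^ 2 := by rw [← pow_mul, ← pow_mul]; norm_num
        rw [this, pow_four hF, pow_four hF]
      · have h1 : (i : ℕ) * 2 ^ 5 = 11 * (2 * (i : ℕ)) + 10 * (i : ℕ) := by ring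
        rw [h1, pow_add, pow_mul, hk11m, one_pow, Matrix.one_mul]
    · intro i _ j _
      exact (Commute.pow_pow_self km _ _).smul_left _ |>.smul_right _
  have h33 : cm ^ 33 = 1 := by
    rw [pow_succ, h32, ← hst]
    exact (mem_GU_iff_st hF c).mp hcGU
  apply Units.ext
  rw [Units.val_pow_eq_pow_val, Units.val_one]
  exact h33


/-! ## Elements of `K ∩ SL` of order dividing 33 are powers of `k` -/

theorem eq_pow_of_pow33 (hF : Fintype.card F = 2 ^ 2) (ω : F) (hω : ω ^ 2 + ω + 1 = 0)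
    (K : Subalgebra F (Matrix (Fin 5) (Fin 5) F)) (hK : IsFieldSubalgebra 5 K) (k c : GL (Fin 5) F)
    (hkK : (k : Matrix (Fin 5) (Fin 5) F) ∈ K) (hk11 : k ^ 11 = 1) (hk1 : k ≠ 1)
    (hcK : (c : Matrix (Fin 5) (Fin 5) F) ∈ K) (hcSL : c ∈ specialLinear (Fin 5) F)
    (hc33 : c ^ 33 = 1) : ∃ b : ℕ, c = k ^ b := by
  set km : Matrix (Fin 5) (Fin 5) F := (k : Matrix (Fin 5) (Fin 5) F) with hkm
  set cm : Matrix (Fin 5) (Fin 5) F := (c : Matrix (Fin 5) (Fin 5) F) with hcm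
  have h2 : (2 : F) = 0 := two_eq_zero hF
  have hk11m : km ^ 11 = 1 := by
    rw [hkm, ← Units.val_pow_eq_pow_val, hk11, Units.val_one]
  have hk1m : km ≠ 1 := fun h => hk1 (Units.ext (by rw [Units.val_one]; exact h))
  have hc33m : cm ^ 33 = 1 := by
    rw [hcm, ← Units.val_pow_eq_pow_val, hc33, Units.val_one]
  obtain ⟨b, _, hb⟩ := K_roots K hK 11 (by norm_num) hkK (K.pow_mem hcK 3) hk11m hk1m
    (by rw [← pow_mul]; exact hc33m)
  have hω3 : ω ^ 3 = 1 := by linear_combination (ω - 1) * hω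
  have hω1 : ω ≠ 1 := by
    intro h
    rw [h] at hω
    have : (1 : F) = 0 := by linear_combination hω - h2
    exact one_ne_zero this
  set Ω : Matrix (Fin 5) (Fin 5) F := ω • (1 : Matrix (Fin 5) (Fin 5) F) with hΩ
  have hΩK : Ω ∈ K := by
    have := K.algebraMap_mem ω
    rwa [Algebra.algebraMap_eq_smul_one] at this
  have hΩpow : ∀ d : ℕ, Ω ^ d = (ω ^ d) • (1 : Matrix (Fin 5) (Fin 5) F) := by
    intro d
    rw [hΩ, smul_pow, one_pow]
  have hΩ3 : Ω ^ 3 = 1 := by rw [hΩpow, hω3, one_smul]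
  have hΩ1 : Ω ≠ 1 := by
    intro h
    have h1 := congrFun (congrFun h 0) 0
    rw [hΩ] at h1
    simp at h1
    exact hω1 h1
  obtain ⟨d, hd, hdd⟩ := K_roots K hK 3 (by norm_num) hΩK (K.pow_mem hcK 11) hΩ3 hΩ1
    (by rw [← pow_mul]; exact hc33m)
  have hdet : cm.det = 1 := by
    have h3 : Matrix.GeneralLinearGroup.det c = 1 := hcSL
    have h4 := congrArg Units.val h3
    rwa [Matrix.GeneralLinearGroup.val_det_apply] at h4
  have hdet2 : (ω ^ d) ^ 5 = 1 := by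
    have h5 : (Ω ^ d).det = 1 := by rw [hdd, Matrix.det_pow, hdet, one_pow]
    rw [hΩpow, Matrix.det_smul, Matrix.det_one, mul_one] at h5
    simpa using h5
  have hd0 : d = 0 := by
    interval_cases d
    · rfl
    · exfalso
      have h6 : ω ^ 2 = 1 := by
        have : (ω ^ 1) ^ 5 = ω ^ 3 * ω ^ 2 := by ring
        rw [this, hω3, one_mul] at hdet2
        exact hdet2
      have : ω = 0 := by linear_combination hω - h6 - h2
      rw [this] at hω3
      simp at hω3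
    · exfalso
      have h6 : ω = 1 := by
        have : (ω ^ 2) ^ 5 = (ω ^ 3) ^ 3 * ω := by ring
        rw [this, hω3, one_pow, one_mul] at hdet2
        exact hdet2
      exact hω1 h6
  rw [hd0, pow_zero] at hdd
  refine ⟨b * 4, Units.ext ?_⟩
  rw [Units.val_pow_eq_pow_val]
  show cm = km ^ (b * 4)
  calc cm = cm ^ 11 * cm := by rw [← hdd, Matrix.one_mul]
    _ = (cm ^ 3) ^ 4 := by rw [← pow_succ, ← pow_mul]
    _ = km ^ (b * 4) := by rw [← hb, ← pow_mul]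


/-! ## The normaliser of `K` inside a conjugate of `L0` -/

section main

variable (φ : F4 →+* F) (hF : Fintype.card F = 2 ^ 2)

theorem gy_pow_conj (i : ℕ) :
    gy φ hF ^ i * gx φ hF * (gy φ hF ^ i)⁻¹ = gx φ hF ^ (4 ^ i) := by
  induction i with
  | zero => simp
  | succ i ih =>
    calc gy φ hF ^ (i + 1) * gx φ hF * (gy φ hF ^ (i + 1))⁻¹
        = gy φ hF * (gy φ hF ^ i * gx φ hF * (gy φ hF ^ i)⁻¹) * (gy φ hF)⁻¹ := by
          rw [pow_succ']; group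
      _ = gy φ hF * gx φ hF ^ (4 ^ i) * (gy φ hF)⁻¹ := by rw [ih]
      _ = (gy φ hF * gx φ hF * (gy φ hF)⁻¹) ^ (4 ^ i) := by rw [conj_pow]
      _ = gx φ hF ^ (4 ^ (i + 1)) := by rw [gy_gx, ← pow_mul, pow_succ']

theorem exists_gy_conj (j : ℕ) (hj : j = 1 ∨ j = 3 ∨ j = 4 ∨ j = 5 ∨ j = 9) :
    ∃ i : ℕ, gy φ hF ^ i * gx φ hF * (gy φ hF ^ i)⁻¹ = gx φ hF ^ j := by
  have hm : ∀ m : ℕ, gx φ hF ^ m = gx φ hF ^ (m % 11) := fun m => pow_eq_pow_mod m (gx_pow φ hF)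
  rcases hj with rfl | rfl | rfl | rfl | rfl
  · exact ⟨0, by rw [gy_pow_conj]; norm_num⟩
  · exact ⟨4, by rw [gy_pow_conj, hm]; norm_num⟩
  · exact ⟨1, by rw [gy_pow_conj]; norm_num⟩
  · exact ⟨2, by rw [gy_pow_conj, hm]; norm_num⟩
  · exact ⟨3, by rw [gy_pow_conj, hm]; norm_num⟩

theorem w_root_F : (φ F4.w) ^ 2 + φ F4.w + 1 = 0 := by
  have := congrArg φ w_root
  simpa using this

theorem normalizer_le (K : Subalgebra F (Matrix (Fin 5) (Fin 5) F)) (hK : IsFieldSubalgebra 5 K)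
    (g : GL (Fin 5) F) (hg : g ∈ SUg F)
    (hkK : ((g * gx φ hF * g⁻¹ : GL (Fin 5) F) : Matrix (Fin 5) (Fin 5) F) ∈ K)
    (n : GL (Fin 5) F) (hnK : n ∈ subalgebraNormalizer K) (hnS : n ∈ SUg F) :
    g⁻¹ * n * g ∈ L0 φ := by
  set x := gx φ hF with hx
  set k := g * x * g⁻¹ with hk
  have hxS : x ∈ SUg F := gx_mem φ hF
  have hk11 : k ^ 11 = 1 := by rw [hk, conj_pow, gx_pow, mul_one, mul_inv_cancel]
  have hk1 : k ≠ 1 := by
    intro h
    apply gx_ne_one φ hF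
    have e : x = g⁻¹ * k * g := by rw [hk]; group
    rw [← hx, e, h]; group
  have hkS : k ∈ SUg F := (SUg F).mul_mem ((SUg F).mul_mem hg hxS) ((SUg F).inv_mem hg)
  have hnK' : ∀ m : Matrix (Fin 5) (Fin 5) F, m ∈ K ↔
      (n : Matrix (Fin 5) (Fin 5) F) * m * ((n⁻¹ : GL (Fin 5) F) : Matrix (Fin 5) (Fin 5) F) ∈ K := hnK
  have h1 : ((n * k * n⁻¹ : GL (Fin 5) F) : Matrix (Fin 5) (Fin 5) F) ∈ K := by
    rw [Units.val_mul, Units.val_mul]
    exact (hnK' _).mp hkK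
  have hk11m : (k : Matrix (Fin 5) (Fin 5) F) ^ 11 = 1 := by
    rw [← Units.val_pow_eq_pow_val, hk11, Units.val_one]
  have hk1m : (k : Matrix (Fin 5) (Fin 5) F) ≠ 1 :=
    fun h => hk1 (Units.ext (by rw [Units.val_one]; exact h))
  have h1p : ((n * k * n⁻¹ : GL (Fin 5) F) : Matrix (Fin 5) (Fin 5) F) ^ 11 = 1 := by
    rw [← Units.val_pow_eq_pow_val, conj_pow, hk11, mul_one, mul_inv_cancel, Units.val_one]
  obtain ⟨j, hj, hjk⟩ := K_roots K hK 11 (by norm_num) hkK h1 hk11m hk1m h1p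
  have h2 : n * k * n⁻¹ = k ^ j := Units.ext (by rw [Units.val_pow_eq_pow_val]; exact hjk.symm)
  set n' := g⁻¹ * n * g with hn'
  have h3 : n' * x * n'⁻¹ = x ^ j := by
    have e1 : n' * x * n'⁻¹ = g⁻¹ * (n * k * n⁻¹) * g := by rw [hn', hk]; group
    have e2 : x ^ j = g⁻¹ * k ^ j * g := by rw [hk, conj_pow]; group
    rw [e1, e2, h2]
  have h4 := gx_trace φ hF j hj (by
    rw [← hx, ← h3, Units.val_mul, Units.val_mul]
    exact Matrix.trace_units_conj n' _)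
  obtain ⟨i, hi⟩ := exists_gy_conj φ hF j h4
  rw [← hx] at hi
  set y := gy φ hF with hy
  set c' := (y ^ i)⁻¹ * n' with hc'
  have h5 : c' * x * c'⁻¹ = x := by
    have e : c' * x * c'⁻¹ = (y ^ i)⁻¹ * (n' * x * n'⁻¹) * (y ^ i) := by rw [hc']; group
    rw [e, h3, ← hi]; group
  have h5' : c' * x = x * c' := mul_inv_eq_iff_eq_mul.mp h5
  have hn'S : n' ∈ SUg F := (SUg F).mul_mem ((SUg F).mul_mem ((SUg F).inv_mem hg) hnS) hg
  have hc'S : c' ∈ SUg F :=
    (SUg F).mul_mem ((SUg F).inv_mem ((SUg F).pow_mem (gy_mem φ hF) i)) hn'S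
  obtain ⟨a, ha⟩ := gx_cyclic φ hF (c' : Matrix (Fin 5) (Fin 5) F)
    (by rw [← hx, ← Units.val_mul, ← Units.val_mul, h5'])
  rw [← hx] at ha
  set c := g * c' * g⁻¹ with hc
  have hcm : (c : Matrix (Fin 5) (Fin 5) F) =
      ∑ l : Fin 5, a l • (k : Matrix (Fin 5) (Fin 5) F) ^ (l : ℕ) := by
    rw [hc, Units.val_mul, Units.val_mul, ha, Finset.mul_sum, Finset.sum_mul]
    refine Finset.sum_congr rfl fun l _ => ?_
    rw [Matrix.mul_smul, Matrix.smul_mul]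
    congr 1
    rw [← Units.val_pow_eq_pow_val, ← Units.val_pow_eq_pow_val, ← Units.val_mul, ← Units.val_mul,
      hk, conj_pow]
  have hcK : (c : Matrix (Fin 5) (Fin 5) F) ∈ K := by
    rw [hcm]
    exact K.sum_mem fun l _ => K.smul_mem (K.pow_mem hkK _) _
  have hcS : c ∈ SUg F := (SUg F).mul_mem ((SUg F).mul_mem hg hc'S) ((SUg F).inv_mem hg)
  have h33 := pow33 hF k c hkS.1 hk11 hcS.1 a hcm
  obtain ⟨b, hb⟩ := eq_pow_of_pow33 hF (φ F4.w) (w_root_F φ) K hK k c hkK hk11 hk1 hcK hcS.2 h33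
  have hc'x : c' = x ^ b := by
    have e : c' = g⁻¹ * c * g := by rw [hc]; group
    rw [e, hb, hk, conj_pow]; group
  have e : n' = y ^ i * c' := by rw [hc']; group
  rw [e, hc'x]
  exact (L0 φ).mul_mem ((L0 φ).pow_mem (gy_mem_L0 φ hF) i) ((L0 φ).pow_mem (gx_mem_L0 φ hF) b)

end main


/-! ## Non-maximality, given the two abstract inputs (leaves A and B) -/

theorem not_maximal_of_leaves (hF : Fintype.card F = 2 ^ 2)
    (K : Subalgebra F (Matrix (Fin 5) (Fin 5) F)) (hK : IsFieldSubalgebra 5 K)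
    (hA : ∃ k : GL (Fin 5) F, (k : Matrix (Fin 5) (Fin 5) F) ∈ K ∧ k ^ 11 = 1 ∧ k ≠ 1 ∧ k ∈ SUg F)
    (hB : ∀ a b : GL (Fin 5) F, a ∈ SUg F → b ∈ SUg F → a ^ 11 = 1 → a ≠ 1 → b ^ 11 = 1 → b ≠ 1 →
      ∃ g ∈ SUg F, ∃ j : ℕ, g * a * g⁻¹ = b ^ j) :
    ¬ IsMaximalIn (SUg F) (subalgebraNormalizer K ⊓ SUg F) := by
  have hcard : Fintype.card F4 = Fintype.card F := by rw [F4.card_eq, hF]; norm_num
  set φ : F4 →+* F := (FiniteField.ringEquivOfCardEq hcard).toRingHom with hφ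
  obtain ⟨k₁, hk₁K, hk₁11, hk₁1, hk₁S⟩ := hA
  obtain ⟨g, hg, j, hgj⟩ := hB (gx φ hF) k₁ (gx_mem φ hF) hk₁S (gx_pow φ hF) (gx_ne_one φ hF) hk₁11 hk₁1
  have hkK : ((g * gx φ hF * g⁻¹ : GL (Fin 5) F) : Matrix (Fin 5) (Fin 5) F) ∈ K := by
    rw [hgj, Units.val_pow_eq_pow_val]
    exact K.pow_mem hk₁K j
  rintro ⟨_, hmax⟩
  set L : Subgroup (GL (Fin 5) F) := (L0 φ).comap (MulAut.conj g⁻¹).toMonoidHom with hL
  have hmemL : ∀ m : GL (Fin 5) F, m ∈ L ↔ g⁻¹ * m * g ∈ L0 φ := by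
    intro m
    rw [hL, Subgroup.mem_comap]
    simp
  have hNL : subalgebraNormalizer K ⊓ SUg F ≤ L := fun n hn => by
    rw [hmemL]
    exact normalizer_le φ hF K hK g hg hkK n hn.1 hn.2
  have hLS : L ≤ SUg F := fun m hm => by
    have h1 := L0_le φ ((hmemL m).mp hm)
    have e : m = g * (g⁻¹ * m * g) * g⁻¹ := by group
    rw [e]
    exact (SUg F).mul_mem ((SUg F).mul_mem hg h1) ((SUg F).inv_mem hg)
  rcases hmax L hNL hLS with h | h
  · -- `L = N`: then `g w g⁻¹` normalises `K`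
    have hwL : g * gw φ hF * g⁻¹ ∈ L := by
      rw [hmemL]
      have e : g⁻¹ * (g * gw φ hF * g⁻¹) * g = gw φ hF := by group
      rw [e]
      exact gw_mem_L0 φ hF
    rw [h] at hwL
    have hwN : ∀ m : Matrix (Fin 5) (Fin 5) F, m ∈ K ↔
        ((g * gw φ hF * g⁻¹ : GL (Fin 5) F) : Matrix (Fin 5) (Fin 5) F) * m *
          (((g * gw φ hF * g⁻¹)⁻¹ : GL (Fin 5) F) : Matrix (Fin 5) (Fin 5) F) ∈ K := hwL.1
    have h1 := (hwN _).mp hkK
    have h2 := hK.comm _ h1 _ hkK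
    rw [← Units.val_mul, ← Units.val_mul, ← Units.val_mul, ← Units.val_mul] at h2
    have h3 := Units.ext h2
    apply gw_gx φ hF
    have e1 : gw φ hF * gx φ hF * (gw φ hF)⁻¹ * gx φ hF =
        g⁻¹ * (g * gw φ hF * g⁻¹ * (g * gx φ hF * g⁻¹) * (g * gw φ hF * g⁻¹)⁻¹ *
          (g * gx φ hF * g⁻¹)) * g := by group
    have e2 : gx φ hF * (gw φ hF * gx φ hF * (gw φ hF)⁻¹) =
        g⁻¹ * (g * gx φ hF * g⁻¹ * (g * gw φ hF * g⁻¹ * (g * gx φ hF * g⁻¹) *
          (g * gw φ hF * g⁻¹)⁻¹)) * g := by group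
    rw [e1, e2, h3]
  · -- `L = SU`: then `t ∈ L0`
    apply gt_notMem_L0 φ hF
    have h1 : g * gt φ hF * g⁻¹ ∈ SUg F :=
      (SUg F).mul_mem ((SUg F).mul_mem hg (gt_mem φ hF)) ((SUg F).inv_mem hg)
    rw [← h, hmemL] at h1
    have e : g⁻¹ * (g * gt φ hF * g⁻¹) * g = gt φ hF := by group
    rwa [e] at h1

end Cfsg.Agent.Lib.Helper59.SU5X
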