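import Mathlib
import Cfsg.Prelude.Def_GeometricClasses
import Cfsg.Agent.Lib.Helper59.SU5XMain
import Cfsg.Agent.Lib.Helper30.SU5XA
import Cfsg.Agent.Lib.Helper82.SU5XB

/-!
# `SU_5(2)`: the field-extension normaliser `11:5` is not maximal (it lies in `L_2(11)`)
-/

set_option autoImplicit false

namespace Cfsg.Agent.Lib.Helper59.SU5X

open Cfsg Cfsg.Geo Matrix
open scoped MatrixGroups

variable {F : Type*} [Field F] [Fintype F]

/-- For `q = 2` the normaliser in `SU_5(2)` of an adjoint-closed degree-5 field subalgebra is not maximal. -/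
theorem fieldNormalizer_not_maximal (hF : Fintype.card F = 2 ^ 2)
    (K : Subalgebra F (Matrix (Fin 5) (Fin 5) F)) (hK : IsFieldSubalgebra 5 K)
    (hadj : IsAdjointClosedFor (hermForm 5 F 2) K) :
    ¬ IsMaximalIn (GU 5 F 2 ⊓ specialLinear (Fin 5) F)
      (subalgebraNormalizer K ⊓ (GU 5 F 2 ⊓ specialLinear (Fin 5) F)) :=
  not_maximal_of_leaves hF K hK
    (Cfsg.Agent.Lib.Helper30.SU5X.exists_order_eleven_mem_SU hF K hK hadj)
    (fun a b ha hb ha11 ha1 hb11 hb1 =>
      Cfsg.Agent.Lib.Helper82.SU5X.exists_conj_eq_pow_of_order_eleven hF _ a b ha hb ha11 ha1 hb11 hb1)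

end Cfsg.Agent.Lib.Helper59.SU5X
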