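import Mathlib
import Cfsg.Agent.Lib.Helper59.Q8Action
import Cfsg.Agent.Lib.Helper59.DihedralSimple
import Cfsg.Agent.Lib.Helper61.SolvableCore

set_option autoImplicit false

namespace Cfsg.Agent.Lib.Helper59

open Cfsg.Agent.Lib.Helper12
open Cfsg.Agent.Lib.Helper78

variable {G : Type*} [Group G]

/-- every subgroup of a dihedral (order at least `8`) or quasi-dihedral Sylow `2`-subgroup has a
`2`-group of automorphisms, or is a four-group, or is quaternion of order `8` -/
theorem sylow_sub_trichotomy [Finite G] (T : Sylow 2 G)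
    (hT : (∃ n : ℕ, 4 ≤ n ∧ Nonempty (↥(T : Subgroup G) ≃* DihedralGroup n)) ∨
      Cfsg.IsQuasiDihedral ↥(T : Subgroup G))
    (H : Subgroup G) (hHT : H ≤ T) :
    IsPGroup 2 (MulAut H) ∨ IsKleinFour H ∨ Nonempty (H ≃* QuaternionGroup 2) := by
  have hf2 : Fact (Nat.Prime 2) := ⟨Nat.prime_two⟩
  rcases hT with ⟨n, hn, ⟨eT⟩⟩ | hT
  · have hcard : Nat.card (T : Subgroup G) = 2 * n := by
      rw [Nat.card_congr eT.toEquiv, DihedralGroup.nat_card]
    obtain ⟨m, hm⟩ := T.2.exists_card_eq
    have hm1 : m ≠ 0 := by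
      rintro rfl
      rw [hcard, pow_zero] at hm
      omega
    obtain ⟨m', rfl⟩ : ∃ m', m = m' + 1 := ⟨m - 1, by omega⟩
    have hn' : n = 2 ^ m' := by
      rw [hcard, pow_succ] at hm
      omega
    subst hn'
    rcases m' with _ | _ | k
    · norm_num at hn
    · norm_num at hn
    · obtain ⟨j, hj, -⟩ := exists_dih_embedding T k eT
      have e := equivHj T j hj H hHT
      rcases (qdModel_QD k).sub_trichotomy (Hj T j H) with h1 | h1 | ⟨⟨e1⟩⟩
      · left; exact h1.of_equiv (MulAut.congr e.symm)
      · right; left; exact Cfsg.Agent.S1203.isKleinFour_of_mulEquiv e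
      · right; right; exact ⟨e.trans e1⟩
  · obtain ⟨k, x, y, h⟩ := exists_QD_of_isQuasiDihedral hT
    have : Finite (T : Subgroup G) := inferInstance
    have e := Subgroup.subgroupOfEquivOfLe hHT
    rcases h.sub_trichotomy (H.subgroupOf (T : Subgroup G)) with h1 | h1 | ⟨⟨e1⟩⟩
    · left; exact h1.of_equiv (MulAut.congr e)
    · right; left; exact Cfsg.Agent.S1203.isKleinFour_of_mulEquiv e.symm
    · right; right; exact ⟨e.symm.trans e1⟩

/-- a finite group all of whose elements are killed by `2 ^ k` is a `2`-group; packaged: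
if `G` is a `2`-group then a Sylow `2`-subgroup is everything -/
theorem sylow_eq_top_of_isPGroup (T : Sylow 2 G) (h : IsPGroup 2 G) : (T : Subgroup G) = ⊤ := by
  have h1 : IsPGroup 2 (⊤ : Subgroup G) := h.to_subgroup _
  exact (T.is_maximal' h1 le_top).symm

theorem card_sylow_ge_eight [Finite G] (T : Sylow 2 G)
    (hT : (∃ n : ℕ, 4 ≤ n ∧ Nonempty (↥(T : Subgroup G) ≃* DihedralGroup n)) ∨
      Cfsg.IsQuasiDihedral ↥(T : Subgroup G)) : 8 ≤ Nat.card (T : Subgroup G) := by
  rcases hT with ⟨n, hn, ⟨eT⟩⟩ | ⟨n, hn, hcard, -⟩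
  · rw [Nat.card_congr eT.toEquiv, DihedralGroup.nat_card]; omega
  · rw [hcard]
    calc 8 = 2 ^ 3 := by norm_num
      _ ≤ 2 ^ (n + 1) := Nat.pow_le_pow_right (by norm_num) (by omega)

theorem card_eq_of_le_relIndex {H K : Subgroup G} (hHK : H ≤ K) :
    Nat.card H * H.relIndex K = Nat.card K := by
  rw [Subgroup.relIndex, ← (H.subgroupOf K).card_mul_index,
    Nat.card_congr (Subgroup.subgroupOfEquivOfLe hHK).toEquiv]

/-- a solvable group with trivial odd core, dihedral or quasi-dihedral Sylow `2`-subgroup `T ≠ G`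
whose centre is normal has a normal subgroup isomorphic to `SL(2,3)` -/
theorem exists_normal_SL23 [Finite G] (hsol : Group.IsSolvable G) (hO : Cfsg.pPrimeCore 2 G = ⊥)
    (T : Sylow 2 G)
    (hT : (∃ n : ℕ, 4 ≤ n ∧ Nonempty (↥(T : Subgroup G) ≃* DihedralGroup n)) ∨
      Cfsg.IsQuasiDihedral ↥(T : Subgroup G))
    (hne : (T : Subgroup G) ≠ ⊤)
    (hZ : ((T : Subgroup G) ⊓ Subgroup.centralizer ((T : Subgroup G) : Set G)).Normal) :
    ∃ U : Subgroup G, U.Normal ∧
      Nonempty (↥U ≃* Matrix.SpecialLinearGroup (Fin 2) (ZMod 3)) := by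
  have hf2 : Fact (Nat.Prime 2) := ⟨Nat.prime_two⟩
  have hQn : (Cfsg.pCore 2 G).Normal := inferInstance
  have hQp : IsPGroup 2 (Cfsg.pCore 2 G) := Cfsg.Agent.Lib.Helper61.pCore_isPGroup 2 G
  have hQT : Cfsg.pCore 2 G ≤ T := Cfsg.Agent.Lib.Helper61.pCore_le_sylow T
  have hCQ := Cfsg.Agent.Lib.Helper61.centralizer_pCore_le 2 hsol hO
  have hnot2 : ¬ IsPGroup 2 G := fun h => hne (sylow_eq_top_of_isPGroup T h)
  have hT8 := card_sylow_ge_eight T hT
  generalize Cfsg.pCore 2 G = Q at hQn hQp hQT hCQ
  rcases sylow_sub_trichotomy T hT Q hQT with hA | hK | ⟨⟨e⟩⟩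
  · -- the automorphism group of `Q` is a `2`-group
    exfalso; apply hnot2
    have hfin : Finite (MulAut Q) :=
      Finite.of_injective (fun f : MulAut Q => (f : Q → Q)) DFunLike.coe_injective
    have h1 := Cfsg.Agent.Lib.Helper61.index_centralizer_dvd_card_mulAut Q
    obtain ⟨a, ha⟩ := IsPGroup.iff_card.mp hA
    rw [ha] at h1
    obtain ⟨j, -, hj⟩ := (Nat.dvd_prime_pow Nat.prime_two).mp h1
    exact Cfsg.Agent.Lib.Helper61.isPGroup_of_index_pow 2 _ (hQp.to_le hCQ) j hj
  · -- `Q` is a four-group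
    exfalso; apply hnot2
    have hZC : (T : Subgroup G) ⊓ Subgroup.centralizer ((T : Subgroup G) : Set G) ≤
        Subgroup.centralizer (Q : Set G) :=
      fun a ha => Subgroup.centralizer_le hQT ha.2
    have hZQ := le_trans hZC hCQ
    generalize hZdef : (T : Subgroup G) ⊓ Subgroup.centralizer ((T : Subgroup G) : Set G) = Z
      at hZ hZC hZQ
    have hQ4 : Nat.card Q = 4 := hK.card_four
    have hfinQ : Finite Q := IsKleinFour.instFinite
    -- `Z ≠ ⊥`
    have hTnt : Nontrivial (T : Subgroup G) := by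
      rw [← Finite.one_lt_card_iff_nontrivial]; omega
    have hcnt := IsPGroup.center_nontrivial T.2
    obtain ⟨c, hc⟩ := exists_ne (1 : Subgroup.center (T : Subgroup G))
    have hcZ : ((c : (T : Subgroup G)) : G) ∈ Z := by
      rw [← hZdef]
      refine Subgroup.mem_inf.mpr ⟨(c : (T : Subgroup G)).2, ?_⟩
      rw [Subgroup.mem_centralizer_iff]
      intro t ht
      have := (Subgroup.mem_center_iff.mp c.2) ⟨t, ht⟩
      exact congrArg Subtype.val this
    have hc1 : ((c : (T : Subgroup G)) : G) ≠ 1 := by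
      intro h0
      apply hc
      apply Subtype.ext
      apply Subtype.ext
      exact h0
    -- `Z ≠ Q`
    have hZneQ : Z ≠ Q := by
      intro h0
      have h1 : (T : Subgroup G) ≤ Subgroup.centralizer (Q : Set G) := by
        intro t ht
        rw [Subgroup.mem_centralizer_iff]
        intro x hx
        rw [← h0, ← hZdef] at hx
        exact ((Subgroup.mem_centralizer_iff.mp hx.2) t ht).symm
      have h2 : (T : Subgroup G) ≤ Q := le_trans h1 hCQ
      have h3 := Nat.card_le_card_of_injective _ (Subgroup.inclusion_injective h2)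
      omega
    -- `|Z| = 2`
    have hZ2 : Nat.card Z = 2 := by
      have hd : Nat.card Z ∣ 4 := by rw [← hQ4]; exact Subgroup.card_dvd_of_le hZQ
      have h1 : Nat.card Z ≠ 1 := by
        intro h0
        rw [Subgroup.card_eq_one] at h0
        rw [h0] at hcZ
        exact hc1 (Subgroup.mem_bot.mp hcZ)
      have h4 : Nat.card Z ≠ 4 := by
        intro h0
        apply hZneQ
        exact Subgroup.eq_of_le_of_card_ge hZQ (by rw [h0, hQ4])
      have hle := Nat.le_of_dvd (by norm_num) hd
      interval_cases hcz : Nat.card Z <;> simp_all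
    set z : G := ((c : (T : Subgroup G)) : G) with hz
    have hZall : ∀ x ∈ Z, x = 1 ∨ x = z := by
      intro x hx
      obtain ⟨y, hy, hyu⟩ := (Nat.card_eq_two_iff' (1 : Z)).mp hZ2
      by_cases hx1 : x = 1
      · left; exact hx1
      right
      have h1 : (⟨x, hx⟩ : Z) = y := hyu _ (fun h0 => hx1 (congrArg Subtype.val h0))
      have h2 : (⟨z, hcZ⟩ : Z) = y := hyu _ (fun h0 => hc1 (congrArg Subtype.val h0))
      exact congrArg Subtype.val (h1.trans h2.symm)
    have hzfix : ∀ g : G, g * z * g⁻¹ = z := by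
      intro g
      have h1 := hZ.conj_mem z hcZ g
      rcases hZall _ h1 with h2 | h2
      · exfalso; apply hc1
        have : z = g⁻¹ * (g * z * g⁻¹) * g := by group
        rw [this, h2]; group
      · exact h2
    have hzQ : z ∈ Q := hZQ hcZ
    obtain ⟨b, hbQ, hb1, hzb, hall⟩ := exists_second_gen_of_kleinFour Q hzQ hc1
    have hzz : z * z = 1 := mul_self_of_mem_kleinFour Q hzQ
    have hbfix : ∀ g : G, g * b * g⁻¹ = b ∨ g * b * g⁻¹ = z * b := by
      intro g
      have h1 := hQn.conj_mem b hbQ g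
      rcases (hall _).mp h1 with h2 | h2 | h2 | h2
      · exfalso; apply hb1
        have : b = g⁻¹ * (g * b * g⁻¹) * g := by group
        rw [this, h2]; group
      · exfalso; apply hzb
        have : b = g⁻¹ * (g * b * g⁻¹) * g := by group
        rw [this, h2]
        have := hzfix g⁻¹
        rw [inv_inv] at this
        exact this.symm
      · left; exact h2
      · right; exact h2
    intro g
    refine ⟨2, ?_⟩
    have hgg : g * g ∈ Subgroup.centralizer (Q : Set G) := by
      have hb2 : (g * g) * b * (g * g)⁻¹ = b := by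
        have e1 : (g * g) * b * (g * g)⁻¹ = g * (g * b * g⁻¹) * g⁻¹ := by group
        rw [e1]
        rcases hbfix g with h1 | h1
        · rw [h1, h1]
        · rw [h1]
          have e2 : g * (z * b) * g⁻¹ = (g * z * g⁻¹) * (g * b * g⁻¹) := by group
          rw [e2, hzfix, h1, ← mul_assoc, hzz, one_mul]
      have hz2 : (g * g) * z * (g * g)⁻¹ = z := hzfix (g * g)
      rw [Subgroup.mem_centralizer_iff]
      intro x hx
      have key : (g * g) * x * (g * g)⁻¹ = x := by
        rcases (hall x).mp hx with rfl | rfl | rfl | rfl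
        · group
        · exact hz2
        · exact hb2
        · have e2 : (g * g) * (z * b) * (g * g)⁻¹ =
              ((g * g) * z * (g * g)⁻¹) * ((g * g) * b * (g * g)⁻¹) := by group
          rw [e2, hz2, hb2]
      calc x * (g * g) = ((g * g) * x * (g * g)⁻¹) * (g * g) := by rw [key]
        _ = (g * g) * x := by group
    have h4 := mul_self_of_mem_kleinFour Q (hCQ hgg)
    calc g ^ 2 ^ 2 = (g * g) * (g * g) := by
          show g ^ 4 = _
          simp [pow_succ, mul_assoc]
      _ = 1 := h4
  · -- `Q` is quaternion of order `8`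
    have h8 : Nat.card Q = 8 := by
      rw [Nat.card_congr e.toEquiv, Nat.card_eq_fintype_card, QuaternionGroup.card]
    have hfinQ : Finite Q := Nat.finite_of_card_ne_zero (by rw [h8]; norm_num)
    obtain ⟨r, hr, hrd, hr2⟩ : ∃ r : ℕ, r.Prime ∧ r ∣ Nat.card G ∧ r ≠ 2 := by
      by_contra hcon
      push Not at hcon
      apply hnot2
      have hpos : Nat.card G ≠ 0 := Nat.card_pos.ne'
      have := Nat.eq_prime_pow_of_unique_prime_dvd hpos (fun {d} hd hdd => hcon d hd hdd)
      exact IsPGroup.of_card this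
    have hfr : Fact r.Prime := ⟨hr⟩
    obtain ⟨g, hg⟩ := exists_prime_orderOf_dvd_card' r hrd
    have hgC : g ∉ Subgroup.centralizer (Q : Set G) := by
      intro hc
      have hgQ := hCQ hc
      have hd : orderOf g ∣ 8 := by
        have := orderOf_dvd_natCard (⟨g, hgQ⟩ : Q)
        rw [Subgroup.orderOf_mk, h8] at this
        exact this
      rw [hg] at hd
      have : r ∣ 2 ^ 3 := by norm_num; exact hd
      exact hr2 ((Nat.prime_dvd_prime_iff_eq hr Nat.prime_two).mp (hr.dvd_of_dvd_pow this))
    have hr3 : r = 3 := by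
      have hfin : Finite (MulAut Q) :=
        Finite.of_injective (fun f : MulAut Q => (f : Q → Q)) DFunLike.coe_injective
      have hne1 : (MulAut.conjNormal g : MulAut Q) ≠ 1 := by
        intro h1
        apply hgC
        rw [Subgroup.mem_centralizer_iff]
        intro x hx
        have h2 : (MulAut.conjNormal g : MulAut Q) ⟨x, hx⟩ = ⟨x, hx⟩ := by
          rw [h1, MulAut.one_apply]
        have h3 := congrArg Subtype.val h2
        rw [MulAut.conjNormal_apply] at h3
        calc x * g = (g * x * g⁻¹) * g := by rw [h3]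
          _ = g * x := by group
      have hord : orderOf (MulAut.conjNormal g : MulAut Q) ∣ r := by
        rw [← hg]; exact orderOf_map_dvd _ g
      have hor : orderOf (MulAut.conjNormal g : MulAut Q) = r := by
        rcases (Nat.dvd_prime hr).mp hord with h | h
        · exact absurd (orderOf_eq_one_iff.mp h) hne1
        · exact h
      have h24 : orderOf (MulAut.conjNormal g : MulAut Q) ∣ 24 := by
        rw [← card_mulAut_q8 Q e]; exact orderOf_dvd_natCard _
      rw [hor] at h24
      have : r ∣ 2 ^ 3 * 3 := by norm_num; exact h24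
      rcases (Nat.Prime.dvd_mul hr).mp this with h | h
      · exact absurd ((Nat.prime_dvd_prime_iff_eq hr Nat.prime_two).mp (hr.dvd_of_dvd_pow h)) hr2
      · exact (Nat.prime_dvd_prime_iff_eq hr Nat.prime_three).mp h
    subst hr3
    have hg3 : g ^ 3 = 1 := by rw [← hg]; exact pow_orderOf_eq_one g
    obtain ⟨i, j, hi, hj, hbt⟩ := exists_bttriple_of_q8 Q e g hg3 hgC
    have hQU : Q ≤ Q ⊔ Subgroup.zpowers g := le_sup_left
    have hgU : g ∈ Q ⊔ Subgroup.zpowers g := (le_sup_right : Subgroup.zpowers g ≤ _)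
      (Subgroup.mem_zpowers g)
    have hinf : Subgroup.zpowers g ⊓ Q = ⊥ := by
      apply (Subgroup.disjoint_of_coprime_natCard _).eq_bot
      rw [h8, Nat.card_zpowers, hg]; norm_num
    have hrel : Q.relIndex (Q ⊔ Subgroup.zpowers g) = 3 := by
      rw [Subgroup.relIndex_sup_left, ← Subgroup.inf_relIndex_left, hinf,
        Subgroup.relIndex_bot_left, Nat.card_zpowers, hg]
    have hcardU : Nat.card ↥(Q ⊔ Subgroup.zpowers g) = 24 := by
      rw [← card_eq_of_le_relIndex hQU, hrel, h8]
    have hQidx : Q.index ∣ 6 := by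
      have hfin : Finite (MulAut Q) :=
        Finite.of_injective (fun f : MulAut Q => (f : Q → Q)) DFunLike.coe_injective
      have h1 := relIndex_sup_centralizer_normalizer Q
      have h2 : Q ⊔ Subgroup.centralizer (Q : Set G) = Q := sup_eq_left.mpr hCQ
      have h3 : Q.relIndex (Subgroup.normalizer (Q : Set G)) = Q.index := by
        rw [Subgroup.normalizer_eq_top, Subgroup.relIndex_top_right]
      rw [h2, h3] at h1
      rw [h1, ← index_innSub_q8 Q e]
      exact Subgroup.card_subgroup_dvd_card _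
    have hUidx : (Q ⊔ Subgroup.zpowers g).index ∣ 2 := by
      have h1 := Subgroup.relIndex_mul_index hQU
      rw [hrel] at h1
      rw [← h1] at hQidx
      exact (Nat.mul_dvd_mul_iff_left (by norm_num : 0 < 3)).mp hQidx
    have hUn : (Q ⊔ Subgroup.zpowers g).Normal := by
      rcases (Nat.dvd_prime Nat.prime_two).mp hUidx with h | h
      · rw [Subgroup.index_eq_one] at h
        rw [h]; infer_instance
      · exact Subgroup.normal_of_index_eq_two h
    refine ⟨_, hUn, ?_⟩
    have hbtU : BTTriple (⟨i, hQU hi⟩ : ↥(Q ⊔ Subgroup.zpowers g)) ⟨j, hQU hj⟩ ⟨g, hgU⟩ := by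
      constructor
      · rw [Subgroup.orderOf_mk]; exact hbt.hi
      · apply Subtype.ext; exact hbt.hjj
      · apply Subtype.ext; exact hbt.hji
      · apply Subtype.ext; exact hbt.hwi
      · apply Subtype.ext; exact hbt.hwj
      · apply Subtype.ext; exact hbt.hw3
    exact nonempty_mulEquiv_SL23 hbtU hcardU

end Cfsg.Agent.Lib.Helper59
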