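import Mathlib
import Cfsg.Prelude.Def_GeometricClasses
import Cfsg.Prelude.Def_ClassicalGeometry
import Cfsg.Agent.Lib.Helper79.SpUDefs
import Cfsg.Agent.Lib.Helper79.SpUTools
import Cfsg.Agent.Lib.Helper49.SpSemiMain
import Cfsg.Agent.Lib.Helper49.SpSemiConj
import Cfsg.Agent.Lib.Helper49.RecipFactor
import Cfsg.Agent.Lib.Helper49.LagrFix
import Cfsg.Agent.Lib.Helper49.PrimeOrderSp
import Cfsg.Agent.Lib.Helper49.PrimeOrderSpCount
import Cfsg.Agent.Lib.Helper50.SpTransvCent
import Cfsg.Agent.S2568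

set_option autoImplicit false
set_option linter.style.haveILetI false
set_option linter.unusedVariables false
set_option maxHeartbeats 1600000

namespace Cfsg.Agent.Lib.Helper59.SpU

open Polynomial Module Cfsg.Agent.Lib.Helper49

section Core

variable {F : Type*} [Field F] {V : Type*} [AddCommGroup V] [Module F V]

/-- `g(A)^(q^k) = g(A^(q^k))` for an operator `A` (noncommutative target) -/
theorem aeval_pow_card_pow_end [Fintype F] (A : Module.End F V) (P : F[X]) (k : ℕ) :
    aeval (A ^ (Fintype.card F ^ k)) P = (aeval A P) ^ (Fintype.card F ^ k) := by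
  induction k generalizing A with
  | zero => simp
  | succ k ih =>
    rw [pow_succ, pow_mul, pow_mul, ← ih, ← expand_aeval, FiniteField.expand_card, map_pow]

theorem aeval_comm_apply (A : Module.End F V) (g h : F[X]) (v : V) :
    aeval A g (aeval A h v) = aeval A h (aeval A g v) := by
  rw [← Module.End.mul_apply, ← Module.End.mul_apply, ← map_mul, ← map_mul, mul_comm]

/-- the kernel of an irreducible polynomial of the right degree is cyclic -/
theorem exists_aeval_eq [FiniteDimensional F V] (A : Module.End F V) (P : F[X]) (hP : Irreducible P)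
    (hdim : finrank F (LinearMap.ker (aeval A P)) = P.natDegree) (u₀ : V)
    (hu₀ : u₀ ∈ LinearMap.ker (aeval A P)) (hne : u₀ ≠ 0) :
    ∀ u ∈ LinearMap.ker (aeval A P), ∃ h : F[X], u = aeval A h u₀ := by
  classical
  set n := P.natDegree with hn
  set U := LinearMap.ker (aeval A P) with hU
  have hmem : ∀ h : F[X], aeval A h u₀ ∈ U := by
    intro h
    rw [hU, LinearMap.mem_ker, aeval_comm_apply, LinearMap.mem_ker.mp hu₀, map_zero]
  let Φ₀ : F[X] →ₗ[F] V := (LinearMap.applyₗ u₀).comp (aeval A).toLinearMap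
  have hΦ₀ : ∀ h, Φ₀ h = aeval A h u₀ := fun h => rfl
  let Φ : degreeLT F n →ₗ[F] U :=
    LinearMap.codRestrict U (Φ₀.comp (degreeLT F n).subtype) (fun h => hmem h.1)
  have hΦ : ∀ h : degreeLT F n, ((Φ h : U) : V) = aeval A (h : F[X]) u₀ := fun h => rfl
  have hinj : Function.Injective Φ := by
    rw [← LinearMap.ker_eq_bot, LinearMap.ker_eq_bot']
    intro h hh
    have h0 : aeval A (h : F[X]) u₀ = 0 := by
      rw [← hΦ, hh]; rfl
    by_contra hne0
    have hh0 : (h : F[X]) ≠ 0 := fun h1 => hne0 (Subtype.ext h1)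
    have hdeg : (h : F[X]).degree < n := mem_degreeLT.mp h.2
    have hnd : ¬ P ∣ (h : F[X]) := by
      intro hd
      have h1 := Polynomial.degree_le_of_dvd hd hh0
      have h2 : P.degree = n := by
        rw [hn]; exact Polynomial.degree_eq_natDegree hP.ne_zero
      rw [h2] at h1
      exact absurd (lt_of_le_of_lt h1 hdeg) (lt_irrefl _)
    obtain ⟨s, t, hst⟩ := (hP.coprime_iff_not_dvd).mpr hnd
    apply hne
    have h1 : aeval A (s * P + t * (h : F[X])) u₀ = u₀ := by
      rw [hst, map_one, Module.End.one_apply]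
    rw [map_add, LinearMap.add_apply, map_mul, map_mul, Module.End.mul_apply, Module.End.mul_apply,
      LinearMap.mem_ker.mp hu₀, h0, map_zero, map_zero, add_zero] at h1
    exact h1.symm
  have hfr : finrank F (degreeLT F n) = finrank F U := by
    rw [hdim, LinearEquiv.finrank_eq (degreeLTEquiv F n), Module.finrank_fin_fun]
  have hsurj : Function.Surjective Φ :=
    (LinearMap.injective_iff_surjective_of_finrank_eq_finrank hfr).mp hinj
  intro u hu
  obtain ⟨h, hh⟩ := hsurj ⟨u, hu⟩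
  refine ⟨h, ?_⟩
  rw [← hΦ, hh]

theorem comm_aeval (a A : Module.End F V) (h : a * A = A * a) (g : F[X]) :
    a * aeval A g = aeval A g * a := by
  have hc : Commute a A := h
  induction g using Polynomial.induction_on' with
  | add p q hp hq => rw [map_add, mul_add, add_mul, hp, hq]
  | monomial n c =>
    rw [aeval_monomial]
    have h1 : Commute a (A ^ n) := hc.pow_right n
    have h2 : Commute a (algebraMap F (Module.End F V) c) := Algebra.commute_algebraMap_right c a
    exact (h2.mul_right h1).eq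

theorem comm_aeval_apply (a A : Module.End F V) (h : a * A = A * a) (g : F[X]) (v : V) :
    a (aeval A g v) = aeval A g (a v) := by
  rw [← Module.End.mul_apply, comm_aeval a A h g, Module.End.mul_apply]

/-- the adjoint argument: on the kernel `U` of a self-reciprocal irreducible factor of degree `dim U`,
an operator `a` commuting with `A` and fixed by the `q^m`-power map is self-adjoint, if `A⁻¹ = A^(q^m)` -/
theorem adjoint_eq_on_ker [Fintype F] [FiniteDimensional F V]
    (ω : LinearMap.BilinForm F V) (hN : ω.Nondegenerate)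
    (A B : Module.End F V) (hAB : ∀ v, A (B v) = v) (hI : FormInv ω A)
    (s : F[X]) (hs : Squarefree s) (hsA : aeval A s = 0)
    (m : ℕ) (hBm : B = A ^ (Fintype.card F ^ m))
    (P : F[X]) (hP : Irreducible P) (hdim : finrank F (LinearMap.ker (aeval A P)) = P.natDegree)
    (hPB : LinearMap.ker (aeval A P) ≤ LinearMap.ker (aeval B P))
    (a a' : Module.End F V) (haA : a * A = A * a) (ha'A : a' * A = A * a')
    (hadj : ∀ u v, ω (a u) v = ω u (a' v)) (hpow : a ^ (Fintype.card F ^ m) = a) :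
    ∀ u ∈ LinearMap.ker (aeval A P), a' u = a u := by
  classical
  set U := LinearMap.ker (aeval A P) with hU
  have hUpos : 0 < finrank F U := by
    rw [hdim]; exact hP.natDegree_pos
  obtain ⟨⟨u₀, hu₀⟩, hu₀ne⟩ := (Module.finrank_pos_iff_exists_ne_zero).mp hUpos
  have hu₀ne' : u₀ ≠ 0 := fun h => hu₀ne (Subtype.ext h)
  -- invariance
  have hinv : ∀ b : Module.End F V, b * A = A * b → ∀ u ∈ U, b u ∈ U := by
    intro b hb u hu
    rw [hU, LinearMap.mem_ker] at hu ⊢
    rw [← comm_aeval_apply b A hb, hu, map_zero]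
  have hinvT : ∀ g : F[X], ∀ u ∈ U, aeval A g u ∈ U := by
    intro g u hu
    rw [hU, LinearMap.mem_ker] at hu ⊢
    rw [aeval_comm_apply, hu, map_zero]
  -- `a` is a polynomial in `A` on `U`
  obtain ⟨g, hg⟩ := exists_aeval_eq A P hP hdim u₀ hu₀ hu₀ne' (a u₀) (hinv a haA u₀ hu₀)
  have haT : ∀ u ∈ U, a u = aeval A g u := by
    intro u hu
    obtain ⟨h, rfl⟩ := exists_aeval_eq A P hP hdim u₀ hu₀ hu₀ne' u hu
    rw [comm_aeval_apply a A haA, hg, aeval_comm_apply]
  have hpowT : ∀ k : ℕ, ∀ u ∈ U, (a ^ k) u = ((aeval A g) ^ k) u := by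
    intro k
    induction k with
    | zero => intro u _; simp
    | succ k ih =>
      intro u hu
      rw [pow_succ, pow_succ, Module.End.mul_apply, Module.End.mul_apply, haT u hu]
      exact ih _ (hinvT g u hu)
  -- self-adjointness of `a` on `U`
  have hself : ∀ u ∈ U, ∀ u' ∈ U, ω (a u) u' = ω u (a u') := by
    intro u hu u' hu'
    rw [haT u hu, hI.adj_aeval hAB g u u', hBm, aeval_pow_card_pow_end, ← hpowT _ u' hu', hpow]
  -- the difference
  have hc := isCompl_ker_range_aeval A s hs hsA P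
  intro u' hu'
  have hzU : a' u' - a u' ∈ U := U.sub_mem (hinv a' ha'A u' hu') (hinv a haA u' hu')
  have hz : a' u' - a u' = 0 := by
    apply hN.2
    intro v
    have hv := Submodule.projection_add_projection_eq_self hc v
    rw [← hv, map_add, LinearMap.add_apply]
    have h1 : ω (Submodule.projection _ _ hc v) (a' u' - a u') = 0 := by
      have hpu : (Submodule.projection _ _ hc v) ∈ U := Submodule.projection_apply_mem hc v
      rw [map_sub, ← hadj, hself _ hpu u' hu', sub_self]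
    have h2 : ω (Submodule.projection _ _ hc.symm v) (a' u' - a u') = 0 := by
      obtain ⟨w, hw⟩ := Submodule.projection_apply_mem hc.symm v
      rw [← hw, hI.adj_aeval hAB P w _, LinearMap.mem_ker.mp (hPB hzU), map_zero]
    rw [h1, h2, add_zero]
  exact sub_eq_zero.mp hz

end Core

section FieldSub

variable {F : Type*} [Field F]

/-- Fermat's little theorem in a quadratic field subalgebra -/
theorem pow_card_sq_of_mem {ι : Type} [Fintype ι] [DecidableEq ι] [Nonempty ι] [Fintype F]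
    (K : Subalgebra F (Matrix ι ι F)) (hK : Cfsg.Geo.IsFieldSubalgebra 2 K)
    {b : Matrix ι ι F} (hb : b ∈ K) : b ^ (Fintype.card F ^ 2) = b := by
  classical
  have hfield : IsField ↥K :=
    { exists_pair_ne := ⟨0, 1, by
        intro h
        have := congrArg Subtype.val h
        simp at this⟩
      mul_comm := fun a b => Subtype.ext (hK.comm a.1 a.2 b.1 b.2)
      mul_inv_cancel := by
        intro a ha
        obtain ⟨y, hy, hxy⟩ := hK.inv a.1 a.2 (fun h => ha (Subtype.ext h))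
        exact ⟨⟨y, hy⟩, Subtype.ext hxy⟩ }
  letI : Field ↥K := hfield.toField
  haveI : Fintype ↥K := Fintype.ofFinite _
  have h1 : Fintype.card ↥K = Fintype.card F ^ 2 := by
    rw [Module.card_eq_pow_finrank (K := F) (V := ↥K), hK.finrank_eq]
  have h2 := FiniteField.pow_card (⟨b, hb⟩ : ↥K)
  rw [h1] at h2
  have := congrArg Subtype.val h2
  simpa using this

theorem pow_card_sq_pow_of_mem {ι : Type} [Fintype ι] [DecidableEq ι] [Nonempty ι] [Fintype F]
    (K : Subalgebra F (Matrix ι ι F)) (hK : Cfsg.Geo.IsFieldSubalgebra 2 K)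
    {b : Matrix ι ι F} (hb : b ∈ K) (k : ℕ) : b ^ ((Fintype.card F ^ 2) ^ k) = b := by
  induction k with
  | zero => simp
  | succ k ih => rw [pow_succ, pow_mul, ih, pow_card_sq_of_mem K hK hb]

end FieldSub

section Main

open Cfsg Cfsg.Geo Cfsg.Agent.Lib.Helper79.SpU
open scoped Matrix MatrixGroups

variable {F : Type*} [Field F]

theorem dvd_pow_half_add_one (q r i : ℕ) [Fact r.Prime] (hi : i = orderOf (q : ZMod r)) (m : ℕ)
    (hm0 : 0 < m) (him : i = 2 * m) : r ∣ q ^ m + 1 := by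
  set y : ZMod r := (q : ZMod r) ^ m with hy
  have hy2 : y * y = 1 := by
    rw [hy, ← pow_add, ← two_mul, ← him, hi]
    exact pow_orderOf_eq_one _
  have hy1 : y ≠ 1 := by
    rw [hy]
    apply pow_ne_one_of_lt_orderOf hm0.ne'
    rw [← hi]; omega
  have hyn : y = -1 := by
    rcases mul_self_eq_one_iff.mp hy2 with h1 | h1
    · exact absurd h1 hy1
    · exact h1
  rw [← ZMod.natCast_eq_zero_iff, Nat.cast_add, Nat.cast_pow, Nat.cast_one, ← hy, hyn]
  ring

/-- **K-SpU-D** (keystone 597610). -/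
theorem derange_four [Fintype F] {p : ℕ} [Fact p.Prime] [CharP F p] {q : ℕ} (hq : Fintype.card F = q)
    (hodd : Odd q) (d : ℕ) (hd : 1 ≤ d)
    (K : Subalgebra F (Matrix (Fin d ⊕ Fin d) (Fin d ⊕ Fin d) F)) (hK : IsUType d K)
    (r : ℕ) [Fact r.Prime] (hr2 : r ≠ 2) (hrp : r ≠ p)
    (h4 : 4 ∣ orderOf (q : ZMod r)) (hed : orderOf (q : ZMod r) ≤ 2 * d) :
    ∃ x ∈ spGL d F, ((x ^ r : GL (Fin d ⊕ Fin d) F) : Matrix (Fin d ⊕ Fin d) (Fin d ⊕ Fin d) F) = 1 ∧
      (∀ z : F, (x : Matrix (Fin d ⊕ Fin d) (Fin d ⊕ Fin d) F) ≠ z • (1 : Matrix (Fin d ⊕ Fin d) (Fin d ⊕ Fin d) F)) ∧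
      ∀ g ∈ spGL d F, g⁻¹ * x * g ∉ subalgebraNormalizer K := by
  classical
  have hr : r.Prime := Fact.out
  have hp : p.Prime := Fact.out
  obtain ⟨f, _, hqf⟩ := FiniteField.card F p
  rw [hq] at hqf
  have hKc : Fintype.card F = p ^ (f : ℕ) := by rw [hq, hqf]
  obtain ⟨i, hi⟩ : ∃ i, i = orderOf ((q : ℕ) : ZMod r) := ⟨_, rfl⟩
  have hi' : i = orderOf ((p ^ (f : ℕ) : ℕ) : ZMod r) := by rw [hi, hqf]
  have D := Cfsg.Agent.S2568.factorData hKc r i hrp hi'
  rw [← hi] at h4 hed
  have hrF : (r : F) ≠ 0 := by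
    intro h0
    rw [CharP.cast_eq_zero_iff F p] at h0
    exact hrp ((Nat.prime_dvd_prime_iff_eq hp hr).mp h0).symm
  have hmon : ∀ P ∈ (UniqueFactorizationMonoid.normalizedFactors
      (Polynomial.cyclotomic r F)).toFinset, P.Monic := by
    intro P hP
    have hP1 := Multiset.mem_toFinset.mp hP
    rw [← UniqueFactorizationMonoid.normalize_normalized_factor P hP1]
    exact Polynomial.monic_normalize
      (UniqueFactorizationMonoid.irreducible_of_normalized_factor P hP1).ne_zero
  have hi2 : i = orderOf ((Fintype.card F : ℕ) : ZMod r) := by rw [hi, hq]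
  have hi1 : 1 ≤ i := D.hi
  obtain ⟨m', hm'⟩ := h4
  have hev : Even i := ⟨2 * m', by omega⟩
  -- a factor
  have hne : (UniqueFactorizationMonoid.normalizedFactors
      (Polynomial.cyclotomic r F)).toFinset.Nonempty := by
    rw [Finset.nonempty_iff_ne_empty]
    intro hempty
    have h1 := D.prod
    rw [hempty, Finset.prod_empty, mul_one] at h1
    have h2 := congrArg Polynomial.natDegree h1
    have e1 : (Polynomial.X - 1 : Polynomial F).natDegree = 1 := by
      rw [← Polynomial.C_1]; exact Polynomial.natDegree_X_sub_C 1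
    have e2 : (Polynomial.X ^ r - 1 : Polynomial F).natDegree = r := by
      rw [← Polynomial.C_1]; exact Polynomial.natDegree_X_pow_sub_C
    rw [e1, e2] at h2
    have := hr.two_le
    omega
  obtain ⟨P₀, hP₀⟩ := hne
  let a : ↥(UniqueFactorizationMonoid.normalizedFactors
      (Polynomial.cyclotomic r F)).toFinset → ℕ := fun P => if P = ⟨P₀, hP₀⟩ then 1 else 0
  have hsum : ∑ P, a P = 1 := by
    rw [Finset.sum_ite_eq' Finset.univ (⟨P₀, hP₀⟩ : ↥(UniqueFactorizationMonoid.normalizedFactors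
      (Polynomial.cyclotomic r F)).toFinset) (fun _ => 1)]
    simp
  have ha1 : i * ∑ P, a P ≤ 2 * d := by rw [hsum, mul_one]; exact hed
  have hPrev : ∀ P : ↥(UniqueFactorizationMonoid.normalizedFactors
      (Polynomial.cyclotomic r F)).toFinset, (P : Polynomial F).reverse = (P : Polynomial F) := by
    intro P
    haveI : Fact (Irreducible P.1) := ⟨D.irr P.1 P.2⟩
    apply Cfsg.Agent.Lib.Helper49.reverse_eq_self_of_starP_eq (hmon P.1 P.2)
      (Cfsg.Agent.Lib.Helper49.starP_eq_self_of_even (hmon P.1 P.2) hi2 (by omega) hev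
        (D.dvd_of_mem P.2)) hr.pos (D.dvd_of_mem P.2) (D.X_sub_one_not_dvd P.2)
  have hpal : ((Polynomial.X - 1 : Polynomial F) ^ (2 * d - i * ∑ P, a P) *
      ∏ P : ↥(UniqueFactorizationMonoid.normalizedFactors
      (Polynomial.cyclotomic r F)).toFinset, (P : Polynomial F) ^ a P).reverse =
      (Polynomial.X - 1 : Polynomial F) ^ (2 * d - i * ∑ P, a P) *
      ∏ P : ↥(UniqueFactorizationMonoid.normalizedFactors
      (Polynomial.cyclotomic r F)).toFinset, (P : Polynomial F) ^ a P := by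
    apply Cfsg.Agent.Lib.Helper49.palin_mul
    · apply Cfsg.Agent.Lib.Helper49.palin_X_sub_one_even
      rw [hsum, mul_one]
      obtain ⟨l, hl⟩ := hev
      exact ⟨d - l, by omega⟩
    · apply Cfsg.Agent.Lib.Helper49.palin_prod
      intro P _
      exact Cfsg.Agent.Lib.Helper49.palin_pow (hPrev P) _
  obtain ⟨x, hx, hκ⟩ := D.exists_sp_realize p hmon hrF d a ha1 hpal
  have hκ₀ : Cfsg.Agent.Lib.Helper49.kdim (Matrix.toLin' (x : Matrix (Fin d ⊕ Fin d) (Fin d ⊕ Fin d) F))
      P₀ = i := by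
    have := hκ ⟨P₀, hP₀⟩
    simp only [a, if_true, mul_one] at this
    exact this

  -- the GL element
  set xs : ↥(spGL d F) := Cfsg.Agent.S0270.phi d x with hxs
  have hxval : ((xs : GL (Fin d ⊕ Fin d) F) : Matrix (Fin d ⊕ Fin d) (Fin d ⊕ Fin d) F) =
      (x : Matrix (Fin d ⊕ Fin d) (Fin d ⊕ Fin d) F) := rfl
  have hxr : (xs : GL (Fin d ⊕ Fin d) F) ^ r = 1 := by
    have h1 : xs ^ r = 1 := by rw [hxs, ← map_pow, hx, map_one]
    have h2 := congrArg Subtype.val h1
    simpa using h2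
  haveI : Nonempty (Fin d ⊕ Fin d) := ⟨Sum.inl ⟨0, hd⟩⟩
  have hm0 : 0 < 2 * m' := by omega
  have hrdvd : r ∣ Fintype.card F ^ (2 * m') + 1 := by
    rw [hq]
    exact dvd_pow_half_add_one q r i hi (2 * m') hm0 (by omega)
  have hmul : ∀ M N : Matrix (Fin d ⊕ Fin d) (Fin d ⊕ Fin d) F,
      (Matrix.toLin' M : Module.End F (Fin d ⊕ Fin d → F)) * Matrix.toLin' N = Matrix.toLin' (M * N) :=
    fun M N => (Matrix.toLin'_mul M N).symm
  -- the derangement property
  have hder : ∀ g ∈ spGL d F, g⁻¹ * (xs : GL (Fin d ⊕ Fin d) F) * g ∉ subalgebraNormalizer K := by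
    intro g hg hy
    set y : GL (Fin d ⊕ Fin d) F := g⁻¹ * (xs : GL (Fin d ⊕ Fin d) F) * g with hydef
    have hyr : y ^ r = 1 := by
      have h1 : y = g⁻¹ * (xs : GL (Fin d ⊕ Fin d) F) * g⁻¹⁻¹ := by rw [inv_inv]
      rw [h1, conj_pow, hxr, mul_one, inv_inv, inv_mul_cancel]
    have hysp : y ∈ spGL d F :=
      (spGL d F).mul_mem ((spGL d F).mul_mem ((spGL d F).inv_mem hg) xs.2) hg
    have hcomm := commute_of_mem_normalizer_of_odd K hK.field y hy r (hr.odd_of_ne_two hr2) hyr
    set ym : Matrix (Fin d ⊕ Fin d) (Fin d ⊕ Fin d) F := (y : Matrix (Fin d ⊕ Fin d) (Fin d ⊕ Fin d) F) with hym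
    set yim : Matrix (Fin d ⊕ Fin d) (Fin d ⊕ Fin d) F :=
      ((y⁻¹ : GL (Fin d ⊕ Fin d) F) : Matrix (Fin d ⊕ Fin d) (Fin d ⊕ Fin d) F) with hyim
    have hyyi : ym * yim = 1 := by
      rw [hym, hyim, ← Units.val_mul, mul_inv_cancel, Units.val_one]
    have hyiy : yim * ym = 1 := by
      rw [hym, hyim, ← Units.val_mul, inv_mul_cancel, Units.val_one]
    have hymr : ym ^ r = 1 := by
      rw [hym, ← Units.val_pow_eq_pow_val, hyr, Units.val_one]
    set A : Module.End F (Fin d ⊕ Fin d → F) := Matrix.toLin' ym with hA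
    set B : Module.End F (Fin d ⊕ Fin d → F) := Matrix.toLin' yim with hB
    set J := Matrix.J (Fin d) F with hJ
    let ω : LinearMap.BilinForm F (Fin d ⊕ Fin d → F) := Matrix.toBilin' J
    have hω : ∀ u v, ω u v = sympForm d F u v := fun u v => Matrix.toBilin'_apply' J u v
    have hN : ω.Nondegenerate :=
      LinearMap.BilinForm.nondegenerate_toBilin'_of_det_ne_zero' J Cfsg.Agent.Lib.Helper49.J_det_ne_zero
    have hI : FormInv ω A := by
      intro u v
      rw [hω, hω, hA, Matrix.toLin'_apply, Matrix.toLin'_apply]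
      exact hysp u v
    have hAB : ∀ v, A (B v) = v := by
      intro v
      rw [hA, hB, Matrix.toLin'_apply, Matrix.toLin'_apply, Matrix.mulVec_mulVec, hyyi, Matrix.one_mulVec]
    have hsA : Polynomial.aeval A (Polynomial.X ^ r - 1 : Polynomial F) = 0 :=
      Cfsg.Agent.Lib.Helper49.aeval_toLin'_of_pow_eq_one ym r hymr
    have hpow1 : ym ^ (Fintype.card F ^ (2 * m') + 1) = 1 := by
      obtain ⟨c, hc⟩ := hrdvd
      rw [hc, pow_mul, hymr, one_pow]
    have hyim_eq : yim = ym ^ (Fintype.card F ^ (2 * m')) := by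
      calc yim = yim * ym ^ (Fintype.card F ^ (2 * m') + 1) := by rw [hpow1, mul_one]
        _ = yim * ym * ym ^ (Fintype.card F ^ (2 * m')) := by rw [pow_succ', mul_assoc]
        _ = ym ^ (Fintype.card F ^ (2 * m')) := by rw [hyiy, one_mul]
    have hBm : B = A ^ (Fintype.card F ^ (2 * m')) := by
      rw [hB, hA, hyim_eq, Matrix.toLin'_pow]
    have hP : Irreducible P₀ := D.irr P₀ hP₀
    -- the kernel dimension
    have hgy : (g : Matrix (Fin d ⊕ Fin d) (Fin d ⊕ Fin d) F) * ym =
        (x : Matrix (Fin d ⊕ Fin d) (Fin d ⊕ Fin d) F) * (g : Matrix (Fin d ⊕ Fin d) (Fin d ⊕ Fin d) F) := by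
      rw [hym, ← hxval, ← Units.val_mul, ← Units.val_mul, hydef]
      congr 1
      group
    have hggi : ((g⁻¹ : GL (Fin d ⊕ Fin d) F) : Matrix (Fin d ⊕ Fin d) (Fin d ⊕ Fin d) F) *
        (g : Matrix (Fin d ⊕ Fin d) (Fin d ⊕ Fin d) F) = 1 := by
      rw [← Units.val_mul, inv_mul_cancel, Units.val_one]
    have hgig : (g : Matrix (Fin d ⊕ Fin d) (Fin d ⊕ Fin d) F) *
        ((g⁻¹ : GL (Fin d ⊕ Fin d) F) : Matrix (Fin d ⊕ Fin d) (Fin d ⊕ Fin d) F) = 1 := by
      rw [← Units.val_mul, mul_inv_cancel, Units.val_one]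
    have hkd : Cfsg.Agent.Lib.Helper49.kdim A P₀ = i := by
      rw [← hκ₀]
      apply Cfsg.Agent.Lib.Helper49.kdim_conj A _ (Matrix.toLin'OfInv hggi hgig)
      intro v
      show Matrix.toLin' (g : Matrix (Fin d ⊕ Fin d) (Fin d ⊕ Fin d) F) (A v) =
        Matrix.toLin' (x : Matrix (Fin d ⊕ Fin d) (Fin d ⊕ Fin d) F)
          (Matrix.toLin' (g : Matrix (Fin d ⊕ Fin d) (Fin d ⊕ Fin d) F) v)
      rw [hA, Matrix.toLin'_apply, Matrix.toLin'_apply, Matrix.toLin'_apply, Matrix.toLin'_apply,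
        Matrix.mulVec_mulVec, Matrix.mulVec_mulVec, hgy]
    have hdim : Module.finrank F (LinearMap.ker (Polynomial.aeval A P₀)) = P₀.natDegree := by
      rw [D.deg P₀ hP₀]
      exact hkd
    have hPB : LinearMap.ker (Polynomial.aeval A P₀) ≤ LinearMap.ker (Polynomial.aeval B P₀) := by
      intro u hu
      rw [LinearMap.mem_ker] at hu ⊢
      rw [hBm, aeval_pow_card_pow_end]
      have hpos : 0 < Fintype.card F ^ (2 * m') := pow_pos Fintype.card_pos _
      obtain ⟨k, hk⟩ : ∃ k, Fintype.card F ^ (2 * m') = k + 1 := ⟨_, (Nat.succ_pred_eq_of_pos hpos).symm⟩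
      rw [hk, pow_succ, Module.End.mul_apply, hu, map_zero]
    -- a nonzero vector of the kernel
    have hUpos : 0 < Module.finrank F (LinearMap.ker (Polynomial.aeval A P₀)) := by
      rw [hdim]; exact hP.natDegree_pos
    obtain ⟨⟨u₀, hu₀⟩, hu₀ne⟩ := (Module.finrank_pos_iff_exists_ne_zero).mp hUpos
    have hu₀ne' : u₀ ≠ 0 := fun h => hu₀ne (Subtype.ext h)
    -- every element of `K` is self-adjoint
    apply hK.nsa
    intro k hk u v
    obtain ⟨k', hk', hadj⟩ := hK.adj k hk
    have hkey := adjoint_eq_on_ker ω hN A B hAB hI (Polynomial.X ^ r - 1) D.sqf hsA (2 * m') hBm P₀ hP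
      hdim hPB (Matrix.toLin' k) (Matrix.toLin' k')
      (by rw [hA, hmul, hmul, hcomm k hk])
      (by rw [hA, hmul, hmul, hcomm k' hk'])
      (by
        intro u v
        rw [hω, hω, Matrix.toLin'_apply, Matrix.toLin'_apply]
        exact hadj u v)
      (by
        rw [← Matrix.toLin'_pow]
        congr 1
        have := pow_card_sq_pow_of_mem K hK.field hk m'
        rwa [← pow_mul] at this)
    have h0 := hkey u₀ hu₀
    rw [Matrix.toLin'_apply, Matrix.toLin'_apply] at h0
    have hc0 : k' - k = 0 := by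
      by_contra hne0
      obtain ⟨w, hw, hcw⟩ := hK.field.inv (k' - k) (K.sub_mem hk' hk) hne0
      have hwc : w * (k' - k) = 1 := by
        rw [hK.field.comm w hw (k' - k) (K.sub_mem hk' hk)]; exact hcw
      apply hu₀ne'
      have h1 : (k' - k) *ᵥ u₀ = 0 := by rw [Matrix.sub_mulVec, h0, sub_self]
      calc u₀ = (w * (k' - k)) *ᵥ u₀ := by rw [hwc, Matrix.one_mulVec]
        _ = w *ᵥ ((k' - k) *ᵥ u₀) := by rw [Matrix.mulVec_mulVec]
        _ = 0 := by rw [h1, Matrix.mulVec_zero]
    have hkk : k' = k := sub_eq_zero.mp hc0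
    rw [hadj u v, hkk]
  refine ⟨(xs : GL (Fin d ⊕ Fin d) F), xs.2, ?_, ?_, hder⟩
  · rw [hxr, Units.val_one]
  · intro z hz
    apply hder 1 (spGL d F).one_mem
    rw [inv_one, one_mul, mul_one]
    intro k
    have hc1 : ((xs : GL (Fin d ⊕ Fin d) F) : Matrix (Fin d ⊕ Fin d) (Fin d ⊕ Fin d) F) * k =
        k * ((xs : GL (Fin d ⊕ Fin d) F) : Matrix (Fin d ⊕ Fin d) (Fin d ⊕ Fin d) F) := by
      rw [hz, smul_mul_assoc, mul_smul_comm, one_mul, mul_one]
    have hc2 : ((xs : GL (Fin d ⊕ Fin d) F) : Matrix (Fin d ⊕ Fin d) (Fin d ⊕ Fin d) F) * k *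
        (((xs : GL (Fin d ⊕ Fin d) F)⁻¹ : GL (Fin d ⊕ Fin d) F) : Matrix (Fin d ⊕ Fin d) (Fin d ⊕ Fin d) F) = k := by
      rw [hc1, mul_assoc, ← Units.val_mul, mul_inv_cancel, Units.val_one, mul_one]
    rw [hc2]

end Main

end Cfsg.Agent.Lib.Helper59.SpU
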