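import Mathlib
import Cfsg.Agent.Lib.Helper33.SympBasic
import Cfsg.Agent.Lib.Helper33.SympA
import Cfsg.Agent.Lib.Helper18.SympB

/-!
# Keystone K-S1874-F: Case II for `p = 3`

`case_three_false_aux` proves the statement of the keystone from the two other keystones
(`exists_crit` for `p = 3` and `exists_eigen`), which are taken as explicit hypotheses;
`case_three_false` is the keystone with its exact signature.
-/

set_option autoImplicit false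

namespace Cfsg.Agent.Lib.Helper59.Symp
open Cfsg.Agent.Lib.Helper33.Symp

variable {G : Type*} [Group G]

/-! ### general helpers -/

theorem closure_comm' {S : Set G} (hc : ∀ x ∈ S, ∀ y ∈ S, x * y = y * x) :
    ∀ x ∈ Subgroup.closure S, ∀ y ∈ Subgroup.closure S, x * y = y * x := by
  intro x hx y hy
  have h := (Subgroup.isMulCommutative_closure hc)
  have := h.is_comm.comm ⟨x, hx⟩ ⟨y, hy⟩
  exact congrArg Subtype.val this

theorem closure_pow_eq_one' {S : Set G} (k : ℕ) (hc : ∀ x ∈ S, ∀ y ∈ S, x * y = y * x)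
    (he : ∀ x ∈ S, x ^ k = 1) : ∀ x ∈ Subgroup.closure S, x ^ k = 1 := by
  have hcc := closure_comm' hc
  intro x hx
  induction hx using Subgroup.closure_induction with
  | mem x hx => exact he x hx
  | one => exact one_pow k
  | mul x y hx hy ihx ihy =>
    have : Commute x y := hcc x hx y hy
    rw [this.mul_pow, ihx, ihy, one_mul]
  | inv x hx ihx => rw [inv_pow, ihx, inv_one]

theorem closure_commute_right' {S : Set G} (v : G) (hv : ∀ x ∈ S, x * v = v * x) :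
    ∀ x ∈ Subgroup.closure S, x * v = v * x := by
  have hle : Subgroup.closure S ≤ Subgroup.centralizer ({v} : Set G) := by
    rw [Subgroup.closure_le]
    intro x hx
    exact Subgroup.mem_centralizer_singleton_iff.2 (hv x hx)
  intro x hx
  exact Subgroup.mem_centralizer_singleton_iff.1 (hle hx)

theorem two_mul_card_le_of_lt' [Finite G] {H K : Subgroup G} (h : H < K) :
    2 * Nat.card H ≤ Nat.card K := by
  obtain ⟨q, hq⟩ := Subgroup.card_dvd_of_le h.le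
  have hq0 : q ≠ 0 := by
    rintro rfl
    rw [mul_zero] at hq
    exact Nat.card_pos.ne' hq
  have hq1 : q ≠ 1 := by
    rintro rfl
    rw [mul_one] at hq
    exact h.ne (Subgroup.eq_of_le_of_card_ge h.le hq.le)
  have hq2 : 2 ≤ q := by omega
  rw [hq, mul_comm]
  exact Nat.mul_le_mul_left _ hq2

/-! ### centralizing / inverting -/

theorem conj_conj' (g w z : G) :
    w * (g * z * g⁻¹) * w⁻¹ = g * ((g⁻¹ * w * g) * z * (g⁻¹ * w * g)⁻¹) * g⁻¹ := by group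

theorem conj_inv' (g z : G) : g * z⁻¹ * g⁻¹ = (g * z * g⁻¹)⁻¹ := by group

/-- an element of order dividing 3 which equals its inverse is trivial -/
theorem eq_one_of_eq_inv' {z : G} (h3 : z ^ 3 = 1) (h : z = z⁻¹) : z = 1 := by
  have h2 : z * z = 1 := by
    nth_rewrite 2 [h]; exact mul_inv_cancel z
  have : z ^ 3 = z * z * z := by rw [pow_succ, pow_two]
  rw [this, h2, one_mul] at h3
  exact h3

theorem inv_conj_of_comm' {c y : G} (h : c * y = y * c) : y⁻¹ * c * y = c := by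
  rw [mul_assoc, h, ← mul_assoc, inv_mul_cancel, one_mul]

theorem inv_conj_inv_of_comm' {c y : G} (h : c * y = y * c) : y⁻¹ * c⁻¹ * y = c⁻¹ := by
  have h' : c⁻¹ * y = y * c⁻¹ := by
    have := congrArg (fun g => c⁻¹ * g * c⁻¹) h
    simp only [mul_assoc, inv_mul_cancel_left, mul_inv_cancel, mul_one] at this
    exact this.symm
  exact inv_conj_of_comm' h'

/-- `[x, y⁻¹] = [x, y]⁻¹` when `[x, y]` commutes with `y` -/
theorem comm_inv_right' {x y : G} (h : (x * y * x⁻¹ * y⁻¹) * y = y * (x * y * x⁻¹ * y⁻¹)) :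
    x * y⁻¹ * x⁻¹ * y = (x * y * x⁻¹ * y⁻¹)⁻¹ := by
  have e : x * y⁻¹ * x⁻¹ * y = y⁻¹ * (x * y * x⁻¹ * y⁻¹)⁻¹ * y := by group
  rw [e, inv_conj_inv_of_comm' h]

/-- `[x⁻¹, y] = [x, y]⁻¹` when `[x, y]` commutes with `x` -/
theorem comm_inv_left' {x y : G} (h : (x * y * x⁻¹ * y⁻¹) * x = x * (x * y * x⁻¹ * y⁻¹)) :
    x⁻¹ * y * x * y⁻¹ = (x * y * x⁻¹ * y⁻¹)⁻¹ := by
  have e : x⁻¹ * y * x * y⁻¹ = x⁻¹ * (x * y * x⁻¹ * y⁻¹)⁻¹ * x := by group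
  rw [e, inv_conj_inv_of_comm' h]

/-- `[x⁻¹, y⁻¹] = [x, y]` when `[x, y]` commutes with `x` and `y` -/
theorem comm_inv_inv' {x y : G} (hx : (x * y * x⁻¹ * y⁻¹) * x = x * (x * y * x⁻¹ * y⁻¹))
    (hy : (x * y * x⁻¹ * y⁻¹) * y = y * (x * y * x⁻¹ * y⁻¹)) :
    x⁻¹ * y⁻¹ * x * y = x * y * x⁻¹ * y⁻¹ := by
  have e : x⁻¹ * y⁻¹ * x * y = (y * x)⁻¹ * (x * y * x⁻¹ * y⁻¹) * (y * x) := by group
  have hyx : (x * y * x⁻¹ * y⁻¹) * (y * x) = (y * x) * (x * y * x⁻¹ * y⁻¹) := by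
    rw [← mul_assoc, hy, mul_assoc, hx, ← mul_assoc]
  rw [e, inv_conj_of_comm' hyx]

/-- two subgroup-closure facts packaged: the closure of a commuting family of elements of
exponent `3` centralizing `v` has order at most `3 ^ n` under the rank bound. -/
theorem card_closure_le' {n : ℕ} {v : G} (hr : RankBound 3 n v) {S : Set G}
    (hc : ∀ x ∈ S, ∀ y ∈ S, x * y = y * x) (he : ∀ x ∈ S, x ^ 3 = 1)
    (hv : ∀ x ∈ S, x * v = v * x) : Nat.card (Subgroup.closure S) ≤ 3 ^ n :=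
  hr (Subgroup.closure S) (closure_comm' hc) (closure_pow_eq_one' 3 hc he)
    (closure_commute_right' v hv)


theorem conj_mem_of_mem_normalizer' {H : Subgroup G} {g x : G}
    (hg : g ∈ Subgroup.normalizer (H : Set G)) (hx : x ∈ H) : g * x * g⁻¹ ∈ H :=
  (Subgroup.mem_normalizer_iff.1 hg x).1 hx

/-- an element of a `3`-group whose square is trivial is trivial -/
theorem eq_one_of_mem_of_sq' {P : Subgroup G} (hP : IsPGroup 3 P) {k : G} (hk : k ∈ P)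
    (hk2 : k ^ 2 = 1) : k = 1 := by
  obtain ⟨j, hj⟩ := hP ⟨k, hk⟩
  have hj' : k ^ (3 ^ j) = 1 := by simpa using congrArg Subtype.val hj
  have h1 : orderOf k ∣ Nat.gcd (3 ^ j) 2 :=
    Nat.dvd_gcd (orderOf_dvd_of_pow_eq_one hj') (orderOf_dvd_of_pow_eq_one hk2)
  have h2 : Nat.gcd (3 ^ j) 2 = 1 := Nat.Coprime.pow_left j (by norm_num)
  rw [h2] at h1
  exact orderOf_eq_one_iff.1 (Nat.dvd_one.1 h1)

/-! ### (F3) -/

theorem card_B_eq' {n : ℕ} (hn : 1 ≤ n) {A B P U : Subgroup G} (c : Cfg 3 n A B P U) :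
    Nat.card B = 3 * Nat.card A := by
  rw [c.Bn, c.An]
  obtain ⟨m, rfl⟩ : ∃ m, n = m + 1 := ⟨n - 1, by omega⟩
  rw [Nat.add_sub_cancel, pow_succ, mul_comm]

theorem F3' [Finite G] {n : ℕ} (hn : 1 ≤ n) {A B P U : Subgroup G} (c : Cfg 3 n A B P U) {t : G}
    (htB : ∀ x ∈ B, t * x = x * t) (hr : RankBound 3 n t)
    {b : G} (hbB : b ∈ B) (hbA : b ∉ A) {x : G} (hxP : x ∈ P) (hx3 : x ^ 3 = 1)
    (hxt : x * t = t * x) (hxb : x * b = b * x) : x ∈ A := by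
  have hBA := card_B_eq' hn c
  have hApos : 0 < Nat.card A := Nat.card_pos
  -- every element of `B` commutes with `x`
  have hBx : ∀ y ∈ B, y * x = x * y := by
    set C : Subgroup G := B ⊓ Subgroup.centralizer ({x} : Set G) with hC
    have hAC : A ≤ C := by
      intro a ha
      exact ⟨c.AB ha, Subgroup.mem_centralizer_singleton_iff.2 (c.AP a ha x hxP)⟩
    have hbC : b ∈ C := ⟨hbB, Subgroup.mem_centralizer_singleton_iff.2 hxb.symm⟩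
    have hlt : A < C := lt_of_le_of_ne hAC (fun h => hbA (h ▸ hbC))
    have h2 := two_mul_card_le_of_lt' hlt
    have hCB : C ≤ B := inf_le_left
    obtain ⟨q, hq⟩ := Subgroup.card_dvd_of_le hAC
    have hdvd : Nat.card C ∣ Nat.card B := Subgroup.card_dvd_of_le hCB
    rw [hq, hBA, mul_comm 3] at hdvd
    have hq3 : q ∣ 3 := (Nat.mul_dvd_mul_iff_left hApos).1 hdvd
    have hq' : q = 1 ∨ q = 3 := (Nat.dvd_prime Nat.prime_three).1 hq3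
    have hq3' : q = 3 := by
      rcases hq' with h | h
      · rw [hq, h, mul_one] at h2; omega
      · exact h
    have hCeq : C = B := by
      apply Subgroup.eq_of_le_of_card_ge hCB
      rw [hq, hq3', hBA, mul_comm]
    intro y hy
    have : y ∈ C := hCeq ▸ hy
    exact Subgroup.mem_centralizer_singleton_iff.1 this.2
  -- `x ∈ B`
  have hxB : x ∈ B := by
    set E : Subgroup G := Subgroup.closure ((B : Set G) ∪ {x}) with hE
    have hcomm : ∀ y ∈ ((B : Set G) ∪ {x}), ∀ z ∈ ((B : Set G) ∪ {x}), y * z = z * y := by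
      intro y hy z hz
      rcases hy with hy | hy <;> rcases hz with hz | hz
      · exact c.Bc y hy z hz
      · rw [Set.mem_singleton_iff.1 hz]; exact hBx y hy
      · rw [Set.mem_singleton_iff.1 hy]; exact (hBx z hz).symm
      · rw [Set.mem_singleton_iff.1 hy, Set.mem_singleton_iff.1 hz]
    have hexp : ∀ y ∈ ((B : Set G) ∪ {x}), y ^ 3 = 1 := by
      intro y hy
      rcases hy with hy | hy
      · exact c.Be y hy
      · rw [Set.mem_singleton_iff.1 hy]; exact hx3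
    have hcen : ∀ y ∈ ((B : Set G) ∪ {x}), y * t = t * y := by
      intro y hy
      rcases hy with hy | hy
      · exact (htB y hy).symm
      · rw [Set.mem_singleton_iff.1 hy]; exact hxt
    have hcard : Nat.card E ≤ 3 ^ n := card_closure_le' hr hcomm hexp hcen
    have hBE : B ≤ E := by
      intro y hy
      exact Subgroup.subset_closure (Or.inl hy)
    have hEB : B = E := Subgroup.eq_of_le_of_card_ge hBE (by rw [c.Bn]; exact hcard)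
    rw [hEB]
    exact Subgroup.subset_closure (Or.inr rfl)
  by_contra hxA
  apply c.U1
  rw [Subgroup.eq_bot_iff_forall]
  intro u hu
  apply c.Bfix x hxB hxA u hu
  -- `k = u x u⁻¹ x⁻¹` lies in `P ⊓ U`
  have hkP : u * x * u⁻¹ * x⁻¹ ∈ P :=
    P.mul_mem (conj_mem_of_mem_normalizer' (c.UP hu) hxP) (P.inv_mem hxP)
  have hkU : u * x * u⁻¹ * x⁻¹ ∈ U := by
    have h1 : x * u⁻¹ * x⁻¹ ∈ U := conj_mem_of_mem_normalizer' (c.BU hxB) (U.inv_mem hu)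
    have h2 : u * x * u⁻¹ * x⁻¹ = u * (x * u⁻¹ * x⁻¹) := by group
    rw [h2]
    exact U.mul_mem hu h1
  have hk1 : u * x * u⁻¹ * x⁻¹ = 1 := eq_one_of_mem_of_sq' c.Pp hkP (c.U2 _ hkU)
  have : u * x = x * u := by
    have h3 : u * x = (u * x * u⁻¹ * x⁻¹) * (x * u) := by group
    rw [h3, hk1, one_mul]
  exact this.symm


/-! ### conjugation identities -/

theorem conj_act' (g w z : G) :
    (g * w * g⁻¹) * (g * z * g⁻¹) * (g * w * g⁻¹)⁻¹ = g * (w * z * w⁻¹) * g⁻¹ := by group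

theorem conj_comm' (g x y : G) :
    g * (x * y * x⁻¹ * y⁻¹) * g⁻¹ =
      (g * x * g⁻¹) * (g * y * g⁻¹) * (g * x * g⁻¹)⁻¹ * (g * y * g⁻¹)⁻¹ := by group

theorem mul_conj' (a b z : G) : (a * b) * z * (a * b)⁻¹ = a * (b * z * b⁻¹) * a⁻¹ := by group

theorem conj_mul3' (g x y z : G) :
    g * (x * y * z) * g⁻¹ = (g * x * g⁻¹) * (g * y * g⁻¹) * (g * z * g⁻¹) := by group

theorem conj_eq_of_comm' {x w : G} (h : x * w = w * x) : w * x * w⁻¹ = x := by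
  rw [← h, mul_inv_cancel_right]

theorem comm_of_conj_eq' {x w : G} (h : w * x * w⁻¹ = x) : x * w = w * x :=
  (mul_inv_eq_iff_eq_mul.1 h).symm

theorem comm_of_comm_eq_one' {x y : G} (h : x * y * x⁻¹ * y⁻¹ = 1) : x * y = y * x := by
  have h3 : x * y = (x * y * x⁻¹ * y⁻¹) * (y * x) := by group
  rw [h3, h, one_mul]

/-! ### Lemma T -/

theorem triple_trivial' [Finite G] {n : ℕ} (hn : 1 ≤ n) {A B P U : Subgroup G}
    (c : Cfg 3 n A B P U)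
    {t : G} (htB : ∀ x ∈ B, t * x = x * t) (hr : RankBound 3 n t)
    {b : G} (hbB : b ∈ B) (hbA : b ∉ A)
    {D : Subgroup G} (hDP : D ≤ P) (hD3 : ∀ x ∈ D, x ^ 3 = 1)
    {e₀ e₁ e₂ : G} (h0 : e₀ ∈ D) (h1 : e₁ ∈ D) (h2 : e₂ ∈ D)
    (h01 : e₀ * e₁ = e₁ * e₀) (h20 : e₂ * e₀ = e₀ * e₂)
    (hb0 : b * e₀ * b⁻¹ = e₁) (hb1 : b * e₁ * b⁻¹ = e₂) (hb2 : b * e₂ * b⁻¹ = e₀)
    (ht0 : t * e₀ * t⁻¹ = e₀) (ht1 : t * e₁ * t⁻¹ = e₁) (ht2 : t * e₂ * t⁻¹ = e₂)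
    {w : G} (hwU : w ∈ U) (hw0 : w * e₀ * w⁻¹ = e₀⁻¹) (hw1 : w * e₁ * w⁻¹ = e₁⁻¹)
    (hw2 : w * e₂ * w⁻¹ = e₂) : e₀ = 1 := by
  have hxD : e₀ * e₁ * e₂ ∈ D := D.mul_mem (D.mul_mem h0 h1) h2
  have hbx : b * (e₀ * e₁ * e₂) * b⁻¹ = e₀ * e₁ * e₂ := by
    rw [conj_mul3', hb0, hb1, hb2, mul_assoc, h20, ← mul_assoc, ← h01]
  have htx : t * (e₀ * e₁ * e₂) * t⁻¹ = e₀ * e₁ * e₂ := by
    rw [conj_mul3', ht0, ht1, ht2]
  have hxA : e₀ * e₁ * e₂ ∈ A :=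
    F3' hn c htB hr hbB hbA (hDP hxD) (hD3 _ hxD) (comm_of_conj_eq' htx) (comm_of_conj_eq' hbx)
  have hwx : w * (e₀ * e₁ * e₂) * w⁻¹ = e₀ * e₁ * e₂ := conj_eq_of_comm' (c.AU _ hxA w hwU)
  rw [conj_mul3', hw0, hw1, hw2] at hwx
  have h3 : e₀⁻¹ * e₁⁻¹ = e₀ * e₁ := mul_right_cancel hwx
  have h4 : e₁⁻¹ * e₀⁻¹ = e₀⁻¹ * e₁⁻¹ := by
    have := congrArg (fun g => g⁻¹) h01
    simpa only [mul_inv_rev] using this
  have h5 : e₀ * e₁ = (e₀ * e₁)⁻¹ := by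
    rw [mul_inv_rev, h4, h3]
  have h6 : e₀ * e₁ = 1 := eq_one_of_eq_inv' (hD3 _ (D.mul_mem h0 h1)) h5
  have h7 : e₁ = e₀⁻¹ := eq_inv_of_mul_eq_one_right h6
  have h8 : e₂ = e₀ := by
    rw [← hb1, h7, conj_inv', hb0, h7, inv_inv]
  have h9 : e₀ = e₀⁻¹ := by
    have h10 : b * e₀ * b⁻¹ = e₀ := by
      have := hb2
      rw [h8] at this
      exact this
    rw [hb0] at h10
    rw [← h7]
    exact h10.symm
  exact eq_one_of_eq_inv' (hD3 _ h0) h9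

/-! ### Lemma R -/

theorem rank_false' [Finite G] {n : ℕ} (hn : 1 ≤ n) {A B P U : Subgroup G}
    (c : Cfg 3 n A B P U)
    {v : G} (hr : RankBound 3 n v) (hvA : ∀ a ∈ A, a * v = v * a)
    {y₁ y₃ : G} (h1P : y₁ ∈ P) (h3P : y₃ ∈ P) (h13 : y₁ * y₃ = y₃ * y₁)
    (h1e : y₁ ^ 3 = 1) (h3e : y₃ ^ 3 = 1) (hv1 : y₁ * v = v * y₁) (hv3 : y₃ * v = v * y₃)
    (h1ne : y₁ ≠ 1) (h3ne : y₃ ≠ 1)
    {w w₁ : G} (hwU : w ∈ U) (hw1U : w₁ ∈ U) (hw : w * y₁ * w⁻¹ = y₁⁻¹)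
    (hw1 : y₁ * w₁ = w₁ * y₁) (hw3 : w₁ * y₃ * w₁⁻¹ = y₃⁻¹) : False := by
  have hBA := card_B_eq' hn c
  have hApos : 0 < Nat.card A := Nat.card_pos
  set K₁ : Subgroup G := Subgroup.closure ((A : Set G) ∪ {y₁}) with hK₁
  set K₂ : Subgroup G := Subgroup.closure ((A : Set G) ∪ {y₁, y₃}) with hK₂
  have hAK₁ : A ≤ K₁ := fun a ha => Subgroup.subset_closure (Or.inl ha)
  have hK₁K₂ : K₁ ≤ K₂ := by
    apply Subgroup.closure_mono
    intro x hx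
    rcases hx with hx | hx
    · exact Or.inl hx
    · exact Or.inr (Or.inl hx)
  have hy₁K₁ : y₁ ∈ K₁ := Subgroup.subset_closure (Or.inr rfl)
  have hy₃K₂ : y₃ ∈ K₂ := Subgroup.subset_closure (Or.inr (Or.inr rfl))
  have hy₁A : y₁ ∉ A := by
    intro h
    have h1 : w * y₁ * w⁻¹ = y₁ := conj_eq_of_comm' (c.AU y₁ h w hwU)
    rw [hw] at h1
    exact h1ne (eq_one_of_eq_inv' h1e h1.symm)
  have hlt1 : A < K₁ := lt_of_le_of_ne hAK₁ (fun h => hy₁A (h ▸ hy₁K₁))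
  have hy₃K₁ : y₃ ∉ K₁ := by
    intro h
    have hcen : ∀ x ∈ K₁, x * w₁ = w₁ * x := by
      apply closure_commute_right'
      intro x hx
      rcases hx with hx | hx
      · exact c.AU x hx w₁ hw1U
      · rw [Set.mem_singleton_iff.1 hx]; exact hw1
    have h1 : w₁ * y₃ * w₁⁻¹ = y₃ := conj_eq_of_comm' (hcen y₃ h)
    rw [hw3] at h1
    exact h3ne (eq_one_of_eq_inv' h3e h1.symm)
  have hlt2 : K₁ < K₂ := lt_of_le_of_ne hK₁K₂ (fun h => hy₃K₁ (h ▸ hy₃K₂))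
  have hc1 := two_mul_card_le_of_lt' hlt1
  have hc2 := two_mul_card_le_of_lt' hlt2
  have hAc : ∀ x ∈ A, ∀ y ∈ A, x * y = y * x := fun x hx y hy => c.Bc x (c.AB hx) y (c.AB hy)
  have hcard : Nat.card K₂ ≤ 3 ^ n := by
    apply card_closure_le' hr
    · intro x hx y hy
      rcases hx with hx | hx | hx <;> rcases hy with hy | hy | hy
      · exact hAc x hx y hy
      · rw [hy]; exact c.AP x hx y₁ h1P
      · rw [Set.mem_singleton_iff.1 hy]; exact c.AP x hx y₃ h3P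
      · rw [hx]; exact (c.AP y hy y₁ h1P).symm
      · rw [hx, hy]
      · rw [hx, Set.mem_singleton_iff.1 hy]; exact h13
      · rw [Set.mem_singleton_iff.1 hx]; exact (c.AP y hy y₃ h3P).symm
      · rw [Set.mem_singleton_iff.1 hx, hy]; exact h13.symm
      · rw [Set.mem_singleton_iff.1 hx, Set.mem_singleton_iff.1 hy]
    · intro x hx
      rcases hx with hx | hx | hx
      · exact c.Be x (c.AB hx)
      · rw [hx]; exact h1e
      · rw [Set.mem_singleton_iff.1 hx]; exact h3e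
    · intro x hx
      rcases hx with hx | hx | hx
      · exact hvA x hx
      · rw [hx]; exact hv1
      · rw [Set.mem_singleton_iff.1 hx]; exact hv3
  rw [← c.Bn, hBA] at hcard
  omega


/-! ### the core contradiction -/

theorem core_false' [Finite G] {n : ℕ} (hn : 1 ≤ n) {A B P U : Subgroup G}
    (c : Cfg 3 n A B P U) {t : G}
    (htB : ∀ x ∈ B, t * x = x * t) (htU' : t ∉ U) (hrt : RankBound 3 n t)
    (hrank : ∀ w ∈ U ⊔ Subgroup.zpowers t, w ≠ 1 → RankBound 3 n w)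
    {b : G} (hbB : b ∈ B) (hbA : b ∉ A)
    {D : Subgroup G} (hDP : D ≤ P) (hD3 : ∀ x ∈ D, x ^ 3 = 1)
    (hD2 : ∀ x ∈ D, ∀ y ∈ D, ∀ z ∈ D,
      (x * y * x⁻¹ * y⁻¹) * z = z * (x * y * x⁻¹ * y⁻¹))
    {z₀ z₁ z₂ : G} (h0 : z₀ ∈ D) (h1 : z₁ ∈ D) (h2 : z₂ ∈ D)
    (hb0 : b * z₀ * b⁻¹ = z₁) (hb1 : b * z₁ * b⁻¹ = z₂) (hb2 : b * z₂ * b⁻¹ = z₀)
    (hne : z₀ ≠ 1)
    {w : G} (hwU : w ∈ U) (hw0 : w * z₀ * w⁻¹ = z₀) (hw1 : w * z₁ * w⁻¹ = z₁⁻¹)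
    (hw2 : w * z₂ * w⁻¹ = z₂⁻¹)
    (ht : (t * z₀ * t⁻¹ = z₀ ∧ t * z₁ * t⁻¹ = z₁ ∧ t * z₂ * t⁻¹ = z₂) ∨
      (t * z₀ * t⁻¹ = z₀⁻¹ ∧ t * z₁ * t⁻¹ = z₁⁻¹ ∧ t * z₂ * t⁻¹ = z₂⁻¹)) : False := by
  have hz₁ne : z₁ ≠ 1 := by
    intro h
    rw [h] at hb0
    exact hne (conj_eq_one_iff.1 hb0)
  have hz₂ne : z₂ ≠ 1 := by
    intro h
    rw [h] at hb1
    exact hz₁ne (conj_eq_one_iff.1 hb1)
  -- the second involution
  have hw₁U : b * w * b⁻¹ ∈ U := conj_mem_of_mem_normalizer' (c.BU hbB) hwU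
  have hw₁1 : (b * w * b⁻¹) * z₁ * (b * w * b⁻¹)⁻¹ = z₁ := by
    have := conj_act' b w z₀
    rw [hb0, hw0, hb0] at this
    exact this
  have hw₁2 : (b * w * b⁻¹) * z₂ * (b * w * b⁻¹)⁻¹ = z₂⁻¹ := by
    have := conj_act' b w z₁
    rw [hb1, hw1, conj_inv', hb1] at this
    exact this
  -- commutators
  have hc01D : z₀ * z₁ * z₀⁻¹ * z₁⁻¹ ∈ D :=
    D.mul_mem (D.mul_mem (D.mul_mem h0 h1) (D.inv_mem h0)) (D.inv_mem h1)
  have hc12D : z₁ * z₂ * z₁⁻¹ * z₂⁻¹ ∈ D :=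
    D.mul_mem (D.mul_mem (D.mul_mem h1 h2) (D.inv_mem h1)) (D.inv_mem h2)
  have hc20D : z₂ * z₀ * z₂⁻¹ * z₀⁻¹ ∈ D :=
    D.mul_mem (D.mul_mem (D.mul_mem h2 h0) (D.inv_mem h2)) (D.inv_mem h0)
  have hbc01 : b * (z₀ * z₁ * z₀⁻¹ * z₁⁻¹) * b⁻¹ = z₁ * z₂ * z₁⁻¹ * z₂⁻¹ := by
    rw [conj_comm', hb0, hb1]
  have hbc12 : b * (z₁ * z₂ * z₁⁻¹ * z₂⁻¹) * b⁻¹ = z₂ * z₀ * z₂⁻¹ * z₀⁻¹ := by
    rw [conj_comm', hb1, hb2]
  have hbc20 : b * (z₂ * z₀ * z₂⁻¹ * z₀⁻¹) * b⁻¹ = z₀ * z₁ * z₀⁻¹ * z₁⁻¹ := by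
    rw [conj_comm', hb2, hb0]
  rcases ht with ⟨ht0, ht1, ht2⟩ | ⟨ht0, ht1, ht2⟩
  · -- `t` centralizes everything
    have htc01 : t * (z₀ * z₁ * z₀⁻¹ * z₁⁻¹) * t⁻¹ = z₀ * z₁ * z₀⁻¹ * z₁⁻¹ := by
      rw [conj_comm', ht0, ht1]
    have htc12 : t * (z₁ * z₂ * z₁⁻¹ * z₂⁻¹) * t⁻¹ = z₁ * z₂ * z₁⁻¹ * z₂⁻¹ := by
      rw [conj_comm', ht1, ht2]
    have htc20 : t * (z₂ * z₀ * z₂⁻¹ * z₀⁻¹) * t⁻¹ = z₂ * z₀ * z₂⁻¹ * z₀⁻¹ := by
      rw [conj_comm', ht2, ht0]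
    have hwc01 : w * (z₀ * z₁ * z₀⁻¹ * z₁⁻¹) * w⁻¹ = (z₀ * z₁ * z₀⁻¹ * z₁⁻¹)⁻¹ := by
      rw [conj_comm', hw0, hw1, inv_inv]
      exact comm_inv_right' (hD2 z₀ h0 z₁ h1 z₁ h1)
    have hwc12 : w * (z₁ * z₂ * z₁⁻¹ * z₂⁻¹) * w⁻¹ = z₁ * z₂ * z₁⁻¹ * z₂⁻¹ := by
      rw [conj_comm', hw1, hw2, inv_inv, inv_inv]
      exact comm_inv_inv' (hD2 z₁ h1 z₂ h2 z₁ h1) (hD2 z₁ h1 z₂ h2 z₂ h2)
    have hwc20 : w * (z₂ * z₀ * z₂⁻¹ * z₀⁻¹) * w⁻¹ = (z₂ * z₀ * z₂⁻¹ * z₀⁻¹)⁻¹ := by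
      rw [conj_comm', hw2, hw0, inv_inv]
      exact comm_inv_left' (hD2 z₂ h2 z₀ h0 z₂ h2)
    have hc20 : z₂ * z₀ * z₂⁻¹ * z₀⁻¹ = 1 :=
      triple_trivial' hn c htB hrt hbB hbA hDP hD3 hc20D hc01D hc12D
        (hD2 z₂ h2 z₀ h0 _ hc01D) (hD2 z₁ h1 z₂ h2 _ hc20D)
        hbc20 hbc01 hbc12 htc20 htc01 htc12 hwU hwc20 hwc01 hwc12
    have hc01 : z₀ * z₁ * z₀⁻¹ * z₁⁻¹ = 1 := by
      rw [← hbc20, hc20, mul_one, mul_inv_cancel]
    have hc12 : z₁ * z₂ * z₁⁻¹ * z₂⁻¹ = 1 := by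
      rw [← hbc01, hc01, mul_one, mul_inv_cancel]
    exact hz₁ne (triple_trivial' hn c htB hrt hbB hbA hDP hD3 h1 h2 h0
      (comm_of_comm_eq_one' hc12) (comm_of_comm_eq_one' hc01)
      hb1 hb2 hb0 ht1 ht2 ht0 hwU hw1 hw2 hw0)
  · -- `t` inverts everything
    have hvU : t * w ∈ U ⊔ Subgroup.zpowers t :=
      Subgroup.mul_mem _ (Subgroup.mem_sup_right (Subgroup.mem_zpowers t))
        (Subgroup.mem_sup_left hwU)
    have hv1 : t * w ≠ 1 := by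
      intro h
      have : t = w⁻¹ := eq_inv_of_mul_eq_one_left h
      exact htU' (this ▸ U.inv_mem hwU)
    have hr := hrank _ hvU hv1
    have hvA : ∀ a ∈ A, a * (t * w) = (t * w) * a := by
      intro a ha
      rw [← mul_assoc, ← htB a (c.AB ha), mul_assoc, c.AU a ha w hwU, ← mul_assoc]
    have hvz1 : (t * w) * z₁ * (t * w)⁻¹ = z₁ := by
      rw [mul_conj', hw1, conj_inv', ht1, inv_inv]
    have hvz2 : (t * w) * z₂ * (t * w)⁻¹ = z₂ := by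
      rw [mul_conj', hw2, conj_inv', ht2, inv_inv]
    by_cases hc12 : z₁ * z₂ * z₁⁻¹ * z₂⁻¹ = 1
    · exact rank_false' hn c hr hvA (hDP h1) (hDP h2) (comm_of_comm_eq_one' hc12)
        (hD3 _ h1) (hD3 _ h2) (comm_of_conj_eq' hvz1) (comm_of_conj_eq' hvz2) hz₁ne hz₂ne
        hwU hw₁U hw1 (comm_of_conj_eq' hw₁1) hw₁2
    · have hvc : (t * w) * (z₁ * z₂ * z₁⁻¹ * z₂⁻¹) * (t * w)⁻¹ = z₁ * z₂ * z₁⁻¹ * z₂⁻¹ := by
        rw [conj_comm', hvz1, hvz2]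
      have hw₁c : (b * w * b⁻¹) * (z₁ * z₂ * z₁⁻¹ * z₂⁻¹) * (b * w * b⁻¹)⁻¹ =
          (z₁ * z₂ * z₁⁻¹ * z₂⁻¹)⁻¹ := by
        rw [conj_comm', hw₁1, hw₁2, inv_inv]
        exact comm_inv_right' (hD2 z₁ h1 z₂ h2 z₂ h2)
      exact rank_false' hn c hr hvA (hDP h1) (hDP hc12D) (hD2 z₁ h1 z₂ h2 z₁ h1).symm
        (hD3 _ h1) (hD3 _ hc12D) (comm_of_conj_eq' hvz1) (comm_of_conj_eq' hvc) hz₁ne hc12
        hwU hw₁U hw1 (comm_of_conj_eq' hw₁1) hw₁c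


/-! ### the keystone, from the two other keystones as hypotheses -/

theorem case_three_false_aux [Finite G] (n : ℕ) (hn : 1 ≤ n)
    (A B P U : Subgroup G) (c : Cfg 3 n A B P U) (t : G)
    (ht1 : t ≠ 1) (ht2 : t ^ 2 = 1) (htB : ∀ x ∈ B, t * x = x * t)
    (htU : ∀ u ∈ U, t * u = u * t) (htP : t ∈ Subgroup.normalizer (P : Set G))
    (hfaith : ∀ w ∈ U ⊔ Subgroup.zpowers t, (∀ x ∈ P, w * x = x * w) → w = 1)
    (hrank : ∀ w ∈ U ⊔ Subgroup.zpowers t, w ≠ 1 → RankBound 3 n w)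
    (hcrit : ∃ D : Subgroup G, D ≤ P ∧
      (∀ g ∈ Subgroup.normalizer (P : Set G), ∀ x ∈ D, g * x * g⁻¹ ∈ D) ∧
      (∀ x ∈ D, x ^ 3 = 1) ∧
      (∀ x ∈ D, ∀ y ∈ D, ∀ z ∈ D, (x * y * x⁻¹ * y⁻¹) * z = z * (x * y * x⁻¹ * y⁻¹)) ∧
      (∀ g ∈ Subgroup.normalizer (P : Set G), (orderOf g).Coprime 3 →
        (∀ x ∈ D, g * x = x * g) → ∀ x ∈ P, g * x = x * g))
    (heigen : ∀ (D U : Subgroup G), Odd (Nat.card D) →
      (∀ u ∈ U, u ^ 2 = 1) → (∀ u ∈ U, ∀ v ∈ U, u * v = v * u) →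
      (∀ u ∈ U, ∀ x ∈ D, u * x * u⁻¹ ∈ D) →
      ∀ (u₀ : G), u₀ ∈ U → (∃ x ∈ D, u₀ * x ≠ x * u₀) →
      ∃ y ∈ D, y ≠ 1 ∧ u₀ * y * u₀⁻¹ = y⁻¹ ∧
        ∀ u ∈ U, u * y * u⁻¹ = y ∨ u * y * u⁻¹ = y⁻¹) : False := by
  -- pick `b ∈ B \ A`
  obtain ⟨b, hbB, hbA⟩ : ∃ b ∈ B, b ∉ A := by
    by_contra h
    push Not at h
    have hle : B ≤ A := h
    have := Subgroup.card_le_of_le hle
    have hBA := card_B_eq' hn c
    have hApos : 0 < Nat.card A := Nat.card_pos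
    omega
  have hb3 : b ^ 3 = 1 := c.Be b hbB
  have htb : t * b = b * t := htB b hbB
  have htU' : t ∉ U := fun h => ht1 (c.Bfix b hbB hbA t h htb.symm)
  have hUU' : U ≤ U ⊔ Subgroup.zpowers t := le_sup_left
  have htU'' : t ∈ U ⊔ Subgroup.zpowers t :=
    (le_sup_right : Subgroup.zpowers t ≤ U ⊔ Subgroup.zpowers t) (Subgroup.mem_zpowers t)
  have hrt : RankBound 3 n t := hrank t htU'' ht1
  have hcl : U ⊔ Subgroup.zpowers t = Subgroup.closure ((U : Set G) ∪ {t}) := by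
    rw [Subgroup.closure_union, Subgroup.closure_eq, Subgroup.zpowers_eq_closure]
  have hgen_comm : ∀ x ∈ ((U : Set G) ∪ {t}), ∀ y ∈ ((U : Set G) ∪ {t}), x * y = y * x := by
    intro x hx y hy
    rcases hx with hx | hx <;> rcases hy with hy | hy
    · exact c.Uc x hx y hy
    · rw [Set.mem_singleton_iff.1 hy]; exact (htU x hx).symm
    · rw [Set.mem_singleton_iff.1 hx]; exact htU y hy
    · rw [Set.mem_singleton_iff.1 hx, Set.mem_singleton_iff.1 hy]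
  have hU'c : ∀ x ∈ U ⊔ Subgroup.zpowers t, ∀ y ∈ U ⊔ Subgroup.zpowers t, x * y = y * x := by
    rw [hcl]; exact closure_comm' hgen_comm
  have hU'2 : ∀ x ∈ U ⊔ Subgroup.zpowers t, x ^ 2 = 1 := by
    rw [hcl]
    apply closure_pow_eq_one' 2 hgen_comm
    intro x hx
    rcases hx with hx | hx
    · exact c.U2 x hx
    · rw [Set.mem_singleton_iff.1 hx]; exact ht2
  have hU'P : U ⊔ Subgroup.zpowers t ≤ Subgroup.normalizer (P : Set G) :=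
    sup_le c.UP (Subgroup.zpowers_le.2 htP)
  -- the critical subgroup
  obtain ⟨D, hDP, hDN, hD3, hD2, hDcrit⟩ := hcrit
  have hbN : b ∈ Subgroup.normalizer (P : Set G) := c.BP hbB
  obtain ⟨u₀, hu₀U, hu₀1⟩ : ∃ u ∈ U, u ≠ 1 := by
    by_contra h
    push Not at h
    exact c.U1 ((Subgroup.eq_bot_iff_forall U).2 h)
  have hu₀D : ∃ x ∈ D, u₀ * x ≠ x * u₀ := by
    by_contra h
    push Not at h
    apply hu₀1
    apply hfaith u₀ (hUU' hu₀U)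
    apply hDcrit u₀ (c.UP hu₀U) _ h
    have : orderOf u₀ ∣ 2 := orderOf_dvd_of_pow_eq_one (c.U2 u₀ hu₀U)
    exact Nat.Coprime.coprime_dvd_left this (by norm_num)
  have hDodd : Odd (Nat.card D) := by
    obtain ⟨k, hk⟩ := (IsPGroup.iff_card (p := 3)).1 (c.Pp.to_le hDP)
    rw [hk]
    exact Odd.pow (by decide)
  obtain ⟨y, hyD, hy1, hu₀y, hCI⟩ := heigen D (U ⊔ Subgroup.zpowers t) hDodd hU'2 hU'c
    (fun u hu x hx => hDN u (hU'P hu) x hx) u₀ (hUU' hu₀U) hu₀D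
  -- the three conjugates of `y` and of `u₀`
  obtain ⟨y1, hy1def⟩ : ∃ y1, y1 = b * y * b⁻¹ := ⟨_, rfl⟩
  obtain ⟨y2, hy2def⟩ : ∃ y2, y2 = b * y1 * b⁻¹ := ⟨_, rfl⟩
  obtain ⟨u1, hu1def⟩ : ∃ u1, u1 = b * u₀ * b⁻¹ := ⟨_, rfl⟩
  obtain ⟨u2, hu2def⟩ : ∃ u2, u2 = b * u1 * b⁻¹ := ⟨_, rfl⟩
  have hcube : ∀ z : G, b * (b * (b * z * b⁻¹) * b⁻¹) * b⁻¹ = z := by
    intro z
    have hbbb : b * b * b = 1 := by rw [← hb3, pow_succ, pow_two]
    have : b * (b * (b * z * b⁻¹) * b⁻¹) * b⁻¹ = (b * b * b) * z * (b * b * b)⁻¹ := by group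
    rw [this, hbbb, one_mul, inv_one, mul_one]
  have hby2 : b * y2 * b⁻¹ = y := by rw [hy2def, hy1def]; exact hcube y
  have hbu2 : b * u2 * b⁻¹ = u₀ := by rw [hu2def, hu1def]; exact hcube u₀
  have hy1D : y1 ∈ D := hy1def ▸ hDN b hbN y hyD
  have hy2D : y2 ∈ D := hy2def ▸ hDN b hbN y1 hy1D
  have hu1U : u1 ∈ U := hu1def ▸ conj_mem_of_mem_normalizer' (c.BU hbB) hu₀U
  have hu2U : u2 ∈ U := hu2def ▸ conj_mem_of_mem_normalizer' (c.BU hbB) hu1U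
  have hy1ne : y1 ≠ 1 := by
    intro h
    rw [h] at hy1def
    exact hy1 (conj_eq_one_iff.1 hy1def.symm)
  have hy2ne : y2 ≠ 1 := by
    intro h
    rw [h] at hy2def
    exact hy1ne (conj_eq_one_iff.1 hy2def.symm)
  -- the product of the three conjugates of `u₀` is trivial
  have hm : u₀ * u1 * u2 = 1 := by
    apply c.Bfix b hbB hbA _ (U.mul_mem (U.mul_mem hu₀U hu1U) hu2U)
    have h1 : b * (u₀ * u1 * u2) * b⁻¹ = u1 * u2 * u₀ := by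
      rw [conj_mul3', ← hu1def, ← hu2def, hbu2]
    have h2 : u1 * u2 * u₀ = u₀ * u1 * u2 := by
      rw [c.Uc _ (U.mul_mem hu1U hu2U) u₀ hu₀U, mul_assoc]
    rw [h2] at h1
    exact mul_inv_eq_iff_eq_mul.1 h1
  have hu2eq : u2 = u₀ * u1 := by
    have h1 : (u₀ * u1)⁻¹ = u2 := inv_eq_of_mul_eq_one_right hm
    have h2 : (u₀ * u1)⁻¹ = u₀ * u1 := by
      apply inv_eq_of_mul_eq_one_right
      rw [← pow_two]
      exact c.U2 _ (U.mul_mem hu₀U hu1U)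
    rw [← h1, h2]
  have hequiv : ∀ w z w' z' : G, w' = b * w * b⁻¹ → z' = b * z * b⁻¹ →
      w' * z' * w'⁻¹ = b * (w * z * w⁻¹) * b⁻¹ := by
    intro w z w' z' hw hz
    rw [hw, hz]
    exact conj_act' b w z
  have htconj : t = b * t * b⁻¹ := by
    rw [← htb, mul_inv_cancel_right]
  -- the action of `t`
  have htall : (t * y * t⁻¹ = y ∧ t * y1 * t⁻¹ = y1 ∧ t * y2 * t⁻¹ = y2) ∨
      (t * y * t⁻¹ = y⁻¹ ∧ t * y1 * t⁻¹ = y1⁻¹ ∧ t * y2 * t⁻¹ = y2⁻¹) := by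
    rcases hCI t htU'' with h | h
    · left
      have h1 : t * y1 * t⁻¹ = y1 := by
        rw [hequiv t y t y1 htconj hy1def, h, ← hy1def]
      have h2 : t * y2 * t⁻¹ = y2 := by
        rw [hequiv t y1 t y2 htconj hy2def, h1, ← hy2def]
      exact ⟨h, h1, h2⟩
    · right
      have h1 : t * y1 * t⁻¹ = y1⁻¹ := by
        rw [hequiv t y t y1 htconj hy1def, h, conj_inv', ← hy1def]
      have h2 : t * y2 * t⁻¹ = y2⁻¹ := by
        rw [hequiv t y1 t y2 htconj hy2def, h1, conj_inv', ← hy2def]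
      exact ⟨h, h1, h2⟩
  rcases hCI u1 (hUU' hu1U) with hA | hB
  · -- `u₀` acts as (I, I, C) on `(y, y1, y2)`
    have h21 : u2 * y1 * u2⁻¹ = y1 := by
      rw [hequiv u1 y u2 y1 hu2def hy1def, hA, ← hy1def]
    have h02 : u₀ * y2 * u₀⁻¹ = y2 := by
      rw [hequiv u2 y1 u₀ y2 hbu2.symm hy2def, h21, ← hy2def]
    have h20 : u2 * y * u2⁻¹ = y⁻¹ := by
      rw [hu2eq, mul_conj', hA, hu₀y]
    have h01 : u₀ * y1 * u₀⁻¹ = y1⁻¹ := by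
      rw [hequiv u2 y u₀ y1 hbu2.symm hy1def, h20, conj_inv', ← hy1def]
    have htall' : (t * y2 * t⁻¹ = y2 ∧ t * y * t⁻¹ = y ∧ t * y1 * t⁻¹ = y1) ∨
        (t * y2 * t⁻¹ = y2⁻¹ ∧ t * y * t⁻¹ = y⁻¹ ∧ t * y1 * t⁻¹ = y1⁻¹) := by
      rcases htall with ⟨a, b', c'⟩ | ⟨a, b', c'⟩
      · exact Or.inl ⟨c', a, b'⟩
      · exact Or.inr ⟨c', a, b'⟩
    exact core_false' hn c htB htU' hrt hrank hbB hbA hDP hD3 hD2 hy2D hyD hy1D
      hby2 hy1def.symm hy2def.symm hy2ne hu₀U h02 hu₀y h01 htall'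
  · -- `u₀` acts as (I, C, I) on `(y, y1, y2)`
    have h21 : u2 * y1 * u2⁻¹ = y1⁻¹ := by
      rw [hequiv u1 y u2 y1 hu2def hy1def, hB, conj_inv', ← hy1def]
    have h02 : u₀ * y2 * u₀⁻¹ = y2⁻¹ := by
      rw [hequiv u2 y1 u₀ y2 hbu2.symm hy2def, h21, conj_inv', ← hy2def]
    have h20 : u2 * y * u2⁻¹ = y := by
      rw [hu2eq, mul_conj', hB, conj_inv', hu₀y, inv_inv]
    have h01 : u₀ * y1 * u₀⁻¹ = y1 := by
      rw [hequiv u2 y u₀ y1 hbu2.symm hy1def, h20, ← hy1def]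
    have htall' : (t * y1 * t⁻¹ = y1 ∧ t * y2 * t⁻¹ = y2 ∧ t * y * t⁻¹ = y) ∨
        (t * y1 * t⁻¹ = y1⁻¹ ∧ t * y2 * t⁻¹ = y2⁻¹ ∧ t * y * t⁻¹ = y⁻¹) := by
      rcases htall with ⟨a, b', c'⟩ | ⟨a, b', c'⟩
      · exact Or.inl ⟨b', c', a⟩
      · exact Or.inr ⟨b', c', a⟩
    exact core_false' hn c htB htU' hrt hrank hbB hbA hDP hD3 hD2 hy1D hy2D hyD
      hy2def.symm hby2 hy1def.symm hy1ne hu₀U h01 h02 hu₀y htall'


/-- **K-S1874-F** Case II, `p = 3`, with an involution `t` centralizing `B` and `U`. -/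
theorem case_three_false [Finite G] (n : ℕ) (hn : 1 ≤ n)
    (A B P U : Subgroup G) (c : Cfg 3 n A B P U) (t : G)
    (ht1 : t ≠ 1) (ht2 : t ^ 2 = 1) (htB : ∀ x ∈ B, t * x = x * t)
    (htU : ∀ u ∈ U, t * u = u * t) (htP : t ∈ Subgroup.normalizer (P : Set G))
    (hfaith : ∀ w ∈ U ⊔ Subgroup.zpowers t, (∀ x ∈ P, w * x = x * w) → w = 1)
    (hrank : ∀ w ∈ U ⊔ Subgroup.zpowers t, w ≠ 1 → RankBound 3 n w) : False :=
  case_three_false_aux n hn A B P U c t ht1 ht2 htB htU htP hfaith hrank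
    (Cfsg.Agent.Lib.Helper33.Symp.exists_crit (p := 3) (by decide) P c.Pp)
    (fun D U' hD h2 hc hn' u₀ hu₀ hne =>
      Cfsg.Agent.Lib.Helper18.Symp.exists_eigen D U' hD h2 hc hn' u₀ hu₀ hne)

end Cfsg.Agent.Lib.Helper59.Symp
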