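import Mathlib
import Cfsg.Agent.Lib.Helper94.THDefs
import Cfsg.Agent.Lib.Helper56.THB0

/-!
# K-TH-B6 (keystone 163209, pack K-TH for S1632, architect helper94): the `n`-dimensional theta
inversion formula by induction on `n` (Schur complement + one-variable Jacobi inversion), with the
other leaves of the pack (B1 `schur_isPD`, B4 `jacobi_step`, B5a `summable_ThTerm`,
B5b `summable_ThDTerm`) taken as hypotheses: `theta_inversion_of`.
-/

set_option autoImplicit false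

namespace Cfsg.Agent.Lib.Helper59.TH

open Matrix Complex
open scoped Real
open Cfsg.Agent.Lib.Helper94.TH

theorem b6_rq_cons {n : ℕ} {A : Matrix (Fin (n+1)) (Fin (n+1)) ℝ} (hA : A.IsSymm) (m : ℝ)
    (y : Fin n → ℝ) :
    rq A (Fin.cons m y) = A 0 0 * m ^ 2 + 2 * m * (∑ i, A 0 i.succ * y i) +
      rq (A.submatrix Fin.succ Fin.succ) y := by
  have hs : ∀ i : Fin n, A i.succ 0 = A 0 i.succ := fun i => hA.apply _ _
  simp only [rq, dotProduct, mulVec, Fin.sum_univ_succ, Fin.cons_zero, Fin.cons_succ,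
    submatrix_apply, hs]
  simp only [mul_add, Finset.sum_add_distrib, Finset.mul_sum]
  have : ∑ i : Fin n, y i * (A 0 i.succ * m) = ∑ i : Fin n, m * (A 0 i.succ * y i) :=
    Finset.sum_congr rfl (fun i _ => by ring)
  rw [this]
  have h2 : ∑ i : Fin n, 2 * m * (A 0 i.succ * y i) =
      ∑ i : Fin n, m * (A 0 i.succ * y i) + ∑ i : Fin n, m * (A 0 i.succ * y i) := by
    rw [← Finset.sum_add_distrib]
    exact Finset.sum_congr rfl (fun i _ => by ring)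
  rw [h2]
  ring

theorem b6_rq_schur {n : ℕ} {A : Matrix (Fin (n+1)) (Fin (n+1)) ℝ} (hA : A.IsSymm)
    (y : Fin n → ℝ) :
    rq (schur A) y = rq (A.submatrix Fin.succ Fin.succ) y -
      (∑ i, A 0 i.succ * y i) ^ 2 / A 0 0 := by
  have hs : ∀ i : Fin n, A i.succ 0 = A 0 i.succ := fun i => hA.apply _ _
  simp only [rq, dotProduct, mulVec, schur, of_apply, submatrix_apply, hs]
  simp only [sub_mul, Finset.sum_sub_distrib, mul_sub]
  congr 1
  rw [sq, Finset.sum_mul_sum, Finset.sum_div]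
  refine Finset.sum_congr rfl (fun i _ => ?_)
  rw [Finset.mul_sum, Finset.sum_div]
  refine Finset.sum_congr rfl (fun j _ => ?_)
  ring

/-- the real vector of `Fin.cons m y` -/
theorem b6_cast_cons {n : ℕ} (m : ℤ) (y : Fin n → ℤ) :
    (fun i => ((Fin.cons m y : Fin (n + 1) → ℤ) i : ℝ)) =
      Fin.cons (m : ℝ) (fun i => (y i : ℝ)) := by
  funext i
  refine Fin.cases ?_ (fun j => ?_) i
  · simp
  · simp

/-- the theta term of `cons m y`: the one-dimensional factor times the rest -/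
theorem b6_ThTerm_cons {n : ℕ} {A : Matrix (Fin (n+1)) (Fin (n+1)) ℝ} (hA : A.IsSymm) (τ : ℂ)
    (z : Fin (n + 1) → ℂ) (m : ℤ) (y : Fin n → ℤ) :
    ThTerm A τ z (Fin.cons m y) =
      cexp (π * I * (τ * ((A 0 0 * (m : ℝ) ^ 2 : ℝ) : ℂ) + 2 * (m : ℂ) *
        (τ * ((∑ i, A 0 i.succ * (y i : ℝ) : ℝ) : ℂ) + z 0))) *
      cexp (π * I * (τ * (rq (A.submatrix Fin.succ Fin.succ) (fun i => (y i : ℝ)) : ℂ) +
        2 * ∑ i, (y i : ℂ) * z i.succ)) := by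
  unfold ThTerm
  rw [b6_cast_cons, b6_rq_cons hA, ← Complex.exp_add, Fin.sum_univ_succ]
  simp only [Fin.cons_zero, Fin.cons_succ]
  congr 1
  push_cast
  ring

/-- the KEY IDENTITY -/
theorem b6_key {n : ℕ} {A : Matrix (Fin (n+1)) (Fin (n+1)) ℝ} (hA : A.IsSymm)
    (h0 : A 0 0 ≠ 0) {τ : ℂ} (hτ : τ ≠ 0)
    (z : Fin (n + 1) → ℂ) (k : ℤ) (y : Fin n → ℤ) :
    cexp (-(π * I / τ) * (((k : ℂ) - (τ * ((∑ i, A 0 i.succ * (y i : ℝ) : ℝ) : ℂ) + z 0)) ^ 2 /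
        ((A 0 0 : ℝ) : ℂ))) *
      cexp (π * I * (τ * (rq (A.submatrix Fin.succ Fin.succ) (fun i => (y i : ℝ)) : ℂ) +
        2 * ∑ i, (y i : ℂ) * z i.succ)) =
    cexp (-(π * I / τ) * (((k : ℂ) - z 0) ^ 2 / ((A 0 0 : ℝ) : ℂ))) *
      ThTerm (schur A) τ
        (fun i => z i.succ + ((k : ℂ) - z 0) * ((A 0 i.succ : ℝ) : ℂ) / ((A 0 0 : ℝ) : ℂ)) y := by
  unfold ThTerm
  rw [b6_rq_schur hA, ← Complex.exp_add, ← Complex.exp_add]
  congr 1
  have ha : ((A 0 0 : ℝ) : ℂ) ≠ 0 := by exact_mod_cast h0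
  have hsum : ∑ i, (y i : ℂ) * (z i.succ + ((k : ℂ) - z 0) * ((A 0 i.succ : ℝ) : ℂ) /
      ((A 0 0 : ℝ) : ℂ)) = ∑ i, (y i : ℂ) * z i.succ +
      ((k : ℂ) - z 0) * ((∑ i, A 0 i.succ * (y i : ℝ) : ℝ) : ℂ) / ((A 0 0 : ℝ) : ℂ) := by
    push_cast
    rw [Finset.mul_sum, Finset.sum_div, ← Finset.sum_add_distrib]
    refine Finset.sum_congr rfl (fun i _ => ?_)
    ring
  rw [hsum]
  push_cast
  field_simp
  ring

/-- unfolding the dual term along `cons` -/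
theorem b6_ThDTerm_cons {n : ℕ} (A : Matrix (Fin (n+1)) (Fin (n+1)) ℝ) (τ : ℂ)
    (z : Fin (n + 1) → ℂ) (k : ℤ) (k' : Fin n → ℤ) :
    ThDTerm (n + 1) A τ z (Fin.cons k k') =
      cexp (-(π * I / τ) * (((k : ℂ) - z 0) ^ 2 / ((A 0 0 : ℝ) : ℂ))) *
      ThDTerm n (schur A) τ
        (fun i => z i.succ + ((k : ℂ) - z 0) * ((A 0 i.succ : ℝ) : ℂ) / ((A 0 0 : ℝ) : ℂ)) k' := by
  unfold ThDTerm
  rw [← Complex.exp_add]
  congr 1
  simp only [dq, Fin.cons_zero, Fin.cons_succ]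
  rw [mul_add]
  congr 2
  congr 1
  funext i
  ring


/-- the norm of the Schur theta term does not depend on `k` -/
theorem b6_norm_indep {n : ℕ} (A : Matrix (Fin (n+1)) (Fin (n+1)) ℝ) (τ : ℂ)
    (z : Fin (n + 1) → ℂ) (k : ℤ) (y : Fin n → ℤ) :
    ‖ThTerm (schur A) τ
        (fun i => z i.succ + ((k : ℂ) - z 0) * ((A 0 i.succ : ℝ) : ℂ) / ((A 0 0 : ℝ) : ℂ)) y‖ =
    ‖ThTerm (schur A) τ
        (fun i => z i.succ + (((0 : ℤ) : ℂ) - z 0) * ((A 0 i.succ : ℝ) : ℂ) /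
          ((A 0 0 : ℝ) : ℂ)) y‖ := by
  rw [Cfsg.Agent.Lib.Helper56.TH.norm_ThTerm, Cfsg.Agent.Lib.Helper56.TH.norm_ThTerm]
  have h : ∀ i : Fin n, (z i.succ + ((k : ℂ) - z 0) * ((A 0 i.succ : ℝ) : ℂ) /
      ((A 0 0 : ℝ) : ℂ)).im = (z i.succ + (((0 : ℤ) : ℂ) - z 0) * ((A 0 i.succ : ℝ) : ℂ) /
      ((A 0 0 : ℝ) : ℂ)).im := by
    intro i
    simp only [Complex.add_im, Complex.div_ofReal_im, Complex.im_mul_ofReal, Complex.sub_im,
      Complex.intCast_im]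
  simp only [h]

/-- theta inversion from the other leaves of the pack (B1, B4, B5a, B5b as hypotheses) -/
theorem theta_inversion_of
    (H1 : ∀ {n : ℕ} {A : Matrix (Fin (n + 1)) (Fin (n + 1)) ℝ}, IsPD A →
      0 < A 0 0 ∧ IsPD (schur A))
    (H4 : ∀ {a : ℝ}, 0 < a → ∀ {τ : ℂ}, 0 < τ.im → ∀ w : ℂ,
      Summable (fun m : ℤ =>
        ‖cexp (π * I * (τ * ((a * (m : ℝ) ^ 2 : ℝ) : ℂ) + 2 * (m : ℂ) * w))‖) ∧
      Summable (fun k : ℤ => ‖cexp (-(π * I / τ) * (((k : ℂ) - w) ^ 2 / (a : ℂ)))‖) ∧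
      ∑' m : ℤ, cexp (π * I * (τ * ((a * (m : ℝ) ^ 2 : ℝ) : ℂ) + 2 * (m : ℂ) * w)) =
        (((Real.sqrt a)⁻¹ : ℝ) : ℂ) * rt τ *
          ∑' k : ℤ, cexp (-(π * I / τ) * (((k : ℂ) - w) ^ 2 / (a : ℂ))))
    (H5a : ∀ {n : ℕ} {A : Matrix (Fin n) (Fin n) ℝ}, IsPD A → ∀ {τ : ℂ}, 0 < τ.im →
      ∀ z : Fin n → ℂ, Summable (fun x : Fin n → ℤ => ‖ThTerm A τ z x‖))
    (H5b : ∀ {n : ℕ} {A : Matrix (Fin n) (Fin n) ℝ}, IsPD A → ∀ {τ : ℂ}, 0 < τ.im →
      ∀ z : Fin n → ℂ, Summable (fun k : Fin n → ℤ => ‖ThDTerm n A τ z k‖))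
    {τ : ℂ} (hτ : 0 < τ.im) (n : ℕ) :
    ∀ {A : Matrix (Fin n) (Fin n) ℝ}, IsPD A → ∀ z : Fin n → ℂ,
      Th A τ z = (cst n A : ℂ) * rt τ ^ n * ThD n A τ z := by
  induction n with
  | zero =>
    intro A hA z
    have h1 : Th A τ z = 1 := by
      unfold Th
      rw [tsum_eq_single (default : Fin 0 → ℤ)
        (fun b hb => absurd (Subsingleton.elim b default) hb)]
      simp [ThTerm, rq]
    have h2 : ThD 0 A τ z = 1 := by
      unfold ThD
      rw [tsum_eq_single (default : Fin 0 → ℤ)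
        (fun b hb => absurd (Subsingleton.elim b default) hb)]
      simp [ThDTerm, dq]
    rw [h1, h2]
    simp [cst]
  | succ n ih =>
    intro A hA z
    obtain ⟨ha, hS⟩ := H1 hA
    have hsym := hA.1
    have hτ0 : τ ≠ 0 := by
      intro h
      rw [h] at hτ
      simp at hτ
    let ζ : ℤ → Fin n → ℂ := fun k i =>
      z i.succ + ((k : ℂ) - z 0) * ((A 0 i.succ : ℝ) : ℂ) / ((A 0 0 : ℝ) : ℂ)
    let c : ℤ → ℂ := fun k => cexp (-(π * I / τ) * (((k : ℂ) - z 0) ^ 2 / ((A 0 0 : ℝ) : ℂ)))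
    let e : (Fin n → ℤ) × ℤ ≃ (Fin (n + 1) → ℤ) :=
      (Equiv.prodComm _ _).trans (Fin.consEquiv (fun _ => ℤ))
    -- Step A
    have hsumA : Summable (fun x => ThTerm A τ z x) := (H5a hA hτ z).of_norm
    have hA1 : Th A τ z = ∑' y : Fin n → ℤ, ∑' m : ℤ, ThTerm A τ z (Fin.cons m y) := by
      unfold Th
      rw [← Equiv.tsum_eq e]
      exact Summable.tsum_prod (f := fun p => ThTerm A τ z (e p))
        ((Equiv.summable_iff e).mpr hsumA)
    -- Step B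
    have hB : ∀ y : Fin n → ℤ, ∑' m : ℤ, ThTerm A τ z (Fin.cons m y) =
        (((Real.sqrt (A 0 0))⁻¹ : ℝ) : ℂ) * rt τ *
          ∑' k : ℤ, c k * ThTerm (schur A) τ (ζ k) y := by
      intro y
      obtain ⟨_, _, hj⟩ := H4 ha hτ (τ * ((∑ i, A 0 i.succ * (y i : ℝ) : ℝ) : ℂ) + z 0)
      simp_rw [b6_ThTerm_cons hsym]
      rw [tsum_mul_right, hj, mul_assoc, ← tsum_mul_right]
      congr 1
      refine tsum_congr (fun k => ?_)
      exact b6_key hsym ha.ne' hτ0 z k y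
    -- Step C
    have hcsum : Summable (fun k : ℤ => ‖c k‖) := (H4 ha hτ (z 0)).2.1
    have hG1 : Summable (fun y : Fin n → ℤ => ‖ThTerm (schur A) τ (ζ 0) y‖) :=
      H5a hS hτ (ζ 0)
    have hnorm : ∀ (k : ℤ) (y : Fin n → ℤ),
        ‖ThTerm (schur A) τ (ζ k) y‖ = ‖ThTerm (schur A) τ (ζ 0) y‖ :=
      fun k y => b6_norm_indep A τ z k y
    have hsumg : Summable (Function.uncurry
        (fun (y : Fin n → ℤ) (k : ℤ) => c k * ThTerm (schur A) τ (ζ k) y)) := by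
      apply Summable.of_norm
      have := Summable.mul_of_nonneg hG1 hcsum (fun _ => norm_nonneg _) (fun _ => norm_nonneg _)
      refine this.congr (fun p => ?_)
      simp only [Function.uncurry, norm_mul, hnorm]
      ring
    have hC : ∑' y : Fin n → ℤ, ∑' k : ℤ, c k * ThTerm (schur A) τ (ζ k) y =
        ∑' k : ℤ, ∑' y : Fin n → ℤ, c k * ThTerm (schur A) τ (ζ k) y :=
      (Summable.tsum_comm hsumg).symm
    -- Step D
    have hD : ∀ k : ℤ, ∑' y : Fin n → ℤ, c k * ThTerm (schur A) τ (ζ k) y =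
        (cst n (schur A) : ℂ) * rt τ ^ n *
          ∑' k' : Fin n → ℤ, ThDTerm (n + 1) A τ z (Fin.cons k k') := by
      intro k
      rw [tsum_mul_left]
      have h := ih hS (ζ k)
      unfold Th at h
      rw [h]
      unfold ThD
      simp_rw [b6_ThDTerm_cons]
      rw [tsum_mul_left]
      ring
    -- Step E
    have hsumD : Summable (fun x => ThDTerm (n + 1) A τ z x) := (H5b hA hτ z).of_norm
    let e' : ℤ × (Fin n → ℤ) ≃ (Fin (n + 1) → ℤ) := Fin.consEquiv (fun _ => ℤ)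
    have hE : ThD (n + 1) A τ z =
        ∑' k : ℤ, ∑' k' : Fin n → ℤ, ThDTerm (n + 1) A τ z (Fin.cons k k') := by
      unfold ThD
      rw [← Equiv.tsum_eq e']
      exact Summable.tsum_prod (f := fun p => ThDTerm (n + 1) A τ z (e' p))
        ((Equiv.summable_iff e').mpr hsumD)
    rw [hA1]
    simp_rw [hB]
    rw [tsum_mul_left, hC]
    simp_rw [hD]
    rw [tsum_mul_left, ← hE]
    simp only [cst]
    push_cast
    ring

#print axioms theta_inversion_of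

end Cfsg.Agent.Lib.Helper59.TH
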