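import Mathlib
import Cfsg.Prelude.Def_Balance
import Cfsg.Agent.Lib.Helper59.P4Main
import Cfsg.Agent.Lib.Helper59.PGroupCenter
import Cfsg.Agent.Lib.Helper26.NormalP3b

set_option autoImplicit false
set_option linter.unusedSectionVars false

/-!
# `3`-groups of rank at least `4` are `2`-connected
-/

namespace Cfsg.Agent.Lib.Helper59

open Cfsg.Agent.Lib.Helper26

section Jordan

variable {P : Type*} [Group P] [Finite P]

/-- three pairwise commuting elements -/
theorem comm_word_eq {a b d : P} (hab : Commute a b) (had : Commute a d) (hbd : Commute b d)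
    (hb3 : b ^ 3 = 1) (hd3 : d ^ 3 = 1) :
    a * b⁻¹ * d * b⁻¹ * d * a⁻¹ * d * b⁻¹ = 1 := by
  have hX : Commute a (b⁻¹ * d * b⁻¹ * d) :=
    (((hab.inv_right).mul_right had).mul_right hab.inv_right).mul_right had
  have h1 : a * b⁻¹ * d * b⁻¹ * d * a⁻¹ * d * b⁻¹ =
      (a * (b⁻¹ * d * b⁻¹ * d)) * a⁻¹ * (d * b⁻¹) := by group
  rw [h1, hX.eq]
  have hbd' : Commute b⁻¹ d := hbd.inv_left
  have h2 : b⁻¹ * d * b⁻¹ * d * a * a⁻¹ * (d * b⁻¹) = (b⁻¹ * d) * (b⁻¹ * d) * (d * b⁻¹) := by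
    group
  rw [h2, ← hbd'.eq]
  have h3 : (b⁻¹ * d) * (b⁻¹ * d) * (b⁻¹ * d) = (b⁻¹ * d) ^ 3 := by
    rw [pow_succ, pow_two]
  rw [h3, hbd'.mul_pow, inv_pow, hb3, hd3, inv_one, one_mul]

/-- the kernel of a composite -/
theorem card_range_restrict_le {A : Type*} [Group A] [Finite A] (f : A →* A)
    (hf : ∀ x : A, f (f (f x)) = 1) : Nat.card A ≤ Nat.card f.ker * (Nat.card f.ker * Nat.card f.ker) := by
  rw [card_eq_ker_mul_range f]
  apply Nat.mul_le_mul_left
  rw [card_eq_ker_mul_range (f.comp f.range.subtype)]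
  apply Nat.mul_le_mul
  · have hinj : Function.Injective (fun k : ↥(f.comp f.range.subtype).ker =>
        (⟨((k : ↥f.range) : A), by
          have := k.2
          rw [MonoidHom.mem_ker, MonoidHom.comp_apply] at this
          exact MonoidHom.mem_ker.mpr this⟩ : ↥f.ker)) := by
      intro a b hab
      have := congrArg Subtype.val hab
      exact Subtype.ext (Subtype.ext this)
    exact Nat.card_le_card_of_injective _ hinj
  · apply Subgroup.card_le_of_le
    rintro _ ⟨⟨_, ⟨x, rfl⟩⟩, rfl⟩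
    rw [MonoidHom.mem_ker, MonoidHom.comp_apply]
    exact hf x

/-- **Jordan blocks**: an element of order `3` centralizes at least `9` elements of a normal
elementary abelian subgroup of order `81`. -/
theorem card_centralizer_ge (W : Subgroup P) [hWn : W.Normal]
    (hWcomm : ∀ a ∈ W, ∀ b ∈ W, a * b = b * a) (hWexp : ∀ a ∈ W, a ^ 3 = 1)
    (hWcard : Nat.card W = 3 ^ 4) (e : P) (he : e ^ 3 = 1) :
    3 ^ 2 ≤ Nat.card (W ⊓ Subgroup.centralizer {e} : Subgroup P) := by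
  have hf : ∀ x ∈ W, x * e * x⁻¹ * e⁻¹ ∈ W := by
    intro x hx
    have h1 : x * e * x⁻¹ * e⁻¹ = x * (e * x⁻¹ * e⁻¹) := by group
    rw [h1]
    exact W.mul_mem hx (hWn.conj_mem _ (W.inv_mem hx) e)
  let ψ : ↥W →* ↥W := commHom W W e hWcomm hWcomm hf
  have hψ3 : ∀ x : ↥W, ψ (ψ (ψ x)) = 1 := by
    intro x
    apply Subtype.ext
    have hb : e * (x : P) * e⁻¹ ∈ W := hWn.conj_mem _ x.2 e
    have hd : e * (e * (x : P) * e⁻¹) * e⁻¹ ∈ W := hWn.conj_mem _ hb e
    have hfe : e * (e * (e * (x : P) * e⁻¹) * e⁻¹) * e⁻¹ = (x : P) := by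
      have h1 : e * (e * (e * (x : P) * e⁻¹) * e⁻¹) * e⁻¹ = e ^ 3 * (x : P) * (e ^ 3)⁻¹ := by
        rw [pow_succ, pow_two]; group
      rw [h1, he]; group
    have key : ((ψ (ψ (ψ x)) : ↥W) : P) =
        (x : P) * (e * (x : P) * e⁻¹)⁻¹ * (e * (e * (x : P) * e⁻¹) * e⁻¹) *
          (e * (x : P) * e⁻¹)⁻¹ * (e * (e * (x : P) * e⁻¹) * e⁻¹) *
          (e * (e * (e * (x : P) * e⁻¹) * e⁻¹) * e⁻¹)⁻¹ * (e * (e * (x : P) * e⁻¹) * e⁻¹) *
          (e * (x : P) * e⁻¹)⁻¹ := by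
      simp only [ψ, commHom_apply]
      group
    rw [key, hfe]
    exact comm_word_eq (hWcomm _ x.2 _ hb) (hWcomm _ x.2 _ hd) (hWcomm _ hb _ hd)
      (hWexp _ hb) (hWexp _ hd)
  have hcard := card_range_restrict_le ψ hψ3
  rw [hWcard] at hcard
  -- the kernel embeds into the centralizer
  have hker : Nat.card ψ.ker ≤ Nat.card (W ⊓ Subgroup.centralizer {e} : Subgroup P) := by
    have hinj : Function.Injective (fun k : ↥ψ.ker =>
        (⟨((k : ↥W) : P), Subgroup.mem_inf.mpr ⟨(k : ↥W).2, by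
          rw [Subgroup.mem_centralizer_singleton_iff]
          exact ((commHom_mem_ker W W e hWcomm hWcomm hf _).mp k.2)⟩⟩ :
          ↥(W ⊓ Subgroup.centralizer {e} : Subgroup P))) := by
      intro a b hab
      have := congrArg Subtype.val hab
      exact Subtype.ext (Subtype.ext this)
    exact Nat.card_le_card_of_injective _ hinj
  refine le_trans ?_ hker
  -- `|ker|` divides `81` and its cube is at least `81`
  have hdvd : Nat.card ψ.ker ∣ 3 ^ 4 := by
    rw [← hWcard]; exact Subgroup.card_subgroup_dvd_card _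
  obtain ⟨k, hk, hk2⟩ := (Nat.dvd_prime_pow Nat.prime_three).mp hdvd
  rw [hk2] at hcard ⊢
  interval_cases k
  · norm_num at hcard
  · norm_num at hcard
  · norm_num
  · norm_num
  · norm_num

end Jordan

section Conn

variable {P : Type*} [Group P] [Finite P]

/-- the edge relation of the commuting graph -/
abbrev Rel32 (P : Type*) [Group P] : Subgroup P → Subgroup P → Prop :=
  fun A B : Subgroup P => Cfsg.IsElementaryAbelian 3 A ∧ 3 ^ 2 ≤ Nat.card ↥A ∧
    Cfsg.IsElementaryAbelian 3 B ∧ 3 ^ 2 ≤ Nat.card ↥B ∧ ∀ a ∈ A, ∀ b ∈ B, a * b = b * a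

theorem rel32_symm : ∀ A B : Subgroup P, Rel32 P A B → Rel32 P B A := fun _ _ h =>
  ⟨h.2.2.1, h.2.2.2.1, h.1, h.2.1, fun b hb a ha => (h.2.2.2.2 a ha b hb).symm⟩

theorem rtg_symm {α : Type*} {r : α → α → Prop} (hr : ∀ a b, r a b → r b a) {a b : α}
    (h : Relation.ReflTransGen r a b) : Relation.ReflTransGen r b a := by
  induction h with
  | refl => exact Relation.ReflTransGen.refl
  | tail _ hbc ih => exact Relation.ReflTransGen.head (hr _ _ hbc) ih

theorem isEA_of (A : Subgroup P) (hc : ∀ a ∈ A, ∀ b ∈ A, a * b = b * a)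
    (he : ∀ a ∈ A, a ^ 3 = 1) : Cfsg.IsElementaryAbelian 3 A :=
  ⟨⟨⟨fun a b => Subtype.ext (hc a.1 a.2 b.1 b.2)⟩⟩, he⟩

theorem comm_of_isEA {A : Subgroup P} (h : Cfsg.IsElementaryAbelian 3 A) :
    ∀ a ∈ A, ∀ b ∈ A, a * b = b * a := by
  intro a ha b hb
  have := h.1.is_comm.comm (⟨a, ha⟩ : ↥A) ⟨b, hb⟩
  exact congrArg Subtype.val this

/-- every vertex is joined to the normal elementary abelian subgroup of order `81`. -/
theorem path_to_normal (hP : IsPGroup 3 P) (W : Subgroup P) [hWn : W.Normal]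
    (hWcomm : ∀ a ∈ W, ∀ b ∈ W, a * b = b * a) (hWexp : ∀ a ∈ W, a ^ 3 = 1)
    (hWcard : Nat.card W = 3 ^ 4) (E : Subgroup P) (hE : Cfsg.IsElementaryAbelian 3 E)
    (hE9 : 3 ^ 2 ≤ Nat.card E) : Relation.ReflTransGen (Rel32 P) E W := by
  have hp3 : Fact (Nat.Prime 3) := ⟨Nat.prime_three⟩
  have hEcomm := comm_of_isEA hE
  have hWEA : Cfsg.IsElementaryAbelian 3 W := isEA_of W hWcomm hWexp
  -- a nontrivial element of `W` centralized by `E`
  have hWne : W ≠ ⊥ := by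
    intro hb
    rw [hb, Subgroup.card_bot] at hWcard
    norm_num at hWcard
  have hNn : (W.subgroupOf (W ⊔ E)).Normal := hWn.subgroupOf _
  have hNne : W.subgroupOf (W ⊔ E) ≠ ⊥ := by
    intro hb
    rw [Subgroup.subgroupOf_eq_bot, disjoint_iff, inf_eq_left.mpr le_sup_left] at hb
    exact hWne hb
  obtain ⟨z', hz'N, hz'c, hz'1⟩ :=
    exists_mem_center_of_normal_ne_bot (hP.to_subgroup (W ⊔ E)) (W.subgroupOf (W ⊔ E)) hNne
  have hwW : (z' : P) ∈ W := Subgroup.mem_subgroupOf.mp hz'N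
  have hw1 : (z' : P) ≠ 1 := fun h => hz'1 (Subtype.ext h)
  have hwE : ∀ e ∈ E, e * (z' : P) = (z' : P) * e := by
    intro e he
    have := (Subgroup.mem_center_iff.mp hz'c) ⟨e, Subgroup.mem_sup_right he⟩
    exact congrArg Subtype.val this
  have hw3 : (z' : P) ^ 3 = 1 := hWexp _ hwW
  have how : orderOf (z' : P) = 3 := orderOf_eq_prime hw3 hw1
  -- an element of `E` outside `⟨w⟩`
  obtain ⟨e₁, he₁E, he₁w⟩ : ∃ e₁ ∈ E, e₁ ∉ Subgroup.zpowers (z' : P) := by
    by_contra hcon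
    push Not at hcon
    have hle : E ≤ Subgroup.zpowers (z' : P) := hcon
    have := Subgroup.card_le_of_le hle
    rw [Nat.card_zpowers, how] at this
    omega
  have he₁3 : e₁ ^ 3 = 1 := hE.2 e₁ he₁E
  have hcw : ∀ a ∈ Subgroup.zpowers (z' : P), ∀ b ∈ Subgroup.zpowers (z' : P), a * b = b * a := by
    intro a ha b hb
    obtain ⟨i, rfl⟩ := Subgroup.mem_zpowers_iff.mp ha
    obtain ⟨j, rfl⟩ := Subgroup.mem_zpowers_iff.mp hb
    exact ((Commute.refl _).zpow_zpow i j).eq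
  have hce : ∀ a ∈ Subgroup.zpowers e₁, ∀ b ∈ Subgroup.zpowers e₁, a * b = b * a := by
    intro a ha b hb
    obtain ⟨i, rfl⟩ := Subgroup.mem_zpowers_iff.mp ha
    obtain ⟨j, rfl⟩ := Subgroup.mem_zpowers_iff.mp hb
    exact ((Commute.refl _).zpow_zpow i j).eq
  have hcwe : ∀ a ∈ Subgroup.zpowers (z' : P), ∀ b ∈ Subgroup.zpowers e₁, a * b = b * a := by
    intro a ha b hb
    obtain ⟨i, rfl⟩ := Subgroup.mem_zpowers_iff.mp ha
    obtain ⟨j, rfl⟩ := Subgroup.mem_zpowers_iff.mp hb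
    have : Commute (z' : P) e₁ := (hwE e₁ he₁E).symm
    exact (this.zpow_zpow i j).eq
  have hew : ∀ a ∈ Subgroup.zpowers (z' : P), a ^ 3 = 1 := by
    intro a ha
    obtain ⟨i, rfl⟩ := Subgroup.mem_zpowers_iff.mp ha
    rw [← zpow_natCast, ← zpow_mul, mul_comm, zpow_mul, zpow_natCast, hw3, one_zpow]
  have hee : ∀ a ∈ Subgroup.zpowers e₁, a ^ 3 = 1 := by
    intro a ha
    obtain ⟨i, rfl⟩ := Subgroup.mem_zpowers_iff.mp ha
    rw [← zpow_natCast, ← zpow_mul, mul_comm, zpow_mul, zpow_natCast, he₁3, one_zpow]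
  have hAcomm := comm_sup _ _ hcw hce hcwe
  have hAexp := exp_sup 3 _ _ hcw hce hcwe hew hee
  have hAEA := isEA_of _ hAcomm hAexp
  have hA9 : 3 ^ 2 ≤ Nat.card (Subgroup.zpowers (z' : P) ⊔ Subgroup.zpowers e₁ : Subgroup P) := by
    obtain ⟨k, hk⟩ := (hP.to_subgroup
      (Subgroup.zpowers (z' : P) ⊔ Subgroup.zpowers e₁ : Subgroup P)).exists_card_eq
    have hle : Subgroup.zpowers (z' : P) ≤ Subgroup.zpowers (z' : P) ⊔ Subgroup.zpowers e₁ :=
      le_sup_left
    have h3 : 3 ≤ Nat.card (Subgroup.zpowers (z' : P) ⊔ Subgroup.zpowers e₁ : Subgroup P) := by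
      have := Subgroup.card_le_of_le hle
      rwa [Nat.card_zpowers, how] at this
    have hne3 : Nat.card (Subgroup.zpowers (z' : P) ⊔ Subgroup.zpowers e₁ : Subgroup P) ≠ 3 := by
      intro h3'
      have heq : Subgroup.zpowers (z' : P) = Subgroup.zpowers (z' : P) ⊔ Subgroup.zpowers e₁ :=
        Subgroup.eq_of_le_of_card_ge hle (by rw [h3', Nat.card_zpowers, how])
      apply he₁w
      rw [heq]
      exact Subgroup.mem_sup_right (Subgroup.mem_zpowers e₁)
    rw [hk] at h3 hne3 ⊢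
    have hk2 : 2 ≤ k := by
      by_contra hlt
      have : k = 0 ∨ k = 1 := by omega
      rcases this with rfl | rfl
      · norm_num at h3
      · norm_num at hne3
    exact Nat.pow_le_pow_right (by norm_num) hk2
  have hAE : ∀ a ∈ (Subgroup.zpowers (z' : P) ⊔ Subgroup.zpowers e₁ : Subgroup P), ∀ x ∈ E,
      x * a = a * x := by
    intro a ha x hx
    have hle : Subgroup.zpowers (z' : P) ⊔ Subgroup.zpowers e₁ ≤ Subgroup.centralizer {x} := by
      refine sup_le ?_ ?_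
      · rw [Subgroup.zpowers_le, Subgroup.mem_centralizer_singleton_iff]
        exact (hwE x hx).symm
      · rw [Subgroup.zpowers_le, Subgroup.mem_centralizer_singleton_iff]
        exact (hEcomm x hx e₁ he₁E).symm
    have := hle ha
    rw [Subgroup.mem_centralizer_singleton_iff] at this
    exact this.symm
  -- the centralizer of `e₁` in `W`
  have hW₁9 := card_centralizer_ge W hWcomm hWexp hWcard e₁ he₁3
  have hW₁EA : Cfsg.IsElementaryAbelian 3 (W ⊓ Subgroup.centralizer {e₁} : Subgroup P) :=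
    isEA_of _ (fun a ha b hb => hWcomm a (Subgroup.mem_inf.mp ha).1 b (Subgroup.mem_inf.mp hb).1)
      (fun a ha => hWexp a (Subgroup.mem_inf.mp ha).1)
  have hAW₁ : ∀ a ∈ (Subgroup.zpowers (z' : P) ⊔ Subgroup.zpowers e₁ : Subgroup P),
      ∀ x ∈ (W ⊓ Subgroup.centralizer {e₁} : Subgroup P), a * x = x * a := by
    intro a ha x hx
    obtain ⟨hxW, hxc⟩ := Subgroup.mem_inf.mp hx
    rw [Subgroup.mem_centralizer_singleton_iff] at hxc
    have hle : Subgroup.zpowers (z' : P) ⊔ Subgroup.zpowers e₁ ≤ Subgroup.centralizer {x} := by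
      refine sup_le ?_ ?_
      · rw [Subgroup.zpowers_le, Subgroup.mem_centralizer_singleton_iff]
        exact (hWcomm x hxW _ hwW).symm
      · rw [Subgroup.zpowers_le, Subgroup.mem_centralizer_singleton_iff]
        exact hxc.symm
    have := hle ha
    rw [Subgroup.mem_centralizer_singleton_iff] at this
    exact this
  have hW9 : 3 ^ 2 ≤ Nat.card W := by rw [hWcard]; norm_num
  have r1 : Rel32 P E (Subgroup.zpowers (z' : P) ⊔ Subgroup.zpowers e₁) :=
    ⟨hE, hE9, hAEA, hA9, fun x hx a ha => hAE a ha x hx⟩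
  have r2 : Rel32 P (Subgroup.zpowers (z' : P) ⊔ Subgroup.zpowers e₁)
      (W ⊓ Subgroup.centralizer {e₁}) := ⟨hAEA, hA9, hW₁EA, hW₁9, hAW₁⟩
  have r3 : Rel32 P (W ⊓ Subgroup.centralizer {e₁}) W :=
    ⟨hW₁EA, hW₁9, hWEA, hW9, fun a ha b hb => hWcomm a (Subgroup.mem_inf.mp ha).1 b hb⟩
  exact ((Relation.ReflTransGen.single r1).tail r2).tail r3

/-- **`3`-groups of rank at least `4` are `2`-connected.** -/
theorem three_group_two_connected (hP : IsPGroup 3 P) (hrk : ¬ Cfsg.PRankLE 3 3 P) :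
    Cfsg.IsKConnected 3 2 P := by
  have hp3 : Fact (Nat.Prime 3) := ⟨Nat.prime_three⟩
  unfold Cfsg.PRankLE at hrk
  push Not at hrk
  obtain ⟨A₀, hA₀c, hA₀e, hA₀card⟩ := hrk
  obtain ⟨k, hk⟩ := (hP.to_subgroup A₀).exists_card_eq
  have hk4 : 4 ≤ k := by
    rw [hk] at hA₀card
    by_contra hlt
    have : k ≤ 3 := by omega
    have := Nat.pow_le_pow_right (show 1 ≤ 3 by norm_num) this
    omega
  obtain ⟨K, hK⟩ := Sylow.exists_subgroup_card_pow_prime 3
    (show 3 ^ 4 ∣ Nat.card ↥A₀ by rw [hk]; exact pow_dvd_pow 3 hk4)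
  have hBcard : Nat.card (K.map A₀.subtype) = 3 ^ 4 := by
    rw [Subgroup.card_map_of_injective A₀.subtype_injective, hK]
  have hBle : K.map A₀.subtype ≤ A₀ := Subgroup.map_subtype_le K
  have hA₀comm : ∀ a ∈ A₀, ∀ b ∈ A₀, a * b = b * a := by
    intro a ha b hb
    have := hA₀c.is_comm.comm (⟨a, ha⟩ : ↥A₀) ⟨b, hb⟩
    exact congrArg Subtype.val this
  obtain ⟨W, hWn, hWcomm, hWexp, hWcard⟩ := exists_normal_elemAb_four (p := 3) (by norm_num) hP
    (K.map A₀.subtype) (fun a ha b hb => hA₀comm a (hBle ha) b (hBle hb))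
    (fun a ha => hA₀e a (hBle ha)) hBcard
  intro E E' hE hE9 hE' hE'9
  have h1 := path_to_normal hP W hWcomm hWexp hWcard E hE hE9
  have h2 := path_to_normal hP W hWcomm hWexp hWcard E' hE' hE'9
  exact h1.trans (rtg_symm rel32_symm h2)

end Conn

end Cfsg.Agent.Lib.Helper59
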