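import Mathlib
import Cfsg.Agent.Lib.Helper59.SL2Like

/-!
# Centralizers of involutions of shape `(SL(2,q₁) ∘ SL(2,q₂)).2` with `n² = j`

Group theoretic part of the proof that the involution `j` is isolated.
-/

namespace Cfsg.Agent.Lib.Helper59.TwoSL2

open Cfsg.Agent.Lib.Helper59

variable {G : Type*} [Group G]

/-! ### Products of elementwise commuting subgroups -/

/-- the product of two elementwise commuting subgroups -/
def commProd (A B : Subgroup G) (h : ∀ a ∈ A, ∀ b ∈ B, a * b = b * a) : Subgroup G where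
  carrier := {c | ∃ a ∈ A, ∃ b ∈ B, c = a * b}
  one_mem' := ⟨1, A.one_mem, 1, B.one_mem, by simp⟩
  mul_mem' := by
    rintro _ _ ⟨a, ha, b, hb, rfl⟩ ⟨a', ha', b', hb', rfl⟩
    refine ⟨a * a', A.mul_mem ha ha', b * b', B.mul_mem hb hb', ?_⟩
    calc a * b * (a' * b') = a * (b * a') * b' := by group
      _ = a * (a' * b) * b' := by rw [h a' ha' b hb]
      _ = a * a' * (b * b') := by group
  inv_mem' := by
    rintro _ ⟨a, ha, b, hb, rfl⟩
    refine ⟨a⁻¹, A.inv_mem ha, b⁻¹, B.inv_mem hb, ?_⟩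
    rw [mul_inv_rev, h a⁻¹ (A.inv_mem ha) b⁻¹ (B.inv_mem hb)]

theorem mem_commProd {A B : Subgroup G} {h : ∀ a ∈ A, ∀ b ∈ B, a * b = b * a} {c : G} :
    c ∈ commProd A B h ↔ ∃ a ∈ A, ∃ b ∈ B, c = a * b := Iff.rfl

theorem sup_le_commProd (A B : Subgroup G) (h : ∀ a ∈ A, ∀ b ∈ B, a * b = b * a) :
    A ⊔ B ≤ commProd A B h := by
  apply sup_le
  · intro a ha; exact ⟨a, ha, 1, B.one_mem, by simp⟩
  · intro b hb; exact ⟨1, A.one_mem, b, hb, by simp⟩

theorem commProd_le_sup (A B : Subgroup G) (h : ∀ a ∈ A, ∀ b ∈ B, a * b = b * a) :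
    commProd A B h ≤ A ⊔ B := by
  rintro _ ⟨a, ha, b, hb, rfl⟩
  exact (A ⊔ B).mul_mem (Subgroup.mem_sup_left ha) (Subgroup.mem_sup_right hb)

/-- an element of the cyclic group generated by an element of square one -/
theorem mem_zpowers_of_sq {z x : G} (hz : z * z = 1) (hx : x ∈ Subgroup.zpowers z) :
    x = 1 ∨ x = z := by
  obtain ⟨k, rfl⟩ := Subgroup.mem_zpowers_iff.1 hx
  have hz2 : z ^ (2 : ℤ) = 1 := by
    rw [zpow_ofNat, pow_two]; exact hz
  rcases Int.emod_two_eq_zero_or_one k with h | h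
  · left
    have : k = 2 * (k / 2) := by omega
    rw [this, zpow_mul, hz2, one_zpow]
  · right
    have : k = 2 * (k / 2) + 1 := by omega
    rw [this, zpow_add, zpow_mul, hz2, one_zpow, one_mul, zpow_one]

/-! ### The configuration -/

/-- the configuration `C_G(j) = (L₁ ∘ L₂)⟨n⟩`, `n² = j`, `n` interchanging `L₁` and `L₂`. -/
structure Cfg (L₁ L₂ : Subgroup G) (j n : G) : Prop where
  s1 : SL2Like L₁ j
  s2 : SL2Like L₂ j
  comm : ∀ x ∈ L₁, ∀ y ∈ L₂, x * y = y * x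
  meet : ∀ x, x ∈ L₁ → x ∈ L₂ → x = 1 ∨ x = j
  jne : j ≠ 1
  jsq : j * j = 1
  le1 : ∀ x ∈ L₁, x * j = j * x
  le2 : ∀ x ∈ L₂, x * j = j * x
  cover : ∀ c, c * j = j * c → (∃ a ∈ L₁, ∃ b ∈ L₂, c = a * b) ∨
    (∃ a ∈ L₁, ∃ b ∈ L₂, c = n * (a * b))
  nsq : n * n = j
  swap12 : ∀ x ∈ L₁, n * x * n⁻¹ ∈ L₂
  swap21 : ∀ x ∈ L₂, n * x * n⁻¹ ∈ L₁

namespace Cfg

variable {L₁ L₂ : Subgroup G} {j n : G} (cfg : Cfg L₁ L₂ j n)
include cfg

theorem jinv : j⁻¹ = j := inv_eq_of_mul_eq_one_left cfg.jsq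

theorem nj : n * j = j * n := by
  rw [← cfg.nsq]; group

/-- no involution of `C_G(j)` lies outside `L₁ L₂`. -/
theorem invol_mem (c : G) (hcj : c * j = j * c) (hcc : c * c = 1) :
    ∃ a ∈ L₁, ∃ b ∈ L₂, c = a * b := by
  rcases cfg.cover c hcj with h | ⟨a, ha, b, hb, rfl⟩
  · exact h
  exfalso
  -- notation
  set sa := n * a * n⁻¹ with hsa
  set sb := n * b * n⁻¹ with hsb
  have hsaL : sa ∈ L₂ := cfg.swap12 a ha
  have hsbL : sb ∈ L₁ := cfg.swap21 b hb
  -- c * c = j * (sb * a) * (sa * b)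
  have e1 : n * (a * b) * (n * (a * b)) = sa * sb * (n * n) * (a * b) := by
    rw [hsa, hsb]; group
  have e2 : sa * sb * (n * n) * (a * b) = j * (sb * a) * (sa * b) := by
    rw [cfg.nsq]
    have c1 : sa * sb = sb * sa := (cfg.comm sb hsbL sa hsaL).symm
    have c2 : sb * sa * j = j * (sb * sa) := by
      rw [mul_assoc, cfg.le2 sa hsaL, ← mul_assoc, cfg.le1 sb hsbL, mul_assoc]
    have c3 : sa * a = a * sa := (cfg.comm a ha sa hsaL).symm
    calc sa * sb * j * (a * b) = (sb * sa * j) * (a * b) := by rw [c1]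
      _ = j * (sb * sa) * (a * b) := by rw [c2]
      _ = j * sb * (sa * a) * b := by group
      _ = j * sb * (a * sa) * b := by rw [c3]
      _ = j * (sb * a) * (sa * b) := by group
  have e3 : j * (sb * a) * (sa * b) = 1 := by rw [← e2, ← e1]; exact hcc
  set p := sb * a with hp
  set r := sa * b with hr
  have hpL : p ∈ L₁ := L₁.mul_mem hsbL ha
  have hrL : r ∈ L₂ := L₂.mul_mem hsaL hb
  -- j * p = r⁻¹ lies in both
  have hjp : j * p = r⁻¹ := eq_inv_of_mul_eq_one_left e3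
  have hjp1 : j * p ∈ L₁ := L₁.mul_mem cfg.s1.mem hpL
  have hjp2 : j * p ∈ L₂ := by rw [hjp]; exact L₂.inv_mem hrL
  have hp1j : p = 1 ∨ p = j := by
    rcases cfg.meet _ hjp1 hjp2 with h | h
    · right
      have : p = j⁻¹ := eq_inv_of_mul_eq_one_right h
      rw [this, cfg.jinv]
    · left
      exact mul_left_cancel (a := j) (by rw [h, mul_one])
  have hpp : p * p = 1 := by
    rcases hp1j with h | h
    · rw [h, one_mul]
    · rw [h]; exact cfg.jsq
  -- p is fixed by conjugation with n and central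
  have hnp : n * p * n⁻¹ = p := by
    rcases hp1j with h | h
    · rw [h]; group
    · rw [h, cfg.nj]; group
  -- b = p * sa⁻¹
  have hb' : b = p * sa⁻¹ := by
    have h1 : n * sb * n⁻¹ = b := by
      rw [hsb]
      have : n * (n * b * n⁻¹) * n⁻¹ = (n * n) * b * (n * n)⁻¹ := by group
      rw [this, cfg.nsq, ← cfg.le2 b hb]; group
    have h2 : sb = p * a⁻¹ := by rw [hp]; group
    rw [← h1, h2]
    have : n * (p * a⁻¹) * n⁻¹ = (n * p * n⁻¹) * (n * a * n⁻¹)⁻¹ := by group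
    rw [this, hnp]
  have hpc : sa * p = p * sa := by
    rcases hp1j with h | h
    · rw [h]; group
    · rw [h]; exact cfg.le2 sa hsaL
  have hrp : r = p := by
    rw [hr, hb', ← mul_assoc, hpc]; group
  rw [hrp, mul_assoc, hpp, mul_one] at e3
  exact cfg.jne e3

/-- involutions of `L₁ L₂`. -/
theorem invol_prod (a : G) (ha : a ∈ L₁) (b : G) (hb : b ∈ L₂) (h : a * b * (a * b) = 1) :
    (a * b = 1 ∨ a * b = j) ∨ (a * a = j ∧ b * b = j) := by
  have hab : a * b = b * a := cfg.comm a ha b hb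
  have h1 : (a * a) * (b * b) = 1 := by
    rw [← h]
    calc a * a * (b * b) = a * (a * b) * b := by group
      _ = a * (b * a) * b := by rw [hab]
      _ = a * b * (a * b) := by group
  have haa : a * a = (b * b)⁻¹ := eq_inv_of_mul_eq_one_left h1
  have haa1 : a * a ∈ L₁ := L₁.mul_mem ha ha
  have haa2 : a * a ∈ L₂ := by rw [haa]; exact L₂.inv_mem (L₂.mul_mem hb hb)
  rcases cfg.meet _ haa1 haa2 with h0 | h0
  · left
    have hbb : b * b = 1 := by rw [h0, one_mul] at h1; exact h1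
    rcases cfg.s1.invol a ha h0 with ha1 | ha1 <;> rcases cfg.s2.invol b hb hbb with hb1 | hb1
    · left; rw [ha1, hb1, one_mul]
    · right; rw [ha1, hb1, one_mul]
    · right; rw [ha1, hb1, mul_one]
    · left; rw [ha1, hb1]; exact cfg.jsq
  · right
    refine ⟨h0, ?_⟩
    rw [h0] at h1
    have : b * b = j⁻¹ := eq_inv_of_mul_eq_one_right h1
    rw [this, cfg.jinv]

end Cfg


/-! ### The canonical abelian subgroup of a common centralizer -/

/-- the common centralizer of two elements -/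
def Wof (z₁ z₂ : G) : Subgroup G := Subgroup.centralizer {z₁} ⊓ Subgroup.centralizer {z₂}

theorem mem_Wof {z₁ z₂ x : G} : x ∈ Wof z₁ z₂ ↔ x * z₁ = z₁ * x ∧ x * z₂ = z₂ * x := by
  unfold Wof
  rw [Subgroup.mem_inf, Subgroup.mem_centralizer_singleton_iff,
    Subgroup.mem_centralizer_singleton_iff]

/-- the subgroup generated by the elements of square one -/
def invClosure (W : Subgroup G) : Subgroup G := Subgroup.closure {s | s ∈ W ∧ s * s = 1}

/-- the subgroup generated by the elements of `invClosure W` whose square is not one -/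
def canonAb (W : Subgroup G) : Subgroup G :=
  Subgroup.closure {x | x ∈ invClosure W ∧ x * x ≠ 1}

/-- `z` is a `2^i`-th power in the canonical subgroup of `W` -/
def Phi (W : Subgroup G) (z : G) (i : ℕ) : Prop := ∃ x ∈ canonAb W, x ^ (2 ^ i) = z

/-- centralizer of `a` in `L` -/
def XX (L : Subgroup G) (a : G) : Subgroup G := L ⊓ Subgroup.centralizer {a}

theorem mem_XX {L : Subgroup G} {a x : G} : x ∈ XX L a ↔ x ∈ L ∧ x * a = a * x := by
  unfold XX
  rw [Subgroup.mem_inf, Subgroup.mem_centralizer_singleton_iff]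

section frame

variable {L₁ L₂ : Subgroup G} {j n : G} (cfg : Cfg L₁ L₂ j n)
  {a b : G} (ha : a ∈ L₁) (hb : b ∈ L₂) (haj : a * a = j) (hbj : b * b = j)
include cfg ha hb haj hbj

theorem XU_comm : ∀ x ∈ XX L₁ a, ∀ u ∈ XX L₂ b, x * u = u * x := fun x hx u hu =>
  cfg.comm x (mem_XX.1 hx).1 u (mem_XX.1 hu).1

theorem ainv : a⁻¹ = a * j := by
  apply inv_eq_of_mul_eq_one_right
  rw [← mul_assoc, haj, cfg.jsq]

theorem binv : b⁻¹ = b * j := by
  apply inv_eq_of_mul_eq_one_right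
  rw [← mul_assoc, hbj, cfg.jsq]

theorem X_le_W : XX L₁ a ≤ Wof j (a * b) := by
  intro x hx
  obtain ⟨hxL, hxa⟩ := mem_XX.1 hx
  refine mem_Wof.2 ⟨cfg.le1 x hxL, ?_⟩
  calc x * (a * b) = (x * a) * b := by group
    _ = a * (x * b) := by rw [hxa]; group
    _ = a * (b * x) := by rw [cfg.comm x hxL b hb]
    _ = a * b * x := by group

theorem U_le_W : XX L₂ b ≤ Wof j (a * b) := by
  intro u hu
  obtain ⟨huL, hub⟩ := mem_XX.1 hu
  refine mem_Wof.2 ⟨cfg.le2 u huL, ?_⟩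
  calc u * (a * b) = (u * a) * b := by group
    _ = (a * u) * b := by rw [cfg.comm a ha u huL]
    _ = a * (u * b) := by group
    _ = a * (b * u) := by rw [hub]
    _ = a * b * u := by group

/-- the structure of the canonical subgroup: it lies in `X U` and contains `X`. -/
theorem canonAb_struct :
    canonAb (Wof j (a * b)) ≤ commProd (XX L₁ a) (XX L₂ b) (XU_comm cfg ha hb haj hbj) ∧
      XX L₁ a ≤ canonAb (Wof j (a * b)) := by
  have hXU := XU_comm cfg ha hb haj hbj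
  set X := XX L₁ a with hX
  set U := XX L₂ b with hU
  set P := commProd X U hXU with hP
  set W := Wof j (a * b) with hW
  have hainv := ainv cfg ha hb haj hbj
  have hbinv := binv cfg ha hb haj hbj
  obtain ⟨a₀, ha₀, ha₀a⟩ := cfg.s1.ex_inv a ha haj
  obtain ⟨b₀, hb₀, hb₀b⟩ := cfg.s2.ex_inv b hb hbj
  have ha₀sq : a₀ * a₀ = j := cfg.s1.sq_of_inv a ha haj a₀ ha₀ ha₀a
  have hb₀sq : b₀ * b₀ = j := cfg.s2.sq_of_inv b hb hbj b₀ hb₀ hb₀b
  set s₀ := a₀ * b₀ with hs₀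
  have hab₀ : a₀ * b₀ = b₀ * a₀ := cfg.comm a₀ ha₀ b₀ hb₀
  -- s₀ is an involution of W
  have hs₀sq : s₀ * s₀ = 1 := by
    calc s₀ * s₀ = a₀ * (b₀ * a₀) * b₀ := by rw [hs₀]; group
      _ = a₀ * (a₀ * b₀) * b₀ := by rw [hab₀]
      _ = (a₀ * a₀) * (b₀ * b₀) := by group
      _ = 1 := by rw [ha₀sq, hb₀sq, cfg.jsq]
  have hs₀inv : s₀⁻¹ = s₀ := inv_eq_of_mul_eq_one_left hs₀sq
  have hs₀W : s₀ ∈ W := by
    refine mem_Wof.2 ⟨?_, ?_⟩
    · rw [hs₀, mul_assoc, cfg.le2 b₀ hb₀, ← mul_assoc, cfg.le1 a₀ ha₀, mul_assoc]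
    · have e1 : a₀ * a = a⁻¹ * a₀ := by rw [← ha₀a]; group
      have e2 : b₀ * b = b⁻¹ * b₀ := by rw [← hb₀b]; group
      have e3 : b₀ * a = a * b₀ := (cfg.comm a ha b₀ hb₀).symm
      have e4 : a₀ * b⁻¹ = b⁻¹ * a₀ := cfg.comm a₀ ha₀ b⁻¹ (L₂.inv_mem hb)
      have e5 : a⁻¹ * b⁻¹ = a * b := by
        rw [hainv, hbinv]
        calc a * j * (b * j) = a * (j * b) * j := by group
          _ = a * (b * j) * j := by rw [← cfg.le2 b hb]
          _ = a * b * (j * j) := by group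
          _ = a * b := by rw [cfg.jsq, mul_one]
      calc s₀ * (a * b) = a₀ * (b₀ * a) * b := by rw [hs₀]; group
        _ = a₀ * (a * b₀) * b := by rw [e3]
        _ = (a₀ * a) * (b₀ * b) := by group
        _ = (a⁻¹ * a₀) * (b⁻¹ * b₀) := by rw [e1, e2]
        _ = a⁻¹ * (a₀ * b⁻¹) * b₀ := by group
        _ = a⁻¹ * (b⁻¹ * a₀) * b₀ := by rw [e4]
        _ = (a⁻¹ * b⁻¹) * (a₀ * b₀) := by group
        _ = a * b * s₀ := by rw [e5]
  -- s₀ inverts X, U and P
  have hinvX : ∀ x ∈ X, s₀ * x * s₀⁻¹ = x⁻¹ := by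
    intro x hx
    obtain ⟨hxL, hxa⟩ := mem_XX.1 hx
    have e1 : b₀ * x = x * b₀ := (cfg.comm x hxL b₀ hb₀).symm
    calc s₀ * x * s₀⁻¹ = a₀ * (b₀ * x) * b₀⁻¹ * a₀⁻¹ := by rw [hs₀]; group
      _ = a₀ * (x * b₀) * b₀⁻¹ * a₀⁻¹ := by rw [e1]
      _ = a₀ * x * a₀⁻¹ := by group
      _ = x⁻¹ := cfg.s1.inv_cent a ha haj a₀ ha₀ ha₀a x hxL hxa
  have hinvU : ∀ u ∈ U, s₀ * u * s₀⁻¹ = u⁻¹ := by
    intro u hu
    obtain ⟨huL, hub⟩ := mem_XX.1 hu
    have e1 : b₀ * u * b₀⁻¹ = u⁻¹ := cfg.s2.inv_cent b hb hbj b₀ hb₀ hb₀b u huL hub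
    have e2 : a₀ * u⁻¹ = u⁻¹ * a₀ := cfg.comm a₀ ha₀ u⁻¹ (L₂.inv_mem huL)
    calc s₀ * u * s₀⁻¹ = a₀ * (b₀ * u * b₀⁻¹) * a₀⁻¹ := by rw [hs₀]; group
      _ = a₀ * u⁻¹ * a₀⁻¹ := by rw [e1]
      _ = u⁻¹ * a₀ * a₀⁻¹ := by rw [e2]
      _ = u⁻¹ := by group
  have hinvP : ∀ m ∈ P, s₀ * m * s₀⁻¹ = m⁻¹ := by
    rintro _ ⟨x, hx, u, hu, rfl⟩
    calc s₀ * (x * u) * s₀⁻¹ = (s₀ * x * s₀⁻¹) * (s₀ * u * s₀⁻¹) := by group
      _ = x⁻¹ * u⁻¹ := by rw [hinvX x hx, hinvU u hu]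
      _ = (u * x)⁻¹ := by rw [mul_inv_rev]
      _ = (x * u)⁻¹ := by rw [hXU x hx u hu]
  have hsm : ∀ m ∈ P, (s₀ * m) * (s₀ * m) = 1 := by
    intro m hm
    calc s₀ * m * (s₀ * m) = (s₀ * m * s₀⁻¹) * (s₀ * s₀) * m := by group
      _ = 1 := by rw [hinvP m hm, hs₀sq, mul_one, inv_mul_cancel]
  have hms : ∀ m ∈ P, (m * s₀) * (m * s₀) = 1 := by
    intro m hm
    calc m * s₀ * (m * s₀) = m * (s₀ * m * s₀⁻¹) * (s₀ * s₀) := by group
      _ = 1 := by rw [hinvP m hm, hs₀sq, mul_one, mul_inv_cancel]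
  have hXP : X ≤ P := fun x hx => ⟨x, hx, 1, U.one_mem, by simp⟩
  -- the generators of the involution closure
  have hgen : ∀ s ∈ W, s * s = 1 → s ∈ P ∨ ∃ m ∈ P, s = m * s₀ := by
    intro s hsW hss
    obtain ⟨hsj, hst⟩ := mem_Wof.1 hsW
    obtain ⟨a', ha', b', hb', rfl⟩ := cfg.invol_mem s hsj hss
    -- the element c
    set c := (a * a')⁻¹ * (a' * a) with hc
    have hc1 : c ∈ L₁ := L₁.mul_mem (L₁.inv_mem (L₁.mul_mem ha ha')) (L₁.mul_mem ha' ha)
    have hc' : c = (b * b') * (b' * b)⁻¹ := by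
      have e1 : a' * b' * (a * b) = (a' * a) * (b' * b) := by
        calc a' * b' * (a * b) = a' * (b' * a) * b := by group
          _ = a' * (a * b') * b := by rw [cfg.comm a ha b' hb']
          _ = (a' * a) * (b' * b) := by group
      have e2 : a * b * (a' * b') = (a * a') * (b * b') := by
        calc a * b * (a' * b') = a * (b * a') * b' := by group
          _ = a * (a' * b) * b' := by rw [cfg.comm a' ha' b hb]
          _ = (a * a') * (b * b') := by group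
      have e3 : (a' * a) * (b' * b) = (a * a') * (b * b') := by rw [← e1, ← e2]; exact hst
      rw [hc]
      calc (a * a')⁻¹ * (a' * a) = (a * a')⁻¹ * ((a' * a) * (b' * b)) * (b' * b)⁻¹ := by group
        _ = (a * a')⁻¹ * ((a * a') * (b * b')) * (b' * b)⁻¹ := by rw [e3]
        _ = (b * b') * (b' * b)⁻¹ := by group
    have hc2 : c ∈ L₂ := by
      rw [hc']; exact L₂.mul_mem (L₂.mul_mem hb hb') (L₂.inv_mem (L₂.mul_mem hb' hb))
    rcases cfg.meet c hc1 hc2 with h1 | h1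
    · left
      have ea : a' * a = a * a' := by
        have : (a * a')⁻¹ * (a' * a) = 1 := by rw [← hc]; exact h1
        have := eq_of_inv_mul_eq_one this  -- a * a' = a' * a
        exact this.symm
      have eb : b' * b = b * b' := by
        have : (b * b') * (b' * b)⁻¹ = 1 := by rw [← hc']; exact h1
        exact (eq_of_mul_inv_eq_one this).symm
      exact ⟨a', mem_XX.2 ⟨ha', ea⟩, b', mem_XX.2 ⟨hb', eb⟩, rfl⟩
    · right
      -- a' inverts a, b' inverts b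
      have ea : a' * a = a * a' * j := by
        have : (a * a')⁻¹ * (a' * a) = j := by rw [← hc]; exact h1
        calc a' * a = (a * a') * ((a * a')⁻¹ * (a' * a)) := by group
          _ = a * a' * j := by rw [this]
      have eb : b * b' = j * (b' * b) := by
        have : (b * b') * (b' * b)⁻¹ = j := by rw [← hc']; exact h1
        calc b * b' = ((b * b') * (b' * b)⁻¹) * (b' * b) := by group
          _ = j * (b' * b) := by rw [this]
      have ha'a : a' * a * a'⁻¹ = a⁻¹ := by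
        rw [ea, hainv]
        calc a * a' * j * a'⁻¹ = a * (a' * j) * a'⁻¹ := by group
          _ = a * (j * a') * a'⁻¹ := by rw [cfg.le1 a' ha']
          _ = a * j := by group
      have hb'b : b' * b * b'⁻¹ = b⁻¹ := by
        have e1 : b' * b = j * (b * b') := by
          rw [eb, ← mul_assoc, cfg.jsq, one_mul]
        rw [e1, hbinv]
        calc j * (b * b') * b'⁻¹ = j * b := by group
          _ = b * j := (cfg.le2 b hb).symm
      -- the element m = s * s₀⁻¹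
      have hxa : a' * a₀⁻¹ ∈ X := by
        refine mem_XX.2 ⟨L₁.mul_mem ha' (L₁.inv_mem ha₀), ?_⟩
        have e1 : a₀⁻¹ * a = a⁻¹ * a₀⁻¹ := by
          have : a = a₀⁻¹ * a⁻¹ * a₀ := by rw [← ha₀a]; group
          calc a₀⁻¹ * a = a₀⁻¹ * a * a₀ * a₀⁻¹ := by group
            _ = (a₀⁻¹ * a⁻¹ * a₀)⁻¹ * a₀⁻¹ := by group
            _ = a⁻¹ * a₀⁻¹ := by rw [← this]
        have e2 : a' * a⁻¹ = a * a' := by
          have : a' * a⁻¹ * a'⁻¹ = a := by
            calc a' * a⁻¹ * a'⁻¹ = (a' * a * a'⁻¹)⁻¹ := by group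
              _ = a := by rw [ha'a, inv_inv]
          calc a' * a⁻¹ = (a' * a⁻¹ * a'⁻¹) * a' := by group
            _ = a * a' := by rw [this]
        calc a' * a₀⁻¹ * a = a' * (a₀⁻¹ * a) := by group
          _ = a' * (a⁻¹ * a₀⁻¹) := by rw [e1]
          _ = (a' * a⁻¹) * a₀⁻¹ := by group
          _ = a * a' * a₀⁻¹ := by rw [e2]
          _ = a * (a' * a₀⁻¹) := by group
      have hub : b' * b₀⁻¹ ∈ U := by
        refine mem_XX.2 ⟨L₂.mul_mem hb' (L₂.inv_mem hb₀), ?_⟩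
        have e1 : b₀⁻¹ * b = b⁻¹ * b₀⁻¹ := by
          have : b = b₀⁻¹ * b⁻¹ * b₀ := by rw [← hb₀b]; group
          calc b₀⁻¹ * b = b₀⁻¹ * b * b₀ * b₀⁻¹ := by group
            _ = (b₀⁻¹ * b⁻¹ * b₀)⁻¹ * b₀⁻¹ := by group
            _ = b⁻¹ * b₀⁻¹ := by rw [← this]
        have e2 : b' * b⁻¹ = b * b' := by
          have : b' * b⁻¹ * b'⁻¹ = b := by
            calc b' * b⁻¹ * b'⁻¹ = (b' * b * b'⁻¹)⁻¹ := by group
              _ = b := by rw [hb'b, inv_inv]
          calc b' * b⁻¹ = (b' * b⁻¹ * b'⁻¹) * b' := by group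
            _ = b * b' := by rw [this]
        calc b' * b₀⁻¹ * b = b' * (b₀⁻¹ * b) := by group
          _ = b' * (b⁻¹ * b₀⁻¹) := by rw [e1]
          _ = (b' * b⁻¹) * b₀⁻¹ := by group
          _ = b * b' * b₀⁻¹ := by rw [e2]
          _ = b * (b' * b₀⁻¹) := by group
      refine ⟨(a' * a₀⁻¹) * (b' * b₀⁻¹), ⟨_, hxa, _, hub, rfl⟩, ?_⟩
      have e1 : b' * b₀⁻¹ * a₀ = a₀ * (b' * b₀⁻¹) :=
        (cfg.comm a₀ ha₀ _ (L₂.mul_mem hb' (L₂.inv_mem hb₀))).symm
      calc a' * b' = a' * a₀⁻¹ * (a₀ * (b' * b₀⁻¹)) * b₀ := by group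
        _ = a' * a₀⁻¹ * (b' * b₀⁻¹ * a₀) * b₀ := by rw [e1]
        _ = a' * a₀⁻¹ * (b' * b₀⁻¹) * s₀ := by rw [hs₀]; group
  -- the involution closure lies in ⟨s₀⟩ P
  have hnorm : Subgroup.zpowers s₀ ≤ Subgroup.normalizer (P : Set G) := by
    rw [Subgroup.zpowers_le, Subgroup.mem_normalizer_iff]
    intro m
    constructor
    · intro hm; rw [hinvP m hm]; exact P.inv_mem hm
    · intro hm
      have e : m = (s₀ * (s₀ * m * s₀⁻¹) * s₀⁻¹) := by
        calc m = (s₀ * s₀) * m * (s₀ * s₀)⁻¹ := by rw [hs₀sq]; group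
          _ = s₀ * (s₀ * m * s₀⁻¹) * s₀⁻¹ := by group
      rw [e, hinvP _ hm]; exact P.inv_mem hm
  have hK : invClosure W ≤ Subgroup.zpowers s₀ ⊔ P := by
    unfold invClosure
    rw [Subgroup.closure_le]
    rintro s ⟨hsW, hss⟩
    rcases hgen s hsW hss with h | ⟨m, hm, rfl⟩
    · exact Subgroup.mem_sup_right h
    · exact Subgroup.mul_mem _ (Subgroup.mem_sup_right hm)
        (Subgroup.mem_sup_left (Subgroup.mem_zpowers s₀))
  have hdecomp : ∀ y ∈ Subgroup.zpowers s₀ ⊔ P, y ∈ P ∨ ∃ m ∈ P, y = s₀ * m := by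
    intro y hy
    have hy' : y ∈ ((Subgroup.zpowers s₀ ⊔ P : Subgroup G) : Set G) := hy
    rw [Subgroup.coe_mul_of_left_le_normalizer_right _ _ hnorm] at hy'
    obtain ⟨z, hz, m, hm, rfl⟩ := Set.mem_mul.1 hy'
    rcases mem_zpowers_of_sq hs₀sq hz with h | h
    · left; rw [h, one_mul]; exact hm
    · right; exact ⟨m, hm, by rw [h]⟩
  refine ⟨?_, ?_⟩
  · unfold canonAb
    rw [Subgroup.closure_le]
    rintro x ⟨hxH, hxx⟩
    rcases hdecomp x (hK hxH) with h | ⟨m, hm, rfl⟩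
    · exact h
    · exact absurd (hsm m hm) hxx
  · -- X ≤ canonAb W
    have hXH : ∀ x ∈ X, x ∈ invClosure W := by
      intro x hx
      have hxW : x ∈ W := X_le_W cfg ha hb haj hbj hx
      have h1 : x * s₀ ∈ invClosure W :=
        Subgroup.subset_closure ⟨W.mul_mem hxW hs₀W, hms x (hXP hx)⟩
      have h2 : s₀ ∈ invClosure W := Subgroup.subset_closure ⟨hs₀W, hs₀sq⟩
      have : x = (x * s₀) * s₀⁻¹ := by group
      rw [this]; exact Subgroup.mul_mem _ h1 (Subgroup.inv_mem _ h2)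
    have haX : a ∈ X := mem_XX.2 ⟨ha, rfl⟩
    have haA : a ∈ canonAb W := by
      apply Subgroup.subset_closure
      refine ⟨hXH a haX, ?_⟩
      rw [haj]; exact cfg.jne
    intro x hx
    by_cases hxx : x * x = 1
    · have hax : a * x ∈ X := X.mul_mem haX hx
      have hcomm : x * a = a * x := (mem_XX.1 hx).2
      have h1 : a * x ∈ canonAb W := by
        apply Subgroup.subset_closure
        refine ⟨hXH _ hax, ?_⟩
        have : a * x * (a * x) = j := by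
          calc a * x * (a * x) = a * (x * a) * x := by group
            _ = a * (a * x) * x := by rw [hcomm]
            _ = (a * a) * (x * x) := by group
            _ = j := by rw [haj, hxx, mul_one]
        rw [this]; exact cfg.jne
      have : x = a⁻¹ * (a * x) := by group
      rw [this]; exact Subgroup.mul_mem _ (Subgroup.inv_mem _ haA) h1
    · exact Subgroup.subset_closure ⟨hXH x hx, hxx⟩


/-- `j` is a square in the canonical subgroup. -/
theorem phi_one : Phi (Wof j (a * b)) j 1 := by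
  obtain ⟨-, h2⟩ := canonAb_struct cfg ha hb haj hbj
  refine ⟨a, h2 (mem_XX.2 ⟨ha, rfl⟩), ?_⟩
  rw [pow_one, pow_two]; exact haj

/-- the depth step: if `t = a b` is a `2^i`-th power, then `j` is a `2^(i+1)`-th power. -/
theorem phi_step (i : ℕ) (h : Phi (Wof j (a * b)) (a * b) i) : Phi (Wof j (a * b)) j (i + 1) := by
  obtain ⟨h1, h2⟩ := canonAb_struct cfg ha hb haj hbj
  obtain ⟨x, hx, hxp⟩ := h
  obtain ⟨x₁, hx₁, u₁, hu₁, rfl⟩ := h1 hx
  have hcomm : Commute x₁ u₁ := XU_comm cfg ha hb haj hbj x₁ hx₁ u₁ hu₁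
  rw [hcomm.mul_pow] at hxp
  set y := x₁ ^ (2 ^ i) with hy
  set v := u₁ ^ (2 ^ i) with hv
  have hyL : y ∈ L₁ := L₁.pow_mem (mem_XX.1 hx₁).1 _
  have hvL : v ∈ L₂ := L₂.pow_mem (mem_XX.1 hu₁).1 _
  -- a⁻¹ y = b v⁻¹ lies in both
  have e : a⁻¹ * y = b * v⁻¹ := by
    calc a⁻¹ * y = a⁻¹ * (y * v) * v⁻¹ := by group
      _ = a⁻¹ * (a * b) * v⁻¹ := by rw [hxp]
      _ = b * v⁻¹ := by group
  have hc1 : a⁻¹ * y ∈ L₁ := L₁.mul_mem (L₁.inv_mem ha) hyL
  have hc2 : a⁻¹ * y ∈ L₂ := by rw [e]; exact L₂.mul_mem hb (L₂.inv_mem hvL)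
  have hyy : y * y = j := by
    rcases cfg.meet _ hc1 hc2 with h0 | h0
    · have : y = a := by
        calc y = a * (a⁻¹ * y) := by group
          _ = a := by rw [h0, mul_one]
      rw [this]; exact haj
    · have : y = a * j := by
        calc y = a * (a⁻¹ * y) := by group
          _ = a * j := by rw [h0]
      rw [this]
      calc a * j * (a * j) = a * (j * a) * j := by group
        _ = a * (a * j) * j := by rw [← cfg.le1 a ha]
        _ = (a * a) * (j * j) := by group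
        _ = j := by rw [haj, cfg.jsq, mul_one]
  refine ⟨x₁, h2 hx₁, ?_⟩
  rw [pow_succ, pow_mul, ← hy, pow_two]; exact hyy

end frame

/-! ### Conjugation invariance -/

theorem invClosure_map_le (W : Subgroup G) (g : G) :
    (invClosure W).map (MulAut.conj g).toMonoidHom
      ≤ invClosure (W.map (MulAut.conj g).toMonoidHom) := by
  unfold invClosure
  rw [MonoidHom.map_closure, Subgroup.closure_le]
  rintro _ ⟨s, ⟨hsW, hss⟩, rfl⟩
  apply Subgroup.subset_closure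
  refine ⟨Subgroup.mem_map_of_mem _ hsW, ?_⟩
  rw [← map_mul, hss, map_one]

theorem canonAb_map_le (W : Subgroup G) (g : G) :
    (canonAb W).map (MulAut.conj g).toMonoidHom
      ≤ canonAb (W.map (MulAut.conj g).toMonoidHom) := by
  unfold canonAb
  rw [MonoidHom.map_closure, Subgroup.closure_le]
  rintro _ ⟨x, ⟨hxH, hxx⟩, rfl⟩
  apply Subgroup.subset_closure
  refine ⟨invClosure_map_le W g (Subgroup.mem_map_of_mem _ hxH), ?_⟩
  rw [← map_mul]
  intro h
  apply hxx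
  have : (MulAut.conj g).toMonoidHom (x * x) = (MulAut.conj g).toMonoidHom 1 := by
    rw [h, map_one]
  exact (MulAut.conj g).injective this

theorem Phi.map {W : Subgroup G} {z : G} {i : ℕ} (h : Phi W z i) (g : G) :
    Phi (W.map (MulAut.conj g).toMonoidHom) (g * z * g⁻¹) i := by
  obtain ⟨x, hx, hxz⟩ := h
  refine ⟨(MulAut.conj g).toMonoidHom x, canonAb_map_le W g (Subgroup.mem_map_of_mem _ hx), ?_⟩
  rw [← map_pow, hxz]
  simp [MulAut.conj_apply]

theorem Wof_map (g z₁ z₂ : G) :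
    (Wof z₁ z₂).map (MulAut.conj g).toMonoidHom = Wof (g * z₁ * g⁻¹) (g * z₂ * g⁻¹) := by
  ext x
  constructor
  · rintro ⟨y, hy, rfl⟩
    obtain ⟨h1, h2⟩ := mem_Wof.1 hy
    refine mem_Wof.2 ⟨?_, ?_⟩
    · show g * y * g⁻¹ * (g * z₁ * g⁻¹) = g * z₁ * g⁻¹ * (g * y * g⁻¹)
      calc g * y * g⁻¹ * (g * z₁ * g⁻¹) = g * (y * z₁) * g⁻¹ := by group
        _ = g * (z₁ * y) * g⁻¹ := by rw [h1]
        _ = _ := by group
    · show g * y * g⁻¹ * (g * z₂ * g⁻¹) = g * z₂ * g⁻¹ * (g * y * g⁻¹)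
      calc g * y * g⁻¹ * (g * z₂ * g⁻¹) = g * (y * z₂) * g⁻¹ := by group
        _ = g * (z₂ * y) * g⁻¹ := by rw [h2]
        _ = _ := by group
  · intro hx
    obtain ⟨h1, h2⟩ := mem_Wof.1 hx
    refine ⟨g⁻¹ * x * g, mem_Wof.2 ⟨?_, ?_⟩, ?_⟩
    · calc g⁻¹ * x * g * z₁ = g⁻¹ * (x * (g * z₁ * g⁻¹)) * g := by group
        _ = g⁻¹ * ((g * z₁ * g⁻¹) * x) * g := by rw [h1]
        _ = _ := by group
    · calc g⁻¹ * x * g * z₂ = g⁻¹ * (x * (g * z₂ * g⁻¹)) * g := by group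
        _ = g⁻¹ * ((g * z₂ * g⁻¹) * x) * g := by rw [h2]
        _ = _ := by group
    · show g * (g⁻¹ * x * g) * g⁻¹ = x
      group

theorem Wof_comm (z₁ z₂ : G) : Wof z₁ z₂ = Wof z₂ z₁ := by
  unfold Wof; exact inf_comm _ _

end Cfsg.Agent.Lib.Helper59.TwoSL2
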