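import Mathlib
import Cfsg.Prelude.Def_TwoFusion
import Cfsg.Prelude.Def_CaseTheorems
import Cfsg.Agent.Lib.Helper59.TwoSL2
import Cfsg.Agent.Lib.Helper38.ZStarCor
import Cfsg.Agent.Lib.Helper27.ZStarSylow
import Cfsg.Agent.S0215

/-!
# `G = C_G(j) O(G)` for `C_G(j) = (SL(2,q₁) ∘ SL(2,q₂))⟨n⟩`, `n² = j`, `n` swapping the factors
-/

namespace Cfsg.Agent.Lib.Helper59.TwoSL2

open Cfsg.Agent.Lib.Helper59

variable {G : Type*} [Group G]

namespace Cfg

variable {L₁ L₂ : Subgroup G} {j n : G} (cfg : Cfg L₁ L₂ j n)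
include cfg

/-- an involution of `C_G(j)` other than `j` is `a b` with `a² = b² = j`. -/
theorem invol_form (t : G) (htj : t * j = j * t) (htt : t * t = 1) (ht1 : t ≠ 1) (htne : t ≠ j) :
    ∃ a ∈ L₁, ∃ b ∈ L₂, t = a * b ∧ a * a = j ∧ b * b = j := by
  obtain ⟨a, ha, b, hb, rfl⟩ := cfg.invol_mem t htj htt
  rcases cfg.invol_prod a ha b hb htt with (h | h) | h
  · exact absurd h ht1
  · exact absurd h htne
  · exact ⟨a, ha, b, hb, rfl, h.1, h.2⟩

/-- the involution `j` is isolated. -/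
theorem isolated [Finite G] (g : G) (hcomm : j * (g * j * g⁻¹) = (g * j * g⁻¹) * j) :
    g * j * g⁻¹ = j := by
  by_contra hne
  set t := g * j * g⁻¹ with ht
  set t' := g⁻¹ * j * g with ht'
  have htt : t * t = 1 := by
    calc t * t = g * (j * j) * g⁻¹ := by rw [ht]; group
      _ = 1 := by rw [cfg.jsq]; group
  have ht't' : t' * t' = 1 := by
    calc t' * t' = g⁻¹ * (j * j) * g := by rw [ht']; group
      _ = 1 := by rw [cfg.jsq]; group
  have ht1 : t ≠ 1 := by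
    intro h
    apply cfg.jne
    calc j = g⁻¹ * t * g := by rw [ht]; group
      _ = 1 := by rw [h]; group
  have ht'1 : t' ≠ 1 := by
    intro h
    apply cfg.jne
    calc j = g * t' * g⁻¹ := by rw [ht']; group
      _ = 1 := by rw [h]; group
  have ht'ne : t' ≠ j := by
    intro h
    apply hne
    have e : t = g * t' * g⁻¹ := by rw [h]
    rw [e, ht']; group
  have ht'j : t' * j = j * t' := by
    calc t' * j = g⁻¹ * (j * (g * j * g⁻¹)) * g := by rw [ht']; group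
      _ = g⁻¹ * ((g * j * g⁻¹) * j) * g := by rw [← ht, hcomm]
      _ = j * t' := by rw [ht']; group
  obtain ⟨a, ha, b, hb, hab, haj, hbj⟩ := cfg.invol_form t hcomm.symm htt ht1 hne
  obtain ⟨a', ha', b', hb', hab', haj', hbj'⟩ := cfg.invol_form t' ht'j ht't' ht'1 ht'ne
  -- the two depth steps
  have step1 : ∀ i, Phi (Wof j t) t i → Phi (Wof j t) j (i + 1) := by
    intro i h
    rw [hab] at h ⊢
    exact phi_step cfg ha hb haj hbj i h
  have base : Phi (Wof j t) j 1 := by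
    rw [hab]; exact phi_one cfg ha hb haj hbj
  have e1 : (Wof j t).map (MulAut.conj g⁻¹).toMonoidHom = Wof j t' := by
    rw [Wof_map, Wof_comm]
    have h1 : g⁻¹ * t * g⁻¹⁻¹ = j := by rw [ht]; group
    have h2 : g⁻¹ * j * g⁻¹⁻¹ = t' := by rw [ht']; group
    rw [h1, h2]
  have e2 : (Wof j t').map (MulAut.conj g).toMonoidHom = Wof j t := by
    rw [Wof_map, Wof_comm]
    have h1 : g * t' * g⁻¹ = j := by rw [ht']; group
    rw [h1]
  have step2 : ∀ i, Phi (Wof j t) j i → Phi (Wof j t) t (i + 1) := by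
    intro i h
    have h1 := h.map g⁻¹
    rw [e1] at h1
    have h1' : g⁻¹ * j * g⁻¹⁻¹ = t' := by rw [ht']; group
    rw [h1', hab'] at h1
    have h2 := phi_step cfg ha' hb' haj' hbj' i h1
    rw [← hab'] at h2
    have h3 := h2.map g
    rw [e2] at h3
    exact h3
  have hall : ∀ k, Phi (Wof j t) j (2 * k + 1) := by
    intro k
    induction k with
    | zero => exact base
    | succ k ih =>
      have := step1 _ (step2 _ ih)
      have e : 2 * (k + 1) + 1 = 2 * k + 1 + 1 + 1 := by ring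
      rw [e]; exact this
  obtain ⟨x, -, hx⟩ := hall (Nat.card G)
  set m := 2 * Nat.card G + 1 with hm
  have hx2 : x ^ (2 ^ (m + 1)) = 1 := by
    rw [pow_succ, pow_mul, hx, pow_two]; exact cfg.jsq
  obtain ⟨l, hl, hol⟩ := (Nat.dvd_prime_pow Nat.prime_two).1 (orderOf_dvd_of_pow_eq_one hx2)
  have hlm : l = m + 1 := by
    by_contra hne'
    have hl' : l ≤ m := by omega
    have : x ^ (2 ^ m) = 1 := by
      apply orderOf_dvd_iff_pow_eq_one.1
      rw [hol]; exact pow_dvd_pow 2 hl'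
    rw [hx] at this
    exact cfg.jne this
  have hle : orderOf x ≤ Nat.card G := orderOf_le_card
  rw [hol, hlm] at hle
  have : m + 1 < 2 ^ (m + 1) := Nat.lt_two_pow_self
  omega


end Cfg

/-- construction of the configuration from the hypotheses of the theorem -/
theorem cfg_of_hyp
    {F₁ : Type*} [Field F₁] [Fintype F₁] {F₂ : Type*} [Field F₂] [Fintype F₂]
    (hF₁ : Odd (Fintype.card F₁)) (hF₂ : Odd (Fintype.card F₂)) (L₁ L₂ : Subgroup G)
    (e₁ : ↥L₁ ≃* Matrix.SpecialLinearGroup (Fin 2) F₁)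
    (e₂ : ↥L₂ ≃* Matrix.SpecialLinearGroup (Fin 2) F₂)
    (hc : ∀ x ∈ L₁, ∀ y ∈ L₂, x * y = y * x) (j : G) (hj : orderOf j = 2)
    (hm : L₁ ⊓ L₂ = Subgroup.zpowers j)
    (hle : L₁ ⊔ L₂ ≤ Subgroup.centralizer ({j} : Set G))
    (hi : (L₁ ⊔ L₂).relIndex (Subgroup.centralizer ({j} : Set G)) = 2) (n : G)
    (hn : n ∈ Subgroup.centralizer ({j} : Set G))
    (hn2 : n ^ 2 = j) (hswap : L₁.map (MulAut.conj n).toMonoidHom = L₂) :
    Cfg L₁ L₂ j n := by
  have hjne : j ≠ 1 := by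
    intro h; rw [h, orderOf_one] at hj; omega
  have hjsq : j * j = 1 := by
    have := pow_orderOf_eq_one j
    rw [hj, pow_two] at this; exact this
  have hjmem : j ∈ L₁ ⊓ L₂ := by rw [hm]; exact Subgroup.mem_zpowers j
  have hjL₁ : j ∈ L₁ := (Subgroup.mem_inf.1 hjmem).1
  have hjL₂ : j ∈ L₂ := (Subgroup.mem_inf.1 hjmem).2
  have s1 := sl2Like_of_equiv hF₁ L₁ e₁ j hj hjL₁
  have s2 := sl2Like_of_equiv hF₂ L₂ e₂ j hj hjL₂
  have hmeet : ∀ x, x ∈ L₁ → x ∈ L₂ → x = 1 ∨ x = j := by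
    intro x h1 h2
    have : x ∈ L₁ ⊓ L₂ := Subgroup.mem_inf.2 ⟨h1, h2⟩
    rw [hm] at this
    exact mem_zpowers_of_sq hjsq this
  have hle1 : ∀ x ∈ L₁, x * j = j * x := fun x hx =>
    Subgroup.mem_centralizer_singleton_iff.1 (hle (Subgroup.mem_sup_left hx))
  have hle2 : ∀ x ∈ L₂, x * j = j * x := fun x hx =>
    Subgroup.mem_centralizer_singleton_iff.1 (hle (Subgroup.mem_sup_right hx))
  have hnsq : n * n = j := by rw [← pow_two]; exact hn2
  have hnj : n * j = j * n := Subgroup.mem_centralizer_singleton_iff.1 hn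
  have hswap12 : ∀ x ∈ L₁, n * x * n⁻¹ ∈ L₂ := by
    intro x hx
    rw [← hswap]
    exact ⟨x, hx, by simp [MulAut.conj_apply]⟩
  have hswap21 : ∀ x ∈ L₂, n * x * n⁻¹ ∈ L₁ := by
    intro y hy
    rw [← hswap] at hy
    obtain ⟨x, hx, rfl⟩ := hy
    have hx' : x ∈ L₁ := hx
    have : n * (MulAut.conj n).toMonoidHom x * n⁻¹ = (n * n) * x * (n * n)⁻¹ := by
      show n * (n * x * n⁻¹) * n⁻¹ = _
      group
    rw [this, hnsq, ← hle1 x hx']
    have : x * j * j⁻¹ = x := by group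
    rw [this]; exact hx'
  -- n is not in L₁ L₂
  have hY : ∀ y ∈ L₁ ⊔ L₂, ∃ a ∈ L₁, ∃ b ∈ L₂, y = a * b := fun y hy =>
    mem_commProd.1 (sup_le_commProd L₁ L₂ hc hy)
  have hnY : n ∉ L₁ ⊔ L₂ := by
    intro hnY
    obtain ⟨a, ha, b, hb, hab⟩ := hY n hnY
    obtain ⟨x, hx, hxx⟩ := s1.ex_big
    apply hxx
    have h1 : n * x * n⁻¹ = a * x * a⁻¹ := by
      rw [hab]
      calc a * b * x * (a * b)⁻¹ = a * (b * x) * b⁻¹ * a⁻¹ := by group
        _ = a * (x * b) * b⁻¹ * a⁻¹ := by rw [hc x hx b hb]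
        _ = a * x * a⁻¹ := by group
    have h2 : a * x * a⁻¹ ∈ L₂ := by rw [← h1]; exact hswap12 x hx
    have h3 : a * x * a⁻¹ ∈ L₁ := L₁.mul_mem (L₁.mul_mem ha hx) (L₁.inv_mem ha)
    have hx1j : x = 1 ∨ x = j := by
      rcases hmeet _ h3 h2 with h | h
      · left
        calc x = a⁻¹ * (a * x * a⁻¹) * a := by group
          _ = 1 := by rw [h]; group
      · right
        calc x = a⁻¹ * (a * x * a⁻¹) * a := by group
          _ = a⁻¹ * (j * a) := by rw [h]; group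
          _ = a⁻¹ * (a * j) := by rw [hle1 a ha]
          _ = j := by group
    rcases hx1j with h | h
    · rw [h, one_mul]
    · rw [h]; exact hjsq
  refine ⟨s1, s2, hc, hmeet, hjne, hjsq, hle1, hle2, ?_, hnsq, hswap12, hswap21⟩
  intro c hcj
  have hcC : c ∈ Subgroup.centralizer ({j} : Set G) :=
    Subgroup.mem_centralizer_singleton_iff.2 hcj
  by_cases hcY : c ∈ L₁ ⊔ L₂
  · left; exact hY c hcY
  · right
    set C := Subgroup.centralizer ({j} : Set G) with hC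
    have hidx : ((L₁ ⊔ L₂).subgroupOf C).index = 2 := hi
    have key := Subgroup.mul_mem_iff_of_index_two hidx (a := (⟨n, hn⟩ : ↥C)⁻¹) (b := ⟨c, hcC⟩)
    have hn' : (⟨n, hn⟩ : ↥C)⁻¹ ∉ (L₁ ⊔ L₂).subgroupOf C := by
      rw [Subgroup.inv_mem_iff, Subgroup.mem_subgroupOf]; exact hnY
    have hc' : (⟨c, hcC⟩ : ↥C) ∉ (L₁ ⊔ L₂).subgroupOf C := by
      rw [Subgroup.mem_subgroupOf]; exact hcY
    have hmem : (⟨n, hn⟩ : ↥C)⁻¹ * ⟨c, hcC⟩ ∈ (L₁ ⊔ L₂).subgroupOf C :=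
      key.2 ⟨fun h => absurd h hn', fun h => absurd h hc'⟩
    rw [Subgroup.mem_subgroupOf] at hmem
    obtain ⟨a, ha, b, hb, hab⟩ := hY _ hmem
    refine ⟨a, ha, b, hb, ?_⟩
    have : (((⟨n, hn⟩ : ↥C)⁻¹ * ⟨c, hcC⟩ : ↥C) : G) = n⁻¹ * c := rfl
    rw [this] at hab
    rw [← hab]; group

/-- if all commutators `[j, g]` lie in a subgroup `O` of odd order, then `G = C_G(j) O`. -/
theorem factor_of_commutator [Finite G] (j : G) (hjsq : j * j = 1) (O : Subgroup G)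
    (hodd : Odd (Nat.card O)) (hcomm : ∀ g : G, j * g * j⁻¹ * g⁻¹ ∈ O) :
    Subgroup.centralizer ({j} : Set G) ⊔ O = ⊤ := by
  rw [eq_top_iff]
  intro g _
  have hjinv : j⁻¹ = j := inv_eq_of_mul_eq_one_left hjsq
  -- o = g j g⁻¹ j⁻¹ ∈ O is inverted by j
  set o := g * j * g⁻¹ * j⁻¹ with ho
  have hoO : o ∈ O := by
    have h := O.inv_mem (hcomm g)
    have : (j * g * j⁻¹ * g⁻¹)⁻¹ = o := by rw [ho]; group
    rwa [this] at h
  have hinv : j * o * j⁻¹ = o⁻¹ := by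
    rw [ho]
    calc j * (g * j * g⁻¹ * j⁻¹) * j⁻¹ = j * g * j * g⁻¹ * (j * j)⁻¹ := by group
      _ = j * g * j * g⁻¹ := by rw [hjsq]; group
      _ = j * g * j⁻¹ * g⁻¹ := by rw [hjinv]
      _ = (g * j * g⁻¹ * j⁻¹)⁻¹ := by group
  -- the order of o is odd
  have hoodd : Odd (orderOf o) := by
    have h1 : orderOf o ∣ Nat.card O := by
      have := orderOf_dvd_natCard (⟨o, hoO⟩ : ↥O)
      rwa [Subgroup.orderOf_mk] at this
    exact Odd.of_dvd_nat hodd h1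
  obtain ⟨r, hr⟩ := hoodd
  set k := o ^ (r + 1) with hk
  have hkO : k ∈ O := O.pow_mem hoO _
  have hkk : k * k = o := by
    rw [hk, ← pow_add]
    have : r + 1 + (r + 1) = orderOf o + 1 := by omega
    rw [this, pow_succ, pow_orderOf_eq_one, one_mul]
  have hkinv : j * k * j⁻¹ = k⁻¹ := by
    rw [hk]
    have : j * o ^ (r + 1) * j⁻¹ = (j * o * j⁻¹) ^ (r + 1) := by
      rw [conj_pow]
    rw [this, hinv, inv_pow]
  -- k j k⁻¹ = g j g⁻¹
  have hconj : k * j * k⁻¹ = g * j * g⁻¹ := by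
    have e1 : j * k⁻¹ = k * j := by
      calc j * k⁻¹ = (j * k * j⁻¹)⁻¹ * j := by group
        _ = k * j := by rw [hkinv, inv_inv]
    calc k * j * k⁻¹ = k * (j * k⁻¹) := by group
      _ = k * (k * j) := by rw [e1]
      _ = (k * k) * j := by group
      _ = o * j := by rw [hkk]
      _ = g * j * g⁻¹ := by rw [ho]; group
  have hcent : k⁻¹ * g ∈ Subgroup.centralizer ({j} : Set G) := by
    rw [Subgroup.mem_centralizer_singleton_iff]
    calc k⁻¹ * g * j = k⁻¹ * (g * j * g⁻¹) * g := by group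
      _ = k⁻¹ * (k * j * k⁻¹) * g := by rw [hconj]
      _ = j * (k⁻¹ * g) := by group
  have : g = k * (k⁻¹ * g) := by group
  rw [this]
  exact Subgroup.mul_mem _ (Subgroup.mem_sup_right hkO) (Subgroup.mem_sup_left hcent)

/-- **Main theorem**: `G = C_G(j) O(G)`. -/
theorem main {G : Type*} [Group G] [Finite G]
    {F₁ : Type*} [Field F₁] [Fintype F₁] {F₂ : Type*} [Field F₂] [Fintype F₂]
    (hF₁ : Odd (Fintype.card F₁)) (hF₂ : Odd (Fintype.card F₂)) (L₁ L₂ : Subgroup G)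
    (e₁ : ↥L₁ ≃* Matrix.SpecialLinearGroup (Fin 2) F₁)
    (e₂ : ↥L₂ ≃* Matrix.SpecialLinearGroup (Fin 2) F₂)
    (hc : ∀ x ∈ L₁, ∀ y ∈ L₂, x * y = y * x) (j : G) (hj : orderOf j = 2)
    (hm : L₁ ⊓ L₂ = Subgroup.zpowers j)
    (hle : L₁ ⊔ L₂ ≤ Subgroup.centralizer ({j} : Set G))
    (hi : (L₁ ⊔ L₂).relIndex (Subgroup.centralizer ({j} : Set G)) = 2) (n : G)
    (hn : n ∈ Subgroup.centralizer ({j} : Set G))
    (hn2 : n ^ 2 = j) (hswap : L₁.map (MulAut.conj n).toMonoidHom = L₂) :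
    Subgroup.centralizer ({j} : Set G) ⊔ Cfsg.oddCore G = ⊤ := by
  have cfg := cfg_of_hyp hF₁ hF₂ L₁ L₂ e₁ e₂ hc j hj hm hle hi n hn hn2 hswap
  have hiso : Cfsg.IsIsolatedInvolution j := by
    refine ⟨hj, ?_⟩
    intro g hg
    exact cfg.isolated g hg.eq
  have hcomm := Cfsg.Agent.Lib.Helper38.ZStarCor.soluble_zstar
    (fun G _ _ P t ht htP hiso => @Cfsg.Agent.S0215.result G _ _ P t ht htP hiso) j hiso
  exact factor_of_commutator j cfg.jsq _ Cfsg.Agent.Lib.Helper27.odd_card_oddCore' hcomm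

end Cfsg.Agent.Lib.Helper59.TwoSL2
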