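/-
K-UTi-N3 (keystone 595334, S5953 pack of helper46): the irreducible model.  For `r ∣ q + 1` odd and
`v_r(n) > v_r(q+1)` the weighted `r`-cycle blocks give an element `y` of `SU_n(q)` with
`y ^ r = z` a scalar which is not an `r`-th power, so that every invariant subspace has dimension
divisible by `r`.
-/
import Cfsg.Agent.Lib.Helper46.UTiDefs
import Cfsg.Agent.Lib.Helper51.UTiB5
import Cfsg.Agent.Lib.Helper49.SemisimpleKer

set_option autoImplicit false
set_option linter.unusedSectionVars false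
set_option linter.unusedVariables false

namespace Cfsg.Agent.Lib.Helper59.UTi

open Module Polynomial Cfsg.Agent.Lib.Helper98.Elus Cfsg.Agent.Lib.Helper46.UTi
open Cfsg.Agent.Lib.Helper19 (pow_q_pow_q add_pow_q sum_pow_q q_pos one_lt_q)

universe u

section stdform

variable {F : Type u} [Field F] [Fintype F] {q : ℕ} {ι : Type} [Fintype ι] [DecidableEq ι]

/-- the standard hermitian form on `ι → F` -/
def stdH (q : ℕ) (u v : ι → F) : F := ∑ i, u i * (v i) ^ q

theorem isHerm_stdH (hF : Fintype.card F = q ^ 2) :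
    IsHerm q (stdH (F := F) (ι := ι) q) where
  add_left := by
    intro x x' y
    simp [stdH, add_mul, Finset.sum_add_distrib]
  smul_left := by
    intro c x y
    simp [stdH, Finset.mul_sum, mul_assoc]
  conj := by
    intro x y
    unfold stdH
    rw [sum_pow_q hF]
    refine Finset.sum_congr rfl fun i _ => ?_
    rw [mul_pow, pow_q_pow_q hF, mul_comm]

theorem nonDeg_stdH (hF : Fintype.card F = q ^ 2) :
    NonDeg (stdH (F := F) (ι := ι) q) (⊤ : Submodule F (ι → F)) := by
  classical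
  intro u _ hu
  funext k
  have h := hu (Pi.single k 1) Submodule.mem_top
  unfold stdH at h
  rw [Finset.sum_eq_single k] at h
  · simpa using h
  · intro j _ hjk
    rw [Pi.single_eq_of_ne hjk, zero_pow (q_pos hF).ne', mul_zero]
  · intro hk
    exact absurd (Finset.mem_univ k) hk

end stdform

section model

variable {F : Type u} [Field F] (N r : ℕ) [NeZero r] (z : F)

/-- the weights of the monomial matrix -/
def wt (i : Fin N × ZMod r) : F := if i.2 = 0 then z else 1

/-- the shift permutation `(j, s) ↦ (j, s - 1)` -/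
def shiftPerm : Equiv.Perm (Fin N × ZMod r) :=
  Equiv.prodCongr (Equiv.refl (Fin N)) (Equiv.subRight (1 : ZMod r))

theorem shiftPerm_apply (i : Fin N × ZMod r) : shiftPerm N r i = (i.1, i.2 - 1) := rfl

theorem shiftPerm_pow_apply (k : ℕ) (i : Fin N × ZMod r) :
    (shiftPerm N r ^ k) i = (i.1, i.2 - (k : ZMod r)) := by
  induction k generalizing i with
  | zero => simp
  | succ k ih =>
    rw [pow_succ, Equiv.Perm.mul_apply, ih, shiftPerm_apply]
    ext
    · rfl
    · simp only [Nat.cast_succ]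
      ring

theorem shiftPerm_pow_self : shiftPerm N r ^ r = 1 := by
  ext i : 1
  rw [shiftPerm_pow_apply, ZMod.natCast_self, sub_zero]
  rfl

theorem sign_shiftPerm (hr : Odd r) : Equiv.Perm.sign (shiftPerm N r) = 1 := by
  have h1 : Equiv.Perm.sign (shiftPerm N r) ^ r = 1 := by
    rw [← map_pow, shiftPerm_pow_self, map_one]
  rcases Int.units_eq_one_or (Equiv.Perm.sign (shiftPerm N r)) with h | h
  · exact h
  · rw [h, Odd.neg_one_pow hr] at h1
    exact absurd h1 (by decide)

/-- the monomial matrix: weighted `r`-cycles -/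
noncomputable def modelMat : Matrix (Fin N × ZMod r) (Fin N × ZMod r) F :=
  Matrix.diagonal (wt N r z) * (shiftPerm N r).toPEquiv.toMatrix

/-- the model isometry -/
noncomputable def modelY : ((Fin N × ZMod r) → F) →ₗ[F] ((Fin N × ZMod r) → F) :=
  Matrix.toLin' (modelMat N r z)

theorem modelY_apply (u : (Fin N × ZMod r) → F) (i : Fin N × ZMod r) :
    modelY N r z u i = wt N r z i * u (shiftPerm N r i) := by
  unfold modelY modelMat
  rw [Matrix.toLin'_apply, ← Matrix.mulVec_mulVec, Matrix.mulVec_diagonal,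
    PEquiv.toMatrix_toPEquiv_mulVec]
  rfl

theorem modelY_pow_apply (k : ℕ) (u : (Fin N × ZMod r) → F) (i : Fin N × ZMod r) :
    (modelY N r z ^ k) u i =
      (∏ t ∈ Finset.range k, wt N r z (i.1, i.2 - (t : ZMod r))) *
        u (i.1, i.2 - (k : ZMod r)) := by
  induction k generalizing i with
  | zero => simp
  | succ k ih =>
    rw [pow_succ', Module.End.mul_apply, modelY_apply, ih, Finset.prod_range_succ',
      shiftPerm_apply]
    simp only [Nat.cast_zero, sub_zero, Nat.cast_succ]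
    have h1 : ∀ t : ℕ, i.2 - 1 - (t : ZMod r) = i.2 - ((t : ZMod r) + 1) := fun t => by ring
    simp only [h1]
    rw [show ((i.1, i.2) : Fin N × ZMod r) = i from rfl]
    ring

theorem prod_wt (i : Fin N × ZMod r) :
    (∏ t ∈ Finset.range r, wt N r z (i.1, i.2 - (t : ZMod r))) = z := by
  rw [Finset.prod_eq_single_of_mem i.2.val (Finset.mem_range.2 (ZMod.val_lt i.2))]
  · unfold wt
    simp
  · intro t ht hne
    unfold wt
    have : i.2 - (t : ZMod r) ≠ 0 := by
      intro h
      apply hne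
      have h2 : i.2 = (t : ZMod r) := sub_eq_zero.1 h
      rw [h2, ZMod.val_natCast, Nat.mod_eq_of_lt (Finset.mem_range.1 ht)]
    simp [this]

theorem modelY_pow_self : modelY N r z ^ r = z • 1 := by
  refine LinearMap.ext fun u => funext fun i => ?_
  rw [modelY_pow_apply, prod_wt, ZMod.natCast_self, sub_zero]
  rfl

theorem det_modelY (hr : Odd r) : LinearMap.det (modelY N r z) = z ^ N := by
  unfold modelY modelMat
  rw [LinearMap.det_toLin', Matrix.det_mul, Matrix.det_diagonal, Matrix.det_permutation,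
    sign_shiftPerm N r hr, Fintype.prod_prod_type]
  unfold wt
  simp

variable [Fintype F] {q : ℕ}

theorem iso_modelY (hz : z ^ (q + 1) = 1) : Iso (stdH (F := F) q) (modelY N r z) := by
  intro u v
  unfold stdH
  rw [← Equiv.sum_comp (shiftPerm N r) (fun i => u i * v i ^ q)]
  refine Finset.sum_congr rfl fun i _ => ?_
  rw [modelY_apply, modelY_apply, mul_pow]
  have h1 : wt N r z i * wt N r z i ^ q = 1 := by
    rw [← pow_succ']
    unfold wt
    split_ifs
    · exact hz
    · exact one_pow _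
  calc wt N r z i * u (shiftPerm N r i) * (wt N r z i ^ q * v (shiftPerm N r i) ^ q)
      = (wt N r z i * wt N r z i ^ q) * (u (shiftPerm N r i) * v (shiftPerm N r i) ^ q) := by ring
    _ = _ := by rw [h1, one_mul]

theorem modelY_ne_smul [Fact (1 < r)] (hN : 0 < N) (c : F) : modelY N r z ≠ c • 1 := by
  classical
  intro h
  have h1 := congrFun (LinearMap.congr_fun h (Pi.single (⟨0, hN⟩, 0) 1)) (⟨0, hN⟩, 1)
  rw [modelY_apply, shiftPerm_apply] at h1
  have h10 : (1 : ZMod r) ≠ 0 := one_ne_zero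
  simp [wt, h10] at h1

end model

section arith

variable {F : Type u} [Field F] [Fintype F] {q : ℕ}

/-- an element of order `(q+1)_r` is a norm-one scalar which is not an `r`-th power -/
theorem exists_not_pow (hq : Fintype.card F = q ^ 2) (r : ℕ) [Fact r.Prime] (hr2 : r ≠ 2)
    (hrq : r ∣ q + 1) (N : ℕ) (hN : r ^ padicValNat r (q + 1) ∣ N) :
    ∃ z : F, z ^ (q + 1) = 1 ∧ z ^ N = 1 ∧ ∀ b : F, b ^ r ≠ z := by
  classical
  have hr : r.Prime := Fact.out
  have hq1 : 1 < q := one_lt_q hq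
  obtain ⟨e, he⟩ : ∃ e, e = padicValNat r (q + 1) := ⟨_, rfl⟩
  rw [← he] at hN
  have he1 : 1 ≤ e := by
    rw [he]
    exact one_le_padicValNat_of_dvd (by omega) hrq
  have hre : r ^ e ∣ q + 1 := by
    rw [he]
    exact pow_padicValNat_dvd
  have hre' : ¬ r ^ (e + 1) ∣ q + 1 := by
    rw [he]
    exact pow_succ_padicValNat_not_dvd (by omega)
  have hcard : Nat.card Fˣ = (q + 1) * (q - 1) := by
    rw [Nat.card_eq_fintype_card, Fintype.card_units, hq]
    obtain ⟨k, rfl⟩ : ∃ k, q = k + 1 := ⟨q - 1, by omega⟩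
    have : (k + 1) ^ 2 = (k + 1 + 1) * k + 1 := by ring
    rw [this]
    simp
  have hrq1 : ¬ r ∣ q - 1 := by
    intro h
    have h2 : r ∣ (q + 1) - (q - 1) := Nat.dvd_sub hrq h
    have h3 : (q + 1) - (q - 1) = 2 := by omega
    rw [h3] at h2
    exact hr2 ((Nat.prime_dvd_prime_iff_eq hr Nat.prime_two).1 h2)
  have hQ : ¬ r ^ (e + 1) ∣ Nat.card Fˣ := by
    rw [hcard]
    intro h
    have hcop : Nat.Coprime (r ^ (e + 1)) (q - 1) :=
      Nat.Coprime.pow_left _ ((Nat.Prime.coprime_iff_not_dvd hr).2 hrq1)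
    exact hre' (hcop.dvd_of_dvd_mul_right h)
  obtain ⟨g, hg⟩ := IsCyclic.exists_ofOrder_eq_natCard (α := Fˣ)
  obtain ⟨Q', hQ'⟩ : r ^ e ∣ Nat.card Fˣ := by
    rw [hcard]
    exact Dvd.dvd.mul_right hre _
  have hQ'0 : Q' ≠ 0 := by
    rintro rfl
    rw [mul_zero] at hQ'
    exact (Nat.card_pos (α := Fˣ)).ne' hQ'
  obtain ⟨zu, hzu⟩ : ∃ zu : Fˣ, zu = g ^ Q' := ⟨_, rfl⟩
  have hozu : orderOf zu = r ^ e := by
    rw [hzu, orderOf_pow_of_dvd hQ'0 (by rw [hg, hQ']; exact Dvd.intro_left _ rfl), hg, hQ']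
    exact Nat.mul_div_cancel _ (Nat.pos_of_ne_zero hQ'0)
  have hzu1 : zu ^ (r ^ e) = 1 := by
    rw [← hozu]
    exact pow_orderOf_eq_one zu
  refine ⟨(zu : F), ?_, ?_, ?_⟩
  · obtain ⟨c, hc⟩ := hre
    rw [← Units.val_pow_eq_pow_val, hc, pow_mul, hzu1, one_pow, Units.val_one]
  · obtain ⟨c, hc⟩ := hN
    rw [← Units.val_pow_eq_pow_val, hc, pow_mul, hzu1, one_pow, Units.val_one]
  · intro b hb
    have hb0 : b ≠ 0 := by
      rintro rfl
      rw [zero_pow hr.ne_zero] at hb
      exact zu.ne_zero hb.symm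
    obtain ⟨bu, hbu⟩ : ∃ bu : Fˣ, bu = Units.mk0 b hb0 := ⟨_, rfl⟩
    have hbz : bu ^ r = zu := by
      ext
      rw [Units.val_pow_eq_pow_val, hbu]
      exact hb
    have h1 : bu ^ (r ^ (e + 1)) = 1 := by
      rw [pow_succ', pow_mul, hbz, hzu1]
    have h2 : orderOf bu ∣ r ^ (e + 1) := orderOf_dvd_of_pow_eq_one h1
    obtain ⟨k, hk, hok⟩ := (Nat.dvd_prime_pow hr).1 h2
    have h3 : orderOf bu ∣ Nat.card Fˣ := orderOf_dvd_natCard bu
    have hke : k ≤ e := by
      by_contra hlt
      have hk' : k = e + 1 := by omega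
      rw [hok, hk'] at h3
      exact hQ h3
    have h4 : bu ^ (r ^ e) = 1 := by
      apply orderOf_dvd_iff_pow_eq_one.1
      rw [hok]
      exact pow_dvd_pow r hke
    have h5 : zu ^ (r ^ (e - 1)) = 1 := by
      rw [← hbz, ← pow_mul, ← pow_succ', Nat.sub_add_cancel he1, h4]
    have h6 : r ^ e ∣ r ^ (e - 1) := by
      rw [← hozu]
      exact orderOf_dvd_of_pow_eq_one h5
    have h7 := Nat.le_of_dvd (pow_pos hr.pos _) h6
    have h8 : r ^ (e - 1) < r ^ e := Nat.pow_lt_pow_right hr.one_lt (by omega)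
    omega

end arith

section main

variable {F : Type u} [Field F] [Fintype F] {p : ℕ} [Fact p.Prime] [CharP F p] {q : ℕ}

/-- **K-UTi-N3 (595334)** irreducible model -/
theorem bound_irred (hq : Fintype.card F = q ^ 2) (n m : ℕ) (hn : 3 ≤ n) (hm : 1 ≤ m)
    (hmn : 2 * m ≤ n) (r : ℕ) [Fact r.Prime] (hrp : r ≠ p) (hr2 : r ≠ 2) (hrq : r ∣ q + 1)
    (hL : AllFix F n m q r) : r ∣ m ∨ padicValNat r n ≤ padicValNat r (q + 1) := by
  classical
  have hr : r.Prime := Fact.out
  by_contra hcon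
  push Not at hcon
  obtain ⟨hrm, hlt⟩ := hcon
  have hn0 : n ≠ 0 := by omega
  have h1 : r ^ (padicValNat r (q + 1) + 1) ∣ n := (padicValNat_dvd_iff_le hn0).2 hlt
  obtain ⟨N, hN⟩ : r ∣ n := dvd_trans (dvd_pow_self r (Nat.succ_ne_zero _)) h1
  have hN0 : 0 < N := by
    rcases Nat.eq_zero_or_pos N with h | h
    · subst h
      omega
    · exact h
  have h2 : r ^ padicValNat r (q + 1) ∣ N := by
    rw [hN, pow_succ'] at h1
    exact (Nat.mul_dvd_mul_iff_left hr.pos).1 h1
  obtain ⟨z, hz1, hzN, hzr⟩ := exists_not_pow hq r hr2 hrq N h2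
  have : NeZero r := ⟨hr.ne_zero⟩
  have : Fact (1 < r) := ⟨hr.one_lt⟩
  have hodd : Odd r := hr.odd_of_ne_two hr2
  have hfr : finrank F ((Fin N × ZMod r) → F) = n := by
    rw [Module.finrank_fintype_fun_eq_card, Fintype.card_prod, Fintype.card_fin, ZMod.card, hN,
      mul_comm]
  obtain ⟨W, hWinv, hWort, hWm⟩ := Cfsg.Agent.Lib.Helper51.UTi.transport_model hq
    (isHerm_stdH hq) (nonDeg_stdH hq) n m r hfr (modelY N r z) (iso_modelY N r z hz1)
    (by rw [det_modelY N r z hodd, hzN]) z (modelY_pow_self N r z) (modelY_ne_smul N r z hN0) hL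
  have hinv : ∀ v ∈ W, modelY N r z v ∈ W := hWinv
  have hirr : Irreducible (X ^ r - C z : F[X]) := X_pow_sub_C_irreducible_of_prime hr hzr
  have haev : aeval ((modelY N r z).restrict hinv) (X ^ r - C z : F[X]) = 0 := by
    refine LinearMap.ext fun v => Subtype.ext ?_
    rw [Cfsg.Agent.Lib.Helper49.aeval_restrict_apply, map_sub, map_pow, aeval_X, aeval_C,
      modelY_pow_self, Algebra.algebraMap_eq_smul_one, sub_self]
    rfl
  have hdvd := Cfsg.Agent.Lib.Helper49.natDegree_dvd_finrank_of_irreducible _ _ hirr haev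
  rw [natDegree_X_pow_sub_C, hWm] at hdvd
  exact hrm hdvd

end main

end Cfsg.Agent.Lib.Helper59.UTi
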