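/-
K-UNd-XB (keystone 595431, S5954 pack of helper73): the type II model, scaled cyclic shift blocks
(reuses the weighted `r`-cycle model of `Helper59.UTiN3`).
-/
import Cfsg.Agent.Lib.Helper73.UNdDefs
import Cfsg.Agent.Lib.Helper59.UTiN3

set_option autoImplicit false
set_option linter.unusedSectionVars false
set_option linter.unusedVariables false

namespace Cfsg.Agent.Lib.Helper59.UNd

open Module Cfsg.Agent.Lib.Helper99.HermONB Cfsg.Agent.Lib.Helper98.Elus Cfsg.Agent.Lib.Helper73.UNd

universe u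
variable {F : Type u} [Field F] {q : ℕ}

/-- X-B (595431): `V' = Fin k × ZMod r → F`, `h'` the standard form, `y'` on each block the weighted `r`-cycle. -/
theorem exists_typeII_model [Fintype F] (hF : Fintype.card F = q ^ 2) (r : ℕ) [Fact r.Prime]
    (z : F) (hz1 : z ^ (q + 1) = 1) (k : ℕ) :
    ∃ (V' : Type u) (_ : AddCommGroup V') (_ : Module F V') (_ : FiniteDimensional F V')
      (h' : V' → V' → F) (y' : V' →ₗ[F] V'),
      HForm q h' ∧ finrank F V' = k * r ∧ Isom h' y' ∧ y' ^ r = z • 1 := by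
  classical
  have hr : r.Prime := Fact.out
  have : NeZero r := ⟨hr.ne_zero⟩
  have hH := Cfsg.Agent.Lib.Helper59.UTi.isHerm_stdH (F := F) (ι := Fin k × ZMod r) hF
  refine ⟨(Fin k × ZMod r) → F, inferInstance, inferInstance, inferInstance,
    Cfsg.Agent.Lib.Helper59.UTi.stdH q, Cfsg.Agent.Lib.Helper59.UTi.modelY k r z,
    ⟨hH.add_left, hH.smul_left, hH.conj, ?_⟩, ?_,
    Cfsg.Agent.Lib.Helper59.UTi.iso_modelY k r z hz1,
    Cfsg.Agent.Lib.Helper59.UTi.modelY_pow_self k r z⟩
  · intro x hx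
    exact Cfsg.Agent.Lib.Helper59.UTi.nonDeg_stdH hF x Submodule.mem_top
      (fun v _ => hx v)
  · rw [Module.finrank_fintype_fun_eq_card, Fintype.card_prod, Fintype.card_fin, ZMod.card]

end Cfsg.Agent.Lib.Helper59.UNd
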